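import Cfsg.Agent.GTwoOdd.SLTwo
import Cfsg.Agent.TwoFusion.SLTwoFacts
import Cfsg.Agent.ClassicalGeometry.SLTwoFour
import Cfsg.Agent.ClassicalGeometry.QuatPair

/-!
# Normal subgroups of `SL(2,q)`, `q` odd
-/

set_option autoImplicit false

namespace Cfsg.Agent.GTwoOdd.SLNormal

open Matrix Cfsg.Agent.ClassicalGeometry

theorem dec3 : ∀ a b c d : ZMod 3, a * d - b * c = 1 → ¬ (b = 0 ∧ c = 0 ∧ a = d) → a + d ≠ 0 →
    ∃ e f g h : ZMod 3, e * h - f * g = 1 ∧
      (a * e + b * g) * (d * h + b * g) + (a * f + b * h) * (-(c * h) - (a * g)) +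
        ((c * e + d * g) * (-(d * f) - b * e) + (c * f + d * h) * (c * f + a * e)) = 0 := by
  decide +kernel

variable {F : Type*} [Field F] [Fintype F]

theorem card_three_of (hF : Odd (Fintype.card F)) (h : ¬ 3 < Fintype.card F) : Fintype.card F = 3 := by
  have h1 := Fintype.one_lt_card (α := F)
  obtain ⟨k, hk⟩ := hF
  omega

theorem exists_sq_of_three (h3 : Fintype.card F = 3) (R : Subgroup (SL2 F)) [hR : R.Normal] {x : SL2 F} (hx : x ∈ R)
    (h1 : x ≠ 1) (h2 : x ≠ -1) : ∃ i ∈ R, i * i = -1 := by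
  by_cases ht : x 0 0 + x 1 1 = 0
  · exact ⟨x, hx, SLTwoFour.mul_self_of_trace x ht⟩
  have hp : Fact (Nat.Prime 3) := ⟨Nat.prime_three⟩
  have e : ZMod 3 ≃+* F := ZMod.ringEquivOfPrime F Nat.prime_three h3
  have hd := SLTwoFour.det2 x
  obtain ⟨p, q, r, s, hdet, htr⟩ := dec3 (e.symm (x 0 0)) (e.symm (x 0 1)) (e.symm (x 1 0)) (e.symm (x 1 1))
    (by rw [← map_mul, ← map_mul, ← map_sub, hd, map_one])
    (by
      rintro ⟨hb, hc, ha⟩
      have hb' : x 0 1 = 0 := by simpa using hb
      have hc' : x 1 0 = 0 := by simpa using hc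
      have ha' : x 0 0 = x 1 1 := e.symm.injective ha
      rw [hb', hc', ← ha'] at hd
      have : (x 0 0 - 1) * (x 0 0 + 1) = 0 := by linear_combination hd
      rcases mul_eq_zero.1 this with h | h
      · apply h1
        exact SLTwoFour.ext2 (by rw [SLTwoFour.one00]; linear_combination h) (by rw [SLTwoFour.one01, hb'])
          (by rw [SLTwoFour.one10, hc']) (by rw [SLTwoFour.one11, ← ha']; linear_combination h)
      · apply h2
        exact SLTwoFour.ext2 (by rw [SLTwoFour.neg_ij, SLTwoFour.one00]; linear_combination h)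
          (by rw [SLTwoFour.neg_ij, SLTwoFour.one01, hb', neg_zero])
          (by rw [SLTwoFour.neg_ij, SLTwoFour.one10, hc', neg_zero])
          (by rw [SLTwoFour.neg_ij, SLTwoFour.one11, ← ha']; linear_combination h))
    (by
      rw [← map_add]
      intro h
      exact ht (e.symm.injective (by rw [h, map_zero])))
  have hdet' : e p * e s - e q * e r = 1 := by rw [← map_mul, ← map_mul, ← map_sub, hdet, map_one]
  let g : SL2 F := ⟨!![e p, e q; e r, e s], by rw [Matrix.det_fin_two_of]; exact hdet'⟩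
  have hmem : x * g * x⁻¹ * g⁻¹ ∈ R := by
    have : x * g * x⁻¹ * g⁻¹ = x * (g * x⁻¹ * g⁻¹) := by group
    rw [this]
    exact R.mul_mem hx (hR.conj_mem _ (R.inv_mem hx) _)
  refine ⟨_, hmem, SLTwoFour.mul_self_of_trace _ ?_⟩
  let g' : SL2 F := ⟨!![e s, -e q; -e r, e p], by rw [Matrix.det_fin_two_of]; linear_combination hdet'⟩
  have gi : g⁻¹ = g' := by
    apply inv_eq_of_mul_eq_one_right
    refine SLTwoFour.ext2 ?_ ?_ ?_ ?_
    · rw [SLTwoFour.mul00, SLTwoFour.one00]; change e p * e s + e q * -e r = 1; linear_combination hdet'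
    · rw [SLTwoFour.mul01, SLTwoFour.one01]; change e p * -e q + e q * e p = 0; ring
    · rw [SLTwoFour.mul10, SLTwoFour.one10]; change e r * e s + e s * -e r = 0; ring
    · rw [SLTwoFour.mul11, SLTwoFour.one11]; change e r * -e q + e s * e p = 1; linear_combination hdet'
  let x' : SL2 F := ⟨!![x 1 1, -x 0 1; -x 1 0, x 0 0], by rw [Matrix.det_fin_two_of]; linear_combination hd⟩
  have xi : x⁻¹ = x' := by
    apply inv_eq_of_mul_eq_one_right
    refine SLTwoFour.ext2 ?_ ?_ ?_ ?_
    · rw [SLTwoFour.mul00, SLTwoFour.one00]; change x 0 0 * x 1 1 + x 0 1 * -x 1 0 = 1; linear_combination hd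
    · rw [SLTwoFour.mul01, SLTwoFour.one01]; change x 0 0 * -x 0 1 + x 0 1 * x 0 0 = 0; ring
    · rw [SLTwoFour.mul10, SLTwoFour.one10]; change x 1 0 * x 1 1 + x 1 1 * -x 1 0 = 0; ring
    · rw [SLTwoFour.mul11, SLTwoFour.one11]; change x 1 0 * -x 0 1 + x 1 1 * x 0 0 = 1; linear_combination hd
  have hh := congrArg e htr
  simp only [map_add, map_mul, map_sub, map_neg, map_zero, RingEquiv.apply_symm_apply] at hh
  rw [SLTwoFour.mul00, SLTwoFour.mul11]
  simp only [SLTwoFour.mul00, SLTwoFour.mul01, SLTwoFour.mul10, SLTwoFour.mul11]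
  rw [xi, gi]
  change (((x 0 0 * e p + x 0 1 * e r) * x 1 1 + (x 0 0 * e q + x 0 1 * e s) * -x 1 0) * e s +
    ((x 0 0 * e p + x 0 1 * e r) * -x 0 1 + (x 0 0 * e q + x 0 1 * e s) * x 0 0) * -e r) +
    (((x 1 0 * e p + x 1 1 * e r) * x 1 1 + (x 1 0 * e q + x 1 1 * e s) * -x 1 0) * -e q +
    ((x 1 0 * e p + x 1 1 * e r) * -x 0 1 + (x 1 0 * e q + x 1 1 * e s) * x 0 0) * e p) = 0
  linear_combination hh

/-- a normal subgroup of `SL(2,q)`, `q > 3`, with a noncentral element is everything -/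
theorem eq_top (h3 : 3 < Fintype.card F) (R : Subgroup (SL2 F)) [hR : R.Normal] {x : SL2 F} (hx : x ∈ R)
    (h1 : x ∉ Subgroup.center (SL2 F)) : R = ⊤ := by
  have hs := TwoFusion.SLTwoFacts.isSimpleGroup_psl (F := F) h3
  have hn : (R.map (QuotientGroup.mk' (Subgroup.center (SL2 F)))).Normal :=
    hR.map _ (QuotientGroup.mk'_surjective _)
  have htop : R.map (QuotientGroup.mk' (Subgroup.center (SL2 F))) = ⊤ := by
    rcases hs.eq_bot_or_eq_top_of_normal _ hn with h | h
    · exfalso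
      apply h1
      have : (QuotientGroup.mk' (Subgroup.center (SL2 F))) x ∈ R.map (QuotientGroup.mk' (Subgroup.center (SL2 F))) :=
        Subgroup.mem_map_of_mem _ hx
      rw [h, Subgroup.mem_bot] at this
      exact (QuotientGroup.eq_one_iff _).1 this
    · exact h
  have hdec : ∀ y : SL2 F, ∃ r ∈ R, ∃ z ∈ Subgroup.center (SL2 F), y = r * z := by
    intro y
    have : (QuotientGroup.mk' (Subgroup.center (SL2 F))) y ∈ R.map (QuotientGroup.mk' (Subgroup.center (SL2 F))) := by
      rw [htop]; trivial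
    obtain ⟨r, hr, hry⟩ := this
    refine ⟨r, hr, r⁻¹ * y, ?_, by group⟩
    exact QuotientGroup.eq.1 hry
  rw [eq_top_iff, ← TwoFusion.SLTwoFacts.commutator_eq_top (F := F) h3, commutator_def, Subgroup.commutator_le]
  intro a _ b _
  obtain ⟨r, hr, z, hz, rfl⟩ := hdec a
  have hz1 := Subgroup.mem_center_iff.1 hz b
  rw [commutatorElement_def]
  have : r * z * b * (r * z)⁻¹ * b⁻¹ = r * (b * r⁻¹ * b⁻¹) := by
    rw [mul_assoc r z b, ← hz1, _root_.mul_inv_rev]
    group
  rw [this]
  exact R.mul_mem hr (hR.conj_mem _ (R.inv_mem hr) _)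

theorem mem_center_cases {x : SL2 F} (hF : Odd (Fintype.card F)) (hx : x ∈ Subgroup.center (SL2 F)) :
    x = 1 ∨ x = -1 := by
  have h2 := SLTwoFour.two_ne_zero_of_odd (F := F) hF
  apply SLTwoFour.eq_one_or_neg_one_of_mul_self h2
  obtain ⟨a, ha⟩ := scalar_of_comm (A := (x : M2 F)) (fun y => by
    have := Subgroup.mem_center_iff.1 hx y
    have h := congrArg (fun z : SL2 F => (z : M2 F)) this
    simpa using h.symm)
  have hd := x.2
  rw [ha, det_smul2, Matrix.det_one, mul_one] at hd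
  apply Subtype.ext
  change (x : M2 F) * (x : M2 F) = 1
  rw [ha, Matrix.smul_mul, Matrix.mul_smul, one_mul, smul_smul, hd, one_smul]

omit [Fintype F] in
theorem neg_one_mem_center : (-1 : SL2 F) ∈ Subgroup.center (SL2 F) := by
  rw [Subgroup.mem_center_iff]
  intro g
  apply Subtype.ext
  simp

/-- a normal subgroup of `SL(2,q)` not contained in `{1,-1}` contains all elements with square `-1` -/
theorem mem_of_sq (hF : Odd (Fintype.card F)) (R : Subgroup (SL2 F)) [hR : R.Normal] {x : SL2 F} (hx : x ∈ R)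
    (h1 : x ≠ 1) (h2 : x ≠ -1) {i : SL2 F} (hi : i * i = -1) : i ∈ R := by
  by_cases h3 : 3 < Fintype.card F
  · rw [eq_top h3 R hx (fun h => by
      rcases mem_center_cases hF h with h | h
      · exact h1 h
      · exact h2 h)]
    trivial
  · obtain ⟨j, hj, hjj⟩ := exists_sq_of_three (card_three_of hF h3) R hx h1 h2
    obtain ⟨g, hg⟩ := SLTwoFour.exists_conj_w hF j hjj
    obtain ⟨g', hg'⟩ := SLTwoFour.exists_conj_w hF i hi
    have hw : (SLTwoFour.w : SL2 F) ∈ R := by
      have : SLTwoFour.w = g⁻¹ * j * (g⁻¹)⁻¹ := by rw [← hg]; group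
      rw [this]
      exact hR.conj_mem _ hj _
    rw [← hg']
    exact hR.conj_mem _ hw _

/-- a nontrivial normal subgroup of `SL(2,q)`, `q` odd, contains `-1` -/
theorem neg_one_mem (hF : Odd (Fintype.card F)) (R : Subgroup (SL2 F)) [hR : R.Normal] {x : SL2 F} (hx : x ∈ R)
    (h1 : x ≠ 1) : (-1 : SL2 F) ∈ R := by
  by_cases h2 : x = -1
  · rwa [← h2]
  · have hw := mem_of_sq hF R hx h1 h2 (i := SLTwoFour.w) SLTwoFour.w_mul_self
    rw [← SLTwoFour.w_mul_self]
    exact R.mul_mem hw hw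

theorem exists_pair (hF : Odd (Fintype.card F)) : ∃ i j : SL2 F, i * i = -1 ∧ j * j = -1 ∧ i * j = -(j * i) := by
  have h2 := SLTwoFour.two_ne_zero_of_odd (F := F) hF
  obtain ⟨A, B, h⟩ := QuatPair.exists_isPair (F := F) h2
  have hdet : ∀ {A B : M2 F}, QuatPair.IsPair A B → A.det = 1 := by
    intro A B h
    have htr : A.trace = 0 := by
      have hAB := h.anti
      have hB : B.det ≠ 0 := by
        intro h0
        have := congrArg Matrix.det h.sqB
        rw [Matrix.det_mul, h0] at this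
        simp [Matrix.det_neg] at this
      by_contra htr
      have hA2 := m2_sq A
      rw [h.sqA] at hA2
      have hsc : A = (A.trace⁻¹ * (A.det - 1)) • (1 : M2 F) := by
        have e : A.trace • A = (A.det - 1) • (1 : M2 F) := by
          have e0 : A.trace • A = -1 + A.det • (1 : M2 F) := by rw [hA2]; abel
          rw [e0, sub_smul, one_smul]; abel
        rw [mul_smul, ← e, smul_smul, inv_mul_cancel₀ htr, one_smul]
      rw [hsc] at hAB
      rw [Matrix.smul_mul, Matrix.mul_smul, one_mul, mul_one] at hAB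
      have e3 : (2 * (A.trace⁻¹ * (A.det - 1))) • B = 0 := by
        rw [two_mul, add_smul]
        nth_rewrite 1 [hAB]
        simp
      rcases smul_eq_zero.1 e3 with h4 | h4
      · rcases mul_eq_zero.1 h4 with h5 | h5
        · exact h2 h5
        · rw [h5, zero_smul] at hsc
          have := h.sqA
          rw [hsc] at this
          have := congrArg (fun M : M2 F => M 0 0) this
          simp at this
      · rw [h4] at hB
        simp at hB
    have h3 := m2_sq A
    rw [h.sqA, htr, zero_smul, zero_sub] at h3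
    have h4 := congrArg (fun M : M2 F => M 0 0) h3
    simp at h4
    exact h4.symm
  have hA := hdet h
  have hB := hdet (A := B) (B := A) ⟨h.sqB, h.sqA, by rw [h.anti]; simp⟩
  exact ⟨⟨A, hA⟩, ⟨B, hB⟩, Subtype.ext h.sqA, Subtype.ext h.sqB, Subtype.ext h.anti⟩

theorem card_sl : Nat.card (SL2 F) = Fintype.card F * (Fintype.card F ^ 2 - 1) :=
  PSL2Basic.card_SL2 F

theorem card_eq_of_equiv {E : Type*} [Field E] [Fintype E] (e : SL2 F ≃* SL2 E) :
    Fintype.card F = Fintype.card E := by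
  have h := Nat.card_congr e.toEquiv
  rw [card_sl, card_sl] at h
  have h1 := Fintype.one_lt_card (α := F)
  have h2 := Fintype.one_lt_card (α := E)
  have mono : ∀ a b : ℕ, 1 < a → a < b → a * (a ^ 2 - 1) < b * (b ^ 2 - 1) := by
    intro a b ha hab
    have h3 : a ^ 2 < b ^ 2 := Nat.pow_lt_pow_left hab two_ne_zero
    have h4 : 1 ≤ a ^ 2 := Nat.one_le_pow _ _ (by omega)
    have h5 : a ^ 2 - 1 < b ^ 2 - 1 := by omega
    exact Nat.mul_lt_mul'' hab h5
  rcases lt_trichotomy (Fintype.card F) (Fintype.card E) with h3 | h3 | h3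
  · exact absurd h (mono _ _ h1 h3).ne
  · exact h3
  · exact absurd h (mono _ _ h2 h3).ne'

end Cfsg.Agent.GTwoOdd.SLNormal
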