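import Cfsg.Agent.GTwoOdd.SLTwo

/-!
# The centraliser of an involution in `G₂(q)`, `³D₄(q)`, `q` odd: set-up

`LocalSL t F1 F2`: the centraliser of `t` has subgroups `L1 ≅ SL(2,F1)`, `L2 ≅ SL(2,F2)` which commute,
`L1 ∩ L2 = ⟨t⟩` and `C(L1 L2) = ⟨t⟩`.  `L.Hyp`: `L1` and `L2` are normal in `C(t)`,
`[C(t), C(t)] ≤ L1 L2`, the subgroup `C0` of `C(t)` of the elements which act on `L1` and on `L2` as
conjugation by matrices is of odd index and is `L1 L2 ⟨g⟩` where `g` acts on both by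
conjugation by matrices of nonsquare determinant.

`L.Rep c A B`: `c` centralises `t` and acts on `L1`, `L2` as conjugation by `A`, `B`.
-/

set_option autoImplicit false

namespace Cfsg.Agent.GTwoOdd

open Matrix

/-- `C(t)` contains a central product of `SL(2,F1)` and `SL(2,F2)` with centraliser `⟨t⟩` -/
structure LocalSL {G : Type*} [Group G] (t : G) (F1 F2 : Type*) [Field F1] [Field F2] where
  /-- the first factor -/
  e1 : SL2 F1 →* G
  /-- the second factor -/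
  e2 : SL2 F2 →* G
  inj1 : Function.Injective e1
  inj2 : Function.Injective e2
  comm : ∀ x y, e1 x * e2 y = e2 y * e1 x
  neg1 : e1 (-1) = t
  neg2 : e2 (-1) = t
  cent : ∀ c, c * t = t * c → (∀ x, c * e1 x = e1 x * c) → (∀ y, c * e2 y = e2 y * c) → c = 1 ∨ c = t

/-- `c` acts on the image of `e` as conjugation by the matrix `A` -/
def Acts {G : Type*} [Group G] {F : Type*} [Field F] (e : SL2 F →* G) (c : G) (A : M2 F) : Prop :=
  A.det ≠ 0 ∧ ∀ x y : SL2 F, (y : M2 F) * A = A * x → c * e x = e y * c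

section acts

variable {G : Type*} [Group G] {F : Type*} [Field F] {e : SL2 F →* G}

theorem Acts.det_ne {c : G} {A : M2 F} (h : Acts e c A) : A.det ≠ 0 := h.1

theorem Acts.mul {c d : G} {A B : M2 F} (h : Acts e c A) (k : Acts e d B) : Acts e (c * d) (A * B) := by
  refine ⟨by rw [Matrix.det_mul]; exact mul_ne_zero h.1 k.1, fun x y hxy => ?_⟩
  obtain ⟨z, hz⟩ := exists_cj k.1 x
  have h1 := k.2 x z hz
  have h2 : (y : M2 F) * A = A * z := by
    apply cancel_right k.1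
    rw [mul_assoc, hxy, mul_assoc, ← hz, mul_assoc]
  have h3 := h.2 z y h2
  rw [mul_assoc, h1, ← mul_assoc, h3, mul_assoc]

theorem Acts.one : Acts e 1 (1 : M2 F) := by
  refine ⟨by simp, fun x y hxy => ?_⟩
  have : y = x := Subtype.ext (by simpa using hxy)
  rw [this, one_mul, mul_one]

theorem Acts.smul {c : G} {A : M2 F} (h : Acts e c A) {a : F} (ha : a ≠ 0) : Acts e c (a • A) := by
  refine ⟨by rw [det_smul2]; exact mul_ne_zero (mul_ne_zero ha ha) h.1, fun x y hxy => h.2 x y ?_⟩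
  rw [Matrix.mul_smul, Matrix.smul_mul] at hxy
  exact smul_cancel ha hxy

theorem Acts.inv {c : G} {A : M2 F} (h : Acts e c A) : Acts e c⁻¹ A.adjugate := by
  refine ⟨by rw [Matrix.det_adjugate]; simpa using h.1, fun x y hxy => ?_⟩
  have h1 : (x : M2 F) * A = A * y := by
    have e1 : A * ((y : M2 F) * A.adjugate) * A = A * (A.adjugate * x) * A := by rw [hxy]
    have e2 : A.det • (A * (y : M2 F)) = A.det • ((x : M2 F) * A) := by
      have l1 : A * ((y : M2 F) * A.adjugate) * A = A.det • (A * (y : M2 F)) := by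
        rw [mul_assoc, mul_assoc, Matrix.adjugate_mul]
        simp
      have l2 : A * (A.adjugate * x) * A = A.det • ((x : M2 F) * A) := by
        rw [← mul_assoc, Matrix.mul_adjugate]
        simp
      rw [← l1, ← l2, e1]
    exact (smul_cancel h.1 e2).symm
  have h2 := h.2 y x h1
  calc c⁻¹ * e x = c⁻¹ * (e x * c) * c⁻¹ := by group
    _ = e y * c⁻¹ := by rw [← h2]; group

theorem Acts.self (x : SL2 F) : Acts e (e x) (x : M2 F) := by
  refine ⟨by rw [sl_coe_det]; exact one_ne_zero, fun z y hxy => ?_⟩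
  have : y * x = x * z := Subtype.ext (by simpa using hxy)
  rw [← map_mul, ← map_mul, this]

theorem Acts.of_comm {c : G} (h : ∀ x, c * e x = e x * c) : Acts e c (1 : M2 F) := by
  refine ⟨by simp, fun x y hxy => ?_⟩
  have : y = x := Subtype.ext (by simpa using hxy)
  rw [this, h]

theorem Acts.comm_of_one {c : G} {a : F} (h : Acts e c (a • (1 : M2 F))) (x : SL2 F) : c * e x = e x * c := by
  apply h.2 x x
  simp

theorem Acts.proportional (he : Function.Injective e) {c : G} {A B : M2 F} (h : Acts e c A) (k : Acts e c B) :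
    ∃ a : F, a ≠ 0 ∧ B = a • A := by
  obtain ⟨a, ha⟩ := proportional_of_cj (A := A) (B := B) h.1 (by
    intro x y hxy
    have h1 := h.2 x y hxy
    obtain ⟨z, hz⟩ := exists_cj k.1 x
    have h2 := k.2 x z hz
    have h3 : y = z := by
      apply he
      rw [h1] at h2
      exact mul_right_cancel h2
    rw [h3]
    exact hz)
  refine ⟨a, ?_, ha⟩
  rintro rfl
  apply k.1
  rw [ha]
  simp

end acts

namespace LocalSL

variable {G : Type*} [Group G] {t : G} {F1 F2 : Type*} [Field F1] [Field F2] (L : LocalSL t F1 F2)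

/-- `c` centralises `t` and acts on `L1`, `L2` as conjugation by the matrices `A`, `B` -/
structure Rep (c : G) (A : M2 F1) (B : M2 F2) : Prop where
  comm : c * t = t * c
  acts1 : Acts L.e1 c A
  acts2 : Acts L.e2 c B

/-- the hypotheses on `C(t)` -/
structure Hyp : Prop where
  norm1 : ∀ c, c * t = t * c → ∀ x, ∃ y, c * L.e1 x = L.e1 y * c
  norm2 : ∀ c, c * t = t * c → ∀ x, ∃ y, c * L.e2 x = L.e2 y * c
  comm_mem : ∀ c d, c * t = t * c → d * t = t * d → ∃ x y, c * d = L.e1 x * L.e2 y * d * c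
  sq_mem : ∀ c, c * t = t * c → (∃ A B, L.Rep (c * c) A B) → ∃ A B, L.Rep c A B
  square_iff : ∀ c A B, L.Rep c A B → (IsSquare A.det ↔ IsSquare B.det)
  outer : ∃ g A B, L.Rep g A B ∧ ¬ IsSquare A.det ∧ ¬ IsSquare B.det ∧ g * g = 1

section basic

variable {L}

theorem e1_t (x : SL2 F1) : L.e1 x * t = t * L.e1 x := by
  have h := L.comm x (-1)
  rw [L.neg2] at h
  exact h

theorem e2_t (y : SL2 F2) : L.e2 y * t = t * L.e2 y := by
  have h := L.comm (-1) y
  rw [L.neg1] at h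
  exact h.symm

theorem t_sq (L : LocalSL t F1 F2) : t * t = 1 := by
  rw [← L.neg1, ← map_mul]
  simp

theorem Rep.mul {c d : G} {A A' : M2 F1} {B B' : M2 F2} (h : L.Rep c A B) (k : L.Rep d A' B') :
    L.Rep (c * d) (A * A') (B * B') :=
  ⟨by rw [mul_assoc, k.comm, ← mul_assoc, h.comm, mul_assoc], h.acts1.mul k.acts1, h.acts2.mul k.acts2⟩

theorem Rep.one (L : LocalSL t F1 F2) : L.Rep 1 1 1 := ⟨by simp, Acts.one, Acts.one⟩

theorem Rep.smul {c : G} {A : M2 F1} {B : M2 F2} (h : L.Rep c A B) {a : F1} {b : F2} (ha : a ≠ 0) (hb : b ≠ 0) :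
    L.Rep c (a • A) (b • B) := ⟨h.comm, h.acts1.smul ha, h.acts2.smul hb⟩

theorem Rep.inv {c : G} {A : M2 F1} {B : M2 F2} (h : L.Rep c A B) : L.Rep c⁻¹ A.adjugate B.adjugate :=
  ⟨(Commute.inv_left (show Commute c t from h.comm)), h.acts1.inv, h.acts2.inv⟩

theorem Rep.e1 (L : LocalSL t F1 F2) (x : SL2 F1) : L.Rep (L.e1 x) x 1 :=
  ⟨e1_t x, Acts.self x, Acts.of_comm (fun y => L.comm x y)⟩

theorem Rep.e2 (L : LocalSL t F1 F2) (y : SL2 F2) : L.Rep (L.e2 y) 1 y :=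
  ⟨e2_t y, Acts.of_comm (fun x => (L.comm x y).symm), Acts.self y⟩

theorem Rep.e12 (L : LocalSL t F1 F2) (x : SL2 F1) (y : SL2 F2) : L.Rep (L.e1 x * L.e2 y) x y := by
  have := (Rep.e1 L x).mul (Rep.e2 L y)
  simpa using this

theorem Rep.rep_t (L : LocalSL t F1 F2) : L.Rep t 1 1 := by
  refine ⟨rfl, Acts.of_comm (fun x => ?_), Acts.of_comm (fun x => ?_)⟩
  · exact (e1_t x).symm
  · exact (e2_t x).symm

theorem Rep.eq_or {c : G} {a : F1} {b : F2} (h : L.Rep c (a • 1) (b • 1)) : c = 1 ∨ c = t :=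
  L.cent c h.comm (fun x => h.acts1.comm_of_one x) (fun y => h.acts2.comm_of_one y)

theorem Rep.unique {c c' : G} {A A' : M2 F1} {B B' : M2 F2} (h : L.Rep c A B) (h' : L.Rep c' A' B') {a : F1} {b : F2}
    (hA : A' = a • A) (hB : B' = b • B) : c' = c ∨ c' = c * t := by
  have h1 := h.inv.mul h'
  rw [hA, hB, Matrix.mul_smul, Matrix.mul_smul, Matrix.adjugate_mul, Matrix.adjugate_mul, smul_smul, smul_smul] at h1
  rcases h1.eq_or with h2 | h2
  · left
    exact (inv_mul_eq_one.1 h2).symm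
  · right
    rw [← h2]
    group

theorem Rep.det1 {c : G} {A : M2 F1} {B : M2 F2} (h : L.Rep c A B) : A.det ≠ 0 := h.acts1.1

theorem Rep.det2 {c : G} {A : M2 F1} {B : M2 F2} (h : L.Rep c A B) : B.det ≠ 0 := h.acts2.1

theorem Rep.prop {c : G} {A A' : M2 F1} {B B' : M2 F2} (h : L.Rep c A B) (h' : L.Rep c A' B') :
    (∃ a : F1, a ≠ 0 ∧ A' = a • A) ∧ ∃ b : F2, b ≠ 0 ∧ B' = b • B :=
  ⟨h.acts1.proportional L.inj1 h'.acts1, h.acts2.proportional L.inj2 h'.acts2⟩

/-- `e1 x = e2 y` only for `x = y = ± 1` -/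
theorem e1_eq_e2 {x : SL2 F1} {y : SL2 F2} (h : L.e1 x = L.e2 y) : (x = 1 ∧ y = 1) ∨ (x = -1 ∧ y = -1) := by
  have h1 : ∀ z, L.e1 x * L.e1 z = L.e1 z * L.e1 x := by
    intro z
    rw [h, ← L.comm]
  have h2 : ∀ z, L.e1 x * L.e2 z = L.e2 z * L.e1 x := fun z => L.comm x z
  rcases L.cent (L.e1 x) (e1_t x) h1 h2 with h3 | h3
  · left
    refine ⟨L.inj1 (by rw [h3, map_one]), L.inj2 (by rw [← h, h3, map_one])⟩
  · right
    refine ⟨L.inj1 (by rw [h3, L.neg1]), L.inj2 (by rw [← h, h3, L.neg2])⟩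

theorem e12_eq_one {x : SL2 F1} {y : SL2 F2} (h : L.e1 x * L.e2 y = 1) : (x = 1 ∧ y = 1) ∨ (x = -1 ∧ y = -1) := by
  have h1 : L.e1 x = L.e2 y⁻¹ := by
    rw [map_inv]
    exact eq_inv_of_mul_eq_one_left h
  rcases e1_eq_e2 h1 with ⟨h2, h3⟩ | ⟨h2, h3⟩
  · left
    exact ⟨h2, by rw [← inv_inv y, h3, inv_one]⟩
  · right
    refine ⟨h2, ?_⟩
    rw [← inv_inv y, h3]
    rw [inv_eq_iff_mul_eq_one]
    simp

theorem e12_inj {x x' : SL2 F1} {y y' : SL2 F2} (h : L.e1 x * L.e2 y = L.e1 x' * L.e2 y') :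
    (x = x' ∧ y = y') ∨ (x = -x' ∧ y = -y') := by
  have h1 : L.e1 (x'⁻¹ * x) * L.e2 (y * y'⁻¹) = 1 := by
    rw [map_mul, map_mul, map_inv, map_inv]
    have : (L.e1 x')⁻¹ * L.e1 x * (L.e2 y * (L.e2 y')⁻¹) = (L.e1 x')⁻¹ * (L.e1 x * L.e2 y) * (L.e2 y')⁻¹ := by
      group
    rw [this, h]
    group
  rcases e12_eq_one h1 with ⟨h2, h3⟩ | ⟨h2, h3⟩
  · left
    exact ⟨(inv_mul_eq_one.1 h2).symm, mul_inv_eq_one.1 h3⟩
  · right
    constructor
    · rw [inv_mul_eq_iff_eq_mul] at h2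
      rw [h2, mul_neg, mul_one]
    · rw [mul_inv_eq_iff_eq_mul] at h3
      rw [h3, neg_mul, one_mul]

end basic

/-- conjugation of a `LocalSL` by an element of the group -/
def conj (L : LocalSL t F1 F2) (g : G) {s : G} (hs : g * t = s * g) : LocalSL s F1 F2 where
  e1 := (MulAut.conj g).toMonoidHom.comp L.e1
  e2 := (MulAut.conj g).toMonoidHom.comp L.e2
  inj1 := (MulAut.conj g).injective.comp L.inj1
  inj2 := (MulAut.conj g).injective.comp L.inj2
  comm x y := by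
    change (MulAut.conj g) (L.e1 x) * (MulAut.conj g) (L.e2 y) = (MulAut.conj g) (L.e2 y) * (MulAut.conj g) (L.e1 x)
    rw [← map_mul, L.comm, map_mul]
  neg1 := by
    change (MulAut.conj g) (L.e1 (-1)) = s
    rw [L.neg1, MulAut.conj_apply, hs]
    group
  neg2 := by
    change (MulAut.conj g) (L.e2 (-1)) = s
    rw [L.neg2, MulAut.conj_apply, hs]
    group
  cent c hc h1 h2 := by
    have hs' : s = g * t * g⁻¹ := by rw [hs]; group
    have h3 : g⁻¹ * c * g = 1 ∨ g⁻¹ * c * g = t := by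
      apply L.cent
      · have : g⁻¹ * (c * s) * g = g⁻¹ * (s * c) * g := by rw [hc]
        rw [hs'] at this
        calc g⁻¹ * c * g * t = g⁻¹ * (c * (g * t * g⁻¹)) * g := by group
          _ = g⁻¹ * ((g * t * g⁻¹) * c) * g := this
          _ = t * (g⁻¹ * c * g) := by group
      · intro x
        have h := h1 x
        change c * (g * L.e1 x * g⁻¹) = (g * L.e1 x * g⁻¹) * c at h
        calc g⁻¹ * c * g * L.e1 x = g⁻¹ * (c * (g * L.e1 x * g⁻¹)) * g := by group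
          _ = g⁻¹ * ((g * L.e1 x * g⁻¹) * c) * g := by rw [h]
          _ = L.e1 x * (g⁻¹ * c * g) := by group
      · intro x
        have h := h2 x
        change c * (g * L.e2 x * g⁻¹) = (g * L.e2 x * g⁻¹) * c at h
        calc g⁻¹ * c * g * L.e2 x = g⁻¹ * (c * (g * L.e2 x * g⁻¹)) * g := by group
          _ = g⁻¹ * ((g * L.e2 x * g⁻¹) * c) * g := by rw [h]
          _ = L.e2 x * (g⁻¹ * c * g) := by group
    rcases h3 with h3 | h3
    · left
      calc c = g * (g⁻¹ * c * g) * g⁻¹ := by group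
        _ = 1 := by rw [h3]; group
    · right
      calc c = g * (g⁻¹ * c * g) * g⁻¹ := by group
        _ = s := by rw [h3, hs']

@[simp] theorem conj_e1 (L : LocalSL t F1 F2) (g : G) {s : G} (hs : g * t = s * g) (x : SL2 F1) :
    (L.conj g hs).e1 x = g * L.e1 x * g⁻¹ := rfl

@[simp] theorem conj_e2 (L : LocalSL t F1 F2) (g : G) {s : G} (hs : g * t = s * g) (x : SL2 F2) :
    (L.conj g hs).e2 x = g * L.e2 x * g⁻¹ := rfl

theorem Rep.conj {L : LocalSL t F1 F2} {c : G} {A : M2 F1} {B : M2 F2} (h : L.Rep c A B) (g : G) {s : G}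
    (hs : g * t = s * g) : (L.conj g hs).Rep (g * c * g⁻¹) A B := by
  have hs' : s = g * t * g⁻¹ := by rw [hs]; group
  refine ⟨?_, ⟨h.det1, fun x y hxy => ?_⟩, ⟨h.det2, fun x y hxy => ?_⟩⟩
  · rw [hs']
    calc g * c * g⁻¹ * (g * t * g⁻¹) = g * (c * t) * g⁻¹ := by group
      _ = g * (t * c) * g⁻¹ := by rw [h.comm]
      _ = _ := by group
  · rw [conj_e1, conj_e1]
    calc g * c * g⁻¹ * (g * L.e1 x * g⁻¹) = g * (c * L.e1 x) * g⁻¹ := by group
      _ = g * (L.e1 y * c) * g⁻¹ := by rw [h.acts1.2 x y hxy]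
      _ = _ := by group
  · rw [conj_e2, conj_e2]
    calc g * c * g⁻¹ * (g * L.e2 x * g⁻¹) = g * (c * L.e2 x) * g⁻¹ := by group
      _ = g * (L.e2 y * c) * g⁻¹ := by rw [h.acts2.2 x y hxy]
      _ = _ := by group

theorem Rep.of_conj {L : LocalSL t F1 F2} {c : G} {A : M2 F1} {B : M2 F2} (g : G) {s : G} {hs : g * t = s * g}
    (h : (L.conj g hs).Rep (g * c * g⁻¹) A B) : L.Rep c A B := by
  have hs' : s = g * t * g⁻¹ := by rw [hs]; group
  refine ⟨?_, ⟨h.det1, fun x y hxy => ?_⟩, ⟨h.det2, fun x y hxy => ?_⟩⟩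
  · have h1 := h.comm
    rw [hs'] at h1
    calc c * t = g⁻¹ * (g * c * g⁻¹ * (g * t * g⁻¹)) * g := by group
      _ = t * c := by rw [h1]; group
  · have h1 := h.acts1.2 x y hxy
    rw [conj_e1, conj_e1] at h1
    calc c * L.e1 x = g⁻¹ * (g * c * g⁻¹ * (g * L.e1 x * g⁻¹)) * g := by group
      _ = L.e1 y * c := by rw [h1]; group
  · have h1 := h.acts2.2 x y hxy
    rw [conj_e2, conj_e2] at h1
    calc c * L.e2 x = g⁻¹ * (g * c * g⁻¹ * (g * L.e2 x * g⁻¹)) * g := by group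
      _ = L.e2 y * c := by rw [h1]; group

theorem Hyp.conj {L : LocalSL t F1 F2} (H : L.Hyp) (g : G) {s : G} (hs : g * t = s * g) : (L.conj g hs).Hyp := by
  have hs' : s = g * t * g⁻¹ := by rw [hs]; group
  have hc : ∀ c : G, c * s = s * c → g⁻¹ * c * g * t = t * (g⁻¹ * c * g) := by
    intro c h
    rw [hs'] at h
    calc g⁻¹ * c * g * t = g⁻¹ * (c * (g * t * g⁻¹)) * g := by group
      _ = t * (g⁻¹ * c * g) := by rw [h]; group
  refine ⟨?_, ?_, ?_, ?_, ?_, ?_⟩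
  · intro c h x
    obtain ⟨y, hy⟩ := H.norm1 _ (hc c h) x
    refine ⟨y, ?_⟩
    rw [conj_e1, conj_e1]
    calc c * (g * L.e1 x * g⁻¹) = g * (g⁻¹ * c * g * L.e1 x) * g⁻¹ := by group
      _ = _ := by rw [hy]; group
  · intro c h x
    obtain ⟨y, hy⟩ := H.norm2 _ (hc c h) x
    refine ⟨y, ?_⟩
    rw [conj_e2, conj_e2]
    calc c * (g * L.e2 x * g⁻¹) = g * (g⁻¹ * c * g * L.e2 x) * g⁻¹ := by group
      _ = _ := by rw [hy]; group
  · intro c d h k
    obtain ⟨x, y, hy⟩ := H.comm_mem _ _ (hc c h) (hc d k)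
    refine ⟨x, y, ?_⟩
    rw [conj_e1, conj_e2]
    calc c * d = g * (g⁻¹ * c * g * (g⁻¹ * d * g)) * g⁻¹ := by group
      _ = _ := by rw [hy]; group
  · rintro c h ⟨A, B, k⟩
    have e : c * c = g * ((g⁻¹ * c * g) * (g⁻¹ * c * g)) * g⁻¹ := by group
    rw [e] at k
    obtain ⟨A', B', k'⟩ := H.sq_mem _ (hc c h) ⟨A, B, k.of_conj⟩
    refine ⟨A', B', ?_⟩
    have e2 : c = g * (g⁻¹ * c * g) * g⁻¹ := by group
    rw [e2]
    exact k'.conj g hs
  · intro c A B k
    have e2 : c = g * (g⁻¹ * c * g) * g⁻¹ := by group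
    rw [e2] at k
    exact H.square_iff _ A B k.of_conj
  · obtain ⟨x, A, B, h1, h2, h3, h4⟩ := H.outer
    refine ⟨g * x * g⁻¹, A, B, h1.conj g hs, h2, h3, ?_⟩
    calc g * x * g⁻¹ * (g * x * g⁻¹) = g * (x * x) * g⁻¹ := by group
      _ = 1 := by rw [h4]; group

end LocalSL

end Cfsg.Agent.GTwoOdd
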