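import Cfsg.Agent.GTwoOdd.BridgeHyp
import Cfsg.Agent.GTwoOdd.BridgeMain
import Cfsg.Agent.GTwoOdd.Core.Defs
import Cfsg.Agent.ClassificationK.GTwoReduce
import Cfsg.Agent.ClassificationK.GTwoModelConf
import Cfsg.Agent.ClassificationK.GTwoSylow
import Cfsg.Agent.S1059
import Cfsg.Agent.TwoFusion.ClosedCommutator

/-!
# Sylow 2-subgroups of type `G₂(q)`, one class of involutions: `C(t)/O(C(t))` satisfies `Hyp`
-/

set_option autoImplicit false

namespace Cfsg.Agent.GTwoOdd.Bridge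

open Matrix Subgroup QuaternionGroup Cfsg.Agent.ClassificationK Cfsg.Agent.ClassificationK.GTwoConf
open Cfsg.Agent.ClassificationK.GTwoModel Cfsg.Agent.ClassificationK.GTwoModelConf
open Cfsg.Agent.ClassificationK.GTwoModel.T Cfsg.Agent.ClassificationK.GTwoQuat
open Cfsg.Agent.GTwoOdd.BridgeConf

universe u

theorem two_ne_zero_of_odd {F : Type*} [Field F] [Fintype F] (h : Odd (Fintype.card F)) : (2 : F) ≠ 0 := by
  intro h0
  have hc : CharP F 2 := CharTwo.of_one_ne_zero_of_two_eq_zero one_ne_zero h0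
  have := FiniteField.even_card_of_char_two (F := F) ((ringChar.eq_iff (R := F)).2 hc)
  have h3 := Nat.odd_iff.1 h
  omega

theorem hyp_of_plus {X : Type u} [Group X] [Finite X] {k : ℕ} {P : Sylow 2 X} {s : X}
    {φ ψ : QuaternionGroup (2 ^ k) →* X} (h : Conf k P s φ ψ) (hs : s * s = φ (a 1) * ψ (a 1))
    (hp : BridgeMain.Plus φ ψ) : ∃ (F1 F2 : Type) (_ : Field F1) (_ : Field F2) (_ : Finite F1) (_ : Finite F2)
      (L : LocalSL (Conf.t φ) F1 F2), L.Hyp := by
  obtain ⟨L, M, nL, nM, leL, leM, ⟨F1, i1, j1, o1, ⟨e⟩⟩, ⟨F2, i2, j2, o2, ⟨f⟩⟩, hc, hsup⟩ := hp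
  have hp : Pair φ ψ L M := by
    refine ⟨nL, nM, leL, leM, fun x hx y hy => ?_, hsup⟩
    have h1 := Subgroup.commutator_mem_commutator hx hy
    rw [hc, Subgroup.mem_bot] at h1
    exact commutatorElement_eq_one_iff_mul_comm.1 h1
  exact ⟨F1, F2, i1, i2, inferInstance, inferInstance, _,
    BridgeHyp.hyp h hs hp (two_ne_zero_of_odd o1) (two_ne_zero_of_odd o2) e f⟩

theorem sT_sq (l : ℕ) : sT l * sT l = phiT l (a 1) * psiT l (a 1) := by
  rw [phiT_a, psiT_a, sT, T.mul_mk, T.mul_mk]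
  simp

section tau

variable {G : Type*} [Group G] [Finite G] (t : G)

/-- the image of `t` in `C(t)/O(C(t))` -/
def tau : centralizer ({t} : Set G) ⧸ Cfsg.pPrimeCore 2 (centralizer ({t} : Set G)) :=
  Core.bar t ⟨t, Subgroup.mem_centralizer_singleton_iff.2 rfl⟩

omit [Finite G] in
theorem tau_comm (x) : x * tau t = tau t * x := by
  obtain ⟨y, rfl⟩ := QuotientGroup.mk'_surjective _ x
  rw [tau, Core.bar, ← map_mul, ← map_mul]
  congr 1
  apply Subtype.ext
  exact mem_centralizer_singleton_iff.1 y.2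

omit [Finite G] in
theorem tau_sq (ht : orderOf t = 2) : tau t * tau t = 1 := by
  have htt : t * t = 1 := by rw [← pow_two, ← ht, pow_orderOf_eq_one]
  rw [tau, ← map_mul, ← map_one (Core.bar t)]
  congr 1
  exact Subtype.ext htt

theorem tau_ne (ht : orderOf t = 2) : tau t ≠ 1 := by
  intro h1
  rw [tau, Core.bar, QuotientGroup.mk'_apply, QuotientGroup.eq_one_iff] at h1
  have h3 : (Nat.card (Cfsg.pPrimeCore 2 (centralizer ({t} : Set G)))).Coprime 2 :=
    Cfsg.Agent.Lib.Cores.pPrimeCore_coprime 2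
  have h4 := orderOf_dvd_natCard (⟨_, h1⟩ : Cfsg.pPrimeCore 2 (centralizer ({t} : Set G)))
  rw [← orderOf_coe] at h4
  change orderOf (⟨t, _⟩ : centralizer ({t} : Set G)) ∣ _ at h4
  rw [← orderOf_coe] at h4
  change orderOf t ∣ _ at h4
  rw [ht] at h4
  have h5 : 2 ∣ 1 := by
    rw [← h3]
    exact Nat.dvd_gcd h4 dvd_rfl
  omega

end tau

/-- a central involution lies in every Sylow 2-subgroup -/
theorem mem_sylow_of_central {X : Type*} [Group X] [Finite X] (P : Sylow 2 X) {τ : X} (hc : ∀ x, x * τ = τ * x)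
    (h2 : τ * τ = 1) (h1 : τ ≠ 1) : τ ∈ (P : Subgroup X) := by
  have hn : (zpowers τ).Normal := by
    refine ⟨fun n hn g => ?_⟩
    obtain ⟨j, rfl⟩ := mem_zpowers_iff.1 hn
    have h1 : Commute g (τ ^ j) := (show Commute g τ from hc g).zpow_right j
    rw [h1.eq, mul_inv_cancel_right]
    exact hn
  have hp2 : IsPGroup 2 (zpowers τ) := by
    refine IsPGroup.of_card (n := 1) ?_
    rw [Nat.card_zpowers, pow_one]
    exact orderOf_eq_prime (by rw [pow_two, h2]) h1
  exact Cfsg.Agent.Lib.Cores.pCore_le_sylow P (Cfsg.Agent.Lib.Cores.le_pCore hn hp2 (mem_zpowers τ))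

/-- the centraliser of a central involution of a Sylow 2-subgroup -/
theorem locHyp_central {G : Type u} [Group G] [Finite G] {k : ℕ} (hk : 1 ≤ k) (S : Sylow 2 G)
    (e : T (2 * 2 ^ k) ≃* ↥(S : Subgroup G))
    (hone : ∀ x y : G, orderOf x = 2 → orderOf y = 2 → IsConj x y)
    (hGW : ∀ (X : Type u) [Group X] [Finite X] [Group.IsPerfect X]
      (S : Sylow 2 X) (n : ℕ), 2 ≤ n → Nonempty ((S : Subgroup X) ≃* DihedralGroup n) →
      (∃ (F : Type) (_ : Field F) (_ : Fintype F), Odd (Fintype.card F) ∧ 3 < Fintype.card F ∧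
        Nonempty (X ⧸ Cfsg.oddCore X ≃* Matrix.ProjectiveSpecialLinearGroup (Fin 2) F)) ∨
      Nonempty (X ⧸ Cfsg.oddCore X ≃* alternatingGroup (Fin 7)))
    (t : G) (ht : orderOf t = 2) (htS : t ∈ (S : Subgroup G)) (htZ : ∀ s ∈ (S : Subgroup G), s * t = t * s) :
    Core.LocHyp t := by
  have : NeZero (2 ^ k) := ⟨by positivity⟩
  have hl : 2 ∣ 2 ^ k := dvd_pow_self 2 (by omega)
  obtain ⟨SX, f, hO, hf, hr, hz, hc1, hc2, hinv⟩ := GTwoReduce.reduce hl S e hone t ht htS htZ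
  have hconf := GTwoModelConf.conf k hk hO SX f hf hr hz hc1 hc2 hinv
  have hplus := BridgeMain.main_plus
    (fun G _ _ P S₁ S₂ hdisj hs₁ hs₂ => Cfsg.Agent.TwoFusion.ClosedCommutator.commutator_le P S₁ S₂ hdisj hs₁ hs₂)
    hGW hconf
  have hs : f (sT (2 ^ k)) * f (sT (2 ^ k)) = f.comp (phiT (2 ^ k)) (a 1) * f.comp (psiT (2 ^ k)) (a 1) := by
    rw [MonoidHom.comp_apply, MonoidHom.comp_apply, ← map_mul, ← map_mul, sT_sq]
  have hH := hyp_of_plus hconf hs hplus
  have hT : Conf.t (f.comp (phiT (2 ^ k))) = f (z (2 ^ k)) := rfl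
  rw [hT] at hH
  -- the image of `t`
  have hτz : tau t = f (z (2 ^ k)) := by
    have hτS : tau t ∈ (SX : Subgroup _) := mem_sylow_of_central SX (tau_comm t) (tau_sq t ht) (tau_ne t ht)
    rw [← hr] at hτS
    obtain ⟨p, hp⟩ := hτS
    have h2 : p = z (2 ^ k) := by
      refine GTwoReduce.eq_z_of_central hl p ?_ ?_ ?_
      · apply hf
        rw [map_mul, hp, map_one]
        exact tau_sq t ht
      · rintro rfl
        rw [map_one] at hp
        exact tau_ne t ht hp.symm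
      · intro q
        apply hf
        rw [map_mul, map_mul, hp]
        exact tau_comm t _
    rw [← hp, h2]
  rw [← hτz] at hH
  exact hH

/-- **the bridge**: type `G₂(q)`, one class of involutions -/
theorem locHyp {G : Type u} [Group G] [Finite G]
    {F : Type*} [Field F] [Fintype F] (hF : Odd (Fintype.card F)) (S : Sylow 2 G)
    (P : Sylow 2 ↥(Cfsg.Lie.chevG2.group F))
    (hS : Nonempty (↥(S : Subgroup G) ≃* ↥(P : Subgroup ↥(Cfsg.Lie.chevG2.group F))))
    (h1 : ∀ x y : G, orderOf x = 2 → orderOf y = 2 → IsConj x y)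
    (hGW : ∀ (X : Type u) [Group X] [Finite X] [Group.IsPerfect X]
      (S : Sylow 2 X) (n : ℕ), 2 ≤ n → Nonempty ((S : Subgroup X) ≃* DihedralGroup n) →
      (∃ (F : Type) (_ : Field F) (_ : Fintype F), Odd (Fintype.card F) ∧ 3 < Fintype.card F ∧
        Nonempty (X ⧸ Cfsg.oddCore X ≃* Matrix.ProjectiveSpecialLinearGroup (Fin 2) F)) ∨
      Nonempty (X ⧸ Cfsg.oddCore X ≃* alternatingGroup (Fin 7)))
    (t : G) (ht : orderOf t = 2) : Core.LocHyp t := by
  obtain ⟨e⟩ := hS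
  obtain ⟨k, hk, ⟨e'⟩⟩ := GTwoSylow.exists_equiv hF (Cfsg.Agent.S1059.result (F := F) rfl) P
  have : NeZero (2 ^ k) := ⟨by positivity⟩
  have e0 : T (2 * 2 ^ k) ≃* ↥(S : Subgroup G) := e'.trans e.symm
  -- the central involution of `S`
  set z0 : ↥(S : Subgroup G) := e0 (z (2 ^ k)) with hz0
  have hzo : orderOf (z0 : G) = 2 := by
    rw [orderOf_coe, hz0, MulEquiv.orderOf_eq]
    exact orderOf_eq_prime z_sq z_ne
  obtain ⟨g, hg⟩ := isConj_iff.1 (h1 _ _ hzo ht)
  have htS : ∀ x, x ∈ ((g • S : Sylow 2 G) : Subgroup G) ↔ g⁻¹ * x * g ∈ (S : Subgroup G) := by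
    intro x
    rw [Sylow.coe_subgroup_smul, Subgroup.mem_pointwise_smul_iff_inv_smul_mem, ← map_inv, MulAut.smul_def,
      MulAut.conj_apply, inv_inv]
  refine locHyp_central hk (g • S) (e0.trans (Sylow.equiv S (g • S))) h1 hGW t ht ?_ ?_
  · rw [htS, ← hg]
    have : g⁻¹ * (g * (z0 : G) * g⁻¹) * g = z0 := by group
    rw [this]
    exact z0.2
  · intro s hs
    rw [htS] at hs
    obtain ⟨p, hp⟩ := e0.surjective ⟨_, hs⟩
    have h2 : (g⁻¹ * s * g) * (z0 : G) = z0 * (g⁻¹ * s * g) := by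
      have h3 : e0 p * z0 = z0 * e0 p := by
        rw [hz0, ← map_mul, ← map_mul, z_comm]
      rw [hp] at h3
      exact congrArg Subtype.val h3
    rw [← hg]
    calc s * (g * (z0 : G) * g⁻¹) = g * ((g⁻¹ * s * g) * (z0 : G)) * g⁻¹ := by group
      _ = _ := by rw [h2]; group

end Cfsg.Agent.GTwoOdd.Bridge
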