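import Mathlib

/-!
# Involution centralisers of the rank 2 groups: the form used in the `M`-lemma
-/

set_option autoImplicit false

namespace Cfsg.Agent.GTwoOdd

/-- every involution centraliser has a normal subgroup `SL(2,F)` with abelian quotient, and the
characteristic of `F` divides its index -/
def CentForm (N : Type*) [Group N] : Prop :=
  ∀ t : N, orderOf t = 2 → ∃ (F : Type) (_ : Field F) (_ : Fintype F)
    (f : Matrix.SpecialLinearGroup (Fin 2) F →* N), Function.Injective f ∧ Odd (Fintype.card F) ∧
      (∀ x, f x * t = t * f x) ∧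
      (∀ c, c * t = t * c → ∀ x, ∃ y, c * f x = f y * c) ∧
      (∀ c d, c * t = t * c → d * t = t * d → ∃ y, c * d = f y * (d * c)) ∧
      ∀ p : ℕ, p.Prime → p ∣ Fintype.card F → p ∣ (Subgroup.centralizer ({t} : Set N)).index

theorem CentForm.of_equiv {N M : Type*} [Group N] [Group M] (e : N ≃* M) (h : CentForm M) : CentForm N := by
  intro t ht
  obtain ⟨F, i1, i2, f, h1, h2, h3, h4, h5, h6⟩ := h (e t) (by rw [MulEquiv.orderOf_eq]; exact ht)
  refine ⟨F, i1, i2, e.symm.toMonoidHom.comp f, e.symm.injective.comp h1, h2, ?_, ?_, ?_, ?_⟩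
  · intro x
    apply e.injective
    simpa using h3 x
  · intro c hc x
    obtain ⟨y, hy⟩ := h4 (e c) (by rw [← map_mul, hc, map_mul]) x
    refine ⟨y, ?_⟩
    apply e.injective
    simpa using hy
  · intro c d hc hd
    obtain ⟨y, hy⟩ := h5 (e c) (e d) (by rw [← map_mul, hc, map_mul]) (by rw [← map_mul, hd, map_mul])
    refine ⟨y, ?_⟩
    apply e.injective
    simpa using hy
  · intro p hp hpF
    have h7 := h6 p hp hpF
    have h8 : (Subgroup.centralizer ({e t} : Set M)).comap e.toMonoidHom = Subgroup.centralizer ({t} : Set N) := by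
      ext x
      rw [Subgroup.mem_comap, Subgroup.mem_centralizer_singleton_iff, Subgroup.mem_centralizer_singleton_iff]
      constructor
      · intro h
        apply e.injective
        simpa using h
      · intro h
        have := congrArg e h
        simpa using this
    rw [← h8, Subgroup.index_comap_of_surjective _ e.surjective]
    exact h7

end Cfsg.Agent.GTwoOdd
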