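import Mathlib
import Cfsg.Agent.GTwoOdd.CentDef
import Cfsg.Agent.TwoFusion.PSL3Inv
import Cfsg.Agent.S0243

/-!
# Involution centralisers of `PSL(3, F)` have the form `CentForm`
-/

set_option autoImplicit false

namespace Cfsg.Agent.GTwoOdd.CentPSL

open Matrix Cfsg.Agent.TwoFusion.PSL3Inv

variable {F : Type*} [Field F]

/-- the embedding of `SL(2,F)` -/
noncomputable def f (P : SpecialLinearGroup (Fin 3) F) :
    SpecialLinearGroup (Fin 2) F →* ProjectiveSpecialLinearGroup (Fin 3) F :=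
  (phi P).comp SpecialLinearGroup.toGL

theorem f_injective (P : SpecialLinearGroup (Fin 3) F) : Function.Injective (f P) := by
  rw [injective_iff_map_eq_one]
  intro x hx
  have h1 : SpecialLinearGroup.toGL x ∈ (phi P).ker := hx
  rw [mem_ker_phi] at h1
  obtain ⟨u, hu, hux⟩ := h1
  have h2 : x.1 = Matrix.scalar (Fin 2) (u : F) := by
    have := congrArg Units.val hux
    exact this.symm
  have h3 : (u : F) ^ 2 = 1 := by
    have h4 := x.2
    rw [h2, Matrix.det_fin_two] at h4
    simpa [Matrix.scalar_apply, pow_two] using h4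
  have h5 : (u : F) ^ 3 = 1 := by
    rw [← Units.val_pow_eq_pow_val, hu, Units.val_one]
  have h6 : (u : F) = 1 := by
    rw [pow_succ, h3, one_mul] at h5
    exact h5
  apply Subtype.ext
  rw [h2, h6, map_one]
  rfl

theorem exists_sl (A : GL (Fin 2) F) (h : A.1.det = 1) : ∃ y : SpecialLinearGroup (Fin 2) F,
    SpecialLinearGroup.toGL y = A := ⟨⟨A.1, h⟩, Units.ext rfl⟩

theorem gl_det (A : GL (Fin 2) F) : A.1.det * (A⁻¹).1.det = 1 := by
  rw [← Matrix.det_mul, ← Units.val_mul, mul_inv_cancel, Units.val_one, Matrix.det_one]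

/-- the index of an involution centraliser of `PSL(3, F)` -/
theorem index [Fintype F] (h2 : (2 : F) ≠ 0) {q : ℕ} (hq : Fintype.card F = q + 1)
    (t : ProjectiveSpecialLinearGroup (Fin 3) F) (ht : orderOf t = 2) :
    (Subgroup.centralizer ({t} : Set (ProjectiveSpecialLinearGroup (Fin 3) F))).index =
      (q + 1) ^ 2 * (q ^ 2 + 3 * q + 3) := by
  classical
  obtain ⟨Z, hZn, -, hZ, ⟨e⟩⟩ := main h2 t ht
  have h1 : 0 < q := by
    have := Fintype.one_lt_card (α := F)
    omega
  have hG := Cfsg.Agent.S0243.result (F := F) hq 3 (by norm_num)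
  rw [Nat.add_sub_cancel, Fin.prod_univ_three] at hG
  have e0 : (q + 1) ^ 3 - (q + 1) ^ ((0 : Fin 3) : ℕ) = q * (q ^ 2 + 3 * q + 3) := by
    apply Nat.sub_eq_of_eq_add
    change _ = _ + (q + 1) ^ 0
    ring
  have e1 : (q + 1) ^ 3 - (q + 1) ^ ((1 : Fin 3) : ℕ) = (q + 1) * (q * (q + 2)) := by
    apply Nat.sub_eq_of_eq_add
    change _ = _ + (q + 1) ^ 1
    ring
  have e2 : (q + 1) ^ 3 - (q + 1) ^ ((2 : Fin 3) : ℕ) = (q + 1) ^ 2 * q := by
    apply Nat.sub_eq_of_eq_add
    change _ = _ + (q + 1) ^ 2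
    ring
  rw [e0, e1, e2] at hG
  have hL : Nat.card (GL (Fin 2) F) = (q * (q + 2)) * ((q + 1) * q) := by
    have h3 : Nat.card (GL (Fin 2) F) = ∏ i : Fin 2, (Fintype.card F ^ 2 - Fintype.card F ^ (i : ℕ)) :=
      Matrix.card_GL_field 2
    rw [h3, hq, Fin.prod_univ_two]
    congr 1
    · apply Nat.sub_eq_of_eq_add
      change _ = _ + (q + 1) ^ 0
      ring
    · apply Nat.sub_eq_of_eq_add
      change _ = _ + (q + 1) ^ 1
      ring
  have hC : Nat.card (Subgroup.centralizer ({t} : Set (ProjectiveSpecialLinearGroup (Fin 3) F))) * Nat.gcd 3 q =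
      (q * (q + 2)) * ((q + 1) * q) := by
    rw [← hL, Nat.card_congr e.toEquiv, Nat.gcd_comm,
      show q = Fintype.card F - 1 by rw [hq, Nat.add_sub_cancel], ← hZ]
    exact (Subgroup.card_eq_card_quotient_mul_card_subgroup Z).symm
  have hI := Subgroup.card_mul_index
    (Subgroup.centralizer ({t} : Set (ProjectiveSpecialLinearGroup (Fin 3) F)))
  rw [← hI] at hG
  have h4 : 0 < q * ((q * (q + 2)) * ((q + 1) * q)) := by positivity
  apply Nat.eq_of_mul_eq_mul_left h4
  rw [← hC]
  calc q * (Nat.card (Subgroup.centralizer ({t} : Set (ProjectiveSpecialLinearGroup (Fin 3) F))) * Nat.gcd 3 q) *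
        (Subgroup.centralizer ({t} : Set (ProjectiveSpecialLinearGroup (Fin 3) F))).index
      = q * (q ^ 2 + 3 * q + 3) * ((q + 1) * (q * (q + 2))) * ((q + 1) ^ 2 * q) := by rw [← hG]; ring
    _ = q * ((q * (q + 2)) * ((q + 1) * q)) * ((q + 1) ^ 2 * (q ^ 2 + 3 * q + 3)) := by ring
    _ = _ := by rw [hC]

/-- **(CF2)** `PSL(3, F)` has the form `CentForm`. -/
theorem centForm_psl (F : Type) [Field F] [Fintype F] (hF : Odd (Fintype.card F)) :
    CentForm (ProjectiveSpecialLinearGroup (Fin 3) F) := by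
  intro t ht
  have h2 : (2 : F) ≠ 0 := by
    intro h
    have h3 : ringChar F = 2 := by
      have h4 := ringChar.dvd (R := F) (x := 2) (by exact_mod_cast h)
      rcases (Nat.dvd_prime Nat.prime_two).mp h4 with h5 | h5
      · exact absurd h5 (CharP.ringChar_ne_one)
      · exact h5
    have h4 := FiniteField.even_card_of_char_two h3
    exact (Nat.not_even_iff_odd.mpr hF) (Nat.even_iff.mpr h4)
  have hidx := index h2 (q := Fintype.card F - 1) (by have := Fintype.card_pos (α := F); omega) t ht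
  obtain ⟨T, P, rfl, hTT, -, hTP⟩ := exists_conj_mk h2 t ht
  have hr := range_phi h2 hTT hTP
  have hmem : ∀ c : ProjectiveSpecialLinearGroup (Fin 3) F,
      c * QuotientGroup.mk T = QuotientGroup.mk T * c → ∃ A, phi P A = c := by
    intro c hc
    have : c ∈ (phi P).range := by
      rw [hr, Subgroup.mem_centralizer_singleton_iff]
      exact hc
    exact this
  refine ⟨F, inferInstance, inferInstance, f P, f_injective P, hF, ?_, ?_, ?_, ?_⟩
  · intro x
    have : f P x ∈ (phi P).range := ⟨_, rfl⟩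
    rw [hr, Subgroup.mem_centralizer_singleton_iff] at this
    exact this
  · intro c hc x
    obtain ⟨A, rfl⟩ := hmem c hc
    obtain ⟨y, hy⟩ := exists_sl (A * SpecialLinearGroup.toGL x * A⁻¹) (by
      rw [Units.val_mul, Units.val_mul, Matrix.det_mul, Matrix.det_mul]
      have h5 : (SpecialLinearGroup.toGL x : GL (Fin 2) F).1.det = 1 := x.2
      rw [h5, mul_one]
      exact gl_det A)
    refine ⟨y, ?_⟩
    show phi P A * phi P (SpecialLinearGroup.toGL x) = phi P (SpecialLinearGroup.toGL y) * phi P A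
    rw [hy, ← map_mul, ← map_mul]
    congr 1
    group
  · intro c d hc hd
    obtain ⟨A, rfl⟩ := hmem c hc
    obtain ⟨B, rfl⟩ := hmem d hd
    obtain ⟨y, hy⟩ := exists_sl (A * B * A⁻¹ * B⁻¹) (by
      rw [Units.val_mul, Units.val_mul, Units.val_mul, Matrix.det_mul, Matrix.det_mul, Matrix.det_mul]
      have h5 := gl_det A
      have h6 := gl_det B
      linear_combination (B.1.det * (B⁻¹).1.det) * h5 + h6)
    refine ⟨y, ?_⟩
    show phi P A * phi P B = phi P (SpecialLinearGroup.toGL y) * (phi P B * phi P A)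
    rw [hy, ← map_mul, ← map_mul, ← map_mul]
    congr 1
    group
  · intro p hp hpF
    rw [hidx, Nat.sub_add_cancel (Fintype.card_pos (α := F))]
    exact (Dvd.dvd.pow hpF two_ne_zero).mul_right _

end Cfsg.Agent.GTwoOdd.CentPSL
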