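import Mathlib
import Cfsg.Agent.GTwoOdd.CentDef
import Cfsg.Agent.GTwoOdd.CentPSL
import Cfsg.Agent.S0420
import Cfsg.Agent.S1603
import Cfsg.Agent.S0435
import Cfsg.Agent.Schreier.MEleven

/-!
# The simple groups of order 7920 have the form `CentForm`
-/

set_option autoImplicit false

namespace Cfsg.Agent.GTwoOdd.CentM11

open Matrix Cfsg.Agent.GTwoOdd.CentPSL

/-- an involution centraliser isomorphic to `GL(2, F)` -/
theorem of_gl {N : Type*} [Group N] {F : Type*} [Field F] (t : N)
    (e : ↥(Subgroup.centralizer ({t} : Set N)) ≃* GL (Fin 2) F) :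
    ∃ f : SpecialLinearGroup (Fin 2) F →* N, Function.Injective f ∧
      (∀ x, f x * t = t * f x) ∧
      (∀ c, c * t = t * c → ∀ x, ∃ y, c * f x = f y * c) ∧
      (∀ c d, c * t = t * c → d * t = t * d → ∃ y, c * d = f y * (d * c)) := by
  let ψ : GL (Fin 2) F →* N := (Subgroup.centralizer ({t} : Set N)).subtype.comp e.symm.toMonoidHom
  have hψ : Function.Injective ψ := Subtype.val_injective.comp e.symm.injective
  have hmem : ∀ c : N, c * t = t * c → ∃ A, ψ A = c := by
    intro c hc
    refine ⟨e ⟨c, Subgroup.mem_centralizer_singleton_iff.mpr hc⟩, ?_⟩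
    show ((e.symm (e ⟨c, _⟩) : ↥(Subgroup.centralizer ({t} : Set N))) : N) = c
    rw [MulEquiv.symm_apply_apply]
  refine ⟨ψ.comp SpecialLinearGroup.toGL, ?_, ?_, ?_, ?_⟩
  · exact hψ.comp SpecialLinearGroup.toGL_injective
  · intro x
    have := (e.symm (SpecialLinearGroup.toGL x)).2
    rw [Subgroup.mem_centralizer_singleton_iff] at this
    exact this
  · intro c hc x
    obtain ⟨A, rfl⟩ := hmem c hc
    obtain ⟨y, hy⟩ := exists_sl (A * SpecialLinearGroup.toGL x * A⁻¹) (by
      rw [Units.val_mul, Units.val_mul, Matrix.det_mul, Matrix.det_mul]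
      have h5 : (SpecialLinearGroup.toGL x : GL (Fin 2) F).1.det = 1 := x.2
      rw [h5, mul_one]
      exact gl_det A)
    refine ⟨y, ?_⟩
    show ψ A * ψ (SpecialLinearGroup.toGL x) = ψ (SpecialLinearGroup.toGL y) * ψ A
    rw [hy, ← map_mul, ← map_mul]
    congr 1
    group
  · intro c d hc hd
    obtain ⟨A, rfl⟩ := hmem c hc
    obtain ⟨B, rfl⟩ := hmem d hd
    obtain ⟨y, hy⟩ := exists_sl (A * B * A⁻¹ * B⁻¹) (by
      rw [Units.val_mul, Units.val_mul, Units.val_mul, Matrix.det_mul, Matrix.det_mul, Matrix.det_mul]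
      have h5 := gl_det A
      have h6 := gl_det B
      linear_combination (B.1.det * (B⁻¹).1.det) * h5 + h6)
    refine ⟨y, ?_⟩
    show ψ A * ψ B = ψ (SpecialLinearGroup.toGL y) * (ψ B * ψ A)
    rw [hy, ← map_mul, ← map_mul, ← map_mul]
    congr 1
    group

/-- **(CF3)** simple groups of order 7920 have the form `CentForm`. -/
theorem centForm_m11 {N : Type*} [Group N] [Finite N] (h : Cfsg.IsM11 N) : CentForm N := by
  obtain ⟨e⟩ := Cfsg.Agent.S0420.result h Cfsg.Spor.squareDodecad Cfsg.Agent.Schreier.MEleven.squareDodecad_mem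
    (some 0) Cfsg.Agent.Schreier.MEleven.zero_mem
  intro t ht
  have hM : Nonempty (↥(Subgroup.centralizer ({t} : Set N)) ≃* GL (Fin 2) (ZMod 3)) := by
    have ht' : orderOf (e t) = 2 := by rw [MulEquiv.orderOf_eq]; exact ht
    obtain ⟨f⟩ := Cfsg.Agent.S1603.result Cfsg.Spor.squareDodecad
      Cfsg.Agent.Schreier.MEleven.squareDodecad_mem (some 0) Cfsg.Agent.Schreier.MEleven.zero_mem (e t) ht'
    have h1 : (Subgroup.centralizer ({e t} : Set _)).comap e.toMonoidHom = Subgroup.centralizer ({t} : Set N) := by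
      ext x
      rw [Subgroup.mem_comap, Subgroup.mem_centralizer_singleton_iff, Subgroup.mem_centralizer_singleton_iff]
      constructor
      · intro h
        apply e.injective
        simpa using h
      · intro h
        have := congrArg e h
        simpa using this
    have h2 : (Subgroup.centralizer ({t} : Set N)).map e.toMonoidHom = Subgroup.centralizer ({e t} : Set _) := by
      rw [← h1, Subgroup.map_comap_eq_self_of_surjective e.surjective]
    exact ⟨((e.subgroupMap (Subgroup.centralizer ({t} : Set N))).trans (MulEquiv.subgroupCongr h2)).trans f⟩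
  obtain ⟨g⟩ := hM
  obtain ⟨f, h1, h2, h3, h4⟩ := of_gl t g
  refine ⟨ZMod 3, inferInstance, inferInstance, f, h1, ?_, h2, h3, h4, ?_⟩
  · rw [ZMod.card]
    decide
  · intro p hp hp3
    rw [ZMod.card] at hp3
    have h5 := Cfsg.Agent.S0435.result h t ht
    have h6 := Subgroup.card_mul_index (Subgroup.centralizer ({t} : Set N))
    rw [h5, h.2] at h6
    have h7 : (Subgroup.centralizer ({t} : Set N)).index = 165 := by omega
    rw [h7]
    exact hp3.trans (by norm_num)

end Cfsg.Agent.GTwoOdd.CentM11
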