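import Mathlib
import Cfsg.Agent.GTwoOdd.CentDef
import Cfsg.Agent.GTwoOdd.Core.HFiveB
import Cfsg.Agent.S0280

/-!
# Centralisers of involutions in `PSU₃(q)`, `q` odd

* `exists_conj_SU`: the involutions of `SU₃(q)` are conjugate to `diag(1,-1,-1)`;
* `exists_conj_vv`: the involutions of `PSU₃(q)` are conjugate;
* `centForm_psu`.
-/

set_option autoImplicit false

namespace Cfsg.Agent.GTwoOdd.CentPSU

open Subgroup Matrix Cfsg.Agent.LieClassical.HermBasic Cfsg.Agent.GTwoOdd.Core.HFiveB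

variable {F : Type*} [Field F] [Fintype F] {q : ℕ}

theorem two_ne (hF : Fintype.card F = q ^ 2) (hq : Odd q) : (2 : F) ≠ 0 := by
  apply Ring.two_ne_zero
  intro h
  have h1 := FiniteField.even_card_iff_char_two.mp h
  rw [hF] at h1
  have h2 := Nat.odd_iff.mp (hq.pow (n := 2))
  omega

/-- a fixed vector of norm one -/
theorem exists_fixed (hF : Fintype.card F = q ^ 2) (hq : Odd q) {g : Cfsg.SU 3 F q} (hg : g * g = 1) :
    ∃ u : Fin 3 → F, g.1.1 *ᵥ u = u ∧ Cfsg.hermForm 3 F q u u = 1 := by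
  have h2 := two_ne hF hq
  have hgg : ∀ u, g.1.1 *ᵥ (g.1.1 *ᵥ u) = u := by
    intro u
    have : g.1.1 * g.1.1 = 1 := congrArg (fun x : Cfsg.SU 3 F q => x.1.1) hg
    rw [mulVec_mulVec, this, one_mulVec]
  have hh := (mem_SU_iff g.1).1 g.2
  -- it suffices to find a fixed vector with nonzero norm
  suffices h : ∃ u : Fin 3 → F, g.1.1 *ᵥ u = u ∧ Cfsg.hermForm 3 F q u u ≠ 0 by
    obtain ⟨u, hu, hu0⟩ := h
    set c := Cfsg.hermForm 3 F q u u with hc
    have hcq : c ^ q = c := herm_self_pow hF u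
    obtain ⟨x, hx0, hx⟩ := exists_norm_eq_ne hF (c := c⁻¹) (by rw [inv_pow, hcq]) (inv_ne_zero hu0)
    refine ⟨x • u, by rw [mulVec_smul, hu], ?_⟩
    rw [herm_smul_left, herm_smul_right, ← hc]
    calc x * (x ^ q * c) = (x * x ^ q) * c := by ring
      _ = 1 := by rw [hx, inv_mul_cancel₀ hu0]
  -- a nonzero fixed vector
  have hfix : ∀ v, g.1.1 *ᵥ (v + g.1.1 *ᵥ v) = v + g.1.1 *ᵥ v := by
    intro v
    rw [mulVec_add, hgg, add_comm]
  obtain ⟨u, hu, hu0⟩ : ∃ u, g.1.1 *ᵥ u = u ∧ u ≠ 0 := by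
    by_contra hcon
    push Not at hcon
    have h3 : ∀ v, g.1.1 *ᵥ v = -v := by
      intro v
      exact (neg_eq_of_add_eq_zero_right (hcon _ (hfix v))).symm
    have h4 : g.1.1 = -1 := by
      ext i j
      have h5 := congrFun (h3 (Pi.single j 1)) i
      rw [mulVec_single_one] at h5
      simpa [Matrix.one_apply, Pi.single_apply] using h5
    have h5 : g.1.1.det = 1 := g.1.2
    rw [h4, det_neg, det_one, Fintype.card_fin] at h5
    apply h2
    have h6 : (-1 : F) = 1 := by
      calc (-1 : F) = (-1) ^ 3 * 1 := by ring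
        _ = 1 := h5
    linear_combination -h6
  by_cases huu : Cfsg.hermForm 3 F q u u = 0
  swap
  · exact ⟨u, hu, huu⟩
  obtain ⟨v, hv⟩ := exists_herm_ne_zero hF hu0
  set w := v + g.1.1 *ᵥ v with hw
  have huw : Cfsg.hermForm 3 F q u w = 2 * Cfsg.hermForm 3 F q u v := by
    rw [hw, herm_add_right hF]
    have : Cfsg.hermForm 3 F q u (g.1.1 *ᵥ v) = Cfsg.hermForm 3 F q u v := by
      have := hh u v
      rw [hu] at this
      exact this
    rw [this]
    ring
  have huw0 : Cfsg.hermForm 3 F q u w ≠ 0 := by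
    rw [huw]; exact mul_ne_zero h2 hv
  have hfw : g.1.1 *ᵥ w = w := hfix v
  clear_value w
  by_cases hww : Cfsg.hermForm 3 F q w w = 0
  swap
  · exact ⟨w, hfw, hww⟩
  obtain ⟨x, hx⟩ := exists_trace_ne hF
  set a := Cfsg.hermForm 3 F q u w with ha
  refine ⟨(x * a⁻¹) • u + w, ?_, ?_⟩
  · rw [mulVec_add, mulVec_smul, hu, hfw]
  · rw [herm_add_left, herm_add_right hF, herm_add_right hF, herm_smul_left, herm_smul_left, herm_smul_right,
      herm_smul_right, huu, hww, herm_swap hF u w, ← ha]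
    have e : x * a⁻¹ * ((x * a⁻¹) ^ q * 0) + x * a⁻¹ * a + ((x * a⁻¹) ^ q * a ^ q + 0) = x + x ^ q := by
      rw [← mul_pow]
      have : x * a⁻¹ * a = x := by rw [mul_assoc, inv_mul_cancel₀ huw0, mul_one]
      rw [this]
      ring
    rw [e]
    exact hx

/-- a matrix of `GU₃` as a product of a matrix of `SU₃` and `diag(c,1,1)` -/
theorem exists_SU_map (hF : Fintype.card F = q ^ 2) {u : Fin 3 → F} (hu : Cfsg.hermForm 3 F q u u = 1) :
    ∃ (x : Cfsg.SU 3 F q) (c : F), c ≠ 0 ∧ x.1.1 *ᵥ (Pi.single 0 1) = c • u := by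
  have hq0 : q ≠ 0 := (q_pos hF).ne'
  have h0 : Cfsg.hermForm 3 F q (Pi.single 0 1) (Pi.single 0 1) = 1 := by
    rw [herm_single_left, Pi.single_eq_same, one_pow, mul_one]
  obtain ⟨g, hg⟩ := Cfsg.Agent.LieClassical.GUOrder.exists_gu_map hF h0 hu
  have hgh := (mem_GU_iff g.1).1 g.2
  set d := g.1.1.det with hd
  have hdd : d ^ (q + 1) = 1 := Cfsg.Agent.LieClassical.GUOrder.det_mul_frob_det hF _ g.2
  have hd0 : d ≠ 0 := by
    intro h
    rw [h, zero_pow (by omega)] at hdd
    exact zero_ne_one hdd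
  have hd1 : (d⁻¹) ^ (q + 1) = 1 := by rw [inv_pow, hdd, inv_one]
  let M : Matrix (Fin 3) (Fin 3) F := g.1.1 * blk d⁻¹ 1
  have hMd : M.det = 1 := by
    rw [det_mul, blk_det, det_one, mul_one, ← hd, mul_inv_cancel₀ hd0]
  let N : SpecialLinearGroup (Fin 3) F := ⟨M, hMd⟩
  have hM : N ∈ Cfsg.SU 3 F q := by
    rw [mem_SU_iff]
    intro a b
    change Cfsg.hermForm 3 F q ((g.1.1 * blk d⁻¹ 1) *ᵥ a) ((g.1.1 * blk d⁻¹ 1) *ᵥ b) = _
    rw [← mulVec_mulVec, ← mulVec_mulVec, hgh, blk_mulVec, blk_mulVec, herm_three, herm_three a b]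
    have e1 : ∀ (a : F) (w : Fin 2 → F), ![(![a, w 0, w 1] : Fin 3 → F) 1, (![a, w 0, w 1] : Fin 3 → F) 2] = w := by
      intro a w; ext i; fin_cases i <;> rfl
    rw [e1, e1, one_mulVec, one_mulVec]
    change d⁻¹ * a 0 * (d⁻¹ * b 0) ^ q + _ = _
    rw [mul_pow]
    rw [pow_succ'] at hd1
    linear_combination (a 0 * b 0 ^ q) * hd1
  refine ⟨⟨N, hM⟩, d⁻¹, inv_ne_zero hd0, ?_⟩
  change (g.1.1 * blk d⁻¹ 1) *ᵥ (Pi.single 0 1) = _
  rw [← mulVec_mulVec]
  have e2 : blk d⁻¹ 1 *ᵥ (Pi.single 0 1) = d⁻¹ • (Pi.single 0 1 : Fin 3 → F) := by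
    ext i
    fin_cases i <;> simp [blk, Matrix.mulVec, dotProduct, Pi.single_apply]
  rw [e2, mulVec_smul]
  exact congrArg _ hg

/-- a matrix of `SU₃` which fixes `e₀` -/
theorem exists_blk (hF : Fintype.card F = q ^ 2) {g : Cfsg.SU 3 F q}
    (hg : g.1.1 *ᵥ (Pi.single 0 1) = Pi.single 0 1) :
    g.1.1 = blk 1 !![g.1.1 1 1, g.1.1 1 2; g.1.1 2 1, g.1.1 2 2] := by
  have hq0 : q ≠ 0 := (q_pos hF).ne'
  have hh := (mem_SU_iff g.1).1 g.2
  rw [mulVec_single_one] at hg
  have g00 : g.1.1 0 0 = 1 := by have := congrFun hg 0; simpa using this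
  have g10 : g.1.1 1 0 = 0 := by have := congrFun hg 1; simpa using this
  have g20 : g.1.1 2 0 = 0 := by have := congrFun hg 2; simpa using this
  have key : ∀ j : Fin 3, j ≠ 0 → g.1.1 0 j = 0 := by
    intro j hj
    have h1 := hh (Pi.single j 1) (Pi.single 0 1)
    rw [mulVec_single_one, mulVec_single_one, herm_single_left, Pi.single_eq_of_ne hj, zero_pow hq0, mul_zero,
      herm_def, Fin.sum_univ_three] at h1
    simpa [g00, g10, g20, hq0] using h1
  have g01 := key 1 (by decide)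
  have g02 := key 2 (by decide)
  ext i j
  fin_cases i <;> fin_cases j <;> simp [blk, g00, g10, g20, g01, g02]

/-- involutions of `SU₃(q)` are conjugate to `diag(1,-1,-1)` -/
theorem exists_conj_SU (hF : Fintype.card F = q ^ 2) (hq : Odd q) {g : Cfsg.SU 3 F q} (hg : g * g = 1) (hg1 : g ≠ 1) :
    ∃ x : Cfsg.SU 3 F q, x * emb hF (negOne hq hF) * x⁻¹ = g := by
  have h2 := two_ne hF hq
  obtain ⟨u, hu, huu⟩ := exists_fixed hF hq hg
  obtain ⟨x, c, hc0, hx⟩ := exists_SU_map hF huu
  refine ⟨x, ?_⟩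
  -- `y = x⁻¹ g x` fixes `e₀`
  set y := x⁻¹ * g * x with hy
  have hxy : x * y = g * x := by rw [hy]; group
  have hyy : y * y = 1 := by
    calc y * y = x⁻¹ * (g * g) * x := by rw [hy]; group
      _ = 1 := by rw [hg]; group
  have hy1 : y ≠ 1 := by
    intro h
    apply hg1
    calc g = x * y * x⁻¹ := by rw [hy]; group
      _ = 1 := by rw [h]; group
  have hfix : y.1.1 *ᵥ (Pi.single 0 1) = Pi.single 0 1 := by
    have h3 : x.1.1 * y.1.1 = g.1.1 * x.1.1 := congrArg (fun z : Cfsg.SU 3 F q => z.1.1) hxy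
    have h4 : x.1.1 *ᵥ (y.1.1 *ᵥ (Pi.single 0 1)) = x.1.1 *ᵥ (Pi.single 0 1) := by
      rw [mulVec_mulVec, h3, ← mulVec_mulVec, hx, mulVec_smul, hu]
    have h5 := congrArg (fun z => (x⁻¹).1.1 *ᵥ z) h4
    have h6 : (x⁻¹).1.1 * x.1.1 = 1 := congrArg (fun z : Cfsg.SU 3 F q => z.1.1) (inv_mul_cancel x)
    simpa only [mulVec_mulVec, ← Matrix.mul_assoc, h6, Matrix.one_mul, one_mulVec] using h5
  have hblk := exists_blk hF hfix
  set B : Matrix (Fin 2) (Fin 2) F := !![y.1.1 1 1, y.1.1 1 2; y.1.1 2 1, y.1.1 2 2] with hB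
  have hBd : B.det = 1 := by
    have : y.1.1.det = 1 := y.1.2
    rw [hblk, blk_det, one_mul] at this
    exact this
  have hBB : B * B = 1 := by
    have h3 : y.1.1 * y.1.1 = 1 := congrArg (fun z : Cfsg.SU 3 F q => z.1.1) hyy
    rw [hblk, blk_mul] at h3
    ext i j
    have a := congrFun (congrFun h3 i.succ) j.succ
    fin_cases i <;> fin_cases j <;> simpa [blk] using a
  -- `B = ± 1`
  have hBs : B = 1 ∨ B = -1 := by
    have a00 := congrFun (congrFun hBB 0) 0
    have a01 := congrFun (congrFun hBB 0) 1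
    have a10 := congrFun (congrFun hBB 1) 0
    have a11 := congrFun (congrFun hBB 1) 1
    rw [det_fin_two] at hBd
    simp [Matrix.mul_apply, Fin.sum_univ_two] at a00 a01 a10 a11
    set a := B 0 0
    set b := B 0 1
    set c := B 1 0
    set d := B 1 1
    have ht : (a + d) * a = 2 := by linear_combination a00 + hBd
    have htne : a + d ≠ 0 := by
      intro h
      rw [h, zero_mul] at ht
      exact h2 ht.symm
    have hb : b = 0 := by
      have : (a + d) * b = 0 := by linear_combination a01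
      exact (mul_eq_zero.1 this).resolve_left htne
    have hc : c = 0 := by
      have : (a + d) * c = 0 := by linear_combination a10
      exact (mul_eq_zero.1 this).resolve_left htne
    have had : a = d := by
      have : (a + d) * (a - d) = 0 := by linear_combination a00 - a11
      exact sub_eq_zero.1 ((mul_eq_zero.1 this).resolve_left htne)
    have haa : (a - 1) * (a + 1) = 0 := by
      rw [hb, zero_mul, add_zero] at a00
      linear_combination a00
    rcases mul_eq_zero.1 haa with h | h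
    · left
      have h1 : a = 1 := by linear_combination h
      ext i j
      fin_cases i <;> fin_cases j
      · exact h1
      · exact hb
      · exact hc
      · exact had.symm.trans h1
    · right
      have h1 : a = -1 := by linear_combination h
      ext i j
      fin_cases i <;> fin_cases j
      · simpa using h1
      · simpa using hb
      · simpa using hc
      · simpa using had.symm.trans h1
  have hBm : B = -1 := by
    rcases hBs with h | h
    · exfalso
      apply hy1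
      apply Subtype.ext
      apply Subtype.ext
      change y.1.1 = 1
      rw [hblk, h, blk_one]
    · exact h
  have hyt : y = emb hF (negOne hq hF) := by
    apply Subtype.ext
    apply Subtype.ext
    rw [emb_negOne, hblk, hBm]
    ext i j
    fin_cases i <;> fin_cases j <;> simp [blk]
  rw [← hyt, hxy]
  group

/-- the involutions of `PSU₃(q)` are conjugate -/
theorem exists_conj_vv (hF : Fintype.card F = q ^ 2) (hq : Odd q) {t : Cfsg.PSU 3 F q} (ht : orderOf t = 2) :
    ∃ x : Cfsg.PSU 3 F q, x * vv hF hq * x⁻¹ = t := by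
  obtain ⟨g, rfl⟩ := QuotientGroup.mk_surjective t
  have h1 : (QuotientGroup.mk (g * g) : Cfsg.PSU 3 F q) = 1 := by
    have := pow_orderOf_eq_one (QuotientGroup.mk g : Cfsg.PSU 3 F q)
    rw [ht, pow_two] at this
    exact this
  rw [QuotientGroup.eq_one_iff] at h1
  set z := g * g with hz
  have h3 := pow_three_of_center hF hq h1
  have hcomm := fun x => mem_center_iff.1 h1 x
  have h4 : (g * z) * (g * z) = 1 := by
    calc (g * z) * (g * z) = g * (z * g) * z := by group
      _ = g * (g * z) * z := by rw [hcomm g]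
      _ = z * z * z := by rw [hz]; group
      _ = z ^ 3 := by rw [pow_succ, pow_two]
      _ = 1 := h3
  have hz1 : (QuotientGroup.mk z : Cfsg.PSU 3 F q) = 1 := (QuotientGroup.eq_one_iff _).2 h1
  have h5 : (QuotientGroup.mk (g * z) : Cfsg.PSU 3 F q) = QuotientGroup.mk g := by
    rw [QuotientGroup.mk_mul, hz1, mul_one]
  have h6 : g * z ≠ 1 := by
    intro h
    rw [h, QuotientGroup.mk_one] at h5
    rw [← h5, orderOf_one] at ht
    norm_num at ht
  obtain ⟨x, hx⟩ := exists_conj_SU hF hq h4 h6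
  refine ⟨QuotientGroup.mk x, ?_⟩
  rw [← h5, ← hx, vv, QuotientGroup.mk_mul, QuotientGroup.mk_mul, QuotientGroup.mk_inv]

/-- the order of `C(v)` -/
theorem card_dvd (hF : Fintype.card F = q ^ 2) (hq : Odd q) {p : ℕ} (hp : p.Prime) (hpq : p ∣ Fintype.card F) :
    p ∣ (centralizer ({vv (F := F) hF hq} : Set (Cfsg.PSU 3 F q))).index := by
  have : Finite (Cfsg.GU 2 F q) := Cfsg.Agent.LieClassical.GUOrder.finite_GU 2
  have hpq' : p ∣ q := hp.dvd_of_dvd_pow (hF ▸ hpq)
  set C := centralizer ({vv (F := F) hF hq} : Set (Cfsg.PSU 3 F q)) with hC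
  have h1 := Cfsg.Agent.S0280.result hF 3 (by norm_num)
  have h2 := Cfsg.Agent.S0277.result hF 2
  norm_num [Finset.prod_range_succ, Nat.even_iff] at h1 h2
  have h3 : Nat.card C * Nat.card (toC (F := F) hF hq).ker = Nat.card (Cfsg.GU 2 F q) := by
    rw [← Subgroup.card_mul_index (toC (F := F) hF hq).ker, Subgroup.index_ker,
      MonoidHom.range_eq_top.2 (toC_surjective hF hq), Subgroup.card_top, mul_comm]
  have h4 : Nat.card C * C.index = Nat.card (Cfsg.PSU 3 F q) := Subgroup.card_mul_index C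
  set K := Nat.card (toC (F := F) hF hq).ker
  have hg : Nat.gcd 3 (q + 1) ∣ q + 1 := Nat.gcd_dvd_right _ _
  set g := Nat.gcd 3 (q + 1)
  have hq2 := two_le hF
  -- `g (q + 1) index · (q (q + 1) (q² - 1)) = q³ (q + 1) (q² - 1) (q³ + 1) K`
  have key : g * (q + 1) * C.index * (q * ((q + 1) * (q ^ 2 - 1))) =
      q ^ 3 * ((q + 1) * (q ^ 2 - 1) * (q ^ 3 + 1)) * K := by
    rw [← h1, ← h4, ← h2, ← h3]
    ring
  have hpos : 0 < q * ((q + 1) * (q ^ 2 - 1)) := by
    have : 1 < q ^ 2 := Nat.one_lt_pow (by norm_num) (by omega)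
    have h0 : 0 < q ^ 2 - 1 := by omega
    positivity
  have key2 : g * (q + 1) * C.index = q ^ 2 * (q ^ 3 + 1) * K := by
    apply Nat.eq_of_mul_eq_mul_right hpos
    rw [key]
    ring
  have h5 : p ∣ g * (q + 1) * C.index := by
    rw [key2, mul_assoc]
    exact Dvd.dvd.mul_right (dvd_pow hpq' (by norm_num)) _
  have h6 : ¬ p ∣ q + 1 := by
    intro h
    have h7 : p ∣ 1 := by
      have := Nat.dvd_sub h hpq'
      rwa [Nat.add_sub_cancel_left] at this
    exact hp.one_lt.ne' (Nat.dvd_one.1 h7)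
  rcases hp.dvd_mul.1 h5 with h | h
  · rcases hp.dvd_mul.1 h with h | h
    · exact absurd (h.trans hg) h6
    · exact absurd h h6
  · exact h

theorem centForm_psu (hF : Fintype.card F = q ^ 2) (hq : Odd q) : CentForm (Cfsg.PSU 3 F q) := by
  intro t ht
  obtain ⟨g, rfl⟩ := exists_conj_vv hF hq ht
  obtain ⟨K, _, _, hK⟩ := Cfsg.Agent.S0280.exists_field hF
  obtain ⟨f, j, hj, hdet, hsurj, -⟩ := Cfsg.Agent.Classification.QDW.SUTwoTrace.exists_hom_GU hF hK
  let φ : SpecialLinearGroup (Fin 2) K →* Cfsg.PSU 3 F q :=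
    (MulAut.conj g).toMonoidHom.comp
      ((centralizer ({vv (F := F) hF hq} : Set (Cfsg.PSU 3 F q))).subtype.comp ((toC hF hq).comp j))
  have hφ : ∀ x, φ x = g * (toC hF hq (j x)).1 * g⁻¹ := fun x => rfl
  -- elements of the centraliser
  have hcent : ∀ c, c * (g * vv hF hq * g⁻¹) = g * vv hF hq * g⁻¹ * c →
      ∃ A : Cfsg.GU 2 F q, c = g * (toC hF hq A).1 * g⁻¹ := by
    intro c hc
    have h1 : (g⁻¹ * c * g) ∈ centralizer ({vv (F := F) hF hq} : Set (Cfsg.PSU 3 F q)) := by
      rw [mem_centralizer_singleton_iff]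
      calc g⁻¹ * c * g * vv hF hq = g⁻¹ * (c * (g * vv hF hq * g⁻¹)) * g := by group
        _ = _ := by rw [hc]; group
    obtain ⟨A, hA⟩ := toC_surjective hF hq ⟨_, h1⟩
    refine ⟨A, ?_⟩
    rw [hA]
    change c = g * (g⁻¹ * c * g) * g⁻¹
    group
  have e : ∀ a b : Cfsg.PSU 3 F q, g * a * g⁻¹ * (g * b * g⁻¹) = g * (a * b) * g⁻¹ := fun a b => by group
  have e' : ∀ a b : Cfsg.GU 2 F q, (toC hF hq a).1 * (toC hF hq b).1 = (toC (F := F) hF hq (a * b)).1 := by
    intro a b
    rw [map_mul]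
    rfl
  refine ⟨K, inferInstance, inferInstance, φ, ?_, by rw [hK]; exact hq, ?_, ?_, ?_, ?_⟩
  · -- injective
    rw [injective_iff_map_eq_one]
    intro a ha
    rw [hφ, conj_eq_one_iff] at ha
    have h2 : (QuotientGroup.mk (emb hF (j a)) : Cfsg.PSU 3 F q) = 1 := ha
    rw [QuotientGroup.eq_one_iff] at h2
    have h3 := center_scalar hF hq h2
    have hd : (j a).1.1.det = 1 := by
      have := congrArg (fun u : Fˣ => (u : F)) (hdet a)
      rwa [GeneralLinearGroup.val_det_apply] at this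
    have h00 : (emb hF (j a)).1.1 0 0 = 1 := by
      rw [emb_val, hd, inv_one]
      rfl
    rw [h00, one_smul] at h3
    have h4 : emb hF (j a) = 1 := by
      apply Subtype.ext
      apply Subtype.ext
      exact h3
    apply hj
    apply emb_injective hF
    rw [h4, map_one, map_one]
  · intro x
    have hx := mem_centralizer_singleton_iff.1 (toC hF hq (j x)).2
    rw [hφ, e, e, hx]
  · intro c hc x
    obtain ⟨A, rfl⟩ := hcent c hc
    obtain ⟨y, hy⟩ := hsurj (A * j x * A⁻¹) (by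
      rw [Subgroup.coe_mul, Subgroup.coe_mul, map_mul, map_mul, hdet, Subgroup.coe_inv, map_inv]
      simp)
    refine ⟨y, ?_⟩
    rw [hφ, hφ, e, e, e', e', hy, inv_mul_cancel_right]
  · intro c d hc hd
    obtain ⟨A, rfl⟩ := hcent c hc
    obtain ⟨B, rfl⟩ := hcent d hd
    obtain ⟨y, hy⟩ := hsurj (A * B * (B * A)⁻¹) (by
      rw [Subgroup.coe_mul, Subgroup.coe_mul, map_mul, map_mul, Subgroup.coe_inv, map_inv, Subgroup.coe_mul, map_mul,
        mul_comm (GeneralLinearGroup.det (B : GL (Fin 2) F))]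
      simp)
    refine ⟨y, ?_⟩
    rw [hφ, e, e, e, e', e', e', hy, inv_mul_cancel_right]
  · intro p hp hpK
    have h1 : p ∣ Fintype.card F := by
      rw [hF, pow_two, ← hK]
      exact hpK.mul_right _
    have h2 := card_dvd hF hq hp h1
    have h3 : (centralizer ({g * vv (F := F) hF hq * g⁻¹} : Set (Cfsg.PSU 3 F q))).comap
        (MulAut.conj g).toMonoidHom = centralizer ({vv (F := F) hF hq} : Set (Cfsg.PSU 3 F q)) := by
      ext x
      rw [mem_comap, mem_centralizer_singleton_iff, mem_centralizer_singleton_iff]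
      change g * x * g⁻¹ * (g * vv hF hq * g⁻¹) = g * vv hF hq * g⁻¹ * (g * x * g⁻¹) ↔ _
      rw [e, e]
      constructor
      · intro h
        simpa using h
      · intro h
        rw [h]
    rw [← h3, Subgroup.index_comap_of_surjective _ (MulAut.conj g).surjective] at h2
    exact h2

end Cfsg.Agent.GTwoOdd.CentPSU
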