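import Cfsg.Agent.GTwoOdd.MIndex
import Cfsg.Agent.GTwoOdd.CentPSL
import Cfsg.Agent.GTwoOdd.CentPSU
import Cfsg.Agent.GTwoOdd.CentM11

/-!
# The involution centralisers of the simple groups with quasi-dihedral or wreathed Sylow 2-subgroups

`CentTypes` (needed for the `M`-lemma) from the classification of the simple groups with quasi-dihedral
or wreathed Sylow 2-subgroups (S0507, S0523).
-/

set_option autoImplicit false

namespace Cfsg.Agent.GTwoOdd.MCore

universe u

/-- the text of S0507 -/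
def QDText : Prop :=
  ∀ (G : Type u) [Group G] [Finite G] [IsSimpleGroup G] (S : Sylow 2 G),
    Cfsg.IsQuasiDihedral (S : Subgroup G) →
    (∃ (F : Type) (_ : Field F) (_ : Fintype F), Fintype.card F % 4 = 3 ∧
        Nonempty (G ≃* Matrix.ProjectiveSpecialLinearGroup (Fin 3) F)) ∨
      (∃ (F : Type) (_ : Field F) (_ : Fintype F) (q : ℕ), Fintype.card F = q ^ 2 ∧ q % 4 = 1 ∧
        Nonempty (G ≃* Cfsg.PSU 3 F q)) ∨ Cfsg.IsM11 G

/-- the text of S0523 -/
def WreathText : Prop :=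
  ∀ (G : Type u) [Group G] [Finite G] [IsSimpleGroup G] (S : Sylow 2 G),
    Cfsg.IsWreathed (S : Subgroup G) →
    (∃ (F : Type) (_ : Field F) (_ : Fintype F), Odd (Fintype.card F) ∧
        Nonempty (G ≃* Matrix.ProjectiveSpecialLinearGroup (Fin 3) F)) ∨
      (∃ (F : Type) (_ : Field F) (_ : Fintype F) (q : ℕ), Fintype.card F = q ^ 2 ∧ Odd q ∧
        Nonempty (G ≃* Cfsg.PSU 3 F q)) ∨
      Cfsg.IsM11 G

theorem centTypes (h1 : QDText.{u}) (h2 : WreathText.{u}) : CentTypes.{u} := by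
  intro N _ _ _ S hS
  rcases hS with hS | hS
  · rcases h1 N S hS with ⟨F, i1, i2, hF, ⟨e⟩⟩ | ⟨F, i1, i2, q, hF, hq, ⟨e⟩⟩ | h
    · exact CentForm.of_equiv e (CentPSL.centForm_psl F (Nat.odd_iff.mpr (by omega)))
    · exact CentForm.of_equiv e (CentPSU.centForm_psu hF (Nat.odd_iff.mpr (by omega)))
    · exact CentM11.centForm_m11 h
  · rcases h2 N S hS with ⟨F, i1, i2, hF, ⟨e⟩⟩ | ⟨F, i1, i2, q, hF, hq, ⟨e⟩⟩ | h
    · exact CentForm.of_equiv e (CentPSL.centForm_psl F hF)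
    · exact CentForm.of_equiv e (CentPSU.centForm_psu hF hq)
    · exact CentM11.centForm_m11 h

end Cfsg.Agent.GTwoOdd.MCore
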