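import Cfsg.Agent.StrongEmb.Split

/-!
# Closing with a strongly embedded subgroup

`M` is a subgroup of the finite simple group `G` which contains the centraliser of the involution `t` and has
one class of involutions; `t` inverts an element `≠ 1` of odd order of `M`.  Then `M = ⊤`, by Bender's
theorem (in the form: a strongly embedded subgroup has a normal `2`-subgroup which is regular on the other
cosets).
-/

set_option autoImplicit false

namespace Cfsg.Agent.GTwoOdd.CloseBender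

open Cfsg Cfsg.Agent.StrongEmb Cfsg.Agent.StrongEmb.Split

variable {G : Type*} [Group G] [Finite G]

/-- a subgroup with one class of involutions which contains the centraliser of one of them is strongly
embedded -/
theorem stronglyEmbedded {M : Subgroup G} (hM : M ≠ ⊤) {t : G} (ht : t * t = 1) (ht1 : t ≠ 1)
    (hC : ∀ c, c * t = t * c → c ∈ M)
    (hcl : ∀ x ∈ M, x * x = 1 → x ≠ 1 → ∃ m ∈ M, m * x = t * m) : IsStronglyEmbedded M := by
  have htM : t ∈ M := hC t rfl
  refine ⟨hM, ?_, ?_⟩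
  · have h1 : orderOf (⟨t, htM⟩ : M) ∣ Nat.card M := orderOf_dvd_natCard _
    have h2 : orderOf t = 2 := by
      rw [orderOf_eq_prime_iff]
      exact ⟨by rw [pow_two, ht], ht1⟩
    rw [Subgroup.orderOf_mk, h2] at h1
    exact even_iff_two_dvd.mpr h1
  · intro g hg
    by_contra hodd
    rw [Nat.not_odd_iff_even, even_iff_two_dvd] at hodd
    have : Fact (Nat.Prime 2) := ⟨Nat.prime_two⟩
    obtain ⟨⟨x, hx⟩, hx2⟩ := exists_prime_orderOf_dvd_card' 2 hodd
    rw [Subgroup.orderOf_mk, orderOf_eq_prime_iff, pow_two] at hx2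
    obtain ⟨hxM, y, hyM, hy⟩ := hx
    obtain ⟨m, hm, hmx⟩ := hcl x hxM hx2.1 hx2.2
    have hy' : g * y * g⁻¹ = x := hy
    have hy1 : y ≠ 1 := by
      intro h
      apply hx2.2
      rw [← hy', h]
      group
    have hyy : y * y = 1 := by
      have h1 : y * y = g⁻¹ * (x * x) * g := by rw [← hy']; group
      rw [h1, hx2.1]
      group
    obtain ⟨m', hm', hmy⟩ := hcl y hyM hyy hy1
    apply hg
    have h1 : m * g * m'⁻¹ ∈ M := by
      apply hC
      have e1 : m'⁻¹ * t = y * m'⁻¹ := by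
        calc m'⁻¹ * t = m'⁻¹ * (t * m') * m'⁻¹ := by group
          _ = m'⁻¹ * (m' * y) * m'⁻¹ := by rw [hmy]
          _ = y * m'⁻¹ := by group
      calc m * g * m'⁻¹ * t = m * g * (m'⁻¹ * t) := by group
        _ = m * (g * y * g⁻¹) * g * m'⁻¹ := by rw [e1]; group
        _ = (m * x) * g * m'⁻¹ := by rw [hy']
        _ = t * (m * g * m'⁻¹) := by rw [hmx]; group
    have h2 : g = m⁻¹ * (m * g * m'⁻¹) * m' := by group
    rw [h2]
    exact mul_mem (mul_mem (inv_mem hm) h1) hm'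

/-- **closing lemma** -/
theorem eq_top [IsSimpleGroup G]
    (hB : ∀ H : Subgroup G, IsStronglyEmbedded H → ∃ Q : Subgroup G, IsSplit H Q ∧ IsPGroup 2 Q)
    {M : Subgroup G} {t : G} (ht : t * t = 1) (ht1 : t ≠ 1)
    (hC : ∀ c, c * t = t * c → c ∈ M)
    (hcl : ∀ x ∈ M, x * x = 1 → x ≠ 1 → ∃ m ∈ M, m * x = t * m)
    {x : G} (hx : x ∈ M) (hxt : t * x * t⁻¹ = x⁻¹) (hx1 : x ≠ 1) (hodd : Odd (orderOf x)) : M = ⊤ := by
  by_contra hM
  have htM : t ∈ M := hC t rfl
  obtain ⟨Q, hQ, hQ2⟩ := hB M (stronglyEmbedded hM ht ht1 hC hcl)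
  have hQn : ∀ m ∈ M, ∀ q ∈ Q, m * q * m⁻¹ ∈ Q := by
    intro m hm q hq
    have := hQ.normal.conj_mem ⟨q, hQ.le hq⟩ (by rw [Subgroup.mem_subgroupOf]; exact hq) ⟨m, hm⟩
    rw [Subgroup.mem_subgroupOf] at this
    exact this
  -- `Q ≠ 1`
  have hQ1 : Q ≠ ⊥ := by
    rintro rfl
    obtain ⟨g, hg⟩ : ∃ g, g ∉ M := by
      by_contra h
      push Not at h
      exact hM ((Subgroup.eq_top_iff' M).mpr h)
    have hidx : M.index = 2 := by
      rw [Subgroup.index_eq_two_iff]
      refine ⟨g⁻¹, fun b => ?_⟩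
      by_cases hb : b ∈ M
      · right
        refine ⟨hb, fun h => hg ?_⟩
        have h2 := mul_mem (inv_mem hb) h
        rw [inv_mul_cancel_left] at h2
        simpa using inv_mem h2
      · left
        refine ⟨?_, hb⟩
        have hb' : b⁻¹ ∉ M := fun h => hb (by simpa using inv_mem h)
        obtain ⟨u, hu, h⟩ := hQ.trans g b⁻¹ hg hb'
        rw [Subgroup.mem_bot] at hu
        rw [hu, one_mul, inv_inv] at h
        have hg2 : g⁻¹ ∉ M := fun h => hg (by simpa using inv_mem h)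
        obtain ⟨u', hu', h'⟩ := hQ.trans g g⁻¹ hg hg2
        rw [Subgroup.mem_bot] at hu'
        rw [hu', one_mul, inv_inv] at h'
        have e : b * g⁻¹ = (b * g) * (g * g)⁻¹ := by group
        rw [e]
        exact mul_mem h (inv_mem h')
    have hn : M.Normal := Subgroup.normal_of_index_eq_two hidx
    rcases hn.eq_bot_or_eq_top with h | h
    · rw [h, Subgroup.mem_bot] at htM
      exact ht1 htM
    · exact hM h
  -- an involution of `Q`
  obtain ⟨q, hq, hq1, hqq⟩ : ∃ q ∈ Q, q ≠ 1 ∧ q * q = 1 := by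
    have : Fact (Nat.Prime 2) := ⟨Nat.prime_two⟩
    have : Nontrivial Q := (Subgroup.nontrivial_iff_ne_bot Q).2 hQ1
    obtain ⟨n, hn, hn2⟩ := hQ2.nontrivial_iff_card.1 this
    have h2 : 2 ∣ Nat.card Q := by rw [hn2]; exact dvd_pow_self 2 (by omega)
    obtain ⟨⟨q, hq⟩, hq2⟩ := exists_prime_orderOf_dvd_card' 2 h2
    rw [Subgroup.orderOf_mk, orderOf_eq_prime_iff, pow_two] at hq2
    exact ⟨q, hq, hq2.2, hq2.1⟩
  obtain ⟨m, hm, hmq⟩ := hcl q (hQ.le hq) hqq hq1
  have htQ : t ∈ Q := by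
    have h1 := hQn m hm q hq
    have e : m * q * m⁻¹ = t := by rw [hmq]; group
    rwa [e] at h1
  have h1 : x⁻¹ * x⁻¹ ∈ Q := by
    have e : x⁻¹ * x⁻¹ = t * (x * t⁻¹ * x⁻¹) := by
      calc x⁻¹ * x⁻¹ = (t * x * t⁻¹) * x⁻¹ := by rw [hxt]
        _ = _ := by group
    rw [e]
    exact mul_mem htQ (hQn x hx _ (inv_mem htQ))
  -- odd order and a `2`-group
  have h2 : x * x ∈ Q := by
    have := inv_mem h1
    rwa [mul_inv_rev, inv_inv] at this
  obtain ⟨k, hk⟩ := hQ2 ⟨x * x, h2⟩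
  have hk' : (x * x) ^ 2 ^ k = 1 := congrArg Subtype.val hk
  have h3 : x ^ (2 ^ (k + 1)) = 1 := by
    rw [pow_succ', pow_mul, pow_two]
    exact hk'
  have h4 := orderOf_dvd_of_pow_eq_one h3
  have h5 : orderOf x = 1 := by
    apply Nat.Coprime.eq_one_of_dvd _ h4
    exact Nat.Coprime.pow_right _ (Nat.coprime_two_right.mpr hodd)
  exact hx1 (orderOf_eq_one_iff.1 h5)

end Cfsg.Agent.GTwoOdd.CloseBender
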