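import Cfsg.Agent.GTwoOdd.CloseFus
import Cfsg.Agent.GTwoOdd.CloseBender

/-!
# A simple group with a split frame is generated by the root groups
-/

set_option autoImplicit false

namespace Cfsg.Agent.GTwoOdd

open Matrix Cfsg

namespace LocalSL

variable {G : Type*} [Group G] {t : G} {F1 F2 : Type*} [Field F1] [Field F2]
variable [Finite F1] [Finite F2] {L : LocalSL t F1 F2} {s g : G}

namespace Swap

variable (S : L.Split s g)
include S

/-- the normaliser of the group generated by the root groups is the whole group; `hB` = Bender's theorem -/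
theorem MM_eq_top [Finite G] [IsSimpleGroup G]
    (hB : ∀ H : Subgroup G, IsStronglyEmbedded H → ∃ Q : Subgroup G, StrongEmb.Split.IsSplit H Q ∧ IsPGroup 2 Q) :
    L.MM g = ⊤ := by
  have F := S.toFrame
  -- an element of odd order inverted by `t`
  obtain ⟨x, hx, hx1⟩ : ∃ x ∈ L.XN g 1, x ≠ 1 := by
    have h1 := card_XN_odd (L := L) (g := g) (m := 1) (by norm_num)
    have h2 : 1 < Nat.card F1 := Finite.one_lt_card
    rw [← h1] at h2
    have h3 : L.XN g 1 ≠ ⊥ := by
      intro h
      rw [h] at h2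
      simp at h2
    obtain ⟨⟨x, hx⟩, hx1⟩ := Subgroup.ne_bot_iff_exists_ne_one.1 h3
    exact ⟨x, hx, fun h => hx1 (Subtype.ext h)⟩
  have hodd : Odd (orderOf x) := by
    have h1 : orderOf x ∣ Nat.card (L.XN g 1) := by
      rw [← Subgroup.orderOf_mk x hx]
      exact orderOf_dvd_natCard _
    rw [card_XN_odd (L := L) (g := g) (m := 1) (by norm_num)] at h1
    refine Odd.of_dvd_nat ?_ h1
    -- the field has odd order
    have := Fintype.ofFinite F1
    rw [Nat.card_eq_fintype_card]
    have h2 : Fintype.card F1 % 2 = 1 := by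
      apply FiniteField.odd_card_of_char_ne_two
      intro h
      apply F.two1
      have : CharP F1 2 := by rw [← h]; exact ringChar.charP F1
      exact_mod_cast CharP.cast_eq_zero F1 2
    exact Nat.odd_iff.2 h2
  have hinv : t * x * t⁻¹ = x⁻¹ := by
    have := S.tN_inv (m := 1) (k := 0) (by norm_num) hx
    rwa [S.tN_0] at this
  exact CloseBender.eq_top hB L.t_sq F.t_ne (fun c hc => S.cent_mem hc) (fun y hy h1 h2 => S.conj_mem hy h1 h2)
    (GG_le_MM L g (XN_le_GG L g 1 hx)) hinv hx1 hodd

/-- **END**: the root groups generate the simple group; `hB` = Bender's theorem -/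
theorem GG_eq_top [Finite G] [IsSimpleGroup G]
    (hB : ∀ H : Subgroup G, IsStronglyEmbedded H → ∃ Q : Subgroup G, StrongEmb.Split.IsSplit H Q ∧ IsPGroup 2 Q) :
    ⨆ m : ℕ, L.XN g m = ⊤ := by
  have F := S.toFrame
  have h1 : (L.GG g).Normal := Subgroup.normalizer_eq_top_iff.1 (S.MM_eq_top hB)
  rcases h1.eq_bot_or_eq_top with h | h
  · exfalso
    have h2 : L.e1 (-1) ∈ L.GG g := S.e1_mem_GG _
    rw [h, Subgroup.mem_bot] at h2
    exact F.t_ne (L.neg1.symm.trans h2)
  · exact h

/-- the root groups indexed by `ZMod 12` generate -/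
theorem iSup_X_eq_top [Finite G] [IsSimpleGroup G]
    (hB : ∀ H : Subgroup G, IsStronglyEmbedded H → ∃ Q : Subgroup G, StrongEmb.Split.IsSplit H Q ∧ IsPGroup 2 Q) :
    ⨆ m : ZMod 12, L.X g m = ⊤ := by
  rw [eq_top_iff, ← S.GG_eq_top hB]
  refine iSup_le fun m => ?_
  rw [← S.X_cast m]
  exact le_iSup (fun m : ZMod 12 => L.X g m) _

end Swap

end LocalSL

end Cfsg.Agent.GTwoOdd
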