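import Cfsg.Agent.GTwoOdd.HexFrame

/-!
# From the full group `R₃` to the relations
-/

set_option autoImplicit false

namespace Cfsg.Agent.GTwoOdd.HexFull

open Matrix
open Cfsg.Agent.GTwoOdd.Hex
open Cfsg.Agent.GTwoOdd.LocalSL
open Cfsg.Agent.GTwoOdd.HexFrame
open Cfsg.Agent.TitsThree.RankTwoIdx

section five

variable {G : Type*} [Group G]

/-- five root groups whose product is `R`, with central middle -/
structure Five (A B C D E R : Subgroup G) : Prop where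
  cent : ∀ x ∈ R, ∀ y ∈ C, x * y = y * x
  norm : ∀ c, (∀ y ∈ C, c * y = y * c) → ∀ x ∈ R, c * x * c⁻¹ ∈ R
  abel : ∀ x ∈ R, ∀ y ∈ R, x * y * x⁻¹ * y⁻¹ ∈ C
  hA : A ≤ R
  hB : B ≤ R
  hC : C ≤ R
  hD : D ≤ R
  hE : E ≤ R
  le : R ≤ A ⊔ B ⊔ C ⊔ D ⊔ E

variable {A B C D E R : Subgroup G}

theorem mem_conj {w : G} {H : Subgroup G} {x : G} : x ∈ cjS w H ↔ ∃ y ∈ H, w * y * w⁻¹ = x := mem_cj rfl

theorem Five.map (h : Five A B C D E R) (w : G) :
    Five (cjS w A) (cjS w B) (cjS w C) (cjS w D) (cjS w E) (cjS w R) where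
  cent x' hx' y' hy' := by
    obtain ⟨x, hx, rfl⟩ := mem_conj.1 hx'
    obtain ⟨y, hy, rfl⟩ := mem_conj.1 hy'
    calc w * x * w⁻¹ * (w * y * w⁻¹) = w * (x * y) * w⁻¹ := by group
      _ = w * (y * x) * w⁻¹ := by rw [h.cent x hx y hy]
      _ = _ := by group
  norm c hc x' hx' := by
    obtain ⟨x, hx, rfl⟩ := mem_conj.1 hx'
    have h1 : ∀ y ∈ C, w⁻¹ * c * w * y = y * (w⁻¹ * c * w) := by
      intro y hy
      have h2 := hc _ (mem_conj.2 ⟨y, hy, rfl⟩)
      calc w⁻¹ * c * w * y = w⁻¹ * (c * (w * y * w⁻¹)) * w := by group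
        _ = w⁻¹ * (w * y * w⁻¹ * c) * w := by rw [h2]
        _ = _ := by group
    refine mem_conj.2 ⟨_, h.norm _ h1 x hx, ?_⟩
    group
  abel x' hx' y' hy' := by
    obtain ⟨x, hx, rfl⟩ := mem_conj.1 hx'
    obtain ⟨y, hy, rfl⟩ := mem_conj.1 hy'
    refine mem_conj.2 ⟨_, h.abel x hx y hy, ?_⟩
    group
  hA := cjS_mono h.hA
  hB := cjS_mono h.hB
  hC := cjS_mono h.hC
  hD := cjS_mono h.hD
  hE := cjS_mono h.hE
  le := by
    refine (cjS_mono h.le).trans ?_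
    simp only [cjS, Subgroup.map_sup]
    exact le_rfl

theorem Five.sup_decomp (h : Five A B C D E R) {N X : Subgroup G} (hN : N ≤ R) (hC : C ≤ N) (hX : X ≤ R) {u : G}
    (hu : u ∈ N ⊔ X) : ∃ v ∈ N, ∃ x ∈ X, u = v * x := by
  refine R2.decomp_aux (fun x hx v hv => ?_) hu
  have h1 := hC (h.abel x (hX hx) v (hN hv))
  have : x * v * x⁻¹ = x * v * x⁻¹ * v⁻¹ * v := by group
  rw [this]
  exact mul_mem h1 hv

theorem Five.prod (h : Five A B C D E R) {r : G} (hr : r ∈ R) :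
    ∃ a ∈ A, ∃ b ∈ B, ∃ c ∈ C, ∃ d ∈ D, ∃ e ∈ E, r = a * b * c * d * e := by
  have h1 : A ⊔ B ⊔ C ⊔ D ⊔ E = C ⊔ A ⊔ B ⊔ D ⊔ E := by
    congr 2
    rw [sup_comm (A ⊔ B) C, sup_assoc]
  have h2 := h.le hr
  rw [h1] at h2
  obtain ⟨v1, hv1, e, he, rfl⟩ := h.sup_decomp (sup_le (sup_le (sup_le h.hC h.hA) h.hB) h.hD)
    (le_sup_left.trans (le_sup_left.trans le_sup_left)) h.hE h2
  obtain ⟨v2, hv2, d, hd, rfl⟩ := h.sup_decomp (sup_le (sup_le h.hC h.hA) h.hB)
    (le_sup_left.trans le_sup_left) h.hD hv1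
  obtain ⟨v3, hv3, b, hb, rfl⟩ := h.sup_decomp (sup_le h.hC h.hA) le_sup_left h.hB hv2
  obtain ⟨c, hc, a, ha, rfl⟩ := h.sup_decomp h.hC le_rfl h.hA hv3
  refine ⟨a, ha, b, hb, c, hc, d, hd, e, he, ?_⟩
  have h3 := h.cent _ (mul_mem (h.hA ha) (h.hB hb)) c hc
  have h4 : c * a * b = a * b * c := by rw [h3]; group
  rw [h4]

/-- calculus modulo `C` -/
def Q (C : Subgroup G) (x y : G) : Prop := x * y⁻¹ ∈ C

theorem Five.Q_mul (h : Five A B C D E R) {x y x' y' : G} (hy : y ∈ R) (h1 : Q C x y)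
    (h2 : Q C x' y') : Q C (x * x') (y * y') := by
  unfold Q at *
  have e : x * x' * (y * y')⁻¹ = x * (x' * y'⁻¹) * y⁻¹ := by group
  have h3 := h.cent y hy _ h2
  have h4 : y * (x' * y'⁻¹) * y⁻¹ = x' * y'⁻¹ := by rw [h3]; group
  have e2 : x * (x' * y'⁻¹) * y⁻¹ = (x * y⁻¹) * (y * (x' * y'⁻¹) * y⁻¹) := by group
  rw [e, e2, h4]
  exact mul_mem h1 h2

theorem Q_refl (C : Subgroup G) (x : G) : Q C x x := by unfold Q; rw [mul_inv_cancel]; exact one_mem _

theorem Q_symm {x y : G} (h : Q C x y) : Q C y x := by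
  unfold Q at *
  have := inv_mem h
  rwa [_root_.mul_inv_rev, inv_inv] at this

theorem Q_trans {x y z : G} (h : Q C x y) (h' : Q C y z) : Q C x z := by
  unfold Q at *
  have := mul_mem h h'
  have e : x * y⁻¹ * (y * z⁻¹) = x * z⁻¹ := by group
  rwa [e] at this

theorem Five.Q_comm (h : Five A B C D E R) {x y : G} (hx : x ∈ R) (hy : y ∈ R) : Q C (x * y) (y * x) := by
  unfold Q
  have := h.abel x hx y hy
  have e : x * y * (y * x)⁻¹ = x * y * x⁻¹ * y⁻¹ := by group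
  rwa [e]

end five

section frame

variable {G : Type*} [Group G] {t : G} {F1 F2 : Type*} [Field F1] [Field F2]
variable [Finite F1] [Finite F2] {L : LocalSL t F1 F2} {s g : G}

theorem base_sq (S : L.Split s g) (i : ℕ) {x : G} (hx : x ∈ L.baseX i) (h : x * x = 1) : x = 1 := by
  have h4 : i % 4 < 4 := Nat.mod_lt _ (by norm_num)
  interval_cases hi : i % 4
  · rw [L.baseX_0 hi] at hx
    obtain ⟨_, ⟨a, rfl⟩, rfl⟩ := hx
    rw [← map_mul, up_mul, ← map_one L.e2, ← up_zero] at h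
    have h1 := up_inj (L.inj2 h)
    have h2 : a = 0 := by
      have : 2 * a = 0 := by linear_combination h1
      exact (mul_eq_zero.1 this).resolve_left S.toFrame.two2
    rw [h2, up_zero, map_one]
  · rw [L.baseX_1 hi] at hx
    obtain ⟨_, ⟨a, rfl⟩, rfl⟩ := hx
    rw [← map_mul, lo_mul, ← map_one L.e1, ← lo_zero] at h
    have h1 := congrArg (fun z : SL2 F1 => (z : M2 F1) 1 0) (L.inj1 h)
    simp only [lo_coe] at h1
    have h2 : a = 0 := by
      have h1' : a + a = 0 := by simpa using h1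
      have : 2 * a = 0 := by linear_combination h1'
      exact (mul_eq_zero.1 this).resolve_left S.toFrame.two1
    rw [h2, lo_zero, map_one]
  · rw [L.baseX_2 hi] at hx
    obtain ⟨_, ⟨a, rfl⟩, rfl⟩ := hx
    rw [← map_mul, lo_mul, ← map_one L.e2, ← lo_zero] at h
    have h1 := congrArg (fun z : SL2 F2 => (z : M2 F2) 1 0) (L.inj2 h)
    simp only [lo_coe] at h1
    have h2 : a = 0 := by
      have h1' : a + a = 0 := by simpa using h1
      have : 2 * a = 0 := by linear_combination h1'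
      exact (mul_eq_zero.1 this).resolve_left S.toFrame.two2
    rw [h2, lo_zero, map_one]
  · rw [L.baseX_3 hi] at hx
    obtain ⟨_, ⟨a, rfl⟩, rfl⟩ := hx
    rw [← map_mul, up_mul, ← map_one L.e1, ← up_zero] at h
    have h1 := up_inj (L.inj1 h)
    have h2 : a = 0 := by
      have : 2 * a = 0 := by linear_combination h1
      exact (mul_eq_zero.1 this).resolve_left S.toFrame.two1
    rw [h2, up_zero, map_one]

theorem XN_sq (S : L.Split s g) {m : ℕ} {x : G} (hx : x ∈ L.XN g m) (h : x * x = 1) : x = 1 := by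
  unfold XN at hx
  rw [mem_cjS] at hx
  have h1 := base_sq S m hx (by
    calc (rho L (wn F1) g ^ m)⁻¹ * x * rho L (wn F1) g ^ m * ((rho L (wn F1) g ^ m)⁻¹ * x * rho L (wn F1) g ^ m)
        = (rho L (wn F1) g ^ m)⁻¹ * (x * x) * rho L (wn F1) g ^ m := by group
      _ = 1 := by rw [h]; group)
  calc x = rho L (wn F1) g ^ m * ((rho L (wn F1) g ^ m)⁻¹ * x * rho L (wn F1) g ^ m) * (rho L (wn F1) g ^ m)⁻¹ := by
        group
    _ = 1 := by rw [h1]; group

/-- `X m ∩ X k = 1` for `m ≡ k mod 3`, `m ≢ k mod 2` -/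
theorem XN_inf (S : L.Split s g) {m k : ℕ} (h1 : m % 3 = k % 3) (h2 : m % 2 ≠ k % 2) {x : G} (hx : x ∈ L.XN g m)
    (hy : x ∈ L.XN g k) : x = 1 := by
  have hk : L.XN g k = cjS (rho L (wn F1) g ^ m) (L.baseX k) := by
    unfold XN
    exact EqT.cjS_eq (T := TT L) (S.rho_mod h1.symm) (S.nT_rho.pow m) (fun c hc => S.cjS_base hc k)
  rw [hk, mem_cjS] at hy
  unfold XN at hx
  rw [mem_cjS] at hx
  set z := (rho L (wn F1) g ^ m)⁻¹ * x * rho L (wn F1) g ^ m with hz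
  have key : ∀ (j : ℕ) {z : G}, z ∈ L.baseX j → (j % 2 = 0 → ∃ w, z = L.e2 w) ∧ (j % 2 = 1 → ∃ w, z = L.e1 w) := by
    intro k z hz
    have h4 : k % 4 < 4 := Nat.mod_lt _ (by norm_num)
    interval_cases hk : k % 4
    · rw [L.baseX_0 hk] at hz
      obtain ⟨w, -, rfl⟩ := hz
      exact ⟨fun _ => ⟨w, rfl⟩, fun h => by omega⟩
    · rw [L.baseX_1 hk] at hz
      obtain ⟨w, -, rfl⟩ := hz
      exact ⟨fun h => by omega, fun _ => ⟨w, rfl⟩⟩
    · rw [L.baseX_2 hk] at hz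
      obtain ⟨w, -, rfl⟩ := hz
      exact ⟨fun _ => ⟨w, rfl⟩, fun h => by omega⟩
    · rw [L.baseX_3 hk] at hz
      obtain ⟨w, -, rfl⟩ := hz
      exact ⟨fun h => by omega, fun _ => ⟨w, rfl⟩⟩
  have hz1 : z * z = 1 := by
    have h3 : ∃ (u : SL2 F1) (v : SL2 F2), z = L.e1 u ∧ z = L.e2 v := by
      rcases Nat.mod_two_eq_zero_or_one m with h | h
      · obtain ⟨v, hv⟩ := (key m hx).1 h
        obtain ⟨u, hu⟩ := (key k hy).2 (by omega)
        exact ⟨u, v, hu, hv⟩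
      · obtain ⟨u, hu⟩ := (key m hx).2 h
        obtain ⟨v, hv⟩ := (key k hy).1 (by omega)
        exact ⟨u, v, hu, hv⟩
    obtain ⟨u, v, hu, hv⟩ := h3
    rcases e1_eq_e2 (L := L) (hu.symm.trans hv) with ⟨h5, -⟩ | ⟨h5, -⟩
    · rw [hu, h5, map_one, mul_one]
    · rw [hu, h5, L.neg1, L.t_sq]
  have h6 := base_sq S m hx hz1
  calc x = rho L (wn F1) g ^ m * z * (rho L (wn F1) g ^ m)⁻¹ := by rw [hz]; group
    _ = 1 := by rw [h6]; group

/-- the full case -/
abbrev Full (L : LocalSL t F1 F2) (g : G) (R : Subgroup G) : Prop :=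
  Five (L.XN g 1) (L.XN g 2) (L.XN g 3) (L.XN g 4) (L.XN g 5) R

variable {R : Subgroup G}

/-- an element of `X m` which is centralised by `t_k` and inverted by it -/
theorem eq_one_of (S : L.Split s g) {m k : ℕ} (h : k % 3 ≠ m % 3) {x : G} (hx : x ∈ L.XN g m)
    (h1 : tN t L g k * x = x * tN t L g k) : x = 1 := by
  apply XN_sq S hx
  have h2 := S.tN_inv h hx
  rw [h1] at h2
  have h3 : x = x⁻¹ := by
    calc x = x * tN t L g k * (tN t L g k)⁻¹ := by group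
      _ = x⁻¹ := h2
  calc x * x = x * x⁻¹ := by rw [← h3]
    _ = 1 := by group

/-- the product with the image under an automorphism modulo `C` -/
theorem tqq {A B C D E R : Subgroup G} (hR : Five A B C D E R) {T : G} {a b c d e : G} (ha : a ∈ A) (hb : b ∈ B)
    (hc : c ∈ C) (hd : d ∈ D) (he : e ∈ E) {a' b' d' e' : G} (ha' : a' ∈ A)
    (hb' : b' ∈ B) (hd' : d' ∈ D) (he' : e' ∈ E)
    (hta : T * a * T⁻¹ = a') (htb : T * b * T⁻¹ = b') (hc' : T * c * T⁻¹ ∈ C)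
    (htd : T * d * T⁻¹ = d') (hte : T * e * T⁻¹ = e') :
    Q C (a * b * c * d * e * (T * (a * b * c * d * e) * T⁻¹))
      (a * a' * (b * b') * (d * d') * (e * e')) := by
  have e1 : T * (a * b * c * d * e) * T⁻¹ = a' * b' * (T * c * T⁻¹) * d' * e' := by
    rw [← hta, ← htb, ← htd, ← hte]; group
  rw [e1]
  have mA := hR.hA ha
  have mB := hR.hB hb
  have mC := hR.hC hc
  have mD := hR.hD hd
  have mE := hR.hE he
  have mA' := hR.hA ha'
  have mB' := hR.hB hb'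
  have mC' := hR.hC hc'
  have mD' := hR.hD hd'
  have mE' := hR.hE he'
  have q1 : Q C c 1 := by unfold Q; simpa using hc
  have q2 : Q C (T * c * T⁻¹) 1 := by unfold Q; simpa using hc'
  -- remove `c`
  have s1 : Q C (a * b * c * d * e * (a' * b' * (T * c * T⁻¹) * d' * e'))
      (a * b * 1 * d * e * (a' * b' * 1 * d' * e')) := by
    apply hR.Q_mul (mul_mem (mul_mem (mul_mem (mul_mem mA mB) (one_mem _)) mD) mE)
    · exact hR.Q_mul (mul_mem (mul_mem (mul_mem mA mB) (one_mem _)) mD) (hR.Q_mul (mul_mem (mul_mem mA mB) (one_mem _))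
        (hR.Q_mul (mul_mem mA mB) (Q_refl _ _) q1) (Q_refl _ _)) (Q_refl _ _)
    · exact hR.Q_mul (mul_mem (mul_mem (mul_mem mA' mB') (one_mem _)) mD') (hR.Q_mul (mul_mem (mul_mem mA' mB')
        (one_mem _)) (hR.Q_mul (mul_mem mA' mB') (Q_refl _ _) q2) (Q_refl _ _)) (Q_refl _ _)
  refine Q_trans s1 ?_
  -- move `a'`
  have s2 : Q C (a * b * 1 * d * e * (a' * b' * 1 * d' * e')) (a * (a' * (b * d * e)) * (b' * d' * e')) := by
    have : a * b * 1 * d * e * (a' * b' * 1 * d' * e') = a * ((b * d * e) * a') * (b' * d' * e') := by group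
    rw [this]
    exact hR.Q_mul (mul_mem mA (mul_mem mA' (mul_mem (mul_mem mB mD) mE)))
      (hR.Q_mul mA (Q_refl _ _) (hR.Q_comm (mul_mem (mul_mem mB mD) mE) mA')) (Q_refl _ _)
  refine Q_trans s2 ?_
  have s3 : Q C (a * (a' * (b * d * e)) * (b' * d' * e')) (a * a' * b * (b' * (d * e)) * (d' * e')) := by
    have : a * (a' * (b * d * e)) * (b' * d' * e') = a * a' * b * ((d * e) * b') * (d' * e') := by group
    rw [this]
    exact hR.Q_mul (mul_mem (mul_mem (mul_mem mA mA') mB) (mul_mem mB' (mul_mem mD mE)))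
      (hR.Q_mul (mul_mem (mul_mem mA mA') mB) (Q_refl _ _) (hR.Q_comm (mul_mem mD mE) mB')) (Q_refl _ _)
  refine Q_trans s3 ?_
  have s4 : Q C (a * a' * b * (b' * (d * e)) * (d' * e')) (a * a' * (b * b') * d * (d' * e) * e') := by
    have : a * a' * b * (b' * (d * e)) * (d' * e') = a * a' * (b * b') * d * (e * d') * e' := by group
    rw [this]
    exact hR.Q_mul (mul_mem (mul_mem (mul_mem (mul_mem mA mA') (mul_mem mB mB')) mD) (mul_mem mD' mE))
      (hR.Q_mul (mul_mem (mul_mem (mul_mem mA mA') (mul_mem mB mB')) mD) (Q_refl _ _) (hR.Q_comm mE mD')) (Q_refl _ _)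
  refine Q_trans s4 ?_
  have : a * a' * (b * b') * d * (d' * e) * e' = a * a' * (b * b') * (d * d') * (e * e') := by group
  rw [this]
  exact Q_refl _ _

theorem tN_mem (S : L.Split s g) (k m : ℕ) {x : G} (hx : x ∈ L.XN g m) : tN t L g k * x * (tN t L g k)⁻¹ ∈ L.XN g m := by
  by_cases h : k % 3 = m % 3
  · rw [S.tN_cent h hx]
    simpa using hx
  · rw [S.tN_inv h hx]
    exact inv_mem hx

/-- the square modulo `X 3` under `t_k` -/
theorem tq (S : L.Split s g) (hR : Full L g R) {k : ℕ} {a b c d e : G} (ha : a ∈ L.XN g 1) (hb : b ∈ L.XN g 2)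
    (hc : c ∈ L.XN g 3) (hd : d ∈ L.XN g 4) (he : e ∈ L.XN g 5) {a' b' d' e' : G} (ha' : a' ∈ L.XN g 1)
    (hb' : b' ∈ L.XN g 2) (hd' : d' ∈ L.XN g 4) (he' : e' ∈ L.XN g 5)
    (hta : tN t L g k * a * (tN t L g k)⁻¹ = a') (htb : tN t L g k * b * (tN t L g k)⁻¹ = b')
    (htd : tN t L g k * d * (tN t L g k)⁻¹ = d') (hte : tN t L g k * e * (tN t L g k)⁻¹ = e') :
    Q (L.XN g 3) (a * b * c * d * e * (tN t L g k * (a * b * c * d * e) * (tN t L g k)⁻¹))
      (a * a' * (b * b') * (d * d') * (e * e')) :=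
  tqq hR ha hb hc hd he ha' hb' hd' he' hta htb (tN_mem S k 3 hc) htd hte

/-- uniqueness in `R` -/
theorem Full.uniq (S : L.Split s g) (hR : Full L g R) {a b c d e : G} (ha : a ∈ L.XN g 1) (hb : b ∈ L.XN g 2)
    (hc : c ∈ L.XN g 3) (hd : d ∈ L.XN g 4) (he : e ∈ L.XN g 5) (h : a * b * c * d * e ∈ L.XN g 3) :
    a = 1 ∧ b = 1 ∧ d = 1 ∧ e = 1 := by
  have key : ∀ k, Q (L.XN g 3) (a * b * c * d * e * (tN t L g k * (a * b * c * d * e) * (tN t L g k)⁻¹)) 1 := by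
    intro k
    unfold Q
    rw [inv_one, mul_one]
    apply mul_mem h
    by_cases hk : k % 3 = 3 % 3
    · rw [S.tN_cent hk h]
      simpa using h
    · rw [S.tN_inv hk h]
      exact inv_mem h
  have fix : ∀ {k m} {x : G}, k % 3 = m % 3 → x ∈ L.XN g m → tN t L g k * x * (tN t L g k)⁻¹ = x := by
    intro k m x hk hx
    rw [S.tN_cent hk hx]; group
  -- `t₁`
  have h1 := tq S hR (k := 1) ha hb hc hd he ha (inv_mem hb) hd (inv_mem he) (fix (by norm_num) ha)
    (S.tN_inv (by norm_num) hb) (fix (by norm_num) hd) (S.tN_inv (by norm_num) he)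
  have h2 := Q_trans (Q_symm h1) (key 1)
  have h3 : a * a * (d * d) ∈ L.XN g 3 := by
    have e1 : a * a * (b * b⁻¹) * (d * d) * (e * e⁻¹) = a * a * (d * d) := by group
    rw [e1] at h2
    unfold Q at h2
    simpa using h2
  have h4 : a * a * (d * d) = 1 := by
    apply eq_one_of S (k := 1) (m := 3) (by norm_num) h3
    have e1 := S.tN_cent (m := 1) (k := 1) (by norm_num) (mul_mem ha ha)
    have e2 := S.tN_cent (m := 4) (k := 1) (by norm_num) (mul_mem hd hd)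
    rw [← mul_assoc, e1, mul_assoc, e2]
    group
  have h5 : a * a = 1 := by
    apply XN_inf S (m := 1) (k := 4) (by norm_num) (by norm_num) (mul_mem ha ha)
    have : a * a = (d * d)⁻¹ := eq_inv_of_mul_eq_one_left h4
    rw [this]
    exact inv_mem (mul_mem hd hd)
  have h6 : d * d = 1 := by
    rw [h5, one_mul] at h4
    exact h4
  -- `t₂`
  have k1 := tq S hR (k := 2) ha hb hc hd he (inv_mem ha) hb (inv_mem hd) he
    (S.tN_inv (by norm_num) ha) (fix (by norm_num) hb) (S.tN_inv (by norm_num) hd) (fix (by norm_num) he)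
  have k2 := Q_trans (Q_symm k1) (key 2)
  have k3 : b * b * (e * e) ∈ L.XN g 3 := by
    have e1 : a * a⁻¹ * (b * b) * (d * d⁻¹) * (e * e) = b * b * (e * e) := by group
    rw [e1] at k2
    unfold Q at k2
    simpa using k2
  have k4 : b * b * (e * e) = 1 := by
    apply eq_one_of S (k := 2) (m := 3) (by norm_num) k3
    have e1 := S.tN_cent (m := 2) (k := 2) (by norm_num) (mul_mem hb hb)
    have e2 := S.tN_cent (m := 5) (k := 2) (by norm_num) (mul_mem he he)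
    rw [← mul_assoc, e1, mul_assoc, e2]
    group
  have k5 : b * b = 1 := by
    apply XN_inf S (m := 2) (k := 5) (by norm_num) (by norm_num) (mul_mem hb hb)
    have : b * b = (e * e)⁻¹ := eq_inv_of_mul_eq_one_left k4
    rw [this]
    exact inv_mem (mul_mem he he)
  have k6 : e * e = 1 := by
    rw [k5, one_mul] at k4
    exact k4
  exact ⟨XN_sq S ha h5, XN_sq S hb k5, XN_sq S hd h6, XN_sq S he k6⟩

/-- `R ∩ X 0 = 1` -/
theorem Full.inf_zero (S : L.Split s g) (hR : Full L g R) {f : G} (hf : f ∈ L.XN g 0) (h : f ∈ R) : f = 1 := by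
  obtain ⟨a, ha, b, hb, c, hc, d, hd, e, he, h1⟩ := hR.prod h
  have fix : ∀ {k m} {x : G}, k % 3 = m % 3 → x ∈ L.XN g m → tN t L g k * x * (tN t L g k)⁻¹ = x := by
    intro k m x hk hx
    rw [S.tN_cent hk hx]; group
  have h2 := tq S hR (k := 0) ha hb hc hd he (inv_mem ha) (inv_mem hb) (inv_mem hd) (inv_mem he)
    (S.tN_inv (by norm_num) ha) (S.tN_inv (by norm_num) hb) (S.tN_inv (by norm_num) hd) (S.tN_inv (by norm_num) he)
  rw [← h1, fix (m := 0) rfl hf] at h2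
  have h3 : f * f ∈ L.XN g 3 := by
    have e1 : a * a⁻¹ * (b * b⁻¹) * (d * d⁻¹) * (e * e⁻¹) = 1 := by group
    rw [e1] at h2
    unfold Q at h2
    simpa using h2
  exact XN_sq S hf (XN_inf S (m := 0) (k := 3) (by norm_num) (by norm_num) (mul_mem hf hf) h3)

/-- `X 5` does not commute with `X 1` -/
theorem not_comm51 (S : L.Split s g) (hR : Full L g R) {e : G} (he : e ∈ L.XN g 5)
    (h : ∀ x ∈ L.XN g 1, e * x = x * e) : e = 1 := by
  by_contra h1
  -- all of `X 5` commutes with `X 1`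
  have h2 : ∀ e' ∈ L.XN g 5, ∀ x ∈ L.XN g 1, e' * x = x * e' := by
    intro e' he' x hx
    by_cases h3 : e' = 1
    · rw [h3]; simp
    obtain ⟨c, hc, h4⟩ := S.tor_trans_XN 5 he he' h1 h3
    have h5 : c⁻¹ * x * c ∈ L.XN g 1 := by
      rw [← mem_cjS, S.cjS_XN hc]
      exact hx
    have h6 := h _ h5
    rw [← h4]
    calc c * e * c⁻¹ * x = c * (e * (c⁻¹ * x * c)) * c⁻¹ := by group
      _ = c * ((c⁻¹ * x * c) * e) * c⁻¹ := by rw [h6]
      _ = x * (c * e * c⁻¹) := by group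
  -- conjugate with `nJ`: `X 11` commutes with `X 3`
  have h3 : ∀ y ∈ L.XN g 11, ∀ x ∈ L.XN g 3, y * x = x * y := by
    intro y hy x hx
    obtain ⟨y', hy', rfl⟩ := (mem_cj (nJ_XN S (m := 5) (k := 11) (by norm_num))).1 hy
    obtain ⟨x', hx', rfl⟩ := (mem_cj (nJ_XN S (m := 1) (k := 3) (by norm_num))).1 hx
    calc (pre S).nJ * y' * ((pre S).nJ)⁻¹ * ((pre S).nJ * x' * ((pre S).nJ)⁻¹)
        = (pre S).nJ * (y' * x') * ((pre S).nJ)⁻¹ := by group
      _ = (pre S).nJ * (x' * y') * ((pre S).nJ)⁻¹ := by rw [h2 y' hy' x' hx']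
      _ = _ := by group
  -- `nJ` commutes with `X 3`
  have h4 : ∀ x ∈ L.XN g 3, (pre S).nJ * x = x * (pre S).nJ := by
    intro x hx
    have e1 : (pre S).nJ = (pre S).x6 1 * (pre S).y6 (-1) * (pre S).x6 1 := (pre S).J.n_eq
    have c1 := hR.cent _ (hR.hE ((mem_x6 S).2 ⟨1, rfl⟩)) x hx
    have c2 := h3 _ ((mem_y6 S).2 ⟨-1, rfl⟩) x hx
    have c1' : Commute ((pre S).x6 1) x := c1
    have c2' : Commute ((pre S).y6 (-1)) x := c2
    rw [e1]
    exact ((c1'.mul_left c2').mul_left c1').eq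
  -- hence `X 3 ≤ X 1`
  have h5 : ∀ x ∈ L.XN g 3, x = 1 := by
    intro x hx
    have h6 : x ∈ L.XN g 1 := by
      rw [mem_cj (nJ_XN S (m := 3) (k := 1) (by norm_num))]
      exact ⟨x, hx, by rw [h4 x hx]; group⟩
    apply XN_sq S hx
    have e1 := S.tN_cent (m := 1) (k := 1) rfl h6
    have e2 := S.tN_inv (m := 3) (k := 1) (by norm_num) hx
    rw [e1] at e2
    have e3 : x = x⁻¹ := by
      calc x = x * tN t L g 1 * (tN t L g 1)⁻¹ := by group
        _ = x⁻¹ := e2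
    calc x * x = x * x⁻¹ := by rw [← e3]
      _ = 1 := by group
  have h6 := h5 _ ((mem_x4 S).2 ⟨1, rfl⟩)
  rw [← (pre S).x4_zero] at h6
  exact one_ne_zero (x4_inj S h6)

/-- the group `R₁` -/
theorem Full.shift (S : L.Split s g) (hR : Full L g R) :
    Five (L.XN g 11) (L.XN g 0) (L.XN g 1) (L.XN g 2) (L.XN g 3) (cjS ((pre S).nJ * (pre S).nI) R) := by
  have h := Five.map hR ((pre S).nJ * (pre S).nI)
  rw [cjS_mul _ _ (L.XN g 1), cjS_mul _ _ (L.XN g 2), cjS_mul _ _ (L.XN g 3), cjS_mul _ _ (L.XN g 4),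
    cjS_mul _ _ (L.XN g 5), nI_XN S (m := 1) (k := 5) (by norm_num), nI_XN S (m := 2) (k := 4) (by norm_num),
    nI_XN S (m := 3) (k := 3) (by norm_num), nI_XN S (m := 4) (k := 2) (by norm_num),
    nI_XN S (m := 5) (k := 1) (by norm_num), nJ_XN S (m := 5) (k := 11) (by norm_num),
    nJ_XN S (m := 4) (k := 0) (by norm_num), nJ_XN S (m := 3) (k := 1) (by norm_num),
    nJ_XN S (m := 2) (k := 2) (by norm_num), nJ_XN S (m := 1) (k := 3) (by norm_num)] at h
  exact h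

/-- `[X 0, X 4] ≤ X 1 X 2 X 3` -/
theorem i04 (S : L.Split s g) (hR : Full L g R) {x y : G} (hx : x ∈ L.XN g 0) (hy : y ∈ L.XN g 4) :
    ∃ a ∈ L.XN g 1, ∃ b ∈ L.XN g 2, ∃ c ∈ L.XN g 3, x * y * x⁻¹ * y⁻¹ = a * b * c := by
  have hR' := Full.shift S hR
  set R' := cjS ((pre S).nJ * (pre S).nI) R
  set z := x * y * x⁻¹ * y⁻¹ with hz
  have z1 : z ∈ R := by
    have h1 := hR.norm x (fun v hv => S.XN_comm3 (m := 0) (k := 3) rfl (by norm_num) hx hv) y (hR.hD hy)
    exact mul_mem h1 (inv_mem (hR.hD hy))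
  have z2 : z ∈ R' := by
    have h1 := hR'.norm y (fun v hv => S.XN_comm3 (m := 4) (k := 1) rfl (by norm_num) hy hv) x⁻¹
      (inv_mem (hR'.hB hx))
    have e : z = x * (y * x⁻¹ * y⁻¹) := by rw [hz]; group
    rw [e]
    exact mul_mem (hR'.hB hx) h1
  obtain ⟨a, ha, b, hb, c, hc, d, hd, e, he, h1⟩ := hR.prod z1
  obtain ⟨p, hp, q, hq, r, hr, u, hu, v, hv, h2⟩ := hR'.prod z2
  have fix : ∀ {k m} {x : G}, k % 3 = m % 3 → x ∈ L.XN g m → tN t L g k * x * (tN t L g k)⁻¹ = x := by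
    intro k m x hk hx
    rw [S.tN_cent hk hx]; group
  -- `d = 1`
  have k1 := tq S hR (k := 1) ha hb hc hd he ha (inv_mem hb) hd (inv_mem he) (fix (by norm_num) ha)
    (S.tN_inv (by norm_num) hb) (fix (by norm_num) hd) (S.tN_inv (by norm_num) he)
  rw [← h1] at k1
  have k2 := tqq hR' (T := tN t L g 1) hp hq hr hu hv (inv_mem hp) (inv_mem hq) (inv_mem hu) (inv_mem hv)
    (S.tN_inv (by norm_num) hp) (S.tN_inv (by norm_num) hq) (tN_mem S 1 1 hr) (S.tN_inv (by norm_num) hu)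
    (S.tN_inv (by norm_num) hv)
  rw [← h2] at k2
  have k3 : z * (tN t L g 1 * z * (tN t L g 1)⁻¹) ∈ L.XN g 1 := by
    have e1 : p * p⁻¹ * (q * q⁻¹) * (u * u⁻¹) * (v * v⁻¹) = 1 := by group
    rw [e1] at k2
    unfold Q at k2
    simpa using k2
  have k4 : z * (tN t L g 1 * z * (tN t L g 1)⁻¹) * (a * a * (d * d))⁻¹ ∈ L.XN g 3 := by
    have e1 : a * a * (b * b⁻¹) * (d * d) * (e * e⁻¹) = a * a * (d * d) := by group
    rw [e1] at k1
    exact k1
  set w := z * (tN t L g 1 * z * (tN t L g 1)⁻¹) with hw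
  have k5 : d * d = 1 := by
    have h3 : (a * a)⁻¹ * w * 1 * 1 * (d * d)⁻¹ * 1 ∈ L.XN g 3 := by
      have e1 : (a * a)⁻¹ * w * 1 * 1 * (d * d)⁻¹ * 1 =
          (a * a)⁻¹ * (w * (a * a * (d * d))⁻¹) * (a * a) := by group
      have h4 := hR.cent _ (mul_mem (hR.hA ha) (hR.hA ha)) _ k4
      have e2 : (a * a)⁻¹ * (w * (a * a * (d * d))⁻¹) * (a * a) = w * (a * a * (d * d))⁻¹ := by
        rw [mul_assoc, ← h4]; group
      rw [e1, e2]
      exact k4
    have h5 := (Full.uniq S hR (mul_mem (inv_mem (mul_mem ha ha)) k3) (one_mem _) (one_mem _)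
      (inv_mem (mul_mem hd hd)) (one_mem _) h3).2.2.1
    exact inv_eq_one.1 h5
  have k6 : d = 1 := XN_sq S hd k5
  -- `e = 1`
  have k7 : e = 1 := by
    apply not_comm51 S hR he
    intro x0 hx0
    have c1 : Commute z x0 := hR'.cent z z2 x0 hx0
    have c2 : Commute a x0 := hR'.cent a (hR'.hC ha) x0 hx0
    have c3 : Commute b x0 := hR'.cent b (hR'.hD hb) x0 hx0
    have c4 : Commute c x0 := hR'.cent c (hR'.hE hc) x0 hx0
    have e1 : e = (a * b * c)⁻¹ * z := by rw [h1, k6]; group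
    rw [e1]
    exact (((c2.mul_left c3).mul_left c4).inv_left.mul_left c1).eq
  refine ⟨a, ha, b, hb, c, hc, ?_⟩
  rw [h1, k6, k7]
  group

/-- the relations -/
theorem rels (S : L.Split s g) (hR : Full L g R) : Rels L g := by
  have hR' := Full.shift S hR
  set R' := cjS ((pre S).nJ * (pre S).nI) R
  have i04' := fun x (hx : x ∈ L.XN g 0) y (hy : y ∈ L.XN g 4) => i04 S hR hx hy
  refine ⟨fun x hx y hy => hR.cent x (hR.hA hx) y hy, fun x hx y hy => hR.cent x (hR.hB hx) y hy,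
    fun x hx y hy => hR'.abel x (hR'.hB hx) y (hR'.hD hy), fun x hx y hy => hR.abel x (hR.hE hx) y (hR.hA hy),
    i04', ?_, ?_⟩
  · -- `[X 0, X 5]`
    set N1 : Subgroup G := L.XN g 3 ⊔ L.XN g 1 ⊔ L.XN g 2 ⊔ L.XN g 4 with hN1
    have m3 : L.XN g 3 ≤ N1 := le_sup_left.trans (le_sup_left.trans le_sup_left)
    have m1 : L.XN g 1 ≤ N1 := le_sup_right.trans (le_sup_left.trans le_sup_left)
    have m2 : L.XN g 2 ≤ N1 := le_sup_right.trans le_sup_left
    have m4 : L.XN g 4 ≤ N1 := le_sup_right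
    have hNR : N1 ≤ R := sup_le (sup_le (sup_le hR.hC hR.hA) hR.hB) hR.hD
    have hmem : ∀ n ∈ N1, ∃ a ∈ L.XN g 1, ∃ b ∈ L.XN g 2, ∃ c ∈ L.XN g 3, ∃ d ∈ L.XN g 4, n = a * b * c * d := by
      intro n hn
      obtain ⟨v2, hv2, d, hd, rfl⟩ := hR.sup_decomp (sup_le (sup_le hR.hC hR.hA) hR.hB)
        (le_sup_left.trans le_sup_left) hR.hD hn
      obtain ⟨v3, hv3, b, hb, rfl⟩ := hR.sup_decomp (sup_le hR.hC hR.hA) le_sup_left hR.hB hv2
      obtain ⟨c, hc, a, ha, rfl⟩ := hR.sup_decomp hR.hC le_rfl hR.hA hv3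
      refine ⟨a, ha, b, hb, c, hc, d, hd, ?_⟩
      have h3 := hR.cent _ (mul_mem (hR.hA ha) (hR.hB hb)) c hc
      have h4 : c * a * b = a * b * c := by rw [h3]; group
      rw [h4]
    have hX0 : ∀ x ∈ L.XN g 0, ∀ n ∈ N1, x * n * x⁻¹ ∈ N1 := by
      intro x hx
      have h1 : N1 ≤ N1.comap (MulAut.conj x).toMonoidHom := by
        refine sup_le (sup_le (sup_le ?_ ?_) ?_) ?_
        · intro y hy
          change x * y * x⁻¹ ∈ N1
          rw [S.XN_comm3 (m := 0) (k := 3) rfl (by norm_num) hx hy]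
          simpa using m3 hy
        · intro y hy
          change x * y * x⁻¹ ∈ N1
          rw [hR'.cent x (hR'.hB hx) y hy]
          simpa using m1 hy
        · intro y hy
          change x * y * x⁻¹ ∈ N1
          have h2 := hR'.abel x (hR'.hB hx) y (hR'.hD hy)
          have : x * y * x⁻¹ = x * y * x⁻¹ * y⁻¹ * y := by group
          rw [this]
          exact mul_mem (m1 h2) (m2 hy)
        · intro y hy
          change x * y * x⁻¹ ∈ N1
          obtain ⟨a, ha, b, hb, c, hc, h2⟩ := i04' x hx y hy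
          have : x * y * x⁻¹ = x * y * x⁻¹ * y⁻¹ * y := by group
          rw [this, h2]
          exact mul_mem (mul_mem (mul_mem (m1 ha) (m2 hb)) (m3 hc)) (m4 hy)
      exact fun n hn => h1 hn
    have ht : ∀ n ∈ N1, tN t L g 2 * n * (tN t L g 2)⁻¹ ∈ N1 := by
      have h1 : N1 ≤ N1.comap (MulAut.conj (tN t L g 2)).toMonoidHom :=
        sup_le (sup_le (sup_le (fun y hy => m3 (tN_mem S 2 3 hy)) (fun y hy => m1 (tN_mem S 2 1 hy)))
          (fun y hy => m2 (tN_mem S 2 2 hy))) (fun y hy => m4 (tN_mem S 2 4 hy))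
      exact fun n hn => h1 hn
    intro x hx y hy
    obtain ⟨α, hα⟩ := (mem_x1 S).1 hx
    set w := (pre S).x1 (α / 2) with hw
    have hw0 : w ∈ L.XN g 0 := (mem_x1 S).2 ⟨_, rfl⟩
    have hxw : x = w * w := by
      rw [← hα, hw, ← (pre S).x1_add]
      congr 1
      have := S.toFrame.two2
      field_simp
      ring
    -- `w y w⁻¹`
    have h1 := hR.norm w (fun v hv => S.XN_comm3 (m := 0) (k := 3) rfl (by norm_num) hw0 hv) y (hR.hE hy)
    obtain ⟨a, ha, b, hb, c, hc, d, hd, e, he, h2⟩ := hR.prod h1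
    set n := a * b * c * d with hn
    have hn1 : n ∈ N1 := mul_mem (mul_mem (mul_mem (m1 ha) (m2 hb)) (m3 hc)) (m4 hd)
    set T := tN t L g 2 with hT
    have t1 : T * w * T⁻¹ = w⁻¹ := S.tN_inv (m := 0) (k := 2) (by norm_num) hw0
    have t2 : T * y * T⁻¹ = y := by rw [hT, S.tN_cent (m := 5) (k := 2) rfl hy]; group
    have t3 : T * e * T⁻¹ = e := by rw [hT, S.tN_cent (m := 5) (k := 2) rfl he]; group
    have h3 : w⁻¹ * y * w = (T * n * T⁻¹) * e := by
      have h4 : T * (w * y * w⁻¹) * T⁻¹ = w⁻¹ * y * w := by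
        calc T * (w * y * w⁻¹) * T⁻¹ = (T * w * T⁻¹) * (T * y * T⁻¹) * (T * w * T⁻¹)⁻¹ := by group
          _ = _ := by rw [t1, t2]; group
      rw [← h4, h2]
      calc T * (n * e) * T⁻¹ = (T * n * T⁻¹) * (T * e * T⁻¹) := by group
        _ = _ := by rw [t3]
    have h4 : w⁻¹ * y * w = (T * n * T⁻¹) * n⁻¹ * (w * y * w⁻¹) := by
      rw [h2, h3]; group
    have h5 : (T * n * T⁻¹) * n⁻¹ ∈ N1 := mul_mem (ht n hn1) (inv_mem hn1)
    have h6 := hX0 w hw0 _ h5
    have h7 : x * y * x⁻¹ * y⁻¹ = (w * ((T * n * T⁻¹) * n⁻¹) * w⁻¹)⁻¹ := by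
      have h8 : y = (w * ((T * n * T⁻¹) * n⁻¹) * w⁻¹) * (x * y * x⁻¹) := by
        calc y = w * (w⁻¹ * y * w) * w⁻¹ := by group
          _ = w * ((T * n * T⁻¹) * n⁻¹ * (w * y * w⁻¹)) * w⁻¹ := by rw [← h4]
          _ = _ := by rw [hxw]; group
      apply eq_inv_of_mul_eq_one_right
      calc w * (T * n * T⁻¹ * n⁻¹) * w⁻¹ * (x * y * x⁻¹ * y⁻¹)
          = ((w * ((T * n * T⁻¹) * n⁻¹) * w⁻¹) * (x * y * x⁻¹)) * y⁻¹ := by group
        _ = y * y⁻¹ := by rw [← h8]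
        _ = 1 := by group
    obtain ⟨a', ha', b', hb', c', hc', d', hd', h8⟩ := hmem _ (inv_mem h6)
    exact ⟨a', ha', b', hb', c', hc', d', hd', h7.trans h8⟩
  · intro a ha b hb c hc d hd e he f hf h
    have h1 : f ∈ R := by
      have : f = (a * b * c * d * e)⁻¹ := eq_inv_of_mul_eq_one_right h
      rw [this]
      exact inv_mem (mul_mem (mul_mem (mul_mem (mul_mem (hR.hA ha) (hR.hB hb)) (hR.hC hc)) (hR.hD hd)) (hR.hE he))
    have h2 := Full.inf_zero S hR hf h1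
    rw [h2, mul_one] at h
    obtain ⟨h3, h4, h5, h6⟩ := Full.uniq S hR ha hb hc hd he (by rw [h]; exact one_mem _)
    rw [h3, h4, h5, h6] at h
    refine ⟨h3, h4, ?_, h5, h6, h2⟩
    simpa using h

/-- the data of rank two -/
noncomputable def r2 (S : L.Split s g) (hR : Full L g R) : R2 6 G := (dat S (rels S hR)).r2 (br S)

end frame

end Cfsg.Agent.GTwoOdd.HexFull
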