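import Cfsg.Agent.GTwoOdd.HexLie
import Cfsg.Agent.GTwoOdd.HexFull

/-!
# The end of part (C) of S1742

`main_of_full`: in the split frame with full `R₃`, a finite simple group generated by its root groups is `G₂(q)` or
`³D₄(q)`, `q` odd.
-/

set_option autoImplicit false

namespace Cfsg.Agent.GTwoOdd.HexLieMain

open Cfsg.Lie
open Cfsg.Agent.GTwoOdd.Hex
open Cfsg.Agent.GTwoOdd.LocalSL
open Cfsg.Agent.GTwoOdd.HexFrame
open Cfsg.Agent.TitsThree.RankTwoIdx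

variable {G : Type*} [Group G] {t : G} {F1 F2 : Type*} [Field F1] [Field F2]
variable [Finite F1] [Finite F2] {L : LocalSL t F1 F2} {s g : G}

theorem cjS_le {w : G} {Γ X Y : Subgroup G} (hw : w ∈ Γ) (h : X ≤ Γ) (e : cjS w X = Y) : Y ≤ Γ := by
  rw [← e]
  intro x hx
  obtain ⟨y, hy, rfl⟩ := (mem_cj rfl).1 hx
  exact mul_mem (mul_mem hw (h hy)) (inv_mem hw)

/-- the positive root groups and the two simple negative ones generate everything -/
theorem gen (S : L.Split s g) (R : Rels L g) (h : ⨆ m : ℕ, L.XN g m = ⊤) :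
    ((dat S R).r2 (br S)).U ⊔ (((dat S R).r2 (br S)).XI' ⊔ ((dat S R).r2 (br S)).XJ') = ⊤ := by
  set Γ := ((dat S R).r2 (br S)).U ⊔ (((dat S R).r2 (br S)).XI' ⊔ ((dat S R).r2 (br S)).XJ') with hΓ
  have hX : ∀ {k : ℕ}, 1 ≤ k → k ≤ 6 → ((dat S R).r2 (br S)).X k ≤ Γ := fun h1 h2 =>
    (((dat S R).r2 (br S)).X_le h1 h2).trans le_sup_left
  have hI : ((dat S R).r2 (br S)).XI' ≤ Γ := le_sup_left.trans le_sup_right
  have hJ : ((dat S R).r2 (br S)).XJ' ≤ Γ := le_sup_right.trans le_sup_right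
  have h0 : L.XN g 0 ≤ Γ := fun x hx => hX (k := 1) le_rfl (by norm_num) ((mem_x1 S).1 hx)
  have h1 : L.XN g 1 ≤ Γ := fun x hx => hX (k := 2) (by norm_num) (by norm_num) ((mem_x2 S).1 hx)
  have h2 : L.XN g 2 ≤ Γ := fun x hx => hX (k := 3) (by norm_num) (by norm_num) ((mem_x3 S).1 hx)
  have h3 : L.XN g 3 ≤ Γ := fun x hx => hX (k := 4) (by norm_num) (by norm_num) ((mem_x4 S).1 hx)
  have h4 : L.XN g 4 ≤ Γ := fun x hx => hX (k := 5) (by norm_num) (by norm_num) ((mem_x5 S).1 hx)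
  have h5 : L.XN g 5 ≤ Γ := fun x hx => hX (k := 6) (by norm_num) le_rfl ((mem_x6 S).1 hx)
  have h6 : L.XN g 6 ≤ Γ := fun x hx => hI ((mem_y1 S).1 hx)
  have h11 : L.XN g 11 ≤ Γ := fun x hx => hJ ((mem_y6 S).1 hx)
  have hnI : (pre S).nI ∈ Γ := by
    have e : (pre S).nI = (pre S).x1 1 * (pre S).y1 (-1) * (pre S).x1 1 := (pre S).I.n_eq
    rw [e]
    exact mul_mem (mul_mem (h0 ((mem_x1 S).2 ⟨_, rfl⟩)) (h6 ((mem_y1 S).2 ⟨_, rfl⟩))) (h0 ((mem_x1 S).2 ⟨_, rfl⟩))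
  have hnJ : (pre S).nJ ∈ Γ := by
    have e : (pre S).nJ = (pre S).x6 1 * (pre S).y6 (-1) * (pre S).x6 1 := (pre S).J.n_eq
    rw [e]
    exact mul_mem (mul_mem (h5 ((mem_x6 S).2 ⟨_, rfl⟩)) (h11 ((mem_y6 S).2 ⟨_, rfl⟩))) (h5 ((mem_x6 S).2 ⟨_, rfl⟩))
  have h7 : L.XN g 7 ≤ Γ := cjS_le hnI h11 (nI_XN S (by norm_num))
  have h9 : L.XN g 9 ≤ Γ := cjS_le hnJ h7 (nJ_XN S (by norm_num))
  have h10 : L.XN g 10 ≤ Γ := cjS_le hnJ h6 (nJ_XN S (by norm_num))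
  have h8 : L.XN g 8 ≤ Γ := cjS_le hnI h10 (nI_XN S (by norm_num))
  have key : ∀ k < 12, L.XN g k ≤ Γ := by
    intro k hk
    interval_cases k
    · exact h0
    · exact h1
    · exact h2
    · exact h3
    · exact h4
    · exact h5
    · exact h6
    · exact h7
    · exact h8
    · exact h9
    · exact h10
    · exact h11
  rw [eq_top_iff, ← h]
  refine iSup_le fun m => ?_
  obtain ⟨k, hk, hm⟩ : ∃ k < 12, (k + m) % 12 = 6 := ⟨(6 + 11 * m) % 12, Nat.mod_lt _ (by norm_num), by omega⟩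
  exact cjS_le hnI (key k hk) (nI_XN S hm)

/-- **The end**, from the relations. -/
theorem main_of_rels [IsSimpleGroup G] (S : L.Split s g) (R : Rels L g) (h : ⨆ m : ℕ, L.XN g m = ⊤) :
    (∃ (E : Type) (_ : Field E) (_ : Fintype E), Odd (Fintype.card E) ∧ Nonempty (G ≃* ↥(chevG2.group E))) ∨
      ∃ (K : Type) (_ : Field K) (_ : Fintype K) (r : ℕ), Odd r ∧ Fintype.card K = r ^ 3 ∧
        Nonempty (G ≃* ↥(twistedD4 K r)) :=
  HexLie.main (dat S R) (br S) (gen S R h)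

/-- **The end**, from the full group `R₃`. -/
theorem main_of_full [IsSimpleGroup G] (S : L.Split s g) {R : Subgroup G} (hR : HexFull.Full L g R)
    (h : ⨆ m : ℕ, L.XN g m = ⊤) :
    (∃ (E : Type) (_ : Field E) (_ : Fintype E), Odd (Fintype.card E) ∧ Nonempty (G ≃* ↥(chevG2.group E))) ∨
      ∃ (K : Type) (_ : Field K) (_ : Fintype K) (r : ℕ), Odd r ∧ Fintype.card K = r ^ 3 ∧
        Nonempty (G ≃* ↥(twistedD4 K r)) :=
  main_of_rels S (HexFull.rels S hR) h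

end Cfsg.Agent.GTwoOdd.HexLieMain
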