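import Cfsg.Agent.GTwoOdd.FullEnd
import Cfsg.Agent.GTwoOdd.Close
import Cfsg.Agent.GTwoOdd.HexLieMain
import Cfsg.Agent.StrongEmb.Strong

/-!
# The full case of part (C) of S1742

`main`: a finite simple group with `FullF L` is `G₂(q)` or `³D₄(q)`, `q` odd.
-/

set_option autoImplicit false

namespace Cfsg.Agent.GTwoOdd.FullConcl

open Cfsg Cfsg.Lie
open Cfsg.Agent.GTwoOdd.LocalSL

variable {G : Type*} [Group G] {t : G} {F1 F2 : Type*} [Field F1] [Field F2] [Finite F1] [Finite F2]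

/-- **The full case** -/
theorem main [Finite G] [IsSimpleGroup G] {L : LocalSL t F1 F2} (h : FullF L) :
    (∃ (E : Type) (_ : Field E) (_ : Fintype E), Odd (Fintype.card E) ∧ Nonempty (G ≃* ↥(chevG2.group E))) ∨
      ∃ (K : Type) (_ : Field K) (_ : Fintype K) (r : ℕ), Odd r ∧ Fintype.card K = r ^ 3 ∧
        Nonempty (G ≃* ↥(twistedD4 K r)) := by
  obtain ⟨L', s, g, R, S, hR⟩ := FullEnd.exists_full h
  exact HexLieMain.main_of_full S hR
    (S.GG_eq_top fun H hH => Cfsg.Agent.StrongEmb.Strong.exists_isSplit (FullEnd.noncomm L) H hH)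

end Cfsg.Agent.GTwoOdd.FullConcl
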