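import Cfsg.Agent.GTwoOdd.Transport
import Cfsg.Prelude.Def_CaseTheorems
import Cfsg.Prelude.Def_LieTwisted
import Cfsg.Prelude.Def_Spor_Mathieu

/-!
# Statement S1742 from its pieces

`main`: S1742 from the named propositions

* `ClassProp` : S1743 (verified)
* `TwelveProp` : the case of two classes (S1741 + `TwoClass`)
* `BridgeProp` : one class of involutions gives `LocHyp` (helper381's `Bridge.locHyp`, needs S0483)
* `CoreProp` : core killing, part (B) (helper366)
* `RecProp` : recognition, part (C) (helper140, helper670)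
-/

set_option autoImplicit false

namespace Cfsg.Agent.GTwoOdd.Assemble

open Cfsg Cfsg.Agent.GTwoOdd

universe u v

/-- all involutions of `G` are conjugate -/
def OneClass (G : Type u) [Group G] : Prop := ∀ x y : G, orderOf x = 2 → orderOf y = 2 → IsConj x y

/-- the first two alternatives of S1742 -/
def ConclLie (G : Type u) [Group G] : Prop :=
  (∃ (E : Type) (_ : Field E) (_ : Fintype E), Odd (Fintype.card E) ∧ Nonempty (G ≃* ↥(Cfsg.Lie.chevG2.group E))) ∨
    (∃ (K : Type) (_ : Field K) (_ : Fintype K) (r : ℕ), Odd r ∧ Fintype.card K = r ^ 3 ∧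
      Nonempty (G ≃* ↥(Cfsg.Lie.twistedD4 K r)))

/-- (B), core killing -/
def CoreProp : Prop := ∀ (G : Type u) [Group G] [Finite G] [IsSimpleGroup G], OneClass G →
  (∀ v : G, orderOf v = 2 → Core.LocHyp v) → ∀ t : G, orderOf t = 2 → Cfsg.centralizerPPrimeCore 2 t = ⊥

/-- (C), recognition -/
def RecProp : Prop := ∀ (G : Type u) [Group G] [Finite G] [IsSimpleGroup G] (t : G) (F1 F2 : Type) [Field F1]
  [Field F2] [Finite F1] [Finite F2] (L : LocalSL t F1 F2), L.Hyp → OneClass G → ConclLie G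

/-- the hypotheses of S1742 -/
def SylHyp (G : Type u) [Group G] (S : Sylow 2 G) (F : Type v) [Field F] [Fintype F] : Prop :=
  Odd (Fintype.card F) ∧ ∃ P : Sylow 2 ↥(Cfsg.Lie.chevG2.group F),
    Nonempty (↥(S : Subgroup G) ≃* ↥(P : Subgroup ↥(Cfsg.Lie.chevG2.group F)))

/-- (BR), the bridge from S1744 to `LocHyp` -/
def BridgeProp : Prop := ∀ (G : Type u) [Group G] [Finite G] [IsSimpleGroup G] (S : Sylow 2 G) (F : Type v) [Field F]
  [Fintype F], SylHyp G S F → OneClass G → ∀ t : G, orderOf t = 2 → Core.LocHyp t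

/-- S1743 -/
def ClassProp : Prop := ∀ (G : Type u) [Group G] [Finite G] [IsSimpleGroup G] (S : Sylow 2 G) (F : Type v) [Field F]
  [Fintype F], SylHyp G S F → (OneClass G ∧ ∃ t : G, orderOf t = 2) ∨ (Nat.card ↥(S : Subgroup G) = 64 ∧
    ∃ x y : G, orderOf x = 2 ∧ orderOf y = 2 ∧ ¬ IsConj x y)

/-- the case of two classes -/
def TwelveProp : Prop := ∀ (G : Type u) [Group G] [Finite G] [IsSimpleGroup G] (S : Sylow 2 G) (F : Type v) [Field F]
  [Fintype F], SylHyp G S F → Nat.card ↥(S : Subgroup G) = 64 →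
    (∃ x y : G, orderOf x = 2 ∧ orderOf y = 2 ∧ ¬ IsConj x y) → Cfsg.Spor.IsoM12 G

/-- **S1742 from its pieces** -/
theorem main (hB : CoreProp.{u}) (hC : RecProp.{u}) (hBr : BridgeProp.{u, v}) (hCl : ClassProp.{u, v})
    (hM : TwelveProp.{u, v}) {G : Type u} [Group G] [Finite G] [IsSimpleGroup G]
    {F : Type v} [Field F] [Fintype F] (hF : Odd (Fintype.card F)) (S : Sylow 2 G) (P : Sylow 2 ↥(Cfsg.Lie.chevG2.group F))
    (hS : Nonempty (↥(S : Subgroup G) ≃* ↥(P : Subgroup ↥(Cfsg.Lie.chevG2.group F)))) :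
    (∃ (E : Type) (_ : Field E) (_ : Fintype E), Odd (Fintype.card E) ∧ Nonempty (G ≃* ↥(Cfsg.Lie.chevG2.group E))) ∨
      (∃ (K : Type) (_ : Field K) (_ : Fintype K) (r : ℕ), Odd r ∧ Fintype.card K = r ^ 3 ∧ Nonempty (G ≃* ↥(Cfsg.Lie.twistedD4 K r))) ∨
      Cfsg.Spor.IsoM12 G := by
  have hyp : SylHyp G S F := ⟨hF, P, hS⟩
  rcases hCl G S F hyp with ⟨h1, t, ht⟩ | ⟨h64, h2⟩
  · have hloc := hBr G S F hyp h1
    obtain ⟨F1, F2, i1, i2, i3, i4, L, H⟩ := (hloc t ht).exists_localSL' (hB G h1 hloc t ht)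
    rcases hC G t F1 F2 L H h1 with h | h
    · exact Or.inl h
    · exact Or.inr (Or.inl h)
  · exact Or.inr (Or.inr (hM G S F hyp h64 h2))

end Cfsg.Agent.GTwoOdd.Assemble
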