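import Cfsg.Agent.GTwoOdd.RootFull

/-!
# The centraliser of `t` contains a Sylow `p`-subgroup if `O(C_G(A1)) = A1`

`Frame.not_dvd_index`: if `C_R(s) = 1` (`R = O(C_G(A1))`) and `p` divides `|F1|`, then `p` does not divide `|G : C(t)|`.
-/

set_option autoImplicit false

namespace Cfsg.Agent.GTwoOdd

open Matrix ZIso

namespace GamGlue

variable {G : Type*} [Group G] [Finite G]

/-- a subgroup which contains the normaliser of one of its Sylow `p`-subgroups has index prime to `p` -/
theorem not_dvd_index_of_normalizer {p : ℕ} [Fact p.Prime] {C : Subgroup G} (S : Sylow p C)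
    (h : ∀ g : G, (∀ x ∈ (S : Subgroup C).map C.subtype, g * x * g⁻¹ ∈ (S : Subgroup C).map C.subtype) → g ∈ C) :
    ¬ p ∣ C.index := by
  set S' := (S : Subgroup C).map C.subtype with hS'
  have hpS : IsPGroup p S' := S.2.map _
  obtain ⟨P, hP⟩ := hpS.exists_le_sylow
  have hfix : (P : Subgroup G) ≤ C := by
    have key : S'.subgroupOf (P : Subgroup G) = ⊤ := by
      by_contra hne
      have hnil : Group.IsNilpotent (P : Subgroup G) := P.2.isNilpotent
      have hlt := Group.normalizerCondition_of_isNilpotent (S'.subgroupOf (P : Subgroup G)) (lt_top_iff_ne_top.2 hne)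
      obtain ⟨x, hx, hxn⟩ := SetLike.exists_of_lt hlt
      apply hxn
      rw [Subgroup.mem_subgroupOf]
      have hxC : (x : G) ∈ C := by
        apply h
        intro y hy
        have h1 := (Subgroup.mem_normalizer_iff.1 hx ⟨y, hP hy⟩).1 (Subgroup.mem_subgroupOf.2 hy)
        exact Subgroup.mem_subgroupOf.1 h1
      -- `C ⊓ P` is a `p`-subgroup of `C` which contains `S`
      have h2 : (S : Subgroup C) ≤ (P : Subgroup G).subgroupOf C := by
        intro y hy
        exact Subgroup.mem_subgroupOf.2 (hP ⟨y, hy, rfl⟩)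
      have h3 : IsPGroup p ((P : Subgroup G).subgroupOf C) := P.2.comap_subtype
      have h4 := S.3 h3 h2
      have h5 : (⟨x, hxC⟩ : C) ∈ (P : Subgroup G).subgroupOf C := Subgroup.mem_subgroupOf.2 x.2
      rw [h4] at h5
      exact ⟨⟨x, hxC⟩, h5, rfl⟩
    intro x hx
    have h1 : (⟨x, hx⟩ : (P : Subgroup G)) ∈ S'.subgroupOf (P : Subgroup G) := key ▸ Subgroup.mem_top _
    obtain ⟨y, -, h2⟩ := Subgroup.mem_subgroupOf.1 h1
    have h3 : (y : G) = x := h2
    rw [← h3]
    exact y.2
  intro hd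
  exact P.not_dvd_index (hd.trans (Subgroup.index_dvd_of_le hfix))

end GamGlue

namespace LocalSL

variable {G : Type*} [Group G] [Finite G] {t : G} {F1 F2 : Type*} [Field F1] [Field F2] [Finite F1] [Finite F2]
variable {L : LocalSL t F1 F2}

/-- if `O(C_G(A1)) = A1` then `C_G(A1) ≤ C(t)` -/
theorem Hyp.cent_comm_t (H : L.Hyp) (h : rc L.A1 ≤ L.A1) {c : G} (hc : c ∈ Subgroup.centralizer (L.A1 : Set G)) :
    c * t = t * c := by
  have h1 := h (comm_mem_rc L.t_sq H.t_ne_one t_mem_cent (fun c hA hct hcc hc1 => H.uniq_invol hA hct hcc hc1) hc)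
  set a := t * c * t⁻¹ * c⁻¹ with ha
  have h2 : a * t = t * a := A1_t h1
  have h3 : t * c * t⁻¹ = a * c := by rw [ha]; group
  have h4 : a * a = 1 := by
    have h5 : t * (t * c * t⁻¹) * t⁻¹ = c := by
      calc t * (t * c * t⁻¹) * t⁻¹ = (t * t) * c * (t * t)⁻¹ := by group
        _ = c := by rw [L.t_sq]; group
    rw [h3] at h5
    have h6 : t * (a * c) * t⁻¹ = a * a * c := by
      calc t * (a * c) * t⁻¹ = (t * a) * c * t⁻¹ := by group
        _ = a * (t * c * t⁻¹) := by rw [← h2]; group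
        _ = a * (a * c) := congrArg (a * ·) h3
        _ = a * a * c := (mul_assoc _ _ _).symm
    rw [h6] at h5
    exact mul_eq_right.1 h5
  have h7 : a = 1 := odd_no_invol H.A1_odd h1 h4
  rw [h7, one_mul] at h3
  calc c * t = t * c * t⁻¹ * t := by rw [h3]
    _ = t * c := by group

/-- if `C_G(A1) ≤ C(t)` then `C(t)` contains a Sylow `p`-subgroup of `G` -/
theorem Hyp.not_dvd_index (H : L.Hyp) (hC : ∀ c ∈ Subgroup.centralizer (L.A1 : Set G), c * t = t * c) {p : ℕ}
    (hp : p.Prime) (hpF : p ∣ Nat.card F1) : ¬ p ∣ (Subgroup.centralizer {t} : Subgroup G).index := by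
  have : Fact p.Prime := ⟨hp⟩
  have hA : IsPGroup p L.A1 := by
    let _ : Fintype F1 := Fintype.ofFinite F1
    obtain ⟨q, hq⟩ := CharP.exists F1
    obtain ⟨n, hqp, hn⟩ := FiniteField.card F1 q
    have h1 : Nat.card L.A1 = q ^ (n : ℕ) := by rw [card_A1, Nat.card_eq_fintype_card, hn]
    have h2 : p = q := by
      rw [Nat.card_eq_fintype_card, hn] at hpF
      exact (Nat.prime_dvd_prime_iff_eq hp hqp).1 (hp.dvd_of_dvd_pow hpF)
    rw [h2]
    exact IsPGroup.of_card h1
  have hle : L.A1 ≤ Subgroup.centralizer {t} := fun x hx => Subgroup.mem_centralizer_singleton_iff.2 (A1_t hx)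
  obtain ⟨S, hS⟩ := (hA.comap_subtype (K := Subgroup.centralizer {t})).exists_le_sylow
  apply GamGlue.not_dvd_index_of_normalizer S
  intro g hg
  -- `g t g⁻¹` centralises `A1`
  have hSA : ∀ a ∈ L.A1, a ∈ (S : Subgroup (Subgroup.centralizer {t} : Subgroup G)).map (Subgroup.centralizer {t}).subtype :=
    fun a ha => ⟨⟨a, hle ha⟩, hS (Subgroup.mem_subgroupOf.2 ha), rfl⟩
  have hSt : ∀ x ∈ (S : Subgroup (Subgroup.centralizer {t} : Subgroup G)).map (Subgroup.centralizer {t}).subtype,
      x * t = t * x := by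
    rintro _ ⟨x, -, rfl⟩
    exact Subgroup.mem_centralizer_singleton_iff.1 x.2
  -- conjugation by `g` is surjective on `S`
  have hg' : ∀ x ∈ (S : Subgroup (Subgroup.centralizer {t} : Subgroup G)).map (Subgroup.centralizer {t}).subtype,
      g⁻¹ * x * g ∈ (S : Subgroup (Subgroup.centralizer {t} : Subgroup G)).map (Subgroup.centralizer {t}).subtype := by
    set S' := (S : Subgroup (Subgroup.centralizer {t} : Subgroup G)).map (Subgroup.centralizer {t}).subtype
    have hinj : Function.Injective (fun x : S' => (⟨g * x * g⁻¹, hg x x.2⟩ : S')) := by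
      intro x y hxy
      have := congrArg Subtype.val hxy
      simp only at this
      exact Subtype.ext (mul_left_cancel (mul_right_cancel this))
    intro x hx
    obtain ⟨y, hy⟩ := (Finite.injective_iff_surjective.1 hinj) ⟨x, hx⟩
    have h1 : g * y * g⁻¹ = x := congrArg Subtype.val hy
    rw [← h1]
    have : g⁻¹ * (g * y * g⁻¹) * g = y := by group
    rw [this]
    exact y.2
  have hcA : g * t * g⁻¹ ∈ Subgroup.centralizer (L.A1 : Set G) := by
    rw [Subgroup.mem_centralizer_iff]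
    intro a ha
    have h1 := hSt _ (hg' a (hSA a ha))
    calc a * (g * t * g⁻¹) = g * ((g⁻¹ * a * g) * t) * g⁻¹ := by group
      _ = g * (t * (g⁻¹ * a * g)) * g⁻¹ := by rw [h1]
      _ = _ := by group
  have h1 : g * t * g⁻¹ = t := by
    apply H.uniq_invol hcA (hC _ hcA)
    · calc g * t * g⁻¹ * (g * t * g⁻¹) = g * (t * t) * g⁻¹ := by group
        _ = 1 := by rw [L.t_sq]; group
    · intro h
      apply H.t_ne_one
      calc t = g⁻¹ * (g * t * g⁻¹) * g := by group
        _ = 1 := by rw [h]; group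
  apply Subgroup.mem_centralizer_singleton_iff.2
  calc g * t = g * t * g⁻¹ * g := by group
    _ = t * g := by rw [h1]

variable {s : G} {D2 : M2 F2} {n1 : SL2 F1} {n2 : SL2 F2}

/-- `R = A1` if `C_R(s) = 1` -/
theorem Frame.rc_le_of_DD (F : L.Frame s (dg F1) D2 n1 n2) (h : L.DD s = ⊥) : rc L.A1 ≤ L.A1 := by
  intro x hx
  obtain ⟨a, ha, d, hd, d', hd', rfl⟩ := F.rc_prod hx
  rw [F.DD_eq, h] at hd'
  rw [h] at hd
  rw [Subgroup.mem_bot] at hd
  obtain ⟨y, hy, rfl⟩ := hd'
  have hy1 : y = 1 := hy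
  rw [hd, hy1, map_one, mul_one, mul_one]
  exact ha

/-- **the case `C_R(s) = 1`**: `p` does not divide the index of `C(t)` -/
theorem Frame.not_dvd_index (F : L.Frame s (dg F1) D2 n1 n2) (h : L.DD s = ⊥) {p : ℕ} (hp : p.Prime)
    (hpF : p ∣ Nat.card F1) : ¬ p ∣ (Subgroup.centralizer {t} : Subgroup G).index :=
  F.hyp.not_dvd_index (fun _ hc => F.hyp.cent_comm_t (F.rc_le_of_DD h) hc) hp hpF

end LocalSL

end Cfsg.Agent.GTwoOdd
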