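import Cfsg.Agent.GTwoOdd.MIndex
import Cfsg.Agent.PLocal.CoprimeLift

/-!
# The `M`-lemma
-/

set_option autoImplicit false
set_option linter.unusedSectionVars false

namespace Cfsg.Agent.GTwoOdd.MCore

open Matrix Subgroup Cfsg.Agent.ClassicalGeometry Cfsg.Agent.Lib

universe u

section lift

variable {X : Type u} [Group X] [Finite X] (K : Subgroup X) [K.Normal]

theorem exists_lift (hK : (Nat.card K).Coprime 2) {a b : X} (hP : IsPGroup 2 (zpowers a ⊔ zpowers b : Subgroup X))
    (c : X ⧸ K) (ha : c * QuotientGroup.mk' K a = QuotientGroup.mk' K a * c)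
    (hb : c * QuotientGroup.mk' K b = QuotientGroup.mk' K b * c) :
    ∃ g : X, QuotientGroup.mk' K g = c ∧ g * a = a * g ∧ g * b = b * g := by
  have hp : Fact (Nat.Prime 2) := ⟨Nat.prime_two⟩
  obtain ⟨g, rfl⟩ := QuotientGroup.mk'_surjective K c
  obtain ⟨m, hm, hmg⟩ := PLocal.CoprimeLift.exists_commuting_lift K (zpowers a ⊔ zpowers b) hK hP g (by
    intro x hx
    have h1 : (zpowers a ⊔ zpowers b : Subgroup X).map (QuotientGroup.mk' K) ≤
        centralizer ({QuotientGroup.mk' K g} : Set (X ⧸ K)) := by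
      rw [Subgroup.map_sup, MonoidHom.map_zpowers, MonoidHom.map_zpowers, sup_le_iff, zpowers_le, zpowers_le,
        Subgroup.mem_centralizer_singleton_iff, Subgroup.mem_centralizer_singleton_iff]
      exact ⟨ha.symm, hb.symm⟩
    have h2 := h1 ⟨x, hx, rfl⟩
    rw [Subgroup.mem_centralizer_singleton_iff] at h2
    rw [← QuotientGroup.ker_mk' K, MonoidHom.mem_ker, map_mul, map_mul, map_mul, map_inv, map_inv, h2]
    group)
  refine ⟨m * g, ?_, ?_, ?_⟩
  · rw [map_mul]
    have : QuotientGroup.mk' K m = 1 := by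
      rw [← MonoidHom.mem_ker, QuotientGroup.ker_mk']
      exact hm
    rw [this, one_mul]
  · exact (hmg a ((le_sup_left : zpowers a ≤ _) (mem_zpowers a))).symm
  · exact (hmg b ((le_sup_right : zpowers b ≤ _) (mem_zpowers b))).symm

/-- lifts of involutions -/
theorem exists_invol_lift (hK : (Nat.card K).Coprime 2) {a b : X} (hP : IsPGroup 2 (zpowers a ⊔ zpowers b : Subgroup X))
    (c : X ⧸ K) (ha : c * QuotientGroup.mk' K a = QuotientGroup.mk' K a * c)
    (hb : c * QuotientGroup.mk' K b = QuotientGroup.mk' K b * c) (hc : c * c = 1) :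
    ∃ g : X, QuotientGroup.mk' K g = c ∧ g * a = a * g ∧ g * b = b * g ∧ g * g = 1 := by
  obtain ⟨g, hg, hga, hgb⟩ := exists_lift K hK hP c ha hb
  have h1 : g * g ∈ K := by
    rw [← QuotientGroup.ker_mk' K, MonoidHom.mem_ker, map_mul, hg, hc]
  set k := Nat.card K with hk
  have hodd : Odd k := by
    rw [← Nat.not_even_iff_odd]
    intro h2
    rw [even_iff_two_dvd] at h2
    exact Nat.not_coprime_of_dvd_of_dvd (by norm_num) h2 (dvd_refl 2) hK
  have hcomm : ∀ {x : X}, g * x = x * g → g ^ k * x = x * g ^ k := fun h => (Commute.pow_left h k)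
  refine ⟨g ^ k, ?_, hcomm hga, hcomm hgb, ?_⟩
  · rw [map_pow, hg]
    obtain ⟨m, hm⟩ := hodd
    rw [hm, pow_succ, pow_mul, pow_two c, hc, one_pow, one_mul]
  · have h2 : (g * g) ^ k = 1 := by
      have : (⟨g * g, h1⟩ : K) ^ k = 1 := pow_card_eq_one'
      exact congrArg Subtype.val this
    rw [← h2, (Commute.refl g).mul_pow]

end lift

section pass

variable {X : Type u} [Group X] [Finite X] {F : Type*} [Field F] [Fintype F] {t s : X} {e : SL2 F →* X} {D : M2 F}
  (h : MHyp t s e D) (hF : Odd (Fintype.card F))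

include h hF

omit hF in
theorem isPGroup_ts : IsPGroup 2 (zpowers t ⊔ zpowers s : Subgroup X) := by
  apply isPGroup_pair
  · rw [show 4 = 2 * 2 from rfl, pow_mul, pow_two t, t_sq h, one_pow]
  · rw [show 4 = 2 * 2 from rfl, pow_mul, pow_two s, h.sq, one_pow]
  · rw [h.comm, mul_assoc, mul_inv_cancel, mul_one]
    exact mem_zpowers t

omit hF in
theorem isPGroup_tt : IsPGroup 2 (zpowers t ⊔ zpowers t : Subgroup X) := by
  apply isPGroup_pair
  · rw [show 4 = 2 * 2 from rfl, pow_mul, pow_two t, t_sq h, one_pow]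
  · rw [show 4 = 2 * 2 from rfl, pow_mul, pow_two t, t_sq h, one_pow]
  · rw [mul_assoc, mul_inv_cancel, mul_one]
    exact mem_zpowers t

theorem quotient (K : Subgroup X) [K.Normal] (hK : (Nat.card K).Coprime 2) :
    MHyp (QuotientGroup.mk' K t) (QuotientGroup.mk' K s) ((QuotientGroup.mk' K).comp e) D := by
  have htK : t ∉ K := by
    intro h1
    have h2 : orderOf t = 2 := by
      rw [orderOf_eq_prime_iff]
      exact ⟨by rw [pow_two]; exact t_sq h, t_ne h hF⟩
    have h3 : orderOf t ∣ Nat.card K := by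
      rw [← Subgroup.orderOf_mk t h1]
      exact orderOf_dvd_natCard _
    rw [h2] at h3
    exact Nat.not_coprime_of_dvd_of_dvd (by norm_num) h3 (dvd_refl 2) hK
  refine ⟨?_, ?_, ?_, ?_, ?_, ?_, ?_, h.tr, ?_, ?_, ?_⟩
  · rw [injective_iff_map_eq_one]
    intro x hx
    by_contra hx1
    have h1 : x ∈ K.comap e := by
      rw [Subgroup.mem_comap, ← QuotientGroup.ker_mk' K, MonoidHom.mem_ker]
      exact hx
    have hR : (K.comap e).Normal := inferInstance
    have h2 := SLNormal.neg_one_mem hF (K.comap e) h1 hx1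
    rw [Subgroup.mem_comap, h.neg] at h2
    exact htK h2
  · rw [MonoidHom.comp_apply, h.neg]
  · intro c hc x
    obtain ⟨g, rfl, hg, -⟩ := exists_lift K hK (isPGroup_tt h) c hc hc
    obtain ⟨y, hy⟩ := h.norm g hg x
    refine ⟨y, ?_⟩
    rw [MonoidHom.comp_apply, MonoidHom.comp_apply, ← map_mul, hy, map_mul]
  · obtain ⟨n, hn⟩ := h.sol
    refine ⟨n, ?_⟩
    let f : centralizer ({t} : Set X) →* centralizer ({QuotientGroup.mk' K t} : Set (X ⧸ K)) :=
      ((QuotientGroup.mk' K).comp (centralizer ({t} : Set X)).subtype).codRestrict _ (fun x => by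
        rw [Subgroup.mem_centralizer_singleton_iff]
        have h1 := Subgroup.mem_centralizer_singleton_iff.1 x.2
        change QuotientGroup.mk' K x.1 * QuotientGroup.mk' K t = QuotientGroup.mk' K t * QuotientGroup.mk' K x.1
        rw [← map_mul, h1, map_mul])
    have hf : Function.Surjective f := by
      rintro ⟨c, hc⟩
      rw [Subgroup.mem_centralizer_singleton_iff] at hc
      obtain ⟨g, hg, hgt, -⟩ := exists_lift K hK (isPGroup_tt h) c hc hc
      refine ⟨⟨g, Subgroup.mem_centralizer_singleton_iff.2 hgt⟩, Subtype.ext hg⟩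
    intro c hc
    rw [← map_derivedSeries_eq hf n] at hc
    obtain ⟨d, hd, rfl⟩ := hc
    obtain ⟨x, hx⟩ := hn d hd
    refine ⟨x, ?_⟩
    rw [MonoidHom.comp_apply, hx]
    rfl
  · rw [← map_mul, h.comm, map_mul]
  · rw [← map_mul, h.sq, map_one]
  · refine ⟨h.acts.1, fun x y hxy => ?_⟩
    rw [MonoidHom.comp_apply, MonoidHom.comp_apply, ← map_mul, h.acts.2 x y hxy, map_mul]
  · intro c hc hcc hc1 hct
    obtain ⟨g, hg, hgt, -, hgg⟩ := exists_invol_lift K hK (isPGroup_tt h) c hc hc hcc
    obtain ⟨x, hx⟩ := h.inv g hgt hgg (by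
      rintro rfl
      exact hc1 (by rw [← hg, map_one])) (by
      rintro rfl
      exact hct hg.symm)
    refine ⟨x, ?_⟩
    rw [← hg, hx, map_mul, map_mul, map_inv]
    rfl
  · obtain ⟨g, hg⟩ := h.one
    refine ⟨QuotientGroup.mk' K g, ?_⟩
    rw [← hg, map_mul, map_mul, map_inv]
  · intro c hct hcs hcc
    obtain ⟨g, hg, hgt, hgs, hgg⟩ := exists_invol_lift K hK (isPGroup_ts h) c hct hcs hcc
    rcases h.rank g hgt hgs hgg with h1 | h1 | h1 | h1
    · left; rw [← hg, h1, map_one]
    · right; left; rw [← hg, h1]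
    · right; right; left; rw [← hg, h1]
    · right; right; right; rw [← hg, h1, map_mul]

/-- **the `M`-lemma**: the characteristic of `F` divides the index of `C(t)` -/
theorem dvd_index (hR : RankTwoTypes.{u}) (hC : CentTypes.{u}) {p : ℕ} (hp : p.Prime)
    (hpF : p ∣ Fintype.card F) : p ∣ (centralizer ({t} : Set X)).index := by
  have hK : (Nat.card (Cfsg.pPrimeCore 2 X)).Coprime 2 := Cores.pPrimeCore_coprime 2
  have hQ := quotient h hF (Cfsg.pPrimeCore 2 X) hK
  have h1 := core_dvd hQ hF hR hC (Cores.pPrimeCore_quotient_pPrimeCore 2) hp hpF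
  have h2 : (centralizer ({t} : Set X)).map (QuotientGroup.mk' (Cfsg.pPrimeCore 2 X)) =
      centralizer ({QuotientGroup.mk' (Cfsg.pPrimeCore 2 X) t} : Set (X ⧸ Cfsg.pPrimeCore 2 X)) := by
    ext c
    constructor
    · rintro ⟨g, hg, rfl⟩
      rw [Subgroup.mem_centralizer_singleton_iff]
      have h3 := Subgroup.mem_centralizer_singleton_iff.1 hg
      rw [← map_mul, h3, map_mul]
    · intro hc
      rw [Subgroup.mem_centralizer_singleton_iff] at hc
      obtain ⟨g, hg, hgt, -⟩ := exists_lift _ hK (isPGroup_tt h) c hc hc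
      exact ⟨g, Subgroup.mem_centralizer_singleton_iff.2 hgt, hg⟩
  rw [← h2] at h1
  exact h1.trans (Subgroup.index_map_dvd _ (QuotientGroup.mk'_surjective _))

end pass

/-- the `M`-lemma with `Nat.card` -/
theorem dvd_index' {X : Type u} [Group X] [Finite X] {F : Type*} [Field F] [Finite F] {t s : X} {e : SL2 F →* X}
    {D : M2 F} (h : MHyp t s e D) (hF : Odd (Nat.card F)) (hR : RankTwoTypes.{u}) (hC : CentTypes.{u}) {p : ℕ}
    (hp : p.Prime) (hpF : p ∣ Nat.card F) : p ∣ (centralizer ({t} : Set X)).index := by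
  have := Fintype.ofFinite F
  rw [Nat.card_eq_fintype_card] at hF hpF
  exact dvd_index h hF hR hC hp hpF

end Cfsg.Agent.GTwoOdd.MCore
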