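import Cfsg.Agent.GTwoOdd.XFullHyp
import Cfsg.Agent.GTwoOdd.MLemma
import Cfsg.Agent.GTwoOdd.GamGlue
import Cfsg.Agent.GTwoOdd.Assemble

/-!
# Recognition, part (C) of S1742: assembly of `RecProp`
-/

set_option autoImplicit false

namespace Cfsg.Agent.GTwoOdd.AsmRec

open Cfsg.Agent.GTwoOdd.Assemble Cfsg.Agent.GTwoOdd.MCore Cfsg.Agent.GTwoOdd.LocalSL

universe u

/-- C4 (characters): fields of the same order `3^k > 3`, split frame, `C_R(s) = 1` and `T_i ∩ T_i^ρ = 1` for both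
factors, one class of involutions -/
def GamProp : Prop := ∀ (G : Type u) [Group G] [Finite G] (t s g : G) (F1 F2 : Type) [Field F1] [Field F2]
  [Finite F1] [Finite F2] (L : LocalSL t F1 F2), L.Split s g → (∀ x : G, x * x = 1 → x ≠ 1 → ∃ g, g * t = x * g) →
    Nat.card F1 = Nat.card F2 → 3 ∣ Nat.card F1 → 3 < Nat.card F1 → L.DD s = ⊥ → L.sw.DD s = ⊥ →
    (∀ x, ¬ XIn L s (dg F1) (dg F2) (wn F1) (wn F2) g x) → (∀ x, ¬ XIn L.sw s (dg F2) (dg F1) (wn F2) (wn F1) g x) →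
    3 ∣ (Subgroup.centralizer ({t} : Set G)).index

/-- fields of order `3` -/
def ThreeProp : Prop := ∀ (G : Type u) [Group G] [Finite G] [IsSimpleGroup G] (t : G) (F1 F2 : Type) [Field F1]
  [Field F2] [Finite F1] [Finite F2] (L : LocalSL t F1 F2), L.Hyp → OneClass G → Nat.card F1 = 3 → Nat.card F2 = 3 →
    ConclLie G

/-- the full case -/
def FullProp : Prop := ∀ (G : Type u) [Group G] [Finite G] [IsSimpleGroup G] (t : G) (F1 F2 : Type) [Field F1]
  [Field F2] [Finite F1] [Finite F2] (L : LocalSL t F1 F2), FullF L → ConclLie G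

/-- the `M`-lemma for all subgroups -/
theorem mcl (hR : RankTwoTypes.{u}) (hC : CentTypes.{u}) (G : Type u) [Group G] [Finite G] (F : Type*) [Field F]
    [Finite F] (hF : Odd (Nat.card F)) : MCl G F :=
  fun _ _ _ _ _ h _ hp hpF => dvd_index' h hF hR hC hp hpF

theorem orderOf_eq_two {G : Type*} [Group G] {x : G} (h : x * x = 1) (h1 : x ≠ 1) : orderOf x = 2 :=
  orderOf_eq_prime (by rw [pow_two]; exact h) h1

/-- **recognition** from its pieces -/
theorem recProp (hR : RankTwoTypes.{u}) (hC : CentTypes.{u}) (hG : GamProp.{u}) (hT : ThreeProp.{u})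
    (hE : FullProp.{u}) : RecProp.{u} := by
  intro G _ _ _ t F1 F2 _ _ _ _ L H hcl
  have h1 : ∀ x : G, x * x = 1 → x ≠ 1 → ∃ g, g * t = x * g := by
    intro x hx hx1
    obtain ⟨c, hc⟩ := isConj_iff.1 (hcl t x (orderOf_eq_two L.t_sq H.t_ne_one) (orderOf_eq_two hx hx1))
    refine ⟨c, ?_⟩
    rw [← hc]; group
  rcases H.final' h1 (mcl hR hC G F1 (odd_card_field H.two_ne1)) (mcl hR hC G F2 (odd_card_field H.two_ne2)) with
    h | h | ⟨hc, h3, hb⟩
  · exact hE G t F1 F2 L h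
  · exact hE G t F2 F1 L.sw h
  · by_cases h4 : 3 < Nat.card F1
    · exfalso
      obtain ⟨s, g, S⟩ := H.exists_split (isSquare_neg_one_iff hc) h1
      obtain ⟨h5, h6⟩ := hb h4 s g S
      have h7 : ∀ x, ¬ XIn L s (dg F1) (dg F2) (wn F1) (wn F2) g x := by
        intro x X
        obtain ⟨r, hr, -, hrA⟩ := X.exists_rc (mcl hR hC G F1 (odd_card_field H.two_ne1))
        exact hrA (S.toFrame.rc_le_A1 h5 hr)
      have h8 : ∀ x, ¬ XIn L.sw s (dg F2) (dg F1) (wn F2) (wn F1) g x := by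
        intro x X
        obtain ⟨r, hr, -, hrA⟩ := X.exists_rc (mcl hR hC G F2 (odd_card_field H.two_ne2))
        exact hrA (S.toFrame.sw.rc_le_A1 h6 hr)
      exact S.toFrame.not_dvd_index h5 Nat.prime_three h3 (hG G t s g F1 F2 L S h1 hc h3 h4 h5 h6 h7 h8)
    · have h5 : Nat.card F1 = 3 := by
        obtain ⟨k, hk⟩ := h3
        have h6 : 0 < Nat.card F1 := Nat.card_pos
        omega
      exact hT G t F1 F2 L H hcl h5 (hc ▸ h5)

end Cfsg.Agent.GTwoOdd.AsmRec
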