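import Cfsg.Agent.GTwoOdd.GamFinal
import Cfsg.Agent.GTwoOdd.AsmRec

/-!
# `GamProp` (the character argument) of the recognition theorem
-/

set_option autoImplicit false

namespace Cfsg.Agent.GTwoOdd.GamPropMain

open Cfsg.Agent.GTwoOdd.LocalSL

universe u

/-- **the character argument**: `3` divides `|G : C(t)|` -/
theorem gamProp : AsmRec.GamProp.{u} := by
  intro G _ _ t s g F1 F2 _ _ _ _ L S hcl hq h3 h4 _ _ hx2 hx1
  have h5 : 5 < Nat.card F1 := by
    obtain ⟨k, hk⟩ := h3
    omega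
  exact S.gam hcl hq h5 hx2 hx1 Nat.prime_three h3

end Cfsg.Agent.GTwoOdd.GamPropMain
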