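import Cfsg.Agent.GTwoOdd.QThree
import Cfsg.Agent.GTwoOdd.AsmRec
import Cfsg.Agent.GTwoThree.Main

/-!
# S1742 (C), `q₁ = q₂ = 3` (helper614)
-/

set_option autoImplicit false

namespace Cfsg.Agent.GTwoOdd.QThreeMain

universe u

/-- **fields of order `3`**: `G ≅ G₂(3)` -/
theorem threeProp : AsmRec.ThreeProp.{u} := by
  intro G _ _ _ t F1 F2 _ _ _ _ L H _ h1 h2
  obtain ⟨Q, i, j, k, l, x₁, x₂, y, h⟩ := QThree.exists_case9c L H h1 h2
  obtain ⟨F, i1, i2, hF, e⟩ := Cfsg.Agent.GTwoThree.recognize h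
  exact Or.inl ⟨F, i1, i2, by rw [hF]; decide, e⟩

end Cfsg.Agent.GTwoOdd.QThreeMain
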