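import Cfsg.Agent.GTwoOdd.MSimple
import Cfsg.Agent.GTwoOdd.CentDef

/-!
# The `M`-lemma for core-free groups
-/

set_option autoImplicit false
set_option linter.unusedSectionVars false

namespace Cfsg.Agent.GTwoOdd.MCore

open Matrix Subgroup Cfsg.Agent.ClassicalGeometry Cfsg.Agent.Lib

universe u

/-- the Sylow types of the simple groups of 2-rank 2 (S0516, S1248) -/
def RankTwoTypes : Prop :=
  ∀ (N : Type u) [Group N] [Finite N] [IsSimpleGroup N], ¬ IsMulCommutative N → Cfsg.PRankLE 2 2 N →
    ∀ S : Sylow 2 N, (∃ n : ℕ, Nonempty ((S : Subgroup N) ≃* DihedralGroup n)) ∨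
      Cfsg.IsQuasiDihedral (S : Subgroup N) ∨ Cfsg.IsWreathed (S : Subgroup N) ∨
      ∀ x : (S : Subgroup N), x * x = 1 → ∀ y, x * y = y * x

/-- the involution centralisers of the simple groups with quasi-dihedral or wreathed Sylow 2-subgroups
(S0507, S0523) -/
def CentTypes : Prop :=
  ∀ (N : Type u) [Group N] [Finite N] [IsSimpleGroup N] (S : Sylow 2 N),
    (Cfsg.IsQuasiDihedral (S : Subgroup N) ∨ Cfsg.IsWreathed (S : Subgroup N)) → CentForm N

theorem dihedral_comm {n : ℕ} {x y : DihedralGroup n} (hx : x * x ≠ 1) (hy : y * y ≠ 1) : x * y = y * x := by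
  rcases x with i | i
  · rcases y with j | j
    · rw [DihedralGroup.r_mul_r, DihedralGroup.r_mul_r, add_comm]
    · exact absurd (by simp) hy
  · exact absurd (by simp) hx

variable {X : Type u} [Group X] [Finite X] {F : Type*} [Field F] [Fintype F] {t s : X} {e : SL2 F →* X} {D : M2 F}
  (h : MHyp t s e D) (hF : Odd (Fintype.card F))

include h hF

theorem qdw (hR : RankTwoTypes.{u}) (hO : Cfsg.oddCore X = ⊥) (N : Subgroup X) [hN : N.Normal] (hne : N ≠ ⊥)
    [hs : IsSimpleGroup N] (S : Sylow 2 N) :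
    Cfsg.IsQuasiDihedral (S : Subgroup N) ∨ Cfsg.IsWreathed (S : Subgroup N) := by
  have hp : Fact (Nat.Prime 2) := ⟨Nat.prime_two⟩
  obtain ⟨a, ha, b, hb, haa, hbb, hab⟩ := exists_quat h hF hO N hne
  have hne' := quat_ne h hF hab
  have htt := t_sq h
  have ht1 := t_ne h hF
  have hna : ¬ IsMulCommutative N := by
    intro h1
    apply hne'
    have := h1.is_comm.comm ⟨a, ha⟩ ⟨b, hb⟩
    exact congrArg Subtype.val this
  rcases hR N hna (prank h hF N) S with h1 | h1 | h1 | h1
  · exfalso
    obtain ⟨n, ⟨f⟩⟩ := h1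
    set a' : N := ⟨a, ha⟩ with ha'
    set b' : N := ⟨b, hb⟩ with hb'
    have hQ : IsPGroup 2 (zpowers a' ⊔ zpowers b' : Subgroup N) := by
      apply isPGroup_pair
      · apply Subtype.ext
        change a ^ 4 = 1
        rw [show 4 = 2 * 2 from rfl, pow_mul, pow_two a, haa, pow_two, htt]
      · apply Subtype.ext
        change b ^ 4 = 1
        rw [show 4 = 2 * 2 from rfl, pow_mul, pow_two b, hbb, pow_two, htt]
      · refine ⟨-1, ?_⟩
        change a' ^ (-1 : ℤ) = _
        rw [_root_.zpow_neg_one]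
        apply Subtype.ext
        change a⁻¹ = b * a * b⁻¹
        have h2 : a⁻¹ = a * t := by
          rw [inv_eq_iff_mul_eq_one]
          calc a * (a * t) = a * a * t := by group
            _ = 1 := by rw [haa, htt]
        have h3 : b * a = t * (a * b) := by
          rw [hab, ← mul_assoc, ← mul_assoc, htt, one_mul]
        have h4 : a * t = t * a := by
          rw [← haa]; group
        rw [h2, h3, h4]
        group
    obtain ⟨S', hS'⟩ := hQ.exists_le_sylow
    have haS : a' ∈ S' := hS' ((le_sup_left : zpowers a' ≤ _) (mem_zpowers a'))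
    have hbS : b' ∈ S' := hS' ((le_sup_right : zpowers b' ≤ _) (mem_zpowers b'))
    have g : (S' : Subgroup N) ≃* DihedralGroup n := (Sylow.equiv S' S).trans f
    have h2 : ∀ {c : N} (hc : c ∈ S'), (c : X) * c = t → g ⟨c, hc⟩ * g ⟨c, hc⟩ ≠ 1 := by
      intro c hc hcc h3
      rw [← map_mul] at h3
      have h4 := g.injective (h3.trans (map_one g).symm)
      apply ht1
      have h5 : (⟨c, hc⟩ * ⟨c, hc⟩ : S').1.1 = 1 := by rw [h4]; rfl
      rw [← hcc]
      exact h5
    have h3 := dihedral_comm (h2 haS haa) (h2 hbS hbb)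
    rw [← map_mul, ← map_mul] at h3
    have h4 := g.injective h3
    apply hne'
    exact congrArg (fun z : S' => z.1.1) h4
  · exact Or.inl h1
  · exact Or.inr h1
  · exfalso
    -- `i` anticommuting with `D`
    have h2 := SLTwoFour.two_ne_zero_of_odd (F := F) hF
    obtain ⟨i, hi, hiD⟩ : ∃ i : SL2 F, i * i = -1 ∧ (i : M2 F) * D = -(D * i) := by
      obtain ⟨i, hi⟩ := exists_anti h2 h.acts.1 h.tr
      refine ⟨i, ?_, hi⟩
      have h3 := trace_of_anti h2 h.acts.1 hi
      apply Subtype.ext
      have h4 := m2_sq_of_trace h3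
      rw [sl_coe_det] at h4
      rw [Matrix.SpecialLinearGroup.coe_mul, h4]
      simp
    have h3 : s * e i = e (-i) * s := by
      apply h.acts.2
      rw [Matrix.SpecialLinearGroup.coe_neg, neg_mul, hiD, neg_neg]
    have h4 : e (-i) = t * e i := by
      rw [← h.neg, ← map_mul]
      congr 1
      apply Subtype.ext
      simp
    rw [h4] at h3
    have hs' : s ∈ N := mem_of_ne_bot h hF hO N hne h.sq
    have hi' : e i ∈ N := e_mem_of_sq h hF hO N hne hi
    have hii : e i * e i = t := by rw [← map_mul, hi, h.neg]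
    set a' : N := ⟨e i, hi'⟩ with ha'
    set b' : N := ⟨s, hs'⟩ with hb'
    have hQ : IsPGroup 2 (zpowers a' ⊔ zpowers b' : Subgroup N) := by
      apply isPGroup_pair
      · apply Subtype.ext
        change e i ^ 4 = 1
        rw [show 4 = 2 * 2 from rfl, pow_mul, pow_two (e i), hii, pow_two, htt]
      · apply Subtype.ext
        change s ^ 4 = 1
        rw [show 4 = 2 * 2 from rfl, pow_mul, pow_two s, h.sq, pow_two, one_mul]
      · refine ⟨-1, ?_⟩
        change a' ^ (-1 : ℤ) = _
        rw [_root_.zpow_neg_one]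
        apply Subtype.ext
        change (e i)⁻¹ = s * e i * s⁻¹
        rw [h3]
        have h5 : t * e i * s * s⁻¹ = t * e i := by group
        rw [h5, inv_eq_iff_mul_eq_one]
        calc e i * (t * e i) = e i * t * e i := by group
          _ = t * (e i * e i) := by rw [t_comm h]; group
          _ = 1 := by rw [hii, htt]
    obtain ⟨S', hS'⟩ := hQ.exists_le_sylow
    have haS : a' ∈ S' := hS' ((le_sup_left : zpowers a' ≤ _) (mem_zpowers a'))
    have hbS : b' ∈ S' := hS' ((le_sup_right : zpowers b' ≤ _) (mem_zpowers b'))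
    have g : (S' : Subgroup N) ≃* S := Sylow.equiv S' S
    have h5 := h1 (g ⟨b', hbS⟩) (by
      rw [← map_mul]
      have : (⟨b', hbS⟩ * ⟨b', hbS⟩ : S') = 1 := Subtype.ext (Subtype.ext h.sq)
      rw [this, map_one]) (g ⟨a', haS⟩)
    rw [← map_mul, ← map_mul] at h5
    have h6 := g.injective h5
    have h7 : s * e i = e i * s := congrArg (fun z : S' => z.1.1) h6
    rw [h3, mul_assoc] at h7
    exact ht1 (mul_eq_right.1 h7)

omit h hF in
theorem card_eq_of_card {E E' : Type*} [Field E] [Fintype E] [Field E'] [Fintype E']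
    (h : Nat.card (SL2 E) ≤ Nat.card (SL2 E')) : Fintype.card E ≤ Fintype.card E' := by
  rw [SLNormal.card_sl, SLNormal.card_sl] at h
  by_contra h1
  push Not at h1
  have h2 := Fintype.one_lt_card (α := E')
  have h3 : Fintype.card E' ^ 2 < Fintype.card E ^ 2 := Nat.pow_lt_pow_left h1 two_ne_zero
  have h4 : 1 ≤ Fintype.card E' ^ 2 := Nat.one_le_pow _ _ (by omega)
  have h5 : Fintype.card E' ^ 2 - 1 < Fintype.card E ^ 2 - 1 := by omega
  have h6 := Nat.mul_lt_mul'' h1 h5
  omega

omit h hF in
theorem derived_top {E : Type*} [Field E] [Fintype E] (h : 3 < Fintype.card E) (n : ℕ) :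
    derivedSeries (SL2 E) n = ⊤ := by
  induction n with
  | zero => rfl
  | succ n ih =>
    rw [derivedSeries_succ, ih]
    exact TwoFusion.SLTwoFacts.commutator_eq_top h

/-- the two fields have the same order -/
theorem card_field_eq (hO : Cfsg.oddCore X = ⊥) (N : Subgroup X) [hN : N.Normal] (hne : N ≠ ⊥) (htN : t ∈ N)
    {E : Type*} [Field E] [Fintype E] (hE : Odd (Fintype.card E)) (f : SL2 E →* N) (hf : Function.Injective f)
    (hft : ∀ x, f x * ⟨t, htN⟩ = ⟨t, htN⟩ * f x)
    (_hnorm : ∀ c, c * ⟨t, htN⟩ = ⟨t, htN⟩ * c → ∀ x, ∃ y, c * f x = f y * c)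
    (habel : ∀ c d, c * ⟨t, htN⟩ = ⟨t, htN⟩ * c → d * ⟨t, htN⟩ = ⟨t, htN⟩ * d → ∃ y, c * d = f y * (d * c)) :
    Fintype.card E = Fintype.card F := by
  have hcF := SLNormal.card_three_of hF
  have hcE := SLNormal.card_three_of hE
  -- if `|E| > 3` then `f` maps into `e`
  have h1 : 3 < Fintype.card E → ∀ y, ∃ x, e x = f y := by
    intro h3 y
    obtain ⟨n, hn⟩ := h.sol
    let f' : SL2 E →* centralizer ({t} : Set X) := (N.subtype.comp f).codRestrict _ (fun x => by
      rw [Subgroup.mem_centralizer_singleton_iff]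
      have := congrArg Subtype.val (hft x)
      exact this)
    have h4 : f' y ∈ derivedSeries (centralizer ({t} : Set X)) n := by
      apply map_derivedSeries_le_derivedSeries f' n
      rw [derived_top h3]
      exact ⟨y, Subgroup.mem_top y, rfl⟩
    obtain ⟨x, hx⟩ := hn _ h4
    exact ⟨x, hx⟩
  have h2 : 3 < Fintype.card F → ∀ x, ∃ y, e x = f y := by
    intro h3 x
    have hx : ∀ x, e x ∈ N := e_mem_of_lt h hF hO N hne h3
    let e' : SL2 F →* N := e.codRestrict N hx
    have h4 : ∀ x, e' x ∈ f.range := by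
      intro x
      have h5 : x ∈ commutator (SL2 F) := by
        rw [TwoFusion.SLTwoFacts.commutator_eq_top h3]
        exact Subgroup.mem_top x
      have h6 : (commutator (SL2 F)).map e' ≤ f.range := by
        rw [commutator_def, Subgroup.map_commutator, Subgroup.commutator_le]
        rintro _ ⟨a, -, rfl⟩ _ ⟨b, -, rfl⟩
        have ha : e' a * ⟨t, htN⟩ = ⟨t, htN⟩ * e' a := Subtype.ext (t_comm h a)
        have hb : e' b * ⟨t, htN⟩ = ⟨t, htN⟩ * e' b := Subtype.ext (t_comm h b)
        obtain ⟨y, hy⟩ := habel (e' a) (e' b) ha hb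
        refine ⟨y, ?_⟩
        rw [commutatorElement_def, hy]
        group
      exact h6 ⟨x, h5, rfl⟩
    obtain ⟨y, hy⟩ := h4 x
    refine ⟨y, ?_⟩
    rw [hy]
    rfl
  have c1 : (∀ y, ∃ x, e x = f y) → Fintype.card E ≤ Fintype.card F := by
    intro h3
    apply card_eq_of_card
    choose g hg using h3
    apply Nat.card_le_card_of_injective g
    intro y y' hy
    apply hf
    apply Subtype.ext
    rw [← hg, ← hg, hy]
  have c2 : (∀ x, ∃ y, e x = f y) → Fintype.card F ≤ Fintype.card E := by
    intro h3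
    apply card_eq_of_card
    choose g hg using h3
    apply Nat.card_le_card_of_injective g
    intro y y' hy
    apply h.inj
    rw [hg, hg, hy]
  by_cases hE3 : 3 < Fintype.card E
  · by_cases hF3 : 3 < Fintype.card F
    · exact le_antisymm (c1 (h1 hE3)) (c2 (h2 hF3))
    · have := c1 (h1 hE3)
      have := hcF hF3
      omega
  · by_cases hF3 : 3 < Fintype.card F
    · have := c2 (h2 hF3)
      have := hcE hE3
      omega
    · rw [hcE hE3, hcF hF3]

omit h hF in
/-- the index of `C_N(t)` divides the index of `C_X(t)` -/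
theorem index_dvd (N : Subgroup X) [hN : N.Normal] (htN : t ∈ N) :
    (centralizer ({(⟨t, htN⟩ : N)} : Set N)).index ∣ (centralizer ({t} : Set X)).index := by
  have h1 : (centralizer ({t} : Set X)).subgroupOf N = centralizer ({(⟨t, htN⟩ : N)} : Set N) := by
    ext x
    rw [Subgroup.mem_subgroupOf, Subgroup.mem_centralizer_singleton_iff, Subgroup.mem_centralizer_singleton_iff]
    constructor
    · intro h
      exact Subtype.ext h
    · intro h
      exact congrArg Subtype.val h
  rw [← h1]
  change (centralizer ({t} : Set X)).relIndex N ∣ _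
  have h2 : (centralizer ({t} : Set X)).relIndex N = (centralizer ({t} : Set X)).relIndex (N ⊔ centralizer ({t} : Set X)) := by
    have h3 := Subgroup.relIndex_mul_relIndex (centralizer ({t} : Set X) ⊓ N) N (N ⊔ centralizer ({t} : Set X)) inf_le_right le_sup_left
    have h4 := Subgroup.relIndex_mul_relIndex (centralizer ({t} : Set X) ⊓ N) (centralizer ({t} : Set X)) (N ⊔ centralizer ({t} : Set X)) inf_le_left le_sup_right
    rw [Subgroup.relIndex_sup_left, Subgroup.inf_relIndex_right] at h3
    rw [Subgroup.inf_relIndex_left] at h4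
    have h5 : N.relIndex (centralizer ({t} : Set X)) ≠ 0 := Subgroup.index_ne_zero_of_finite
    have h6 : (centralizer ({t} : Set X)).relIndex N * N.relIndex (centralizer ({t} : Set X)) =
        (centralizer ({t} : Set X)).relIndex (N ⊔ centralizer ({t} : Set X)) * N.relIndex (centralizer ({t} : Set X)) := by
      rw [h3, ← h4, mul_comm]
    exact Nat.eq_of_mul_eq_mul_right (Nat.pos_of_ne_zero h5) h6
  rw [h2]
  exact Subgroup.relIndex_dvd_index_of_le le_sup_right

/-- **the `M`-lemma for core-free groups** -/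
theorem core_dvd (hR : RankTwoTypes.{u}) (hC : CentTypes.{u}) (hO : Cfsg.oddCore X = ⊥) {p : ℕ} (hp : p.Prime)
    (hpF : p ∣ Fintype.card F) : p ∣ (centralizer ({t} : Set X)).index := by
  have hne : (⊤ : Subgroup X) ≠ ⊥ := by
    intro h1
    have : t ∈ (⊤ : Subgroup X) := Subgroup.mem_top t
    rw [h1, Subgroup.mem_bot] at this
    exact t_ne h hF this
  obtain ⟨N, hN, -, hNe, hmin⟩ := Lib.SubnormalJoin.exists_minimal_normal_le (⊤ : Subgroup X) inferInstance hne
  have hs := isSimple h hF hO N hNe hmin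
  have htN : t ∈ N := mem_of_ne_bot h hF hO N hNe (t_sq h)
  obtain ⟨E, i1, i2, f, f1, f2, f3, f4, f5, f6⟩ := hC N default (qdw h hF hR hO N hNe default) ⟨t, htN⟩ (by
    rw [orderOf_eq_prime_iff]
    refine ⟨?_, fun h1 => t_ne h hF (congrArg Subtype.val h1)⟩
    apply Subtype.ext
    rw [pow_two]
    exact t_sq h)
  have h1 := card_field_eq h hF hO N hNe htN f2 f f1 f3 f4 f5
  exact (f6 p hp (by rw [h1]; exact hpF)).trans (index_dvd N htN)

end Cfsg.Agent.GTwoOdd.MCore
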