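import Cfsg.Agent.S0516
import Cfsg.Agent.S1248
import Cfsg.Agent.GTwoOdd.MIndex

/-!
# The Sylow `2`-subgroups of the simple groups of `2`-rank `2`
-/

set_option autoImplicit false

namespace Cfsg.Agent.GTwoOdd.RankTypes

/-- involutions are central in a Sylow `2`-subgroup of `PSU(3,4)` -/
theorem psu_central {F : Type*} [Field F] [Fintype F] (hF : Fintype.card F = 16) (P : Sylow 2 (Cfsg.PSU 3 F 4))
    (x : (P : Subgroup (Cfsg.PSU 3 F 4))) (hx : x * x = 1) (y : (P : Subgroup (Cfsg.PSU 3 F 4))) :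
    x * y = y * x := by
  obtain ⟨-, -, h, -⟩ := Cfsg.Agent.S1248.result hF P
  by_cases h1 : x = 1
  · rw [h1]; simp
  have h2 : x ∈ Subgroup.center (P : Subgroup (Cfsg.PSU 3 F 4)) := by
    rw [h]
    apply Subgroup.subset_closure
    exact orderOf_eq_prime (by rw [pow_two]; exact hx) h1
  exact (Subgroup.mem_center_iff.1 h2 y).symm

/-- a simple group of `2`-rank at most `2`: the Sylow `2`-subgroup is dihedral, quasi-dihedral or wreathed, or its
involutions are central -/
theorem types {N : Type*} [Group N] [Finite N] [IsSimpleGroup N] (hN : ¬ IsMulCommutative N)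
    (h2 : Cfsg.PRankLE 2 2 N) (S : Sylow 2 N) :
    (∃ n : ℕ, 2 ≤ n ∧ Nonempty ((S : Subgroup N) ≃* DihedralGroup n)) ∨ Cfsg.IsQuasiDihedral (S : Subgroup N) ∨
      Cfsg.IsWreathed (S : Subgroup N) ∨
      ∀ x : (S : Subgroup N), x * x = 1 → ∀ y : (S : Subgroup N), x * y = y * x := by
  haveI : Fact (Nat.Prime 2) := ⟨Nat.prime_two⟩
  haveI : Fintype (GaloisField 2 4) := Fintype.ofFinite _
  have hF : Fintype.card (GaloisField 2 4) = 16 := by
    rw [← Nat.card_eq_fintype_card, GaloisField.card 2 4 (by norm_num)]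
    norm_num
  obtain ⟨P⟩ : Nonempty (Sylow 2 (Cfsg.PSU 3 (GaloisField 2 4) 4)) := inferInstance
  rcases Cfsg.Agent.S0516.result hN h2 S hF P with h | h | h | ⟨⟨e⟩⟩
  · exact Or.inl h
  · exact Or.inr (Or.inl h)
  · exact Or.inr (Or.inr (Or.inl h))
  · refine Or.inr (Or.inr (Or.inr fun x hx y => ?_))
    apply e.injective
    rw [map_mul, map_mul]
    exact psu_central hF P _ (by rw [← map_mul, hx, map_one]) _

universe u

theorem rankTwoTypes : Cfsg.Agent.GTwoOdd.MCore.RankTwoTypes.{u} := by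
  intro N _ _ _ hN h2 S
  rcases types hN h2 S with ⟨n, -, h⟩ | h | h | h
  · exact Or.inl ⟨n, h⟩
  · exact Or.inr (Or.inl h)
  · exact Or.inr (Or.inr (Or.inl h))
  · exact Or.inr (Or.inr (Or.inr h))

end Cfsg.Agent.GTwoOdd.RankTypes
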