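import Cfsg.Agent.GTwoOdd.AssembleTwo
import Cfsg.Agent.GTwoOdd.Core.EndMain
import Cfsg.Agent.GTwoOdd.Bridge
import Cfsg.Agent.GTwoOdd.RankTypes
import Cfsg.Agent.GTwoOdd.CentTypes
import Cfsg.Agent.GTwoOdd.FullConcl
import Cfsg.Agent.GTwoOdd.GamPropMain
import Cfsg.Agent.GTwoOdd.QThreeMain
import Cfsg.Agent.S0483
import Cfsg.Agent.S1741
import Cfsg.Agent.S1743
import Cfsg.Agent.S1059

/-!
# Pieces of S1742 plugged in (everything except S0507, S0523)
-/

set_option autoImplicit false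

namespace Cfsg.Agent.GTwoOdd.Plug

open Cfsg Cfsg.Agent.GTwoOdd Cfsg.Agent.GTwoOdd.Assemble

universe u v

theorem bridge : BridgeProp.{u, v} := by
  intro G _ _ _ S F _ _ hyp h1 t ht
  obtain ⟨hF, P, hS⟩ := hyp
  exact Bridge.locHyp hF S P hS h1 (fun X _ _ _ S n hn hS => Cfsg.Agent.S0483.result S n hn hS) t ht

theorem order : OrderProp.{v} := fun F _ _ => Cfsg.Agent.S1059.result (F := F) rfl

theorem cls : ClassProp.{u, v} := classProp order (fun hF S P hS => Cfsg.Agent.S1743.result hF S P hS)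

theorem twelve : TwelveProp.{u, v} := twelveProp order (fun S P h1 h2 => Cfsg.Agent.S1741.result S P h1 h2)

theorem full : AsmRec.FullProp.{u} := fun _ _ _ _ _ _ _ _ _ _ _ _ h => FullConcl.main h

/-- recognition from the texts of S0507 and S0523 -/
theorem recog (h7 : MCore.QDText.{u}) (h8 : MCore.WreathText.{u}) : RecProp.{u} :=
  AsmRec.recProp RankTypes.rankTwoTypes (MCore.centTypes h7 h8) GamPropMain.gamProp QThreeMain.threeProp full

/-- S1742 from the texts of S0507 and S0523 -/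
theorem concl (h7 : MCore.QDText.{u}) (h8 : MCore.WreathText.{u})
    {G : Type u} [Group G] [Finite G] [IsSimpleGroup G]
    {F : Type v} [Field F] [Fintype F] (hF : Odd (Fintype.card F)) (S : Sylow 2 G) (P : Sylow 2 ↥(Cfsg.Lie.chevG2.group F))
    (hS : Nonempty (↥(S : Subgroup G) ≃* ↥(P : Subgroup ↥(Cfsg.Lie.chevG2.group F)))) :
    (∃ (E : Type) (_ : Field E) (_ : Fintype E), Odd (Fintype.card E) ∧ Nonempty (G ≃* ↥(Cfsg.Lie.chevG2.group E))) ∨
      (∃ (K : Type) (_ : Field K) (_ : Fintype K) (r : ℕ), Odd r ∧ Fintype.card K = r ^ 3 ∧ Nonempty (G ≃* ↥(Cfsg.Lie.twistedD4 K r))) ∨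
      Cfsg.Spor.IsoM12 G :=
  main (Core.End.coreProp_of h8) (recog h7 h8) bridge cls twelve hF S P hS

end Cfsg.Agent.GTwoOdd.Plug
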