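import Cfsg.Agent.ClassificationK.GTwoSylow
import Cfsg.Agent.MTwelveType.SylowModel

/-!
# A Sylow 2-subgroup of order 64 of `G₂(q)`, `q` odd, is isomorphic to a Sylow 2-subgroup of `M12`
-/

set_option autoImplicit false

namespace Cfsg.Agent.GTwoOdd.TwoClass

open Cfsg Cfsg.Agent.ClassificationK.GTwoModel

/-- a 2-group of order 64 isomorphic to a Sylow 2-subgroup of `G₂(q)`, `q` odd, is isomorphic to a
Sylow 2-subgroup of `M12` -/
theorem exists_equiv_mTwelve {F : Type*} [Field F] [Fintype F] (hF : Odd (Fintype.card F))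
    (hcard : Nat.card ↥(Cfsg.Lie.chevG2.group F) =
      Fintype.card F ^ 6 * (Fintype.card F ^ 2 - 1) * (Fintype.card F ^ 6 - 1))
    {H : Type*} [Group H] (P : Sylow 2 ↥(Cfsg.Lie.chevG2.group F))
    (hS : Nonempty (H ≃* ↥(P : Subgroup ↥(Cfsg.Lie.chevG2.group F))))
    (h64 : Nat.card H = 64) (Q : Sylow 2 ↥Cfsg.Spor.M12) : Nonempty (H ≃* ↥(Q : Subgroup ↥Cfsg.Spor.M12)) := by
  obtain ⟨e⟩ := hS
  obtain ⟨k, hk, ⟨e'⟩⟩ := Cfsg.Agent.ClassificationK.GTwoSylow.exists_equiv hF hcard P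
  have h1 : Nat.card (T (2 * 2 ^ k)) = 64 := by
    rw [Nat.card_congr (e'.trans e.symm).toEquiv, h64]
  have : NeZero (2 * 2 ^ k) := ⟨by positivity⟩
  rw [T.card_T] at h1
  have h2 : k = 1 := by
    by_contra h
    have h3 : 2 ≤ k := by omega
    have h4 : 2 ^ 2 ≤ 2 ^ k := Nat.pow_le_pow_right (by norm_num) h3
    nlinarith
  subst h2
  obtain ⟨e''⟩ := Cfsg.Agent.MTwelveType.SylowModel.exists_equiv Q
  exact ⟨e.trans (e'.symm.trans e'')⟩

end Cfsg.Agent.GTwoOdd.TwoClass
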