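import Cfsg.Agent.GTwoOdd.Assemble
import Cfsg.Agent.GTwoOdd.TwoClass

/-!
# `ClassProp` and `TwelveProp` from the texts of S1743, S1741, S1059
-/

set_option autoImplicit false

namespace Cfsg.Agent.GTwoOdd.Assemble

open Cfsg Cfsg.Agent.GTwoOdd Cfsg.Agent.ClassificationK.GTwoModel

universe u v

/-- the order of `G₂(q)`, `q` odd (S1059) -/
def OrderProp : Prop := ∀ (F : Type v) [Field F] [Fintype F], Nat.card ↥(Cfsg.Lie.chevG2.group F) =
      Fintype.card F ^ 6 * (Fintype.card F ^ 2 - 1) * (Fintype.card F ^ 6 - 1)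

/-- the text of S1743 -/
def S1743Prop : Prop := ∀ {G : Type u} [Group G] [Finite G] [IsSimpleGroup G]
    {F : Type v} [Field F] [Fintype F] (_ : Odd (Fintype.card F)) (S : Sylow 2 G) (P : Sylow 2 ↥(Cfsg.Lie.chevG2.group F))
    (_ : Nonempty (↥(S : Subgroup G) ≃* ↥(P : Subgroup ↥(Cfsg.Lie.chevG2.group F)))),
    (∀ x y : G, orderOf x = 2 → orderOf y = 2 → IsConj x y) ∨
      (Nat.card ↥(S : Subgroup G) = 64 ∧ ∃ x y : G, orderOf x = 2 ∧ orderOf y = 2 ∧ ¬ IsConj x y ∧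
        ∀ z : G, orderOf z = 2 → IsConj z x ∨ IsConj z y)

/-- the text of S1741 -/
def S1741Prop : Prop := ∀ {G : Type u} [Group G] [Finite G] [IsSimpleGroup G]
    (S : Sylow 2 G) (P : Sylow 2 ↥Cfsg.Spor.M12) (_ : Nonempty (↥(S : Subgroup G) ≃* ↥(P : Subgroup ↥Cfsg.Spor.M12)))
    (_ : ∃ x y : G, orderOf x = 2 ∧ orderOf y = 2 ∧ ¬ IsConj x y), Cfsg.Spor.IsoM12 G

theorem classProp (hO : OrderProp.{v}) (h : S1743Prop.{u, v}) : ClassProp.{u, v} := by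
  intro G _ _ _ S F _ _ hyp
  obtain ⟨hF, P, hS⟩ := hyp
  rcases h hF S P hS with h1 | ⟨h64, x, y, hx, hy, hxy, -⟩
  · left
    refine ⟨h1, ?_⟩
    obtain ⟨e⟩ := hS
    obtain ⟨k, hk, ⟨e'⟩⟩ := Cfsg.Agent.ClassificationK.GTwoSylow.exists_equiv hF (hO F) P
    have h2 : Nat.card ↥(S : Subgroup G) = 4 * (2 * 2 ^ k) ^ 2 := by
      rw [Nat.card_congr (e.trans e'.symm).toEquiv, T.card_T]
    have h3 : 2 ∣ Nat.card G := by
      refine dvd_trans ?_ (Subgroup.card_subgroup_dvd_card (S : Subgroup G))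
      rw [h2]
      exact Dvd.dvd.mul_right (by norm_num) _
    have : Fact (Nat.Prime 2) := ⟨Nat.prime_two⟩
    exact exists_prime_orderOf_dvd_card' 2 h3
  · right
    exact ⟨h64, x, y, hx, hy, hxy⟩

theorem twelveProp (hO : OrderProp.{v}) (h : S1741Prop.{u}) : TwelveProp.{u, v} := by
  intro G _ _ _ S F _ _ hyp h64 h2
  obtain ⟨hF, P, hS⟩ := hyp
  have : Fact (Nat.Prime 2) := ⟨Nat.prime_two⟩
  let Q : Sylow 2 ↥Cfsg.Spor.M12 := default
  exact h S Q (TwoClass.exists_equiv_mTwelve hF (hO F) P hS h64 Q) h2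

end Cfsg.Agent.GTwoOdd.Assemble
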