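import Cfsg.Agent.GTwoOdd.BavCount

/-!
# The class sum formula on the Borel subgroup of `C(t)`

`L.uni`: the group `P = A1 × A2` of the elements `e1 (up a) * e2 (up b)`.
`bav`: for `τ` in the split torus with `t` in `⟨τ⟩`, the number of pairs `(i, j)` of involutions of `G`
with `i j ∈ τ P` is
`q1 q2 ((q1-1)(q2-1) + [τ ∈ T2] q1 (q2-1) + [τ ∈ T1] q2 (q1-1) + [τ = t] 2 q1 q2)`.
-/

set_option autoImplicit false

namespace Cfsg.Agent.GTwoOdd

open Matrix

theorem exists_odd_cast_zero {F : Type*} [Field F] [Finite F] (h : (2 : F) ≠ 0) : ∃ p : ℕ, Odd p ∧ ((p : ℕ) : F) = 0 := by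
  have := Fintype.ofFinite F
  refine ⟨ringChar F, ?_, ringChar.Nat.cast_ringChar⟩
  have hp : (ringChar F).Prime := CharP.char_is_prime F (ringChar F)
  apply hp.odd_of_ne_two
  intro h3
  apply h
  have := ringChar.Nat.cast_ringChar (R := F)
  rw [h3] at this
  exact_mod_cast this

namespace LocalSL

variable {G : Type*} [Group G] {t : G} {F1 F2 : Type*} [Field F1] [Field F2]

/-- `A1 A2` -/
def uni (L : LocalSL t F1 F2) : Subgroup G where
  carrier := {c | ∃ a b, c = L.e1 (up a) * L.e2 (up b)}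
  mul_mem' := by
    rintro _ _ ⟨a, b, rfl⟩ ⟨a', b', rfl⟩
    refine ⟨a + a', b + b', ?_⟩
    rw [← up_mul, ← up_mul, map_mul, map_mul]
    calc L.e1 (up a) * L.e2 (up b) * (L.e1 (up a') * L.e2 (up b'))
        = L.e1 (up a) * (L.e2 (up b) * L.e1 (up a')) * L.e2 (up b') := by group
      _ = L.e1 (up a) * (L.e1 (up a') * L.e2 (up b)) * L.e2 (up b') := by rw [L.comm]
      _ = _ := by group
  one_mem' := ⟨0, 0, by simp [up_zero]⟩
  inv_mem' := by
    rintro _ ⟨a, b, rfl⟩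
    refine ⟨-a, -b, ?_⟩
    rw [_root_.mul_inv_rev, ← map_inv, ← map_inv, ← L.comm]
    rw [inv_eq_of_mul_eq_one_right (show up a * up (-a) = 1 by rw [up_mul]; simp [up_zero]),
      inv_eq_of_mul_eq_one_right (show up b * up (-b) = 1 by rw [up_mul]; simp [up_zero])]

theorem mem_uni {L : LocalSL t F1 F2} {c : G} : c ∈ L.uni ↔ ∃ a b, c = L.e1 (up a) * L.e2 (up b) := Iff.rfl

theorem uni_t {L : LocalSL t F1 F2} {c : G} (h : c ∈ L.uni) : c * t = t * c := by
  obtain ⟨a, b, rfl⟩ := h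
  exact (Rep.e12 L _ _).comm

theorem uni_pow {L : LocalSL t F1 F2} (a : F1) (b : F2) (n : ℕ) :
    (L.e1 (up a) * L.e2 (up b)) ^ n = L.e1 (up (n * a)) * L.e2 (up (n * b)) := by
  induction n with
  | zero => simp [up_zero]
  | succ n ih =>
    rw [pow_succ, ih]
    calc L.e1 (up (n * a)) * L.e2 (up (n * b)) * (L.e1 (up a) * L.e2 (up b))
        = L.e1 (up (n * a)) * (L.e2 (up (n * b)) * L.e1 (up a)) * L.e2 (up b) := by group
      _ = (L.e1 (up (n * a)) * L.e1 (up a)) * (L.e2 (up (n * b)) * L.e2 (up b)) := by rw [← L.comm]; group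
      _ = _ := by
        rw [← map_mul, ← map_mul, up_mul, up_mul]
        push_cast
        rw [add_mul, add_mul, one_mul, one_mul]

section finite

variable [Finite F1] [Finite F2] {L : LocalSL t F1 F2} (H : L.Hyp)
include H

/-- the torus normalises `A1 A2` -/
theorem Hyp.uni_norm {τ u : G} (hτ : τ ∈ L.tor (dg F1) (dg F2)) (hu : u ∈ L.uni) : τ * u * τ⁻¹ ∈ L.uni := by
  obtain ⟨A, B, hr, hA, hB⟩ := hτ
  obtain ⟨a, b, rfl⟩ := hu
  have hA' := comm_dg H.two_ne1 hA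
  have hB' := comm_dg H.two_ne2 hB
  have hdA : A 0 0 * A 1 1 ≠ 0 := by
    have := hr.det1
    rw [Matrix.det_fin_two, hA'.1] at this
    simpa using this
  have hdB : B 0 0 * B 1 1 ≠ 0 := by
    have := hr.det2
    rw [Matrix.det_fin_two, hB'.1] at this
    simpa using this
  have h1 : A 1 1 ≠ 0 := right_ne_zero_of_mul hdA
  have h2 : B 1 1 ≠ 0 := right_ne_zero_of_mul hdB
  refine ⟨A 0 0 * a / A 1 1, B 0 0 * b / B 1 1, ?_⟩
  have k1 : τ * L.e1 (up a) = L.e1 (up (A 0 0 * a / A 1 1)) * τ := by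
    apply hr.acts1.2
    rw [up_coe, up_coe, m2_eq_iff]
    simp only [m2_mul_00, m2_mul_01, m2_mul_10, m2_mul_11]
    simp [hA'.1, hA'.2]
    field_simp
  have k2 : τ * L.e2 (up b) = L.e2 (up (B 0 0 * b / B 1 1)) * τ := by
    apply hr.acts2.2
    rw [up_coe, up_coe, m2_eq_iff]
    simp only [m2_mul_00, m2_mul_01, m2_mul_10, m2_mul_11]
    simp [hB'.1, hB'.2]
    field_simp
  calc τ * (L.e1 (up a) * L.e2 (up b)) * τ⁻¹ = (τ * L.e1 (up a)) * L.e2 (up b) * τ⁻¹ := by group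
    _ = L.e1 (up (A 0 0 * a / A 1 1)) * (τ * L.e2 (up b)) * τ⁻¹ := by rw [k1]; group
    _ = _ := by rw [k2]; group

/-- the powers of `τ u` are in `τ ^ n P` -/
theorem Hyp.pow_mul_uni {τ u : G} (hτ : τ ∈ L.tor (dg F1) (dg F2)) (hu : u ∈ L.uni) (n : ℕ) :
    ∃ v ∈ L.uni, (τ * u) ^ n = τ ^ n * v := by
  induction n with
  | zero => exact ⟨1, L.uni.one_mem, by simp⟩
  | succ n ih =>
    obtain ⟨v, hv, h⟩ := ih
    refine ⟨τ⁻¹ * v * τ * u, ?_, ?_⟩
    · have h1 := H.uni_norm (inv_mem hτ) hv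
      rw [inv_inv] at h1
      exact L.uni.mul_mem h1 hu
    · rw [pow_succ, h, pow_succ]
      group

/-- an odd power kills `A1 A2` -/
theorem Hyp.exists_odd_pow : ∃ m : ℕ, Odd m ∧ ∀ v ∈ L.uni, v ^ m = 1 := by
  obtain ⟨p, hp, hp'⟩ := exists_odd_cast_zero H.two_ne1
  obtain ⟨p', hq, hq'⟩ := exists_odd_cast_zero H.two_ne2
  refine ⟨p * p', hp.mul hq, ?_⟩
  rintro _ ⟨a, b, rfl⟩
  rw [uni_pow]
  push_cast
  rw [hp', hq', zero_mul, zero_mul, mul_zero, zero_mul, up_zero, up_zero, map_one, map_one, one_mul]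

/-- `t` is in `⟨τ u⟩` if it is in `⟨τ⟩` -/
theorem Hyp.t_mem_zpowers [Finite G] {τ u : G} (hτ : τ ∈ L.tor (dg F1) (dg F2)) (hu : u ∈ L.uni)
    (ht : t ∈ Subgroup.zpowers τ) : t ∈ Subgroup.zpowers (τ * u) := by
  obtain ⟨n, hn⟩ := (mem_powers_iff_mem_zpowers (x := τ) (y := t)).2 ht
  obtain ⟨v, hv, h⟩ := H.pow_mul_uni hτ hu n
  obtain ⟨m, hm, hm'⟩ := H.exists_odd_pow
  have hn' : τ ^ n = t := hn
  refine (mem_powers_iff_mem_zpowers (x := τ * u) (y := t)).1 ⟨n * m, ?_⟩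
  change (τ * u) ^ (n * m) = t
  rw [pow_mul, h, hn', Commute.mul_pow (show Commute t v from (uni_t hv).symm), hm' v hv, mul_one]
  obtain ⟨k, rfl⟩ := hm
  rw [pow_succ, pow_mul, pow_two, L.t_sq, one_pow, one_mul]

end finite

/-- the pairs of involutions -/
def Bset (L : LocalSL t F1 F2) (τ : G) : Set (G × G) :=
  {p | p.1 * p.1 = 1 ∧ p.1 ≠ 1 ∧ p.2 * p.2 = 1 ∧ p.2 ≠ 1 ∧ ∃ u ∈ L.uni, p.1 * p.2 = τ * u}

/-- data on one side -/
def Dat' {F : Type*} [Field F] (A : M2 F) : Type _ :=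
  {p : F × NF F // (p.2.mat * (A * ((up p.1 : SL2 F) : M2 F))).trace = 0 ∧ p.2.mat.det ≠ 0}

/-- data -/
def Tot (A : M2 F1) (B : M2 F2) : Type _ :=
  {p : Dat' A × Dat' B // IsSquare p.1.1.2.mat.det ↔ IsSquare p.2.1.2.mat.det}

/-- the number of data -/
theorem card_tot [Finite F1] [Finite F2] (A : M2 F1) (B : M2 F2) :
    Nat.card (Tot A B) = Nat.card (Dat A True) * Nat.card (Dat B True) + Nat.card (Dat A False) * Nat.card (Dat B False) := by
  classical
  have e : Tot A B ≃ (Dat A True × Dat B True) ⊕ (Dat A False × Dat B False) :=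
    { toFun := fun p => if h : IsSquare p.1.1.1.2.mat.det then
          .inl (⟨p.1.1.1, p.1.1.2.1, p.1.1.2.2, by simpa using h⟩, ⟨p.1.2.1, p.1.2.2.1, p.1.2.2.2, by simpa using p.2.1 h⟩)
        else .inr (⟨p.1.1.1, p.1.1.2.1, p.1.1.2.2, by simpa using h⟩,
          ⟨p.1.2.1, p.1.2.2.1, p.1.2.2.2, by simpa using fun k => h (p.2.2 k)⟩)
      invFun := fun x => match x with
        | .inl (a, b) => ⟨(⟨a.1, a.2.1, a.2.2.1⟩, ⟨b.1, b.2.1, b.2.2.1⟩), by
            have h1 := a.2.2.2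
            have h2 := b.2.2.2
            simp only [iff_true] at h1 h2
            exact ⟨fun _ => h2, fun _ => h1⟩⟩
        | .inr (a, b) => ⟨(⟨a.1, a.2.1, a.2.2.1⟩, ⟨b.1, b.2.1, b.2.2.1⟩), by
            have h1 := a.2.2.2
            have h2 := b.2.2.2
            simp only [iff_false] at h1 h2
            exact ⟨fun h => absurd h h1, fun h => absurd h h2⟩⟩
      left_inv := by
        intro p
        dsimp only
        split_ifs with h <;> rfl
      right_inv := by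
        rintro (⟨a, b⟩ | ⟨a, b⟩)
        · have h1 := a.2.2.2
          simp only [iff_true] at h1
          dsimp only
          rw [dif_pos h1]
          rfl
        · have h1 := a.2.2.2
          simp only [iff_false] at h1
          dsimp only
          rw [dif_neg h1]
          rfl }
  have f1 : Finite (Dat A True) := by unfold Dat; infer_instance
  have f2 : Finite (Dat B True) := by unfold Dat; infer_instance
  have f3 : Finite (Dat A False) := by unfold Dat; infer_instance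
  have f4 : Finite (Dat B False) := by unfold Dat; infer_instance
  rw [Nat.card_congr e, Nat.card_sum, Nat.card_prod, Nat.card_prod]

section main

variable [Finite F1] [Finite F2] {L : LocalSL t F1 F2} (H : L.Hyp)
include H

theorem Hyp.mat_ne {n : NF F1} (hn : n.mat.det ≠ 0) (a : F1) : n.mat ≠ a • (1 : M2 F1) :=
  not_scalar H.two_ne1 hn n.trace a

theorem Hyp.ne_one_of_trace {c : G} {A : M2 F1} {B : M2 F2} (h : L.Rep c A B) (hA : A.trace = 0) : c ≠ 1 := by
  rintro rfl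
  obtain ⟨⟨a, ha, ha'⟩, -⟩ := (Rep.one L).prop h
  exact not_scalar H.two_ne1 h.det1 hA a ha'

theorem Hyp.ne_t_of_trace {c : G} {A : M2 F1} {B : M2 F2} (h : L.Rep c A B) (hA : A.trace = 0) : c ≠ t := by
  rintro rfl
  obtain ⟨⟨a, ha, ha'⟩, -⟩ := (Rep.rep_t L).prop h
  exact not_scalar H.two_ne1 h.det1 hA a ha'

variable {A : M2 F1} {B : M2 F2}

/-- the element of the data -/
noncomputable def Hyp.cel (p : Tot A B) : G :=
  Classical.choose (H.exists_rep p.1.1.2.2 p.1.2.2.2 p.2)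

theorem Hyp.cel_rep (p : Tot A B) : L.Rep (H.cel p) p.1.1.1.2.mat p.1.2.1.2.mat :=
  Classical.choose_spec (H.exists_rep p.1.1.2.2 p.1.2.2.2 p.2)

/-- the involution of the data -/
noncomputable def Hyp.iel (p : Tot A B × Bool) : G := H.cel p.1 * (if p.2 then t else 1)

theorem Hyp.iel_rep (p : Tot A B × Bool) : L.Rep (H.iel p) p.1.1.1.1.2.mat p.1.1.2.1.2.mat := by
  unfold Hyp.iel
  split_ifs
  · simpa using (H.cel_rep p.1).mul (Rep.rep_t L)
  · simpa using H.cel_rep p.1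

/-- the unipotent element of the data -/
def uel (L : LocalSL t F1 F2) (p : Tot A B × Bool) : G := L.e1 (up p.1.1.1.1.1) * L.e2 (up p.1.1.2.1.1)

omit H in
theorem sl_ne_neg_up {F : Type*} [Field F] (h2 : (2 : F) ≠ 0) {a b : F} (h : up a = -up b) : False := by
  have h1 : (up a : M2 F) = -(up b : M2 F) := by
    rw [h, Matrix.SpecialLinearGroup.coe_neg]
  have := congrFun (congrFun h1 0) 0
  rw [up_coe, up_coe] at this
  simp at this
  apply h2
  linear_combination this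

theorem Hyp.pair_inj (τ : G) : Function.Injective (fun p : Tot A B × Bool => (H.iel p, H.iel p * (τ * L.uel p))) := by
  intro p p' h
  simp only [Prod.mk.injEq] at h
  obtain ⟨h1, h2⟩ := h
  have h3 := H.iel_rep p
  have h4 := H.iel_rep p'
  rw [h1] at h3
  obtain ⟨⟨a, ha, ha'⟩, ⟨b, hb, hb'⟩⟩ := h4.prop h3
  have e1 : p.1.1.1.1.2 = p'.1.1.1.1.2 := NF.inj ha'
  have e2 : p.1.1.2.1.2 = p'.1.1.2.1.2 := NF.inj hb'
  rw [h1] at h2
  have h5 : L.uel p = L.uel p' := by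
    have := mul_left_cancel h2
    exact mul_left_cancel this
  unfold uel at h5
  have e34 : p.1.1.1.1.1 = p'.1.1.1.1.1 ∧ p.1.1.2.1.1 = p'.1.1.2.1.1 := by
    rcases e12_inj h5 with ⟨h6, h7⟩ | ⟨h6, h7⟩
    · exact ⟨up_inj h6, up_inj h7⟩
    · exact absurd h6 (fun k => sl_ne_neg_up H.two_ne1 k)
  have e5 : p.1 = p'.1 := by
    apply Subtype.ext
    apply Prod.ext
    · apply Subtype.ext
      exact Prod.ext e34.1 e1
    · apply Subtype.ext
      exact Prod.ext e34.2 e2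
  apply Prod.ext e5
  unfold Hyp.iel at h1
  rw [e5] at h1
  have h8 := mul_left_cancel h1
  rcases hp : p.2 <;> rcases hp' : p'.2 <;> simp [hp, hp'] at h8 ⊢
  · exact H.t_ne_one h8.symm
  · exact H.t_ne_one h8

theorem Hyp.pair_mem {τ : G} (hτ : L.Rep τ A B) (p : Tot A B × Bool) : (H.iel p, H.iel p * (τ * L.uel p)) ∈ L.Bset τ := by
  have h1 := H.iel_rep p
  have h2 := hτ.mul (Rep.e12 L (up p.1.1.1.1.1) (up p.1.1.2.1.1))
  have h3 := h1.mul h2
  have h4 : H.iel p * H.iel p = 1 := H.invol h1 (NF.trace _) (NF.trace _)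
  have t1 := p.1.1.1.2.1
  have t2 := p.1.1.2.2.1
  refine ⟨h4, H.ne_one_of_trace h1 (NF.trace _), H.invol h3 t1 t2, H.ne_one_of_trace h3 t1, L.uel p, ⟨_, _, rfl⟩, ?_⟩
  change H.iel p * (H.iel p * (τ * L.uel p)) = τ * L.uel p
  rw [← mul_assoc, h4, one_mul]

omit [Finite F1] [Finite F2] H in
theorem comm_t_of_pair {i j : G} (hi : i * i = 1) (hj : j * j = 1) (h : t ∈ Subgroup.zpowers (i * j)) (ht : t * t = 1) :
    i * t = t * i ∧ j * t = t * j := by
  have hi' : i⁻¹ = i := inv_eq_of_mul_eq_one_left hi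
  have hj' : j⁻¹ = j := inv_eq_of_mul_eq_one_left hj
  have ht' : t⁻¹ = t := inv_eq_of_mul_eq_one_left ht
  obtain ⟨k, hk⟩ := Subgroup.mem_zpowers_iff.1 h
  have h1 : i * (i * j) * i⁻¹ = (i * j)⁻¹ := by
    rw [_root_.mul_inv_rev, hi', hj', ← mul_assoc, hi, one_mul]
  have h2 : j * (i * j) * j⁻¹ = (i * j)⁻¹ := by
    rw [_root_.mul_inv_rev, hi', hj', mul_assoc, mul_assoc, hj, mul_one]
  constructor
  · have h3 : i * t * i⁻¹ = t := by
      rw [← hk, ← conj_zpow, h1, _root_.inv_zpow, hk, ht']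
    calc i * t = i * t * i⁻¹ * i := by group
      _ = t * i := by rw [h3]
  · have h3 : j * t * j⁻¹ = t := by
      rw [← hk, ← conj_zpow, h2, _root_.inv_zpow, hk, ht']
    calc j * t = j * t * j⁻¹ * j := by group
      _ = t * j := by rw [h3]

omit [Finite F1] [Finite F2] H in
theorem eq_of_sq_one {x : G} (hx : x * x = 1) (h : t ∈ Subgroup.zpowers x) : t = 1 ∨ t = x := by
  obtain ⟨k, hk⟩ := Subgroup.mem_zpowers_iff.1 h
  rcases Int.even_or_odd' k with ⟨m, rfl | rfl⟩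
  · left
    rw [← hk, _root_.zpow_mul]
    have : x ^ (2 : ℤ) = 1 := by
      rw [zpow_two]; exact hx
    rw [this, _root_.one_zpow]
  · right
    rw [← hk, _root_.zpow_add, _root_.zpow_mul]
    have : x ^ (2 : ℤ) = 1 := by
      rw [zpow_two]; exact hx
    rw [this, _root_.one_zpow, one_mul, _root_.zpow_one]

theorem Hyp.pair_surj [Finite G] {τ : G} (hτ : L.Rep τ A B) (hA : A * dg F1 = dg F1 * A) (hB : B * dg F2 = dg F2 * B)
    (ht : t ∈ Subgroup.zpowers τ) {x : G × G} (hx : x ∈ L.Bset τ) :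
    ∃ p : Tot A B × Bool, (H.iel p, H.iel p * (τ * L.uel p)) = x := by
  obtain ⟨i, j⟩ := x
  obtain ⟨hi, hi1, hj, hj1, u, hu, hij⟩ := hx
  simp only at hi hi1 hj hj1 hij
  have htor : τ ∈ L.tor (dg F1) (dg F2) := ⟨A, B, hτ, hA, hB⟩
  have h1 : t ∈ Subgroup.zpowers (i * j) := by
    rw [hij]; exact H.t_mem_zpowers htor hu ht
  obtain ⟨hit, hjt⟩ := comm_t_of_pair hi hj h1 L.t_sq
  have hxt : ∀ k : G, k * t = t * k → (i * j) * (i * j) = 1 → i * j = t := by
    intro k _ h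
    rcases eq_of_sq_one h h1 with h3 | h3
    · exact absurd h3 H.t_ne_one
    · exact h3.symm
  have hit' : i ≠ t := by
    intro h
    have h3 : (i * j) * (i * j) = 1 := by
      rw [h]
      calc t * j * (t * j) = t * (j * t) * j := by group
        _ = (t * t) * (j * j) := by rw [hjt]; group
        _ = 1 := by rw [L.t_sq, hj, one_mul]
    have h4 := hxt 1 (by simp) h3
    rw [h] at h4
    exact hj1 (mul_left_cancel (h4.trans (mul_one t).symm))
  have hjt' : j ≠ t := by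
    intro h
    have h3 : (i * j) * (i * j) = 1 := by
      rw [h]
      calc i * t * (i * t) = i * (t * i) * t := by group
        _ = (i * i) * (t * t) := by rw [← hit]; group
        _ = 1 := by rw [L.t_sq, hi, one_mul]
    have h4 := hxt 1 (by simp) h3
    rw [h] at h4
    exact hi1 (mul_right_cancel (h4.trans (one_mul t).symm))
  obtain ⟨D1, D2, hr, hD1, hD2⟩ := H.rep_of_invol hit hi hi1 hit'
  obtain ⟨E1, E2, hr', hE1, hE2⟩ := H.rep_of_invol hjt hj hj1 hjt'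
  obtain ⟨n1, c1, hc1, hn1⟩ := NF.exists_of hD1 hr.det1
  obtain ⟨n2, c2, hc2, hn2⟩ := NF.exists_of hD2 hr.det2
  have hR : L.Rep i n1.mat n2.mat := by
    have := hr.smul (inv_ne_zero hc1) (inv_ne_zero hc2)
    rw [hn1, hn2, smul_smul, smul_smul, inv_mul_cancel₀ hc1, inv_mul_cancel₀ hc2, one_smul, one_smul] at this
    exact this
  obtain ⟨s1, s2, rfl⟩ := hu
  have hj2 : j = i * (τ * (L.e1 (up s1) * L.e2 (up s2))) := by
    rw [← hij, ← mul_assoc, hi, one_mul]
  have hR2 := hR.mul (hτ.mul (Rep.e12 L (up s1) (up s2)))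
  rw [← hj2] at hR2
  obtain ⟨⟨a, ha, ha'⟩, ⟨b, hb, hb'⟩⟩ := hr'.prop hR2
  have tr1 : (n1.mat * (A * ((up s1 : SL2 F1) : M2 F1))).trace = 0 := by
    rw [ha', Matrix.trace_smul, hE1, smul_zero]
  have tr2 : (n2.mat * (B * ((up s2 : SL2 F2) : M2 F2))).trace = 0 := by
    rw [hb', Matrix.trace_smul, hE2, smul_zero]
  let P : Tot A B := ⟨(⟨(s1, n1), tr1, hR.det1⟩, ⟨(s2, n2), tr2, hR.det2⟩), H.square_iff _ _ _ hR⟩
  have hP : L.Rep (H.cel P) n1.mat n2.mat := H.cel_rep P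
  have key : ∃ b : Bool, H.iel (P, b) = i := by
    rcases hP.unique hR (one_smul _ _).symm (one_smul _ _).symm with h | h
    · exact ⟨false, by unfold Hyp.iel; simp [h]⟩
    · exact ⟨true, by unfold Hyp.iel; simp [h]⟩
  obtain ⟨b, hb⟩ := key
  refine ⟨(P, b), ?_⟩
  apply Prod.ext
  · exact hb
  · change H.iel (P, b) * (τ * (L.e1 (up s1) * L.e2 (up s2))) = j
    rw [hb, hj2]

/-- the number of pairs -/
theorem Hyp.card_Bset [Finite G] {τ : G} (hτ : L.Rep τ A B) (hA : A * dg F1 = dg F1 * A) (hB : B * dg F2 = dg F2 * B)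
    (ht : t ∈ Subgroup.zpowers τ) : Nat.card (L.Bset τ) = 2 * Nat.card (Tot A B) := by
  have e : (Tot A B × Bool) ≃ L.Bset τ :=
    Equiv.ofBijective (fun p => ⟨(H.iel p, H.iel p * (τ * L.uel p)), H.pair_mem hτ p⟩)
      ⟨fun p p' h => H.pair_inj τ (congrArg Subtype.val h),
        fun x => by
          obtain ⟨p, hp⟩ := H.pair_surj hτ hA hB ht x.2
          exact ⟨p, Subtype.ext hp⟩⟩
  rw [← Nat.card_congr e, Nat.card_prod, mul_comm]
  simp

omit H [Finite F1] [Finite F2] in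
theorem scalar_of_diag {F : Type*} [Field F] {A : M2 F} (h : A 0 1 = 0 ∧ A 1 0 = 0) (h' : A 0 0 = A 1 1) :
    A = (A 0 0) • (1 : M2 F) := by
  rw [m2_eq_iff]
  simp [h.1, h.2, h']

omit H [Finite F1] [Finite F2] in
theorem sl_of_scalar {F : Type*} [Field F] {A : M2 F} {x : SL2 F} {a c : F} (ha : a ≠ 0) (h : A = a • (x : M2 F))
    (h' : A = c • (1 : M2 F)) : x = 1 ∨ x = -1 := by
  have h1 : (x : M2 F) = (a⁻¹ * c) • (1 : M2 F) := by
    rw [← smul_smul, ← h', h, smul_smul, inv_mul_cancel₀ ha, one_smul]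
  have h2 := sl_coe_det x
  rw [h1, det_smul2, det_one2, mul_one] at h2
  rcases mul_self_eq_one_iff.1 h2 with h3 | h3
  · left
    apply Subtype.ext
    change (x : M2 F) = _
    rw [h1, h3, one_smul]
    rfl
  · right
    apply Subtype.ext
    change (x : M2 F) = _
    rw [h1, h3, Matrix.SpecialLinearGroup.coe_neg, Matrix.SpecialLinearGroup.coe_one, neg_one_smul]

theorem Hyp.mem_tor2_iff' {τ : G} (hr : L.Rep τ A B) (hA : A 0 1 = 0 ∧ A 1 0 = 0) (hB : B * dg F2 = dg F2 * B)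
    (hA0 : A 0 0 ≠ 0) : τ ∈ L.tor2 (dg F2) ↔ A 0 0 = A 1 1 := by
  constructor
  · rintro ⟨y, hy, rfl⟩
    obtain ⟨⟨a, ha, ha'⟩, -⟩ := (Rep.e2 L y).prop hr
    rw [ha']; simp
  · intro h
    have h1 := scalar_of_diag hA h
    have h2 : IsSquare A.det := by rw [h1]; exact isSquare_det_scalar _
    obtain ⟨x, y, a, b, ha, hb, hx, hy, hc⟩ := hr.inner h2 ((H.square_iff _ _ _ hr).1 h2)
    have hyd : (y : M2 F2) * dg F2 = dg F2 * y := by
      rw [hy] at hB
      rw [Matrix.smul_mul, Matrix.mul_smul] at hB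
      exact smul_cancel hb hB
    rcases sl_of_scalar ha hx h1 with rfl | rfl
    · exact ⟨y, hyd, by rw [hc, map_one, one_mul]⟩
    · refine ⟨-y, ?_, ?_⟩
      · rw [Matrix.SpecialLinearGroup.coe_neg, neg_mul, mul_neg, hyd]
      · rw [hc, L.neg1, Rep.e2_neg, e2_t]

theorem Hyp.mem_tor1_iff' {τ : G} (hr : L.Rep τ A B) (hB : B 0 1 = 0 ∧ B 1 0 = 0) (hA : A * dg F1 = dg F1 * A)
    (hB0 : B 0 0 ≠ 0) : τ ∈ L.tor1 (dg F1) ↔ B 0 0 = B 1 1 := by
  constructor
  · rintro ⟨x, hx, rfl⟩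
    obtain ⟨-, ⟨b, hb, hb'⟩⟩ := (Rep.e1 L x).prop hr
    rw [hb']; simp
  · intro h
    have h1 := scalar_of_diag hB h
    have h2 : IsSquare B.det := by rw [h1]; exact isSquare_det_scalar _
    obtain ⟨x, y, a, b, ha, hb, hx, hy, hc⟩ := hr.inner ((H.square_iff _ _ _ hr).2 h2) h2
    have hxd : (x : M2 F1) * dg F1 = dg F1 * x := by
      rw [hx] at hA
      rw [Matrix.smul_mul, Matrix.mul_smul] at hA
      exact smul_cancel ha hA
    rcases sl_of_scalar hb hy h1 with rfl | rfl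
    · exact ⟨x, hxd, by rw [hc, map_one, mul_one]⟩
    · refine ⟨-x, ?_, ?_⟩
      · rw [Matrix.SpecialLinearGroup.coe_neg, neg_mul, mul_neg, hxd]
      · rw [hc, L.neg2, Rep.e1_neg]

open Classical in
/-- (BAV): the number of pairs of involutions with product in `τ P` -/
theorem Hyp.bav [Finite G] (hε : IsSquare (-1 : F1) ↔ IsSquare (-1 : F2)) {τ : G} (hτ : τ ∈ L.tor (dg F1) (dg F2))
    (ht : t ∈ Subgroup.zpowers τ) :
    Nat.card (L.Bset τ) = Nat.card F1 * Nat.card F2 *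
      ((Nat.card F1 - 1) * (Nat.card F2 - 1) +
        (if τ ∈ L.tor2 (dg F2) then Nat.card F1 * (Nat.card F2 - 1) else 0) +
        (if τ ∈ L.tor1 (dg F1) then Nat.card F2 * (Nat.card F1 - 1) else 0) +
        (if τ ∈ L.tor2 (dg F2) ∧ τ ∈ L.tor1 (dg F1) then 2 * Nat.card F1 * Nat.card F2 else 0)) := by
  obtain ⟨A, B, hr, hA, hB⟩ := hτ
  have hA' := comm_dg H.two_ne1 hA
  have hB' := comm_dg H.two_ne2 hB
  have hdA : A 0 0 * A 1 1 ≠ 0 := by
    have := hr.det1
    rw [Matrix.det_fin_two, hA'.1] at this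
    simpa using this
  have hdB : B 0 0 * B 1 1 ≠ 0 := by
    have := hr.det2
    rw [Matrix.det_fin_two, hB'.1] at this
    simpa using this
  have hA0 : A 0 0 ≠ 0 := left_ne_zero_of_mul hdA
  have hB0 : B 0 0 ≠ 0 := left_ne_zero_of_mul hdB
  have m2 : τ ∈ L.tor2 (dg F2) ↔ A 0 0 = A 1 1 := H.mem_tor2_iff' hr hA' hB hA0
  have m1 : τ ∈ L.tor1 (dg F1) ↔ B 0 0 = B 1 1 := H.mem_tor1_iff' hr hB' hA hB0
  rw [H.card_Bset hr hA hB ht, card_tot, m1, m2]
  have a1 := two_mul_card_dat H.two_ne1 hA'.1 hA'.2 hA0 True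
  have a2 := two_mul_card_dat H.two_ne1 hA'.1 hA'.2 hA0 False
  have b1 := two_mul_card_dat H.two_ne2 hB'.1 hB'.2 hB0 True
  have b2 := two_mul_card_dat H.two_ne2 hB'.1 hB'.2 hB0 False
  simp only [iff_true, iff_false] at a1 a2 b1 b2
  generalize Nat.card (Dat A True) = x1 at *
  generalize Nat.card (Dat A False) = x0 at *
  generalize Nat.card (Dat B True) = y1 at *
  generalize Nat.card (Dat B False) = y0 at *
  generalize Nat.card F1 = p at *
  generalize Nat.card F2 = q at *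
  generalize hp : p - 1 = p' at *
  generalize hq : q - 1 = q' at *
  have key : (2 * x1) * (2 * y1) + (2 * x0) * (2 * y0) = 2 * (p * q *
      (p' * q' +
        (if A 0 0 = A 1 1 then p * q' else 0) +
        (if B 0 0 = B 1 1 then q * p' else 0) +
        (if A 0 0 = A 1 1 ∧ B 0 0 = B 1 1 then 2 * p * q else 0))) := by
    rw [a1, a2, b1, b2]
    by_cases h1 : A 0 0 = A 1 1 <;> by_cases h2 : B 0 0 = B 1 1 <;> by_cases h3 : IsSquare (-1 : F1) <;>
      simp [h1, h2, h3, ← hε] <;> ring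
  have key2 : 2 * (2 * (x1 * y1 + x0 * y0)) = (2 * x1) * (2 * y1) + (2 * x0) * (2 * y0) := by ring
  rw [key] at key2
  exact Nat.eq_of_mul_eq_mul_left (by norm_num) key2

end main

end LocalSL

end Cfsg.Agent.GTwoOdd
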