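import Cfsg.Agent.GTwoOdd.Weyl

/-!
# The Weyl group `D₁₂` of the torus of a four-group

`L.Swap s D1 D2 n1 n2 g`: a frame with an element `g` which swaps `t` and `s`.
`r1 = e1 n1`, `r2 = e2 n2`, `w = r1 r2`, `r1' = g r1 g⁻¹`, `ρ = r1 r1'`, `ρ : t ↦ s ↦ s t ↦ t`.
-/

set_option autoImplicit false

namespace Cfsg.Agent.GTwoOdd

open Matrix

namespace LocalSL

variable {G : Type*} [Group G] {t : G} {F1 F2 : Type*} [Field F1] [Field F2]

/-- a frame with an element `g` which swaps `t` and `s` -/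
structure Swap (L : LocalSL t F1 F2) (s : G) (D1 : M2 F1) (D2 : M2 F2) (n1 : SL2 F1) (n2 : SL2 F2) (g : G) : Prop
    extends toFrame : L.Frame s D1 D2 n1 n2 where
  gt : g * t = s * g
  gs : g * s = t * g

variable [Finite F1] [Finite F2]
  {L : LocalSL t F1 F2} {s : G} {D1 : M2 F1} {D2 : M2 F2} {n1 : SL2 F1} {n2 : SL2 F2}

/-- `r1' = g r1 g⁻¹` -/
def rp (L : LocalSL t F1 F2) (n1 : SL2 F1) (g : G) : G := g * L.e1 n1 * g⁻¹

/-- `ρ = r1 r1'` -/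
def rho (L : LocalSL t F1 F2) (n1 : SL2 F1) (g : G) : G := L.e1 n1 * rp L n1 g

/-- `r2' = g r2 g⁻¹` -/
def rq (L : LocalSL t F1 F2) (n2 : SL2 F2) (g : G) : G := g * L.e2 n2 * g⁻¹

namespace Swap

variable {g : G} (S : L.Swap s D1 D2 n1 n2 g)
include S

theorem r1_t : L.e1 n1 * t = t * L.e1 n1 := e1_t n1
theorem r2_t : L.e2 n2 * t = t * L.e2 n2 := e2_t n2
theorem r1_s : L.e1 n1 * s = s * t * L.e1 n1 := S.toFrame.n1_s
theorem r2_s : L.e2 n2 * s = s * t * L.e2 n2 := S.toFrame.n2_s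

theorem r1_sq : L.e1 n1 * L.e1 n1 = t := by
  rw [← map_mul, S.toFrame.n1_sq, L.neg1]

theorem r2_sq : L.e2 n2 * L.e2 n2 = t := by
  rw [← map_mul, S.toFrame.n2_sq, L.neg2]

theorem rp_sq : rp L n1 g * rp L n1 g = s := by
  unfold rp
  calc g * L.e1 n1 * g⁻¹ * (g * L.e1 n1 * g⁻¹) = g * (L.e1 n1 * L.e1 n1) * g⁻¹ := by group
    _ = s := by rw [S.r1_sq, S.gt]; group

theorem rp_s : rp L n1 g * s = s * rp L n1 g := by
  unfold rp
  have h : g⁻¹ * s = t * g⁻¹ := by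
    calc g⁻¹ * s = g⁻¹ * (s * g) * g⁻¹ := by group
      _ = t * g⁻¹ := by rw [← S.gt]; group
  calc g * L.e1 n1 * g⁻¹ * s = g * (L.e1 n1 * t) * g⁻¹ := by rw [mul_assoc, h]; group
    _ = (g * t) * L.e1 n1 * g⁻¹ := by rw [S.r1_t]; group
    _ = s * (g * L.e1 n1 * g⁻¹) := by rw [S.gt]; group

theorem rp_t : rp L n1 g * t = s * t * rp L n1 g := by
  unfold rp
  have h : g⁻¹ * t = s * g⁻¹ := by
    calc g⁻¹ * t = g⁻¹ * (t * g) * g⁻¹ := by group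
      _ = s * g⁻¹ := by rw [← S.gs]; group
  have hst := S.toFrame.rep.comm
  calc g * L.e1 n1 * g⁻¹ * t = g * (L.e1 n1 * s) * g⁻¹ := by rw [mul_assoc, h]; group
    _ = (g * s) * t * L.e1 n1 * g⁻¹ := by rw [S.r1_s]; group
    _ = t * (g * t) * L.e1 n1 * g⁻¹ := by rw [S.gs]; group
    _ = (s * t) * (g * L.e1 n1 * g⁻¹) := by rw [S.gt, hst]; group

theorem rho_t : rho L n1 g * t = s * rho L n1 g := by
  unfold rho
  calc L.e1 n1 * rp L n1 g * t = L.e1 n1 * (rp L n1 g * t) := by group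
    _ = (L.e1 n1 * s) * t * rp L n1 g := by rw [S.rp_t]; group
    _ = s * t * (L.e1 n1 * t) * rp L n1 g := by rw [S.r1_s]; group
    _ = s * (t * t) * L.e1 n1 * rp L n1 g := by rw [S.r1_t]; group
    _ = s * (L.e1 n1 * rp L n1 g) := by rw [L.t_sq]; group

theorem rho_s : rho L n1 g * s = s * t * rho L n1 g := by
  unfold rho
  calc L.e1 n1 * rp L n1 g * s = L.e1 n1 * (rp L n1 g * s) := by group
    _ = (L.e1 n1 * s) * rp L n1 g := by rw [S.rp_s]; group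
    _ = s * t * (L.e1 n1 * rp L n1 g) := by rw [S.r1_s]; group

theorem g_tor {c : G} (hc : c ∈ L.tor D1 D2) : g * c * g⁻¹ ∈ L.tor D1 D2 :=
  (S.toFrame.swap_tor S.gt S.gs).1 hc

theorem r1_tor {c : G} (hc : c ∈ L.tor D1 D2) : L.e1 n1 * c * (L.e1 n1)⁻¹ ∈ L.tor D1 D2 :=
  (S.toFrame.fix_tor S.r1_t S.r1_s).1 hc

theorem r2_tor {c : G} (hc : c ∈ L.tor D1 D2) : L.e2 n2 * c * (L.e2 n2)⁻¹ ∈ L.tor D1 D2 :=
  (S.toFrame.fix_tor S.r2_t S.r2_s).1 hc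

omit S in
theorem inv_of_conj {H : Subgroup G} [Finite G] {g : G} (h : ∀ c ∈ H, g * c * g⁻¹ ∈ H) {c : G} (hc : c ∈ H) :
    g⁻¹ * c * g ∈ H := by
  have hle : H.map (MulAut.conj g).toMonoidHom ≤ H := by
    rintro _ ⟨x, hx, rfl⟩
    exact h x hx
  have heq : H.map (MulAut.conj g).toMonoidHom = H := by
    apply Subgroup.eq_of_le_of_card_ge hle
    rw [Subgroup.card_map_of_injective (MulAut.conj g).injective]
  rw [← heq] at hc
  obtain ⟨x, hx, rfl⟩ := hc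
  have : g⁻¹ * (MulAut.conj g).toMonoidHom x * g = x := by
    change g⁻¹ * (g * x * g⁻¹) * g = x
    group
  rw [this]
  exact hx

theorem g_tor' {c : G} (hc : c ∈ L.tor D1 D2) : g⁻¹ * c * g ∈ L.tor D1 D2 := by
  rw [S.toFrame.swap_tor S.gt S.gs]
  have : g * (g⁻¹ * c * g) * g⁻¹ = c := by group
  rwa [this]

theorem r1_tor' {c : G} (hc : c ∈ L.tor D1 D2) : (L.e1 n1)⁻¹ * c * L.e1 n1 ∈ L.tor D1 D2 := by
  rw [S.toFrame.fix_tor S.r1_t S.r1_s]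
  have : L.e1 n1 * ((L.e1 n1)⁻¹ * c * L.e1 n1) * (L.e1 n1)⁻¹ = c := by group
  rwa [this]

theorem r2_tor' {c : G} (hc : c ∈ L.tor D1 D2) : (L.e2 n2)⁻¹ * c * L.e2 n2 ∈ L.tor D1 D2 := by
  rw [S.toFrame.fix_tor S.r2_t S.r2_s]
  have : L.e2 n2 * ((L.e2 n2)⁻¹ * c * L.e2 n2) * (L.e2 n2)⁻¹ = c := by group
  rwa [this]

theorem rp_tor {c : G} (hc : c ∈ L.tor D1 D2) : rp L n1 g * c * (rp L n1 g)⁻¹ ∈ L.tor D1 D2 := by
  have h := S.g_tor (S.r1_tor (S.g_tor' hc))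
  have : rp L n1 g * c * (rp L n1 g)⁻¹ = g * (L.e1 n1 * (g⁻¹ * c * g) * (L.e1 n1)⁻¹) * g⁻¹ := by
    unfold rp; group
  rwa [this]

theorem rp_tor' {c : G} (hc : c ∈ L.tor D1 D2) : (rp L n1 g)⁻¹ * c * rp L n1 g ∈ L.tor D1 D2 := by
  have h := S.g_tor (S.r1_tor' (S.g_tor' hc))
  have : (rp L n1 g)⁻¹ * c * rp L n1 g = g * ((L.e1 n1)⁻¹ * (g⁻¹ * c * g) * L.e1 n1) * g⁻¹ := by
    unfold rp; group
  rwa [this]

theorem rho_tor {c : G} (hc : c ∈ L.tor D1 D2) : rho L n1 g * c * (rho L n1 g)⁻¹ ∈ L.tor D1 D2 := by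
  have h := S.r1_tor (S.rp_tor hc)
  have : rho L n1 g * c * (rho L n1 g)⁻¹ = L.e1 n1 * (rp L n1 g * c * (rp L n1 g)⁻¹) * (L.e1 n1)⁻¹ := by
    unfold rho; group
  rwa [this]

theorem rho_tor' {c : G} (hc : c ∈ L.tor D1 D2) : (rho L n1 g)⁻¹ * c * rho L n1 g ∈ L.tor D1 D2 := by
  have h := S.rp_tor' (S.r1_tor' hc)
  have : (rho L n1 g)⁻¹ * c * rho L n1 g = (rp L n1 g)⁻¹ * ((L.e1 n1)⁻¹ * c * L.e1 n1) * rp L n1 g := by
    unfold rho; group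
  rwa [this]

theorem rg_t : L.e1 n1 * g * t = s * t * (L.e1 n1 * g) := by
  calc L.e1 n1 * g * t = L.e1 n1 * s * g := by rw [mul_assoc, S.gt]; group
    _ = _ := by rw [S.r1_s]; group

/-- the frame at `s t` -/
theorem frame3 : (L.conj (L.e1 n1 * g) S.rg_t).Frame t D1 D2 n1 n2 := by
  have h := S.toFrame.conj (L.e1 n1 * g) S.rg_t
  have e : L.e1 n1 * g * s * (L.e1 n1 * g)⁻¹ = t := by
    have h1 : L.e1 n1 * g * s = t * (L.e1 n1 * g) := by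
      calc L.e1 n1 * g * s = L.e1 n1 * t * g := by rw [mul_assoc, S.gs]; group
        _ = _ := by rw [S.r1_t]; group
    rw [h1]; group
  rwa [e] at h

theorem tor3 : (L.conj (L.e1 n1 * g) S.rg_t).tor D1 D2 = L.tor D1 D2 := by
  ext c
  have e : c = (L.e1 n1 * g) * ((L.e1 n1 * g)⁻¹ * c * (L.e1 n1 * g)) * (L.e1 n1 * g)⁻¹ := by group
  constructor
  · intro h
    rw [e, ← conj_tor] at h
    have h2 := S.r1_tor (S.g_tor h)
    have e2 : c = L.e1 n1 * (g * ((L.e1 n1 * g)⁻¹ * c * (L.e1 n1 * g)) * g⁻¹) * (L.e1 n1)⁻¹ := by group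
    rw [e2]; exact h2
  · intro h
    rw [e, ← conj_tor]
    have h2 := S.g_tor' (S.r1_tor' h)
    have e2 : (L.e1 n1 * g)⁻¹ * c * (L.e1 n1 * g) = g⁻¹ * ((L.e1 n1)⁻¹ * c * L.e1 n1) * g := by group
    rw [e2]; exact h2

/-- the braid relation modulo `T` -/
theorem braid : ∃ τ ∈ L.tor D1 D2,
    rp L n1 g * L.e1 n1 * (rp L n1 g)⁻¹ = τ * (L.e1 n1 * rp L n1 g * (L.e1 n1)⁻¹) := by
  have F3 := S.frame3
  -- `k = (r1 g)⁻¹ r1'` centralises `t`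
  have hk : (L.e1 n1 * g)⁻¹ * rp L n1 g * t = t * ((L.e1 n1 * g)⁻¹ * rp L n1 g) := by
    have h1 := S.rg_t
    have h2 := S.rp_t
    calc (L.e1 n1 * g)⁻¹ * rp L n1 g * t = (L.e1 n1 * g)⁻¹ * (rp L n1 g * t) := by group
      _ = (L.e1 n1 * g)⁻¹ * (s * t * (L.e1 n1 * g)) * (L.e1 n1 * g)⁻¹ * rp L n1 g := by rw [h2]; group
      _ = _ := by rw [← h1]; group
  obtain ⟨x, hx⟩ := S.toFrame.hyp.norm1 _ hk n1
  have hy : rp L n1 g * L.e1 n1 * (rp L n1 g)⁻¹ = (L.conj (L.e1 n1 * g) S.rg_t).e1 x := by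
    rw [conj_e1]
    calc rp L n1 g * L.e1 n1 * (rp L n1 g)⁻¹
        = (L.e1 n1 * g) * ((L.e1 n1 * g)⁻¹ * rp L n1 g * L.e1 n1) * (rp L n1 g)⁻¹ := by group
      _ = _ := by rw [hx]; group
  have hsw : (L.conj (L.e1 n1 * g) S.rg_t).e1 x * t = t * (s * t) * (L.conj (L.e1 n1 * g) S.rg_t).e1 x := by
    rw [← hy]
    have hst := S.toFrame.rep.comm
    have h1 : (rp L n1 g)⁻¹ * t = s * t * (rp L n1 g)⁻¹ := by
      have h2 : rp L n1 g * (s * t) = t * rp L n1 g := by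
        calc rp L n1 g * (s * t) = (rp L n1 g * s) * t := by group
          _ = s * (rp L n1 g * t) := by rw [S.rp_s]; group
          _ = (s * s) * t * rp L n1 g := by rw [S.rp_t]; group
          _ = _ := by rw [S.toFrame.ss]; group
      calc (rp L n1 g)⁻¹ * t = (rp L n1 g)⁻¹ * (t * rp L n1 g) * (rp L n1 g)⁻¹ := by group
        _ = _ := by rw [← h2]; group
    calc rp L n1 g * L.e1 n1 * (rp L n1 g)⁻¹ * t
        = rp L n1 g * L.e1 n1 * ((rp L n1 g)⁻¹ * t) := by group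
      _ = rp L n1 g * (L.e1 n1 * s) * t * (rp L n1 g)⁻¹ := by rw [h1]; group
      _ = rp L n1 g * s * t * (L.e1 n1 * t) * (rp L n1 g)⁻¹ := by rw [S.r1_s]; group
      _ = rp L n1 g * s * (t * t) * L.e1 n1 * (rp L n1 g)⁻¹ := by rw [S.r1_t]; group
      _ = (rp L n1 g * s) * L.e1 n1 * (rp L n1 g)⁻¹ := by rw [L.t_sq]; group
      _ = s * (rp L n1 g * L.e1 n1 * (rp L n1 g)⁻¹) := by rw [S.rp_s]; group
      _ = t * (s * t) * (rp L n1 g * L.e1 n1 * (rp L n1 g)⁻¹) := by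
        have : t * (s * t) = s := by rw [hst, ← mul_assoc, L.t_sq, one_mul]
        rw [this]
  obtain ⟨c, hc, hc'⟩ := F3.e1_swap_s hsw
  refine ⟨c, ?_, ?_⟩
  · have := Frame.tor1_le (L.conj (L.e1 n1 * g) S.rg_t) D1 D2 hc
    rwa [S.tor3] at this
  · rw [hy, hc', conj_e1]
    unfold rp
    group

/-- `ρ³` is in `T` -/
theorem rho_cube : rho L n1 g * rho L n1 g * rho L n1 g ∈ L.tor D1 D2 := by
  obtain ⟨τ, hτ, h⟩ := S.braid
  have h1 : rp L n1 g * L.e1 n1 = τ * (L.e1 n1 * rp L n1 g * (L.e1 n1)⁻¹) * rp L n1 g := by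
    rw [← h]; group
  have hinv : (L.e1 n1)⁻¹ = L.e1 n1 * t := by
    rw [inv_eq_iff_mul_eq_one, ← mul_assoc, S.r1_sq, L.t_sq]
  have e : rho L n1 g * rho L n1 g * rho L n1 g = (L.e1 n1 * τ * (L.e1 n1)⁻¹) * s := by
    have hs := S.rp_sq
    have ht := S.r1_sq
    have hst := S.toFrame.rep.comm
    have k1 : (L.e1 n1)⁻¹ * s * L.e1 n1 = s * t := by
      rw [hinv]
      calc L.e1 n1 * t * s * L.e1 n1 = L.e1 n1 * (t * s) * L.e1 n1 := by group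
        _ = (L.e1 n1 * s) * (t * L.e1 n1) := by rw [← hst]; group
        _ = s * t * L.e1 n1 * (L.e1 n1 * t) := by rw [S.r1_s, S.r1_t]
        _ = s * t * (L.e1 n1 * L.e1 n1) * t := by group
        _ = s * t := by
          rw [ht, mul_assoc (s * t), L.t_sq, mul_one]
    have k2 : rp L n1 g * (s * t) * rp L n1 g = s * t * s * s := by
      calc rp L n1 g * (s * t) * rp L n1 g = (rp L n1 g * s) * t * rp L n1 g := by group
        _ = s * (rp L n1 g * t) * rp L n1 g := by rw [S.rp_s]; group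
        _ = s * (s * t) * (rp L n1 g * rp L n1 g) := by rw [S.rp_t]; group
        _ = s * t * s * s := by
          rw [hs]
          calc s * (s * t) * s = (s * s) * t * s := by group
            _ = t * s := by rw [S.toFrame.ss, one_mul]
            _ = s * t := hst.symm
            _ = s * t * (s * s) := by rw [S.toFrame.ss, mul_one]
            _ = _ := by group
    calc rho L n1 g * rho L n1 g * rho L n1 g
        = L.e1 n1 * (rp L n1 g * L.e1 n1) * rp L n1 g * L.e1 n1 * rp L n1 g := by unfold rho; group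
      _ = (L.e1 n1 * τ * (L.e1 n1)⁻¹) * (L.e1 n1 * L.e1 n1) * rp L n1 g *
          ((L.e1 n1)⁻¹ * (rp L n1 g * rp L n1 g) * L.e1 n1) * rp L n1 g := by rw [h1]; group
      _ = (L.e1 n1 * τ * (L.e1 n1)⁻¹) * (t * (rp L n1 g * (s * t) * rp L n1 g)) := by rw [ht, hs, k1]; group
      _ = (L.e1 n1 * τ * (L.e1 n1)⁻¹) * s := by
        congr 1
        rw [k2]
        calc t * (s * t * s * s) = (t * s) * t * (s * s) := by group
          _ = s * (t * t) * (s * s) := by rw [← hst]; group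
          _ = s := by rw [L.t_sq, S.toFrame.ss, mul_one, mul_one]
  rw [e]
  exact mul_mem (S.r1_tor hτ) S.toFrame.s_mem

/-- `r1 ρ r1⁻¹ = ρ⁻¹` modulo `T` -/
theorem r1_rho : L.e1 n1 * rho L n1 g * (L.e1 n1)⁻¹ * rho L n1 g = t * s := by
  unfold rho
  calc L.e1 n1 * (L.e1 n1 * rp L n1 g) * (L.e1 n1)⁻¹ * (L.e1 n1 * rp L n1 g)
      = (L.e1 n1 * L.e1 n1) * (rp L n1 g * rp L n1 g) := by group
    _ = t * s := by rw [S.r1_sq, S.rp_sq]

/-- `g w g⁻¹ = w` modulo `T` -/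
theorem w_g : ∃ τ ∈ L.tor D1 D2, g * (L.e1 n1 * L.e2 n2) * g⁻¹ = τ * (L.e1 n1 * L.e2 n2) := by
  have hw : g * (L.e1 n1 * L.e2 n2) * g⁻¹ ∉ L.tor D1 D2 := by
    rw [← S.toFrame.swap_tor S.gt S.gs]
    exact S.toFrame.w_not_mem
  have gt' : g⁻¹ * t = s * g⁻¹ := by
    calc g⁻¹ * t = g⁻¹ * (t * g) * g⁻¹ := by group
      _ = s * g⁻¹ := by rw [← S.gs]; group
  have gs' : g⁻¹ * s = t * g⁻¹ := by
    calc g⁻¹ * s = g⁻¹ * (s * g) * g⁻¹ := by group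
      _ = t * g⁻¹ := by rw [← S.gt]; group
  have h1 : g * (L.e1 n1 * L.e2 n2) * g⁻¹ * t = t * (g * (L.e1 n1 * L.e2 n2) * g⁻¹) := by
    calc g * (L.e1 n1 * L.e2 n2) * g⁻¹ * t = g * (L.e1 n1 * L.e2 n2 * s) * g⁻¹ := by
          rw [mul_assoc, gt']; group
      _ = g * s * (L.e1 n1 * L.e2 n2) * g⁻¹ := by rw [S.toFrame.w_s]; group
      _ = _ := by rw [S.gs]; group
  have h2 : g * (L.e1 n1 * L.e2 n2) * g⁻¹ * s = s * (g * (L.e1 n1 * L.e2 n2) * g⁻¹) := by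
    calc g * (L.e1 n1 * L.e2 n2) * g⁻¹ * s = g * (L.e1 n1 * L.e2 n2 * t) * g⁻¹ := by
          rw [mul_assoc, gs']; group
      _ = g * t * (L.e1 n1 * L.e2 n2) * g⁻¹ := by rw [S.toFrame.w_t]; group
      _ = _ := by rw [S.gt]; group
  have h3 : g * (L.e1 n1 * L.e2 n2) * g⁻¹ * (g * (L.e1 n1 * L.e2 n2) * g⁻¹) = 1 := by
    calc g * (L.e1 n1 * L.e2 n2) * g⁻¹ * (g * (L.e1 n1 * L.e2 n2) * g⁻¹)
        = g * ((L.e1 n1 * L.e2 n2) * (L.e1 n1 * L.e2 n2)) * g⁻¹ := by group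
      _ = 1 := by rw [S.toFrame.ww]; group
  rcases S.toFrame.invol_mem h1 h2 h3 with h | h
  · exact absurd h hw
  · refine ⟨_, h, ?_⟩
    rw [mul_assoc (g * (L.e1 n1 * L.e2 n2) * g⁻¹), S.toFrame.ww, mul_one]

end Swap

end LocalSL

end Cfsg.Agent.GTwoOdd
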