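import Cfsg.Agent.GTwoOdd.BridgeField
import Cfsg.Agent.GTwoOdd.Setup

/-!
# The action on a normal subgroup `SL(2,F)`
-/

set_option autoImplicit false

namespace Cfsg.Agent.GTwoOdd.BridgeAct

open Matrix Subgroup Cfsg.Agent.Lib.SL2Mat Cfsg.Agent.Lib.AutSL2Out

variable {X : Type*} [Group X] {F : Type*} [Field F]

/-- the embedding of `SL(2,F)` -/
def emb (L : Subgroup X) (e : L ≃* SL2 F) : SL2 F →* X := L.subtype.comp e.symm.toMonoidHom

/-- the action of the group on `SL(2,F)` -/
def act (L : Subgroup X) [L.Normal] (e : L ≃* SL2 F) : X →* MulAut (SL2 F) :=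
  (MulAut.congr e).toMonoidHom.comp (MulAut.conjNormal (H := L))

theorem emb_apply (L : Subgroup X) (e : L ≃* SL2 F) (x : SL2 F) : emb L e x = (e.symm x : X) := rfl

theorem emb_inj (L : Subgroup X) (e : L ≃* SL2 F) : Function.Injective (emb L e) :=
  L.subtype_injective.comp e.symm.injective

theorem emb_mem (L : Subgroup X) (e : L ≃* SL2 F) (x : SL2 F) : emb L e x ∈ L := (e.symm x).2

theorem exists_emb (L : Subgroup X) (e : L ≃* SL2 F) {y : X} (hy : y ∈ L) : ∃ x, emb L e x = y :=
  ⟨e ⟨y, hy⟩, by rw [emb_apply, MulEquiv.symm_apply_apply]⟩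

variable (L : Subgroup X) [L.Normal] (e : L ≃* SL2 F)

theorem emb_act (c : X) (x : SL2 F) : emb L e (act L e c x) = c * emb L e x * c⁻¹ := by
  have h1 : act L e c x = e (MulAut.conjNormal c (e.symm x)) := rfl
  rw [h1, emb_apply, MulEquiv.symm_apply_apply, MulAut.conjNormal_apply]
  rfl

theorem act_eq_iff {c : X} {x y : SL2 F} : act L e c x = y ↔ c * emb L e x * c⁻¹ = emb L e y := by
  rw [← emb_act]
  exact (emb_inj L e).eq_iff.symm

theorem acts_of_act {c : X} {g : GL (Fin 2) F} (h : act L e c = conjGL g) : Acts (emb L e) c g.1 := by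
  refine ⟨(Matrix.GeneralLinearGroup.det g).ne_zero, fun x y hxy => ?_⟩
  have h1 : act L e c x = y := by
    rw [h]
    apply Subtype.ext
    rw [conjGL_val, ← hxy, Matrix.mul_assoc, show g.1 * g⁻¹.1 = 1 from Units.mul_inv g, Matrix.mul_one]
  rw [act_eq_iff] at h1
  rw [← h1]
  group

theorem act_of_acts {c : X} {A : M2 F} (h : Acts (emb L e) c A) : ∃ g : GL (Fin 2) F, act L e c = conjGL g := by
  refine ⟨Matrix.GeneralLinearGroup.mkOfDetNeZero A h.1, ?_⟩
  apply MulEquiv.ext
  intro x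
  rw [act_eq_iff]
  set g := Matrix.GeneralLinearGroup.mkOfDetNeZero A h.1 with hg
  have h1 : ((conjGL g x : SL2 F) : M2 F) * A = A * x := by
    have h2 : ((conjGL g x : SL2 F) : M2 F) = g.1 * x.1 * g⁻¹.1 := conjGL_val g x
    have h3 : A = g.1 := rfl
    rw [h2, h3, Matrix.mul_assoc, inv_val_mul_val, Matrix.mul_one]
  rw [h.2 x _ h1]
  group

theorem acts_iff {c : X} : (∃ A, Acts (emb L e) c A) ↔ act L e c ∈ (conjGL (F := F)).range := by
  constructor
  · rintro ⟨A, h⟩
    obtain ⟨g, hg⟩ := act_of_acts L e h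
    exact ⟨g, hg.symm⟩
  · rintro ⟨g, hg⟩
    exact ⟨g.1, acts_of_act L e hg.symm⟩

/-- the subgroup of the elements which act as conjugations by matrices -/
def C0 : Subgroup X := (conjGL (F := F)).range.comap (act L e)

theorem mem_C0 {c : X} : c ∈ C0 L e ↔ ∃ A, Acts (emb L e) c A := (acts_iff L e).symm

theorem le_C0 : L ≤ C0 L e := by
  intro y hy
  obtain ⟨x, rfl⟩ := exists_emb L e hy
  exact (mem_C0 L e).2 ⟨x, Acts.self x⟩

theorem mem_C0_of_comm {c : X} (h : ∀ y ∈ L, c * y = y * c) : c ∈ C0 L e :=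
  (mem_C0 L e).2 ⟨1, Acts.of_comm fun x => h _ (emb_mem L e x)⟩

/-- if the elements of a Sylow 2-subgroup and of the commutator subgroup act as matrices, an element whose square acts
as a matrix acts as a matrix -/
theorem mem_C0_of_sq [Finite X] (P : Sylow 2 X) (hP : (P : Subgroup X) ≤ C0 L e) (hc : commutator X ≤ C0 L e) {c : X}
    (h : c * c ∈ C0 L e) : c ∈ C0 L e := by
  have hn : (C0 L e).Normal := by
    refine ⟨fun n hn g => ?_⟩
    have h1 : g * n * g⁻¹ * n⁻¹ ∈ C0 L e := by
      apply hc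
      rw [← commutatorElement_def, commutator_def]
      exact commutator_mem_commutator (mem_top _) (mem_top _)
    have h2 : g * n * g⁻¹ = (g * n * g⁻¹ * n⁻¹) * n := by group
    rw [h2]
    exact mul_mem h1 hn
  have hi : Odd (C0 L e).index := by
    rw [← Nat.not_even_iff_odd, even_iff_two_dvd]
    intro h2
    exact P.not_dvd_index (h2.trans (Subgroup.index_dvd_of_le hP))
  obtain ⟨j, hj⟩ := hi
  have h1 := Subgroup.pow_index_mem (C0 L e) c
  rw [hj, pow_succ, pow_mul, pow_two] at h1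
  exact (mul_mem_cancel_left (pow_mem h j)).1 h1

omit [L.Normal] in
/-- `L` has an element of order 2 only if it is `- 1` -/
theorem emb_neg_one (h2 : (2 : F) ≠ 0) {t : X} (ht : t ∈ L) (ht2 : t * t = 1) (ht1 : t ≠ 1) : emb L e (-1) = t := by
  obtain ⟨x, rfl⟩ := exists_emb L e ht
  rw [← map_mul] at ht2
  have h3 : x * x = 1 := emb_inj L e (by rw [ht2, map_one])
  have h4 : x ≠ 1 := by rintro rfl; exact ht1 (map_one _)
  have h5 := m2_sq (x : M2 F)
  rw [← Matrix.SpecialLinearGroup.coe_mul, h3, sl_coe_det, one_smul, Matrix.SpecialLinearGroup.coe_one] at h5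
  have h6 : (x : M2 F).trace • (x : M2 F) = (2 : F) • (1 : M2 F) := by
    rw [two_smul]
    exact (eq_sub_iff_add_eq.1 h5).symm
  have h7 : (x : M2 F).trace ≠ 0 := by
    intro h8
    rw [h8, zero_smul] at h6
    have h9 := congrArg (fun B : M2 F => B 0 0) h6
    simp only [Matrix.zero_apply, Matrix.smul_apply, Matrix.one_apply_eq, smul_eq_mul, mul_one] at h9
    exact h2 h9.symm
  have h8 : (x : M2 F) = ((x : M2 F).trace⁻¹ * 2) • (1 : M2 F) := by
    rw [← smul_smul, ← h6, smul_smul, inv_mul_cancel₀ h7, one_smul]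
  set b := (x : M2 F).trace⁻¹ * 2 with hb
  have h9 : b * b = 1 := by
    have h10 := sl_coe_det x
    rw [h8, det_smul2, Matrix.det_one, mul_one] at h10
    exact h10
  rcases mul_self_eq_one_iff.1 h9 with h10 | h10
  · exfalso
    apply h4
    apply Subtype.ext
    rw [h8, h10, one_smul]
    rfl
  · congr 1
    apply Subtype.ext
    rw [h8, h10, neg_smul, one_smul]
    rfl

end Cfsg.Agent.GTwoOdd.BridgeAct
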