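import Cfsg.Agent.GTwoOdd.BridgeAct
import Cfsg.Agent.ClassificationK.GTwoConfBasic
import Cfsg.Agent.ClassificationK.GTwoFactorBasic
import Cfsg.Agent.S0276

/-!
# From the two-subgroup configuration to `LocalSL` and `Hyp`
-/

set_option autoImplicit false

namespace Cfsg.Agent.GTwoOdd.BridgeConf

open Matrix Subgroup QuaternionGroup Cfsg.Agent.ClassificationK Cfsg.Agent.ClassificationK.GTwoConf
open Cfsg.Agent.GTwoOdd.BridgeAct

variable {X : Type*} [Group X] [Finite X] {k : ℕ} {P : Sylow 2 X} {s : X} {φ ψ : QuaternionGroup (2 ^ k) →* X}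

/-- the two normal subgroups -/
structure Pair (φ ψ : QuaternionGroup (2 ^ k) →* X) (L M : Subgroup X) : Prop where
  nL : L.Normal
  nM : M.Normal
  leL : φ.range ≤ L
  leM : ψ.range ≤ M
  comm : ∀ x ∈ L, ∀ y ∈ M, x * y = y * x
  sup : L ⊔ M = commutator X

omit [Finite X] in
theorem Pair.symm {L M : Subgroup X} (hp : Pair φ ψ L M) : Pair ψ φ M L where
  nL := hp.nM
  nM := hp.nL
  leL := hp.leM
  leM := hp.leL
  comm x hx y hy := (hp.comm y hy x hx).symm
  sup := by rw [sup_comm, hp.sup]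

variable {L M : Subgroup X}

/-- `P ⊓ L = φ.range` -/
theorem mem_range (h : Conf k P s φ ψ) (hp : Pair φ ψ L M) {x : X} (hx : x ∈ (P : Subgroup X)) (hL : x ∈ L) :
    x ∈ φ.range := by
  obtain ⟨y, hy⟩ := GTwoConfBasic.mem_range_of_comm h.symm x hx fun u => hp.comm x hL _ (hp.leM ⟨u, rfl⟩)
  exact ⟨y, hy.symm⟩

variable {F : Type*} [Field F] [Finite F]

theorem orderOf_phi (h : Conf k P s φ ψ) : orderOf (φ (a 1)) = 2 ^ (k + 1) := by
  rw [orderOf_injective φ h.inj₁, orderOf_a_one, pow_succ, mul_comm]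

theorem not_dvd (h : Conf k P s φ ψ) (hp : Pair φ ψ L M) (e : L ≃* SL2 F) :
    ¬ 2 ^ (k + 3) ∣ Nat.card F ^ 2 - 1 := by
  have := Fintype.ofFinite F
  have := hp.nL
  have : NeZero (2 ^ k) := ⟨by positivity⟩
  intro hd
  have h1 : Nat.card L = Nat.card F * (Nat.card F ^ 2 - 1) := by
    rw [Nat.card_congr e.toEquiv]
    have := Cfsg.Agent.S0276.card_sl_two (F := F) (q := Nat.card F) Nat.card_eq_fintype_card.symm
    exact this
  have h2 : 2 ^ (k + 3) ∣ Nat.card L := by rw [h1]; exact hd.mul_left _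
  have h3 := Cfsg.Agent.Lib.SylowNormalInf.card_inf_mul_relIndex (P : Subgroup X) L
  have h4 := Cfsg.Agent.Lib.SylowNormalInf.not_dvd_relIndex P L
  have h5 : Nat.card ((P : Subgroup X) ⊓ L : Subgroup X) ∣ 2 ^ (k + 2) := by
    have h6 : (P : Subgroup X) ⊓ L ≤ φ.range := fun x hx => mem_range h hp hx.1 hx.2
    refine (Subgroup.card_dvd_of_le h6).trans ?_
    rw [← Nat.card_congr (MonoidHom.ofInjective h.inj₁).toEquiv, Nat.card_eq_fintype_card, QuaternionGroup.card]
    exact ⟨1, by ring⟩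
  rw [← h3] at h2
  have h6 : Nat.Coprime (2 ^ (k + 3)) ((P : Subgroup X).relIndex L) :=
    Nat.Coprime.pow_left _ ((Nat.Prime.coprime_iff_not_dvd Nat.prime_two).2 h4)
  have h7 := (h6.dvd_of_dvd_mul_right h2).trans h5
  have h8 := Nat.le_of_dvd (by positivity) h7
  have h9 : 2 ^ (k + 2) < 2 ^ (k + 3) := Nat.pow_lt_pow_right (by norm_num) (by omega)
  omega

/-- all elements of `P` act on `L` as conjugations by matrices -/
theorem le_C0 (h : Conf k P s φ ψ) (hp : Pair φ ψ L M) (h2 : (2 : F) ≠ 0) (e : L ≃* SL2 F) [L.Normal] :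
    (P : Subgroup X) ≤ C0 L e := by
  obtain ⟨p, hpc⟩ := CharP.exists F
  have hpp : Fact p.Prime := ⟨CharP.char_is_prime F p⟩
  have hp2 : p ≠ 2 := by
    rintro rfl
    apply h2
    have := CharP.cast_eq_zero F 2
    exact_mod_cast this
  have hs : s ∈ C0 L e := by
    obtain ⟨M0, hM0⟩ := exists_emb L e (hp.leL ⟨a 1, rfl⟩)
    obtain ⟨n, hn⟩ := P.isPGroup' ⟨s, h.s_mem⟩
    have hn' : s ^ (2 ^ n) = 1 := congrArg Subtype.val hn
    obtain ⟨g, hg⟩ := BridgeField.exists_conjGL hp2 (not_dvd h hp e) M0 (by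
      rw [← orderOf_phi h, ← hM0, orderOf_injective (emb L e) (emb_inj L e)]) (act L e s) n (by
      rw [← map_pow, hn', map_one]) (by
      rw [act_eq_iff, hM0]
      exact h.s_a₁ 1)
    exact ⟨g, hg.symm⟩
  intro g hg
  obtain ⟨x, y, e1 | e1⟩ := h.cases g hg
  · rw [e1]
    exact mul_mem (BridgeAct.le_C0 L e (hp.leL ⟨x, rfl⟩))
      (mem_C0_of_comm L e fun z hz => (hp.comm z hz _ (hp.leM ⟨y, rfl⟩)).symm)
  · rw [e1]
    exact mul_mem (mul_mem (BridgeAct.le_C0 L e (hp.leL ⟨x, rfl⟩))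
      (mem_C0_of_comm L e fun z hz => (hp.comm z hz _ (hp.leM ⟨y, rfl⟩)).symm)) hs

omit [Finite F] [Finite X] in
theorem commutator_le_C0 (hp : Pair φ ψ L M) (e : L ≃* SL2 F) [L.Normal] : commutator X ≤ C0 L e := by
  rw [← hp.sup]
  exact sup_le (BridgeAct.le_C0 L e) fun y hy => mem_C0_of_comm L e fun z hz => (hp.comm z hz y hy).symm

/-- no element of `L` acts on `φ.range` as `s` -/
theorem not_acts_s (h : Conf k P s φ ψ) (hp : Pair φ ψ L M) (l : X) (hl : l ∈ L)
    (hc : ∀ u, l * φ u * l⁻¹ = s * φ u * s⁻¹) : False := by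
  have := hp.nL
  set N : Subgroup X := L ⊓ normalizer (φ.range : Set X) with hN
  have hR : φ.range ≤ N := le_inf hp.leL le_normalizer
  have hsn : ∀ u, ∃ v, s * φ u * s⁻¹ = φ v := by
    intro u
    rcases u with i | i
    · exact ⟨_, h.s_a₁ i⟩
    · exact ⟨_, h.s_xa₁ i⟩
  have hlN : l ∈ N := by
    refine ⟨hl, ?_⟩
    have h1 : φ.range.map (MulAut.conj l).toMonoidHom ≤ φ.range := by
      rintro _ ⟨_, ⟨u, rfl⟩, rfl⟩
      obtain ⟨v, hv⟩ := hsn u
      exact ⟨v, by rw [← hv, ← hc]; rfl⟩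
    have h2 : φ.range.map (MulAut.conj l).toMonoidHom = φ.range := by
      refine Subgroup.eq_of_le_of_card_ge h1 (le_of_eq ?_)
      exact (Nat.card_congr (Subgroup.equivMapOfInjective _ _ (MulAut.conj l).injective).toEquiv)
    show l ∈ normalizer (φ.range : Set X)
    rw [mem_normalizer_iff]
    intro x
    constructor
    · intro hx
      have h3 : x ∈ φ.range := hx
      exact h1 ⟨x, h3, rfl⟩
    · intro hx
      have h3 : l * x * l⁻¹ ∈ φ.range.map (MulAut.conj l).toMonoidHom := by rw [h2]; exact hx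
      obtain ⟨y, hy, hy'⟩ := h3
      have h4 : l * y * l⁻¹ = l * x * l⁻¹ := hy'
      have h5 : y = x := by
        have := mul_right_cancel h4
        exact mul_left_cancel this
      rw [← h5]
      exact hy
  have hodd : ¬ 2 ∣ φ.range.relIndex N := by
    intro hd
    apply Cfsg.Agent.Lib.SylowNormalInf.not_dvd_relIndex P L
    have h1 : (P : Subgroup X).relIndex L = ((P : Subgroup X) ⊓ L).relIndex L := by rw [inf_relIndex_right]
    rw [h1]
    have h2 : (P : Subgroup X) ⊓ L ≤ φ.range := fun x hx => mem_range h hp hx.1 hx.2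
    have h3 : φ.range.relIndex L ∣ ((P : Subgroup X) ⊓ L).relIndex L := relIndex_dvd_of_le_left L h2
    refine dvd_trans ?_ h3
    rw [← relIndex_mul_relIndex φ.range N L hR inf_le_left]
    exact hd.mul_right _
  have hnorm : (φ.range.subgroupOf N).Normal := by
    refine ⟨fun n hn g => ?_⟩
    rw [mem_subgroupOf] at hn ⊢
    exact (mem_normalizer_iff.1 g.2.2 _).1 hn
  have h1 := pow_index_mem (φ.range.subgroupOf N) (⟨l, hlN⟩ : N)
  rw [mem_subgroupOf] at h1
  set m := (φ.range.subgroupOf N).index with hm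
  have hmo : ¬ 2 ∣ m := hodd
  obtain ⟨u, hu⟩ := h1
  have hu' : φ u = l ^ m := hu
  have hpow : ∀ j : ℕ, l ^ j * φ (xa 0) * (l ^ j)⁻¹ = φ (xa (-(j : ZMod (2 * 2 ^ k)))) := by
    intro j
    induction j with
    | zero => simp
    | succ j ih =>
      have e1 : l ^ (j + 1) * φ (xa 0) * (l ^ (j + 1))⁻¹ = l * (l ^ j * φ (xa 0) * (l ^ j)⁻¹) * l⁻¹ := by
        rw [pow_succ']
        group
      rw [e1, ih, hc, h.s_xa₁]
      congr 2
      push_cast
      ring
  have h3 := hpow m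
  obtain ⟨j', h4, h5⟩ := GTwoConfBasic.conj_par u 0
  have h6 : φ (xa j') = φ (xa (-(m : ZMod (2 * 2 ^ k)))) := by
    rw [← h3, ← hu', ← h4, map_mul, map_mul, map_inv]
  have h7 : (xa j' : QuaternionGroup (2 ^ k)) = xa (-(m : ZMod (2 * 2 ^ k))) := h.inj₁ h6
  have h8 : j' = -(m : ZMod (2 * 2 ^ k)) := by injection h7
  rw [h8, map_zero, map_neg, neg_eq_zero, GTwoModel.par_natCast, ZMod.natCast_eq_zero_iff] at h5
  exact hmo h5

end Cfsg.Agent.GTwoOdd.BridgeConf
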