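import Cfsg.Agent.GTwoOdd.Calc

/-!
# Matrices of trace zero
-/

set_option autoImplicit false

namespace Cfsg.Agent.GTwoOdd

open Matrix

section

variable {F : Type*} [Field F]

/-- the entries of a matrix of trace `0` -/
theorem trace_zero_iff {D : M2 F} : D.trace = 0 ↔ D 1 1 = - D 0 0 := by
  rw [Matrix.trace_fin_two]
  constructor
  · intro h; linear_combination h
  · intro h; rw [h]; ring

theorem m2_mul_00 (A B : M2 F) : (A * B) 0 0 = A 0 0 * B 0 0 + A 0 1 * B 1 0 := by
  simp [Matrix.mul_apply, Fin.sum_univ_two]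
theorem m2_mul_01 (A B : M2 F) : (A * B) 0 1 = A 0 0 * B 0 1 + A 0 1 * B 1 1 := by
  simp [Matrix.mul_apply, Fin.sum_univ_two]
theorem m2_mul_10 (A B : M2 F) : (A * B) 1 0 = A 1 0 * B 0 0 + A 1 1 * B 1 0 := by
  simp [Matrix.mul_apply, Fin.sum_univ_two]
theorem m2_mul_11 (A B : M2 F) : (A * B) 1 1 = A 1 0 * B 0 1 + A 1 1 * B 1 1 := by
  simp [Matrix.mul_apply, Fin.sum_univ_two]

theorem m2_eq_iff {A B : M2 F} : A = B ↔ A 0 0 = B 0 0 ∧ A 0 1 = B 0 1 ∧ A 1 0 = B 1 0 ∧ A 1 1 = B 1 1 := by
  constructor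
  · rintro rfl
    exact ⟨rfl, rfl, rfl, rfl⟩
  · rintro ⟨h1, h2, h3, h4⟩
    exact m2_ext h1 h2 h3 h4

/-- `A + adj A = tr A` -/
theorem add_adjugate (A : M2 F) : A + A.adjugate = A.trace • (1 : M2 F) := by
  rw [Matrix.adjugate_fin_two]
  apply m2_ext <;> simp [Matrix.trace_fin_two] <;> ring

theorem adjugate_eq (A : M2 F) : A.adjugate = A.trace • (1 : M2 F) - A := by
  rw [← add_adjugate A]; simp

theorem adjugate_of_trace {D : M2 F} (h : D.trace = 0) : D.adjugate = -D := by
  rw [adjugate_eq, h]; simp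

theorem sl_inv_coe (x : SL2 F) : ((x⁻¹ : SL2 F) : M2 F) = (x : M2 F).adjugate := by
  rw [Matrix.SpecialLinearGroup.coe_inv]

/-- the trace of an anticommuting matrix is `0` -/
theorem trace_of_anti (h2 : (2 : F) ≠ 0) {N D : M2 F} (hD : D.det ≠ 0) (h : N * D = -(D * N)) : N.trace = 0 := by
  have h1 : N.trace = (D.adjugate * (D * N)).trace * (D.det)⁻¹ := by
    rw [← mul_assoc, Matrix.adjugate_mul]
    simp [Matrix.trace_smul]
    field_simp
  have h3 : (D.adjugate * (D * N)).trace = - (D.adjugate * (N * D)).trace := by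
    rw [h]; simp
  have h4 : (D.adjugate * (N * D)).trace = (D.adjugate * (D * N)).trace := by
    rw [Matrix.trace_mul_comm, mul_assoc, Matrix.mul_adjugate, ← mul_assoc D.adjugate, Matrix.adjugate_mul]
    simp
  have h5 : 2 * N.trace = 0 := by
    have : N.trace = - N.trace := by
      conv_lhs => rw [h1, h3, h4]
      rw [h1]; ring
    linear_combination this
  exact (mul_eq_zero.1 h5).resolve_left h2

section dd

variable (h2 : (2 : F) ≠ 0) {D : M2 F} (hD : D.det ≠ 0) (ht : D.trace = 0)
include h2 hD ht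

theorem not_scalar (b : F) : D ≠ b • (1 : M2 F) := by
  rintro rfl
  rw [Matrix.trace_fin_two] at ht
  simp at ht
  have : 2 * b = 0 := by linear_combination ht
  rcases mul_eq_zero.1 this with h | h
  · exact h2 h
  · apply hD; rw [h]; simp

omit hD in
theorem not_scalar' (hD' : D ≠ 0) (b : F) : D ≠ b • (1 : M2 F) := by
  rintro rfl
  rw [Matrix.trace_fin_two] at ht
  simp at ht
  have : 2 * b = 0 := by linear_combination ht
  rcases mul_eq_zero.1 this with h | h
  · exact h2 h
  · apply hD'; rw [h]; simp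

/-- the centraliser of `D` -/
theorem cent_form {A : M2 F} (h : A * D = D * A) : ∃ a b : F, A = a • (1 : M2 F) + b • D := by
  have hd := trace_zero_iff.1 ht
  rw [m2_eq_iff] at h
  simp only [m2_mul_00, m2_mul_01, m2_mul_10, m2_mul_11] at h
  obtain ⟨e1, e2, e3, e4⟩ := h
  rw [Matrix.det_fin_two, hd] at hD
  -- write `D = (p q; r -p)`
  have key : ∃ b : F, A 0 1 = b * D 0 1 ∧ A 1 0 = b * D 1 0 ∧ A 0 0 - A 1 1 = 2 * b * D 0 0 := by
    by_cases hq : D 0 1 = 0
    · by_cases hr : D 1 0 = 0
      · have hp : D 0 0 ≠ 0 := by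
          intro hp
          apply hD
          rw [hp, hq]; ring
        refine ⟨(A 0 0 - A 1 1) / (2 * D 0 0), ?_, ?_, ?_⟩
        · rw [hq, mul_zero]
          rw [hq, hd] at e2
          have : 2 * D 0 0 * A 0 1 = 0 := by linear_combination -e2
          simpa [h2, hp] using this
        · rw [hr, mul_zero]
          rw [hr, hd] at e3
          have : 2 * D 0 0 * A 1 0 = 0 := by linear_combination e3
          simpa [h2, hp] using this
        · field_simp
      · refine ⟨A 1 0 / D 1 0, ?_, ?_, ?_⟩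
        · rw [div_mul_eq_mul_div, eq_div_iff hr]
          linear_combination e1
        · field_simp
        · rw [hd] at e3
          field_simp
          linear_combination -e3
    · refine ⟨A 0 1 / D 0 1, ?_, ?_, ?_⟩
      · field_simp
      · rw [div_mul_eq_mul_div, eq_div_iff hq]
        linear_combination -e1
      · rw [hd] at e2
        field_simp
        linear_combination e2
  obtain ⟨b, hb1, hb2, hb3⟩ := key
  refine ⟨A 0 0 - b * D 0 0, b, m2_ext ?_ ?_ ?_ ?_⟩
  · simp
  · simp [hb1]
  · simp [hb2]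
  · simp [hd]
    linear_combination -hb3

theorem cent_comm {A B : M2 F} (hA : A * D = D * A) (hB : B * D = D * B) : A * B = B * A := by
  obtain ⟨a, b, rfl⟩ := cent_form h2 hD ht hA
  obtain ⟨c, d, rfl⟩ := cent_form h2 hD ht hB
  simp only [add_mul, mul_add, Matrix.smul_mul, Matrix.mul_smul, one_mul, mul_one, smul_smul]
  rw [mul_comm a c, mul_comm a d, mul_comm b c, mul_comm b d]
  abel

omit h2 hD in
theorem cent_det (a b : F) : (a • (1 : M2 F) + b • D).det = a * a + D.det * (b * b) := by
  have hd := trace_zero_iff.1 ht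
  simp only [Matrix.det_fin_two]
  simp [hd]
  ring

omit h2 hD in
theorem cent_trace (a b : F) : (a • (1 : M2 F) + b • D).trace = 2 * a := by
  have hd := trace_zero_iff.1 ht
  simp only [Matrix.trace_fin_two]
  simp [hd]
  ring

/-- `N A = adj(A) N` for `N` anticommuting with `D` and `A` commuting with `D` -/
theorem anti_mul {A N : M2 F} (hA : A * D = D * A) (hN : N * D = -(D * N)) : N * A = A.adjugate * N := by
  obtain ⟨a, b, rfl⟩ := cent_form h2 hD ht hA
  rw [adjugate_eq, cent_trace ht]
  simp only [mul_add, add_mul, sub_mul, Matrix.smul_mul, Matrix.mul_smul, one_mul, mul_one, hN, smul_neg]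
  rw [two_mul, add_smul]
  abel

omit hD h2 ht in
theorem comm_of_anti_anti {M N : M2 F} (hM : M * D = -(D * M)) (hN : N * D = -(D * N)) : (M * N) * D = D * (M * N) := by
  rw [mul_assoc, hN, mul_neg, ← mul_assoc, hM]
  simp [mul_assoc]

/-- a matrix normalising `D` up to a scalar commutes or anticommutes with `D` -/
theorem comm_or_anti {A : M2 F} (hA : A.det ≠ 0) {u : F} (h : A * D = u • (D * A)) : A * D = D * A ∨ A * D = -(D * A) := by
  have h1 : A.det * D.det = u * u * (D.det * A.det) := by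
    have := congrArg Matrix.det h
    rw [Matrix.det_mul, det_smul2, Matrix.det_mul] at this
    exact this
  have h3 : u * u = 1 := by
    have h4 : A.det * D.det * (u * u - 1) = 0 := by linear_combination -h1
    rcases mul_eq_zero.1 h4 with h5 | h5
    · exact absurd h5 (mul_ne_zero hA hD)
    · linear_combination h5
  rcases mul_self_eq_one_iff.1 h3 with rfl | rfl
  · left; rw [h, one_smul]
  · right; rw [h, neg_one_smul]

end dd

section finite

variable [Finite F] (h2 : (2 : F) ≠ 0)
include h2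

/-- the norm is surjective on the centraliser of `D` -/
theorem exists_cent_det {D : M2 F} (hD : D.det ≠ 0) (ht : D.trace = 0) (c : F) :
    ∃ A : M2 F, A * D = D * A ∧ A.det = c := by
  obtain ⟨a, b, h⟩ := norm_universal h2 hD c
  refine ⟨a • (1 : M2 F) + b • D, ?_, ?_⟩
  · simp [add_mul, mul_add]
  · rw [cent_det ht]
    exact h

/-- companion matrix -/
theorem exists_companion {D : M2 F} (hD : D.det ≠ 0) (ht : D.trace = 0) :
    ∃ P : M2 F, P.det ≠ 0 ∧ D * P = P * !![0, -D.det; 1, 0] := by
  have hd := trace_zero_iff.1 ht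
  have hdet : D.det = -(D 0 0 * D 0 0) - D 0 1 * D 1 0 := by
    rw [Matrix.det_fin_two, hd]; ring
  by_cases hr : D 1 0 = 0
  · by_cases hq : D 0 1 = 0
    · refine ⟨!![1, D 0 0 + D 0 1; 1, D 1 0 - D 0 0], ?_, ?_⟩
      · rw [Matrix.det_fin_two]
        simp [hr, hq]
        intro h
        have : 2 * D 0 0 = 0 := by linear_combination -h
        rcases mul_eq_zero.1 this with h3 | h3
        · exact h2 h3
        · apply hD; rw [hdet, h3, hr]; ring
      · rw [m2_eq_iff]
        simp only [m2_mul_00, m2_mul_01, m2_mul_10, m2_mul_11, hdet]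
        simp [hr, hq, hd]
    · refine ⟨!![0, D 0 1; 1, -D 0 0], ?_, ?_⟩
      · rw [Matrix.det_fin_two]
        simpa using hq
      · rw [m2_eq_iff]
        simp only [m2_mul_00, m2_mul_01, m2_mul_10, m2_mul_11, hdet]
        simp [hd]
        refine ⟨by ring, by ring⟩
  · refine ⟨!![1, D 0 0; 0, D 1 0], ?_, ?_⟩
    · rw [Matrix.det_fin_two]
      simpa using hr
    · rw [m2_eq_iff]
      simp only [m2_mul_00, m2_mul_01, m2_mul_10, m2_mul_11, hdet]
      simp [hd]
      ring_nf
      simp

/-- matrices of trace `0` with the same determinant are conjugate under `SL(2,F)` -/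
theorem exists_sl_conj {D D' : M2 F} (hD : D.det ≠ 0) (ht : D.trace = 0) (ht' : D'.trace = 0) (h : D'.det = D.det) :
    ∃ P : SL2 F, (P : M2 F) * D = D' * P := by
  have hD' : D'.det ≠ 0 := by rw [h]; exact hD
  obtain ⟨P, hP, hP'⟩ := exists_companion h2 hD ht
  obtain ⟨Q, hQ, hQ'⟩ := exists_companion h2 hD' ht'
  rw [h] at hQ'
  have hR : (Q * P.adjugate) * D = D' * (Q * P.adjugate) := by
    apply cancel_right hP
    have e1 : P.adjugate * (D * P) = P.det • !![0, -D.det; 1, 0] := by
      rw [hP', ← mul_assoc, Matrix.adjugate_mul]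
      simp
    calc Q * P.adjugate * D * P = Q * (P.adjugate * (D * P)) := by simp only [mul_assoc]
      _ = P.det • (Q * !![0, -D.det; 1, 0]) := by rw [e1, Matrix.mul_smul]
      _ = P.det • (D' * Q) := by rw [hQ']
      _ = D' * Q * (P.adjugate * P) := by rw [Matrix.adjugate_mul]; simp
      _ = D' * (Q * P.adjugate) * P := by simp only [mul_assoc]
  have hRd : (Q * P.adjugate).det ≠ 0 := by
    rw [Matrix.det_mul, Matrix.det_adjugate]
    simpa using ⟨hQ, hP⟩
  obtain ⟨A, hA, hA'⟩ := exists_cent_det h2 hD ht ((Q * P.adjugate).det)⁻¹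
  refine ⟨⟨Q * P.adjugate * A, ?_⟩, ?_⟩
  · rw [Matrix.det_mul, hA', mul_inv_cancel₀ hRd]
  · change Q * P.adjugate * A * D = D' * (Q * P.adjugate * A)
    rw [mul_assoc, hA, ← mul_assoc, hR, mul_assoc]

/-- an element of `SL(2,F)` which anticommutes with `D` -/
theorem exists_anti {D : M2 F} (hD : D.det ≠ 0) (ht : D.trace = 0) : ∃ n : SL2 F, (n : M2 F) * D = -(D * n) := by
  have h1 : (-D).det = D.det := by
    rw [Matrix.det_neg]; simp
  have h3 : (-D).trace = 0 := by simp [ht]
  obtain ⟨P, hP⟩ := exists_sl_conj h2 hD ht h3 h1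
  refine ⟨P, ?_⟩
  rw [hP]
  simp

end finite

theorem exists_sl_mul_eq {X Y : M2 F} (h : X.det = Y.det) (hY : Y.det ≠ 0) : ∃ x : SL2 F, (x : M2 F) * Y = X := by
  refine ⟨⟨X * ((Y.det)⁻¹ • Y.adjugate), ?_⟩, ?_⟩
  · rw [Matrix.det_mul, det_smul2, Matrix.det_adjugate, h]
    simp
    field_simp
  · change X * ((Y.det)⁻¹ • Y.adjugate) * Y = X
    rw [mul_assoc, Matrix.smul_mul, Matrix.adjugate_mul, smul_smul, inv_mul_cancel₀ hY]
    simp

section hilbert

variable (h2 : (2 : F) ≠ 0)
include h2

/-- Hilbert 90 -/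
theorem hilbert90 {D : M2 F} (hD : D.det ≠ 0) (ht : D.trace = 0) {x : SL2 F} (hx : (x : M2 F) * D = D * x) :
    ∃ A : M2 F, A * D = D * A ∧ A.det ≠ 0 ∧ A.det • (x : M2 F) = A * A := by
  have hxx := m2_sq (x : M2 F)
  rw [sl_coe_det, one_smul] at hxx
  have hdet : (1 + (x : M2 F)).det = 2 + (x : M2 F).trace := by
    have := sl_coe_det x
    rw [Matrix.det_fin_two] at this ⊢
    rw [Matrix.trace_fin_two]
    simp
    linear_combination this
  by_cases h : 2 + (x : M2 F).trace = 0
  · obtain ⟨a, b, hab⟩ := cent_form h2 hD ht hx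
    have ha : a = -1 := by
      rw [hab, cent_trace ht] at h
      have : 2 * (a + 1) = 0 := by linear_combination h
      rcases mul_eq_zero.1 this with h3 | h3
      · exact absurd h3 h2
      · linear_combination h3
    have hb : b = 0 := by
      have := sl_coe_det x
      rw [hab, cent_det ht, ha] at this
      have h3 : D.det * (b * b) = 0 := by linear_combination this
      rcases mul_eq_zero.1 h3 with h4 | h4
      · exact absurd h4 hD
      · simpa using h4
    refine ⟨D, rfl, hD, ?_⟩
    rw [hab, ha, hb, m2_sq_of_trace ht]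
    simp
  · refine ⟨1 + (x : M2 F), ?_, by rw [hdet]; exact h, ?_⟩
    · rw [add_mul, mul_add, hx]; simp
    · rw [hdet, add_mul, mul_add, mul_add, hxx, add_smul, two_smul]
      simp
      abel

end hilbert

end

end Cfsg.Agent.GTwoOdd
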