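import Cfsg.Agent.Lib.AutSL2Out
import Cfsg.Agent.GTwoOdd.TrZero

/-!
# No field automorphism of 2-power order centralises a large cyclic 2-subgroup of `SL(2,F)`
-/

set_option autoImplicit false

namespace Cfsg.Agent.GTwoOdd.BridgeField

open Matrix Cfsg.Agent.Lib.SL2Mat Cfsg.Agent.Lib.AutSL2Out

variable {F : Type*} [Field F]

/-- an involutory field automorphism is `x ↦ x ^ q₀`, `|F| = q₀²` -/
theorem exists_pow [Finite F] {p : ℕ} [Fact p.Prime] [CharP F p] (τ : F ≃+* F) (h2 : τ * τ = 1) (h1 : τ ≠ 1) :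
    ∃ j : ℕ, (∀ x, τ x = x ^ (p ^ j)) ∧ Nat.card F = (p ^ j) ^ 2 := by
  let _ : Algebra (ZMod p) F := ZMod.algebra F p
  have := Fintype.ofFinite F
  have hcomm : ∀ (ρ : F ≃+* F) (r : ZMod p), ρ (algebraMap (ZMod p) F r) = algebraMap (ZMod p) F r := by
    intro ρ r
    obtain ⟨n, rfl⟩ := ZMod.natCast_zmod_surjective r
    rw [map_natCast, map_natCast]
  let τ' : F ≃ₐ[ZMod p] F := AlgEquiv.ofRingEquiv (f := τ) (hcomm τ)
  obtain ⟨n, hn⟩ := (FiniteField.bijective_frobeniusAlgEquivOfAlgebraic_pow (ZMod p) F).2 τ'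
  have hτ : ∀ x, τ x = x ^ (p ^ (n : ℕ)) := by
    intro x
    have h3 : τ' x = ((FiniteField.frobeniusAlgEquivOfAlgebraic (ZMod p) F) ^ (n : ℕ)) x := by
      rw [← hn]
    have h4 : ((FiniteField.frobeniusAlgEquivOfAlgebraic (ZMod p) F) ^ (n : ℕ)) x = x ^ (p ^ (n : ℕ)) := by
      have h5 := congrFun (FiniteField.coe_frobeniusAlgEquivOfAlgebraic_iterate (ZMod p) F (n : ℕ)) x
      rw [ZMod.card] at h5
      rw [← h5, AlgEquiv.coe_pow]
    exact h3.trans h4
  have hpow : (FiniteField.frobeniusAlgEquivOfAlgebraic (ZMod p) F) ^ (2 * (n : ℕ)) = 1 := by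
    have h3 : (FiniteField.frobeniusAlgEquivOfAlgebraic (ZMod p) F) ^ (n : ℕ) = τ' := hn
    rw [two_mul, pow_add, h3]
    apply AlgEquiv.ext
    intro x
    exact DFunLike.congr_fun h2 x
  have hdvd : Module.finrank (ZMod p) F ∣ 2 * (n : ℕ) := by
    have h3 := orderOf_dvd_of_pow_eq_one hpow
    rwa [FiniteField.orderOf_frobeniusAlgEquivOfAlgebraic (ZMod p) F] at h3
  have hn0 : (n : ℕ) ≠ 0 := by
    intro h0
    apply h1
    ext x
    rw [hτ, h0, pow_zero, pow_one]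
    rfl
  have hlt := n.2
  have hfr : Module.finrank (ZMod p) F = 2 * (n : ℕ) := by
    obtain ⟨c, hc⟩ := hdvd
    have : c = 1 := by
      rcases Nat.lt_trichotomy c 1 with h | h | h
      · have h3 : c = 0 := by omega
        rw [h3, mul_zero] at hc
        omega
      · exact h
      · have h3 : Module.finrank (ZMod p) F * 2 ≤ Module.finrank (ZMod p) F * c :=
          Nat.mul_le_mul_left _ h
        omega
    rw [this, mul_one] at hc
    exact hc.symm
  refine ⟨n, hτ, ?_⟩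
  have h3 := Module.card_eq_pow_finrank (K := ZMod p) (V := F)
  rw [Nat.card_eq_fintype_card, h3, ZMod.card, ← pow_mul]
  congr 1
  omega

/-- `M ^ q₀ + M ^ (- q₀) = (tr M) ^ q₀` in characteristic `p`, `q₀ = p ^ j` -/
theorem pow_add_inv {p : ℕ} [Fact p.Prime] [CharP F p] (M : SL2 F) (j : ℕ) :
    ((M ^ (p ^ j) : SL2 F) : M2 F) + (((M ^ (p ^ j))⁻¹ : SL2 F) : M2 F) = ((M : M2 F).trace ^ (p ^ j)) • (1 : M2 F) := by
  have h1 : (M : M2 F) + ((M⁻¹ : SL2 F) : M2 F) = (M : M2 F).trace • (1 : M2 F) := by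
    rw [sl_inv_coe, add_adjugate]
  have hc : Commute (M : M2 F) ((M⁻¹ : SL2 F) : M2 F) := by
    change (M : M2 F) * ((M⁻¹ : SL2 F) : M2 F) = ((M⁻¹ : SL2 F) : M2 F) * (M : M2 F)
    rw [sl_inv_mul, sl_mul_inv]
  have : ExpChar (M2 F) p := by
    have : CharP (M2 F) p := Matrix.charP p
    exact ExpChar.prime Fact.out
  have h2 := add_pow_expChar_pow_of_commute p j hc
  rw [h1] at h2
  rw [smul_pow, one_pow] at h2
  rw [h2, ← inv_pow]
  simp only [Matrix.SpecialLinearGroup.coe_pow]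

/-- an element of 2-power order with a nonzero fixed vector is trivial -/
theorem eq_one_of_det {p : ℕ} [Fact p.Prime] [CharP F p] (hp : p ≠ 2) (V : SL2 F) {m : ℕ} (hV : V ^ (2 ^ m) = 1)
    (h : ((V : M2 F) - 1).det = 0) : V = 1 := by
  have h1 : (V : M2 F).trace = 2 := by
    have h2 := sl_coe_det V
    rw [Matrix.det_fin_two] at h h2
    simp only [Matrix.sub_apply, Matrix.one_apply_eq, Matrix.one_apply_ne (show (0 : Fin 2) ≠ 1 by decide),
      Matrix.one_apply_ne (show (1 : Fin 2) ≠ 0 by decide), sub_zero] at h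
    rw [Matrix.trace_fin_two]
    linear_combination h2 - h
  have h2 : ((V : M2 F) - 1) * ((V : M2 F) - 1) = 0 := by
    have h3 := m2_sq (V : M2 F)
    rw [h1, sl_coe_det, one_smul] at h3
    rw [sub_mul, mul_sub, h3, mul_one, one_mul, two_smul]
    abel
  have h3 : ((V ^ p : SL2 F) : M2 F) = 1 := by
    have hc : Commute ((V : M2 F) - 1) 1 := Commute.one_right _
    have : ExpChar (M2 F) p := by
      have : CharP (M2 F) p := Matrix.charP p
      exact ExpChar.prime Fact.out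
    have h4 := add_pow_expChar_of_commute p hc
    rw [sub_add_cancel, one_pow] at h4
    have h5 : ((V : M2 F) - 1) ^ p = 0 := by
      have h6 : 2 ≤ p := (Fact.out : p.Prime).two_le
      rw [show p = 2 + (p - 2) by omega, pow_add, pow_two, h2, zero_mul]
    rw [h5, zero_add] at h4
    rw [Matrix.SpecialLinearGroup.coe_pow, h4]
  have h4 : V ^ p = 1 := Subtype.ext (by rw [h3]; rfl)
  have h5 : Nat.Coprime p (2 ^ m) :=
    Nat.Coprime.pow_right _ ((Nat.coprime_primes Fact.out Nat.prime_two).2 hp)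
  have h6 : orderOf V ∣ 1 := by
    rw [← Nat.coprime_iff_gcd_eq_one.1 h5]
    exact Nat.dvd_gcd (orderOf_dvd_of_pow_eq_one h4) (orderOf_dvd_of_pow_eq_one hV)
  exact orderOf_eq_one_iff.1 (Nat.dvd_one.1 h6)

/-- an involutory field automorphism does not fix the trace of an element of large 2-power order -/
theorem eq_one_of_fix [Finite F] {p : ℕ} [Fact p.Prime] [CharP F p] (hp : p ≠ 2) {k : ℕ}
    (hq : ¬ 2 ^ (k + 3) ∣ Nat.card F ^ 2 - 1) (M : SL2 F) (hM : orderOf M = 2 ^ (k + 1)) (τ : F ≃+* F)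
    (h2 : τ * τ = 1) (hfix : τ (M : M2 F).trace = (M : M2 F).trace) : τ = 1 := by
  by_contra h1
  obtain ⟨j, hj, hc⟩ := exists_pow τ h2 h1
  set q0 := p ^ j with hq0
  have hodd : Odd q0 := by
    rw [hq0]
    exact Odd.pow ((Fact.out : p.Prime).odd_of_ne_two hp)
  have hpos : 1 ≤ q0 := hodd.pos
  have h3 := pow_add_inv (p := p) M j
  rw [← hq0, ← hj, hfix] at h3
  have h4 : (M : M2 F) + ((M⁻¹ : SL2 F) : M2 F) = (M : M2 F).trace • (1 : M2 F) := by
    rw [sl_inv_coe, add_adjugate]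
  rw [← h4] at h3
  -- `(U - 1) (V - 1) = 0`
  set U : SL2 F := M ^ (q0 - 1) with hU
  set V : SL2 F := M ^ (q0 + 1) with hV
  have hA : M ^ q0 = U * M := by rw [hU, ← pow_succ]; congr 1; omega
  have hVM : V = U * M * M := by rw [hV, ← hA, pow_succ]
  have hMU : M * U = U * M := by rw [hU]; exact (Commute.refl M).pow_right _
  have h5 : ((U : M2 F) - 1) * ((V : M2 F) - 1) = 0 := by
    rw [hA] at h3
    have h6 : ((U * M : SL2 F) : M2 F) * ((U * M : SL2 F) : M2 F) + 1 =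
        (M : M2 F) * ((U * M : SL2 F) : M2 F) + ((M⁻¹ : SL2 F) : M2 F) * ((U * M : SL2 F) : M2 F) := by
      rw [← add_mul, ← h3, add_mul, sl_inv_mul]
    have h7 : ((M⁻¹ : SL2 F) : M2 F) * ((U * M : SL2 F) : M2 F) = (U : M2 F) := by
      rw [← Matrix.SpecialLinearGroup.coe_mul, ← hMU, inv_mul_cancel_left]
    have h8 : (M : M2 F) * ((U * M : SL2 F) : M2 F) = (V : M2 F) := by
      rw [← Matrix.SpecialLinearGroup.coe_mul, ← mul_assoc, hMU, hVM]
    have h9 : ((U * M : SL2 F) : M2 F) * ((U * M : SL2 F) : M2 F) = (U : M2 F) * (V : M2 F) := by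
      rw [← Matrix.SpecialLinearGroup.coe_mul, ← Matrix.SpecialLinearGroup.coe_mul, hVM]
      congr 1
      calc U * M * (U * M) = U * (M * U) * M := by group
        _ = U * (U * M * M) := by rw [hMU]; group
    rw [h7, h8, h9] at h6
    have e : ((U : M2 F) - 1) * ((V : M2 F) - 1) = (U : M2 F) * (V : M2 F) + 1 - ((V : M2 F) + (U : M2 F)) := by
      rw [sub_mul, mul_sub, mul_one, one_mul]
      abel
    rw [e, h6, sub_self]
  have hV2 : V ^ (2 ^ (k + 1)) = 1 := by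
    rw [hV, ← pow_mul, mul_comm, pow_mul, ← hM, pow_orderOf_eq_one, one_pow]
  have h6 : U = 1 ∨ V = 1 := by
    by_cases h7 : ((V : M2 F) - 1).det = 0
    · exact Or.inr (eq_one_of_det hp V hV2 h7)
    · left
      have h8 : ((U : M2 F) - 1) * ((V : M2 F) - 1) = 0 * ((V : M2 F) - 1) := by rw [h5, zero_mul]
      have h9 := sub_eq_zero.1 (cancel_right h7 h8)
      exact Subtype.ext (by rw [h9]; rfl)
  apply hq
  have h7 : 2 ^ (k + 2) ∣ q0 ^ 2 - 1 := by
    have e : q0 ^ 2 - 1 = (q0 + 1) * (q0 - 1) := by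
      have := Nat.sq_sub_sq q0 1
      rwa [one_pow] at this
    rw [e]
    have ev1 : 2 ∣ q0 + 1 := by obtain ⟨c, hc⟩ := hodd; exact ⟨c + 1, by omega⟩
    have ev2 : 2 ∣ q0 - 1 := by obtain ⟨c, hc⟩ := hodd; exact ⟨c, by omega⟩
    rcases h6 with h7 | h7
    · have h8 : 2 ^ (k + 1) ∣ q0 - 1 := by
        rw [← hM]
        exact orderOf_dvd_of_pow_eq_one (by rw [← hU]; exact h7)
      rw [show k + 2 = 1 + (k + 1) by ring, pow_add, pow_one]
      exact mul_dvd_mul ev1 h8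
    · have h8 : 2 ^ (k + 1) ∣ q0 + 1 := by
        rw [← hM]
        exact orderOf_dvd_of_pow_eq_one (by rw [← hV]; exact h7)
      rw [show k + 2 = (k + 1) + 1 by ring, pow_add _ (k + 1), pow_one]
      exact mul_dvd_mul h8 ev2
  rw [hc]
  have e : (q0 ^ 2) ^ 2 - 1 = (q0 ^ 2 + 1) * (q0 ^ 2 - 1) := by
    have := Nat.sq_sub_sq (q0 ^ 2) 1
    rwa [one_pow] at this
  rw [e, show k + 3 = 1 + (k + 2) by ring, pow_add, pow_one]
  refine mul_dvd_mul ?_ h7
  obtain ⟨c, hc⟩ := hodd.pow (n := 2)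
  exact ⟨c + 1, by omega⟩

/-- a field automorphism which is a conjugation by a matrix is trivial -/
theorem eq_one_of_conjGL (τ : F ≃+* F) (h : GL (Fin 2) F) (e : fieldAut τ = conjGL h) : τ = 1 := by
  ext a
  set x : SL2 F := ⟨!![a, -1; 1, 0], by rw [Matrix.det_fin_two_of]; ring⟩ with hx
  have h1 := congrArg Subtype.val (DFunLike.congr_fun e x)
  have h2 := congrArg Matrix.trace h1
  rw [conjGL_val, Matrix.trace_mul_cycle, inv_val_mul_val, Matrix.one_mul] at h2
  rw [Matrix.trace_fin_two, Matrix.trace_fin_two] at h2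
  change τ (x.1 0 0) + τ (x.1 1 1) = x.1 0 0 + x.1 1 1 at h2
  simpa [hx] using h2

theorem pow_form (g : GL (Fin 2) F) (σ : F ≃+* F) (m : ℕ) :
    ∃ g' : GL (Fin 2) F, (conjGL g * fieldAut σ) ^ m = conjGL g' * fieldAut (σ ^ m) := by
  induction m with
  | zero => exact ⟨1, by rw [pow_zero, pow_zero, map_one, map_one, one_mul]⟩
  | succ m ih =>
    obtain ⟨g', hg⟩ := ih
    refine ⟨g' * Matrix.GeneralLinearGroup.map (σ ^ m).toRingHom g, ?_⟩
    rw [pow_succ, hg, pow_succ σ, map_mul, map_mul, mul_assoc, ← mul_assoc (fieldAut (σ ^ m)), fieldAut_mul_conjGL]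
    simp only [mul_assoc]

theorem trace_fix {g : GL (Fin 2) F} {τ : F ≃+* F} {M : SL2 F} (h : (conjGL g * fieldAut τ) M = M) :
    τ (M : M2 F).trace = (M : M2 F).trace := by
  have h1 : conjGL g (fieldAut τ M) = M := h
  have h2 := congrArg Matrix.trace (congrArg Subtype.val h1)
  rw [conjGL_val, Matrix.trace_mul_cycle, inv_val_mul_val, Matrix.one_mul] at h2
  rw [Matrix.trace_fin_two, Matrix.trace_fin_two] at h2
  rw [Matrix.trace_fin_two, map_add]
  exact h2

/-- an automorphism of 2-power order of `SL(2,F)` which fixes an element of order `2 ^ (k + 1)`, where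
`2 ^ (k + 2)` is the 2-part of `|F|² - 1`, is the conjugation by a matrix -/
theorem exists_conjGL [Finite F] {p : ℕ} [Fact p.Prime] [CharP F p] (hp : p ≠ 2) {k : ℕ}
    (hq : ¬ 2 ^ (k + 3) ∣ Nat.card F ^ 2 - 1) (M : SL2 F) (hM : orderOf M = 2 ^ (k + 1))
    (α : MulAut (SL2 F)) (n : ℕ) (hα : α ^ (2 ^ n) = 1) (hfix : α M = M) : ∃ g : GL (Fin 2) F, α = conjGL g := by
  obtain ⟨g, σ, rfl⟩ := exists_eq α
  suffices h : σ = 1 by
    refine ⟨g, ?_⟩
    rw [h, map_one, mul_one]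
  obtain ⟨g', hg'⟩ := pow_form g σ (2 ^ n)
  rw [hα] at hg'
  have h1 : σ ^ (2 ^ n) = 1 := by
    apply eq_one_of_conjGL _ g'⁻¹
    rw [map_inv]
    exact eq_inv_of_mul_eq_one_right hg'.symm
  by_contra hne
  classical
  have hex : ∃ m, σ ^ (2 ^ m) = 1 := ⟨n, h1⟩
  set m := Nat.find hex with hm
  have hm1 : σ ^ (2 ^ m) = 1 := Nat.find_spec hex
  have hm0 : m ≠ 0 := by
    intro h0
    rw [h0, pow_zero, pow_one] at hm1
    exact hne hm1
  have hm2 : σ ^ (2 ^ (m - 1)) ≠ 1 := Nat.find_min hex (by omega)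
  obtain ⟨g2, hg2⟩ := pow_form g σ (2 ^ (m - 1))
  have hf : (conjGL g2 * fieldAut (σ ^ (2 ^ (m - 1))) : MulAut (SL2 F)) M = M := by
    rw [← hg2]
    have : ∀ i : ℕ, ((conjGL g * fieldAut σ) ^ i) M = M := by
      intro i
      induction i with
      | zero => rfl
      | succ i ih => rw [pow_succ, MulAut.mul_apply, hfix, ih]
    exact this _
  apply hm2
  refine eq_one_of_fix hp hq M hM _ ?_ (trace_fix hf)
  rw [← pow_add, ← two_mul, ← pow_succ', show m - 1 + 1 = m by omega, hm1]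

end Cfsg.Agent.GTwoOdd.BridgeField
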