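import Cfsg.Agent.GTwoOdd.BridgeConf

/-!
# The two-subgroup configuration gives `LocalSL` and `Hyp`
-/

set_option autoImplicit false

namespace Cfsg.Agent.GTwoOdd.BridgeHyp

open Matrix Subgroup QuaternionGroup Cfsg.Agent.ClassificationK Cfsg.Agent.ClassificationK.GTwoConf
open Cfsg.Agent.GTwoOdd.BridgeAct Cfsg.Agent.GTwoOdd.BridgeConf

variable {X : Type*} [Group X] [Finite X] {k : ℕ} {P : Sylow 2 X} {s : X} {φ ψ : QuaternionGroup (2 ^ k) →* X}
  {L M : Subgroup X} {F1 F2 : Type*} [Field F1] [Finite F1] [Field F2] [Finite F2]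

/-- the centraliser of `L M` -/
theorem cent (h : Conf k P s φ ψ) (hp : Pair φ ψ L M) (c : X) (h1 : ∀ x ∈ L, c * x = x * c)
    (h2 : ∀ x ∈ M, c * x = x * c) : c = 1 ∨ c = Conf.t φ := by
  have := hp.nL
  have := hp.nM
  have := GTwoFactorBasic.Conf.normal_t h
  refine GTwoFactorBasic.Conf.eq_one_or_eq_t_of_inf h rfl
    (centralizer (L : Set X) ⊓ centralizer (M : Set X)) ?_ c ⟨?_, ?_⟩
  · rintro x ⟨hx1, hx2⟩ hxP
    refine GTwoConfBasic.eq_of_comm h x hxP (fun u => ?_) (fun u => ?_)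
    · exact (mem_centralizer_iff.1 hx1 _ (hp.leL ⟨u, rfl⟩)).symm
    · exact (mem_centralizer_iff.1 hx2 _ (hp.leM ⟨u, rfl⟩)).symm
  · exact mem_centralizer_iff.2 fun x hx => (h1 x hx).symm
  · exact mem_centralizer_iff.2 fun x hx => (h2 x hx).symm

/-- the local structure -/
def loc (h : Conf k P s φ ψ) (hp : Pair φ ψ L M) (h1 : (2 : F1) ≠ 0) (h2 : (2 : F2) ≠ 0)
    (e : L ≃* SL2 F1) (f : M ≃* SL2 F2) : LocalSL (Conf.t φ) F1 F2 where
  e1 := emb L e
  e2 := emb M f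
  inj1 := emb_inj L e
  inj2 := emb_inj M f
  comm x y := hp.comm _ (emb_mem L e x) _ (emb_mem M f y)
  neg1 := emb_neg_one L e h1 (hp.leL ⟨_, rfl⟩) (by rw [← pow_two]; exact GTwoFactorBasic.Conf.t_sq h)
    (GTwoFactorBasic.Conf.t_ne h)
  neg2 := emb_neg_one M f h2 (by
    rw [← GTwoFactorBasic.Conf.t_symm h]
    exact hp.leM ⟨_, rfl⟩) (by rw [← pow_two]; exact GTwoFactorBasic.Conf.t_sq h)
    (GTwoFactorBasic.Conf.t_ne h)
  cent c _ hc1 hc2 := by
    refine cent h hp c (fun x hx => ?_) (fun x hx => ?_)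
    · obtain ⟨y, rfl⟩ := exists_emb L e hx
      exact hc1 y
    · obtain ⟨y, rfl⟩ := exists_emb M f hx
      exact hc2 y

omit [Finite X] in
/-- squares of odd powers -/
theorem isSquare_of_odd_pow {F : Type*} [Field F] {a : F} {m : ℕ} (hm : Odd m) (h : IsSquare (a ^ m)) :
    IsSquare a := by
  by_cases ha : a = 0
  · rw [ha]
    exact IsSquare.zero
  obtain ⟨j, rfl⟩ := hm
  obtain ⟨b, hb⟩ := h
  refine ⟨b / a ^ j, ?_⟩
  have : a ^ (2 * j + 1) = a * (a ^ j * a ^ j) := by ring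
  field_simp
  rw [this] at hb
  rw [pow_two, pow_two, hb]

theorem acts_pow {G : Type*} [Group G] {F : Type*} [Field F] {e : SL2 F →* G} {c : G} {A : M2 F} (h : Acts e c A)
    (n : ℕ) : Acts e (c ^ n) (A ^ n) := by
  induction n with
  | zero => rw [pow_zero, pow_zero]; exact Acts.one
  | succ n ih => rw [pow_succ, pow_succ]; exact ih.mul h

omit [Finite F1] [Finite F2] in
/-- an element which acts on `L` with square determinant acts on `M` with square determinant -/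
theorem square_of (h : Conf k P s φ ψ) (hp : Pair φ ψ L M) (e : L ≃* SL2 F1) (f : M ≃* SL2 F2) {c : X}
    {A : M2 F1} {B : M2 F2} (hA : Acts (emb L e) c A) (hB : Acts (emb M f) c B) (hs : IsSquare A.det) :
    IsSquare B.det := by
  have := hp.nL
  obtain ⟨a, ha⟩ := hs
  have ha0 : a ≠ 0 := by
    rintro rfl
    exact hA.1 (by rw [ha, mul_zero])
  obtain ⟨x, hx⟩ := exists_sl_of_sq ha0 ha
  have h1 : Acts (emb L e) ((emb L e x)⁻¹ * c) (a • (1 : M2 F1)) := by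
    have h2 := (Acts.self (e := emb L e) x⁻¹).mul hA
    rw [map_inv] at h2
    rw [hx, Matrix.mul_smul, sl_inv_mul] at h2
    exact h2
  have h2 : Acts (emb M f) ((emb L e x)⁻¹ * c) B := by
    have h3 := (Acts.of_comm (e := emb M f) (c := (emb L e x)⁻¹) fun y => by
      rw [← map_inv]
      exact hp.comm _ (emb_mem L e _) _ (emb_mem M f y)).mul hB
    rwa [one_mul] at h3
  set c' := (emb L e x)⁻¹ * c with hc'
  have h3 : c' ∈ centralizer (L : Set X) := by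
    rw [mem_centralizer_iff]
    intro y hy
    obtain ⟨z, rfl⟩ := exists_emb L e hy
    exact (h1.comm_of_one z).symm
  have hM : M ≤ centralizer (L : Set X) := by
    intro y hy
    rw [mem_centralizer_iff]
    intro x hx
    exact hp.comm x hx y hy
  have hodd : ¬ 2 ∣ M.relIndex (centralizer (L : Set X)) := by
    intro hd
    apply Cfsg.Agent.Lib.SylowNormalInf.not_dvd_relIndex P (centralizer (L : Set X))
    rw [← inf_relIndex_right]
    refine hd.trans (relIndex_dvd_of_le_left _ ?_)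
    rintro y ⟨hy, hy'⟩
    obtain ⟨u, rfl⟩ := GTwoConfBasic.mem_range_of_comm h y hy fun u =>
      (mem_centralizer_iff.1 hy' _ (hp.leL ⟨u, rfl⟩)).symm
    exact hp.leM ⟨u, rfl⟩
  have hn : (M.subgroupOf (centralizer (L : Set X))).Normal := by
    have := hp.nM
    infer_instance
  have h4 := pow_index_mem (M.subgroupOf (centralizer (L : Set X))) (⟨c', h3⟩ : centralizer (L : Set X))
  rw [mem_subgroupOf] at h4
  set m := (M.subgroupOf (centralizer (L : Set X))).index with hm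
  have hmo : Odd m := by
    rw [← Nat.not_even_iff_odd, even_iff_two_dvd]
    exact hodd
  have h5 : c' ^ m ∈ M := h4
  obtain ⟨y, hy⟩ := exists_emb M f h5
  have h6 := acts_pow h2 m
  rw [← hy] at h6
  obtain ⟨b, hb, hb'⟩ := h6.proportional (emb_inj M f) (Acts.self y)
  have h7 := sl_coe_det y
  rw [hb', det_smul2, Matrix.det_pow] at h7
  apply isSquare_of_odd_pow hmo
  refine ⟨b⁻¹, ?_⟩
  field_simp
  rw [← h7]
  ring

/-- the outer involution -/
theorem outer_sq (h : Conf k P s φ ψ) (hs : s * s = φ (a 1) * ψ (a 1)) :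
    (φ (xa 0) * ψ (xa 0) * s) * (φ (xa 0) * ψ (xa 0) * s) = 1 := by
  have e1 : s * φ (xa 0) = φ (xa (0 - 1)) * s := by rw [← h.s_xa₁]; group
  have e2 : s * ψ (xa 0) = ψ (xa (0 - 1)) * s := by rw [← h.s_xa₂]; group
  have e3 : (xa 0 : QuaternionGroup (2 ^ k)) * xa (0 - 1) * a 1 = a ((2 ^ k : ℕ) : ZMod (2 * 2 ^ k)) := by
    rw [xa_mul_xa, a_mul_a]
    congr 1
    ring
  have e4 : φ (a ((2 ^ k : ℕ) : ZMod (2 * 2 ^ k))) * ψ (a ((2 ^ k : ℕ) : ZMod (2 * 2 ^ k))) = 1 := by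
    rw [← h.t_eq, ← map_mul, a_mul_a, GTwoModel.half_add_half]
    exact map_one _
  calc (φ (xa 0) * ψ (xa 0) * s) * (φ (xa 0) * ψ (xa 0) * s)
      = φ (xa 0) * ψ (xa 0) * (s * φ (xa 0)) * ψ (xa 0) * s := by group
    _ = φ (xa 0) * (ψ (xa 0) * φ (xa (0 - 1))) * (s * ψ (xa 0)) * s := by rw [e1]; group
    _ = φ (xa 0) * φ (xa (0 - 1)) * (ψ (xa 0) * ψ (xa (0 - 1))) * (s * s) := by rw [e2, ← h.comm]; group
    _ = φ (xa 0) * φ (xa (0 - 1)) * ((ψ (xa 0) * ψ (xa (0 - 1))) * φ (a 1)) * ψ (a 1) := by rw [hs]; group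
    _ = φ (xa 0) * φ (xa (0 - 1)) * (φ (a 1) * (ψ (xa 0) * ψ (xa (0 - 1)))) * ψ (a 1) := by
      rw [← map_mul ψ, h.comm]
    _ = φ (xa 0 * xa (0 - 1) * a 1) * ψ (xa 0 * xa (0 - 1) * a 1) := by
      rw [map_mul, map_mul, map_mul, map_mul]; group
    _ = 1 := by rw [e3, e4]

omit [Finite F1] in
/-- the outer involution acts on `L` with nonsquare determinant -/
theorem outer_not_isSquare (h : Conf k P s φ ψ) (hp : Pair φ ψ L M) (e : L ≃* SL2 F1) {A : M2 F1}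
    (hA : Acts (emb L e) (φ (xa 0) * ψ (xa 0) * s) A) : ¬ IsSquare A.det := by
  rintro ⟨a', ha⟩
  have ha0 : a' ≠ 0 := by
    rintro rfl
    exact hA.1 (by rw [ha, mul_zero])
  obtain ⟨x, hx⟩ := exists_sl_of_sq ha0 ha
  refine not_acts_s h hp ((φ (xa 0))⁻¹ * emb L e x)
    (mul_mem (inv_mem (hp.leL ⟨_, rfl⟩)) (emb_mem L e x)) fun u => ?_
  -- `emb x` acts as the outer element
  have h1 : ∀ z, (φ (xa 0) * ψ (xa 0) * s) * emb L e z = emb L e (x * z * x⁻¹) * (φ (xa 0) * ψ (xa 0) * s) := by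
    intro z
    apply hA.2
    rw [hx]
    rw [Matrix.mul_smul, Matrix.smul_mul]
    congr 1
    rw [← Matrix.SpecialLinearGroup.coe_mul, ← Matrix.SpecialLinearGroup.coe_mul, inv_mul_cancel_right]
  obtain ⟨z, hz⟩ := exists_emb L e (hp.leL ⟨u, rfl⟩)
  have h2 := h1 z
  rw [map_mul, map_mul, map_inv, hz] at h2
  have h3 : ∃ v, s * φ u * s⁻¹ = φ v := by
    rcases u with i | i
    · exact ⟨_, h.s_a₁ i⟩
    · exact ⟨_, h.s_xa₁ i⟩
  obtain ⟨v, hv⟩ := h3
  have h4 : emb L e x * φ u * (emb L e x)⁻¹ = φ (xa 0) * ψ (xa 0) * (s * φ u * s⁻¹) * (ψ (xa 0))⁻¹ * (φ (xa 0))⁻¹ := by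
    calc emb L e x * φ u * (emb L e x)⁻¹
        = (emb L e x * φ u * (emb L e x)⁻¹ * (φ (xa 0) * ψ (xa 0) * s)) * (φ (xa 0) * ψ (xa 0) * s)⁻¹ := by group
      _ = ((φ (xa 0) * ψ (xa 0) * s) * φ u) * (φ (xa 0) * ψ (xa 0) * s)⁻¹ := by rw [h2]
      _ = _ := by group
  calc (φ (xa 0))⁻¹ * emb L e x * φ u * ((φ (xa 0))⁻¹ * emb L e x)⁻¹
      = (φ (xa 0))⁻¹ * (emb L e x * φ u * (emb L e x)⁻¹) * φ (xa 0) := by group
    _ = ψ (xa 0) * (s * φ u * s⁻¹) * (ψ (xa 0))⁻¹ := by rw [h4]; group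
    _ = φ v * ψ (xa 0) * (ψ (xa 0))⁻¹ := by rw [hv, ← h.comm]
    _ = s * φ u * s⁻¹ := by rw [hv]; group

/-- the hypotheses on `C(t)` hold -/
theorem hyp (h : Conf k P s φ ψ) (hs : s * s = φ (a 1) * ψ (a 1)) (hp : Pair φ ψ L M) (h1 : (2 : F1) ≠ 0)
    (h2 : (2 : F2) ≠ 0) (e : L ≃* SL2 F1) (f : M ≃* SL2 F2) : (loc h hp h1 h2 e f).Hyp := by
  have nL := hp.nL
  have nM := hp.nM
  have hPL := BridgeConf.le_C0 h hp h1 e
  have hPM := BridgeConf.le_C0 h.symm hp.symm h2 f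
  have hcL := commutator_le_C0 hp e
  have hcM := commutator_le_C0 hp.symm f
  refine ⟨?_, ?_, ?_, ?_, ?_, ?_⟩
  · intro c _ x
    obtain ⟨y, hy⟩ := exists_emb L e (nL.conj_mem _ (emb_mem L e x) c)
    refine ⟨y, ?_⟩
    change c * emb L e x = emb L e y * c
    rw [hy]
    group
  · intro c _ x
    obtain ⟨y, hy⟩ := exists_emb M f (nM.conj_mem _ (emb_mem M f x) c)
    refine ⟨y, ?_⟩
    change c * emb M f x = emb M f y * c
    rw [hy]
    group
  · intro c d _ _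
    have h3 : c * d * c⁻¹ * d⁻¹ ∈ commutator X := by
      rw [← commutatorElement_def, _root_.commutator_def]
      exact commutator_mem_commutator (mem_top _) (mem_top _)
    rw [← hp.sup, mem_sup_of_normal_right] at h3
    obtain ⟨l, hl, m, hm, h4⟩ := h3
    obtain ⟨x, rfl⟩ := exists_emb L e hl
    obtain ⟨y, rfl⟩ := exists_emb M f hm
    refine ⟨x, y, ?_⟩
    change c * d = emb L e x * emb M f y * d * c
    rw [h4]
    group
  · rintro c hc ⟨A, B, hAB⟩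
    obtain ⟨A', hA'⟩ := (mem_C0 L e).1 (mem_C0_of_sq L e P hPL hcL ((mem_C0 L e).2 ⟨A, hAB.acts1⟩))
    obtain ⟨B', hB'⟩ := (mem_C0 M f).1 (mem_C0_of_sq M f P hPM hcM ((mem_C0 M f).2 ⟨B, hAB.acts2⟩))
    exact ⟨A', B', hc, hA', hB'⟩
  · intro c A B hAB
    exact ⟨square_of h hp e f hAB.acts1 hAB.acts2, square_of h.symm hp.symm f e hAB.acts2 hAB.acts1⟩
  · have hg : φ (xa 0) * ψ (xa 0) * s ∈ (P : Subgroup X) := mul_mem (mul_mem (h.mem₁ _) (h.mem₂ _)) h.s_mem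
    obtain ⟨A, hA⟩ := (mem_C0 L e).1 (hPL hg)
    obtain ⟨B, hB⟩ := (mem_C0 M f).1 (hPM hg)
    have hnA := outer_not_isSquare h hp e hA
    exact ⟨_, A, B, ⟨h.central _, hA, hB⟩, hnA,
      fun hB' => hnA (square_of h.symm hp.symm f e hB hA hB'), outer_sq h hs⟩

end Cfsg.Agent.GTwoOdd.BridgeHyp
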