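import Cfsg.Agent.GTwoOdd.Bav

/-!
# Bruhat decomposition of `C0`

`L.zero`: the subgroup `C0` of the elements which act as conjugation by matrices.
`L.wel i j = n1^i n2^j`.
-/

set_option autoImplicit false

namespace Cfsg.Agent.GTwoOdd

open Matrix

section mat

variable {F : Type*} [Field F]

/-- the Weyl element -/
def ww (F : Type*) [Field F] : SL2 F := ⟨!![0, 1; -1, 0], by simp [Matrix.det_fin_two]⟩

theorem ww_coe : (ww F : M2 F) = !![0, 1; -1, 0] := rfl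

/-- `w^i` -/
def wi (F : Type*) [Field F] (i : Bool) : SL2 F := if i then ww F else 1

theorem wi_true : wi F true = ww F := rfl
theorem wi_false : wi F false = 1 := rfl

theorem cell_true (x y : F) {D : M2 F} (h01 : D 0 1 = 0) (h10 : D 1 0 = 0) :
    ((up x : SL2 F) : M2 F) * (wi F true : M2 F) * D * ((up y : SL2 F) : M2 F) =
      !![-(x * D 0 0), D 1 1 - x * D 0 0 * y; -D 0 0, -(D 0 0 * y)] := by
  rw [wi_true, up_coe, up_coe, ww_coe, m2_eq_iff]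
  simp only [m2_mul_00, m2_mul_01, m2_mul_10, m2_mul_11]
  simp [h01, h10]
  ring

theorem cell_false (x : F) {D : M2 F} (h01 : D 0 1 = 0) (h10 : D 1 0 = 0) :
    ((up x : SL2 F) : M2 F) * (wi F false : M2 F) * D * ((up 0 : SL2 F) : M2 F) =
      !![D 0 0, x * D 1 1; 0, D 1 1] := by
  rw [wi_false, up_coe, up_coe, Matrix.SpecialLinearGroup.coe_one, m2_eq_iff]
  simp only [m2_mul_00, m2_mul_01, m2_mul_10, m2_mul_11]
  simp [h01, h10]

/-- normal form of an invertible matrix -/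
theorem exists_cell {A : M2 F} (hA : A.det ≠ 0) :
    ∃ (i : Bool) (x y : F) (D : M2 F), D 0 1 = 0 ∧ D 1 0 = 0 ∧ (i = false → y = 0) ∧
      A = ((up x : SL2 F) : M2 F) * (wi F i : M2 F) * D * ((up y : SL2 F) : M2 F) := by
  by_cases h : A 1 0 = 0
  · have h11 : A 1 1 ≠ 0 := by
      intro k
      apply hA
      rw [Matrix.det_fin_two, h, k]; ring
    refine ⟨false, A 0 1 / A 1 1, 0, !![A 0 0, 0; 0, A 1 1], by simp, by simp, fun _ => rfl, ?_⟩
    rw [cell_false _ (by simp) (by simp), m2_eq_iff]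
    simp [h]
    field_simp
  · refine ⟨true, A 0 0 / A 1 0, A 1 1 / A 1 0, !![-A 1 0, 0; 0, A 0 1 - A 0 0 * A 1 1 / A 1 0], by simp, by simp, by simp, ?_⟩
    rw [cell_true _ _ (by simp) (by simp), m2_eq_iff]
    simp
    refine ⟨by field_simp, by field_simp; ring, by field_simp⟩

/-- uniqueness of the normal form -/
theorem cell_inj {i i' : Bool} {x y x' y' c : F} {D D' : M2 F} (h01 : D 0 1 = 0) (h10 : D 1 0 = 0)
    (h01' : D' 0 1 = 0) (h10' : D' 1 0 = 0) (hD : D.det ≠ 0) (hD' : D'.det ≠ 0)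
    (hi : i = false → y = 0) (hi' : i' = false → y' = 0) (hc : c ≠ 0)
    (h : ((up x' : SL2 F) : M2 F) * (wi F i' : M2 F) * D' * ((up y' : SL2 F) : M2 F) =
      c • (((up x : SL2 F) : M2 F) * (wi F i : M2 F) * D * ((up y : SL2 F) : M2 F))) :
    i = i' ∧ x = x' ∧ y = y' := by
  rw [Matrix.det_fin_two, h01, zero_mul, sub_zero] at hD
  rw [Matrix.det_fin_two, h01', zero_mul, sub_zero] at hD'
  have d0 := left_ne_zero_of_mul hD
  have d1 := right_ne_zero_of_mul hD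
  have d0' := left_ne_zero_of_mul hD'
  have d1' := right_ne_zero_of_mul hD'
  rcases i with _ | _ <;> rcases i' with _ | _
  · obtain rfl := hi rfl
    obtain rfl := hi' rfl
    rw [cell_false _ h01 h10, cell_false _ h01' h10', m2_eq_iff] at h
    simp at h
    obtain ⟨e1, e2, e3⟩ := h
    refine ⟨rfl, ?_, rfl⟩
    rw [e3] at e2
    have : c * D 1 1 * (x - x') = 0 := by linear_combination -e2
    rcases mul_eq_zero.1 this with k | k
    · exact absurd k (mul_ne_zero hc d1)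
    · exact sub_eq_zero.1 k
  · exfalso
    obtain rfl := hi rfl
    rw [cell_false _ h01 h10, cell_true _ _ h01' h10', m2_eq_iff] at h
    simp at h
    exact d0' h.2.2.1
  · exfalso
    obtain rfl := hi' rfl
    rw [cell_false _ h01' h10', cell_true _ _ h01 h10, m2_eq_iff] at h
    simp at h
    rcases h.2.2.1 with k | k
    · exact hc k
    · exact d0 k
  · rw [cell_true _ _ h01 h10, cell_true _ _ h01' h10', m2_eq_iff] at h
    simp at h
    obtain ⟨e1, e2, e3, e4⟩ := h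
    refine ⟨rfl, ?_, ?_⟩
    · rw [e3] at e1
      have : c * D 0 0 * (x - x') = 0 := by linear_combination -e1
      rcases mul_eq_zero.1 this with k | k
      · exact absurd k (mul_ne_zero hc d0)
      · exact sub_eq_zero.1 k
    · rw [e3] at e4
      have : c * D 0 0 * (y - y') = 0 := by linear_combination -e4
      rcases mul_eq_zero.1 this with k | k
      · exact absurd k (mul_ne_zero hc d0)
      · exact sub_eq_zero.1 k

theorem diag_comm_dg {D : M2 F} (h01 : D 0 1 = 0) (h10 : D 1 0 = 0) : D * dg F = dg F * D := dg_comm_of h01 h10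

end mat

namespace LocalSL

variable {G : Type*} [Group G] {t : G} {F1 F2 : Type*} [Field F1] [Field F2]

/-- `C0` -/
def zero (L : LocalSL t F1 F2) : Subgroup G where
  carrier := {c | ∃ A B, L.Rep c A B}
  mul_mem' := by
    rintro a b ⟨A, B, h⟩ ⟨A', B', h'⟩
    exact ⟨_, _, h.mul h'⟩
  one_mem' := ⟨1, 1, Rep.one L⟩
  inv_mem' := by
    rintro a ⟨A, B, h⟩
    exact ⟨_, _, h.inv⟩

theorem mem_zero {L : LocalSL t F1 F2} {c : G} : c ∈ L.zero ↔ ∃ A B, L.Rep c A B := Iff.rfl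

/-- `e1 (up a) * e2 (up b)` -/
def up2 (L : LocalSL t F1 F2) (p : F1 × F2) : G := L.e1 (up p.1) * L.e2 (up p.2)

theorem up2_mem (L : LocalSL t F1 F2) (p : F1 × F2) : L.up2 p ∈ L.uni := ⟨_, _, rfl⟩

theorem up2_rep (L : LocalSL t F1 F2) (p : F1 × F2) : L.Rep (L.up2 p) (up p.1 : SL2 F1) (up p.2 : SL2 F2) :=
  Rep.e12 L _ _

theorem up2_zero (L : LocalSL t F1 F2) : L.up2 (0, 0) = 1 := by
  simp [up2, up_zero]

theorem up2_mul (L : LocalSL t F1 F2) (p q : F1 × F2) : L.up2 p * L.up2 q = L.up2 (p + q) := by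
  unfold up2
  rw [Prod.fst_add, Prod.snd_add, ← up_mul, ← up_mul, map_mul, map_mul]
  calc L.e1 (up p.1) * L.e2 (up p.2) * (L.e1 (up q.1) * L.e2 (up q.2))
      = L.e1 (up p.1) * (L.e2 (up p.2) * L.e1 (up q.1)) * L.e2 (up q.2) := by group
    _ = L.e1 (up p.1) * (L.e1 (up q.1) * L.e2 (up p.2)) * L.e2 (up q.2) := by rw [L.comm]
    _ = _ := by group

theorem up2_inj (L : LocalSL t F1 F2) (h2 : (2 : F1) ≠ 0) {p q : F1 × F2} (h : L.up2 p = L.up2 q) : p = q := by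
  rcases e12_inj h with ⟨h6, h7⟩ | ⟨h6, h7⟩
  · exact Prod.ext (up_inj h6) (up_inj h7)
  · exact absurd h6 (fun k => sl_ne_neg_up h2 k)

/-- `n1^i n2^j` -/
def wel (L : LocalSL t F1 F2) (i : Bool × Bool) : G := L.e1 (wi F1 i.1) * L.e2 (wi F2 i.2)

theorem wel_rep (L : LocalSL t F1 F2) (i : Bool × Bool) : L.Rep (L.wel i) (wi F1 i.1 : SL2 F1) (wi F2 i.2 : SL2 F2) :=
  Rep.e12 L _ _

/-- the split torus -/
abbrev T0 (L : LocalSL t F1 F2) : Subgroup G := L.tor (dg F1) (dg F2)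

/-- the parameters of the cell of `w` -/
def Cell (L : LocalSL t F1 F2) (i : Bool × Bool) : Type _ :=
  {x : (F1 × F2) × L.T0 × (F1 × F2) // (i.1 = false → x.2.2.1 = 0) ∧ (i.2 = false → x.2.2.2 = 0)}

/-- the element `u w τ v` -/
def cellEl (L : LocalSL t F1 F2) (x : Σ i : Bool × Bool, L.Cell i) : G :=
  L.up2 x.2.1.1 * L.wel x.1 * x.2.1.2.1 * L.up2 x.2.1.2.2

section hyp

variable [Finite F1] [Finite F2] {L : LocalSL t F1 F2} (H : L.Hyp)
include H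

theorem Hyp.exists_T0 {D : M2 F1} {E : M2 F2} (h1 : D 0 1 = 0) (h2 : D 1 0 = 0) (h3 : E 0 1 = 0) (h4 : E 1 0 = 0)
    (hD : D.det ≠ 0) (hE : E.det ≠ 0) (h : IsSquare D.det ↔ IsSquare E.det) : ∃ τ ∈ L.T0, L.Rep τ D E := by
  obtain ⟨τ, hτ⟩ := H.exists_rep hD hE h
  exact ⟨τ, ⟨D, E, hτ, dg_comm_of h1 h2, dg_comm_of h3 h4⟩, hτ⟩

omit [Finite F1] [Finite F2] H in
theorem t_mem_T0 (L : LocalSL t F1 F2) : t ∈ L.T0 := ⟨1, 1, Rep.rep_t L, by simp, by simp⟩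

/-- the matrices of an element of `T` -/
theorem Hyp.T0_rep {τ : G} (h : τ ∈ L.T0) : ∃ D E, L.Rep τ D E ∧ D 0 1 = 0 ∧ D 1 0 = 0 ∧ E 0 1 = 0 ∧ E 1 0 = 0 := by
  obtain ⟨A, B, hr, hA, hB⟩ := h
  exact ⟨A, B, hr, (comm_dg H.two_ne1 hA).1, (comm_dg H.two_ne1 hA).2, (comm_dg H.two_ne2 hB).1, (comm_dg H.two_ne2 hB).2⟩

/-- every element of `C0` is in a cell -/
theorem Hyp.cell_surj {c : G} (hc : c ∈ L.zero) : ∃ x, L.cellEl x = c := by
  obtain ⟨A, B, hr⟩ := hc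
  obtain ⟨i, x, y, D, h1, h2, h3, h4⟩ := exists_cell hr.det1
  obtain ⟨j, x', y', E, k1, k2, k3, k4⟩ := exists_cell hr.det2
  have dA : A.det = D.det := by
    rw [h4, Matrix.det_mul, Matrix.det_mul, Matrix.det_mul, sl_coe_det, sl_coe_det, sl_coe_det, one_mul, one_mul, mul_one]
  have dB : B.det = E.det := by
    rw [k4, Matrix.det_mul, Matrix.det_mul, Matrix.det_mul, sl_coe_det, sl_coe_det, sl_coe_det, one_mul, one_mul, mul_one]
  obtain ⟨τ, hτ, hτr⟩ := H.exists_T0 h1 h2 k1 k2 (dA ▸ hr.det1) (dB ▸ hr.det2) (by rw [← dA, ← dB]; exact H.square_iff _ _ _ hr)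
  have hR : L.Rep (L.up2 (x, x') * L.wel (i, j) * τ * L.up2 (y, y')) A B := by
    rw [h4, k4]
    exact (((L.up2_rep (x, x')).mul (L.wel_rep (i, j))).mul hτr).mul (L.up2_rep (y, y'))
  rcases hR.unique hr (one_smul _ _).symm (one_smul _ _).symm with h | h
  · exact ⟨⟨(i, j), ⟨((x, x'), ⟨τ, hτ⟩, (y, y')), h3, k3⟩⟩, h.symm⟩
  · refine ⟨⟨(i, j), ⟨((x, x'), ⟨τ * t, L.T0.mul_mem hτ (t_mem_T0 L)⟩, (y, y')), h3, k3⟩⟩, ?_⟩
    rw [h]
    change L.up2 (x, x') * L.wel (i, j) * (τ * t) * L.up2 (y, y') = _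
    have := uni_t (L.up2_mem (y, y'))
    calc L.up2 (x, x') * L.wel (i, j) * (τ * t) * L.up2 (y, y')
        = L.up2 (x, x') * L.wel (i, j) * τ * (t * L.up2 (y, y')) := by group
      _ = L.up2 (x, x') * L.wel (i, j) * τ * (L.up2 (y, y') * t) := by rw [this]
      _ = _ := by group

/-- the matrices of the element of a cell -/
theorem Hyp.cellEl_mem (x : Σ i : Bool × Bool, L.Cell i) : L.cellEl x ∈ L.zero := by
  obtain ⟨D, E, hr, -⟩ := H.T0_rep x.2.1.2.1.2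
  exact ⟨_, _, (((L.up2_rep x.2.1.1).mul (L.wel_rep x.1)).mul hr).mul (L.up2_rep x.2.1.2.2)⟩

theorem Hyp.cell_inj : Function.Injective L.cellEl := by
  rintro ⟨⟨i, j⟩, ⟨⟨⟨x, x'⟩, ⟨τ, hτ⟩, ⟨y, y'⟩⟩, h1, h2⟩⟩ ⟨⟨k, l⟩, ⟨⟨⟨z, z'⟩, ⟨σ, hσ⟩, ⟨v, v'⟩⟩, h3, h4⟩⟩ h
  change L.up2 (x, x') * L.wel (i, j) * τ * L.up2 (y, y') = L.up2 (z, z') * L.wel (k, l) * σ * L.up2 (v, v') at h
  obtain ⟨D, E, hr, d1, d2, d3, d4⟩ := H.T0_rep hτ
  obtain ⟨D', E', hr', e1, e2, e3, e4⟩ := H.T0_rep hσ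
  have R1 := (((L.up2_rep (x, x')).mul (L.wel_rep (i, j))).mul hr).mul (L.up2_rep (y, y'))
  have R2 := (((L.up2_rep (z, z')).mul (L.wel_rep (k, l))).mul hr').mul (L.up2_rep (v, v'))
  rw [h] at R1
  obtain ⟨⟨a, ha, ha'⟩, ⟨b, hb, hb'⟩⟩ := R1.prop R2
  obtain ⟨rfl, rfl, rfl⟩ := Cfsg.Agent.GTwoOdd.cell_inj d1 d2 e1 e2 hr.det1 hr'.det1 h1 h3 ha ha'
  obtain ⟨rfl, rfl, rfl⟩ := Cfsg.Agent.GTwoOdd.cell_inj d3 d4 e3 e4 hr.det2 hr'.det2 h2 h4 hb hb'
  have h5 : τ = σ := mul_left_cancel (mul_right_cancel h)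
  subst h5
  rfl

/-- Bruhat decomposition -/
noncomputable def Hyp.bruhat : (Σ i : Bool × Bool, L.Cell i) ≃ L.zero :=
  Equiv.ofBijective (fun x => ⟨L.cellEl x, H.cellEl_mem x⟩)
    ⟨fun _ _ h => H.cell_inj (congrArg Subtype.val h),
      fun c => by
        obtain ⟨x, hx⟩ := H.cell_surj c.2
        exact ⟨x, Subtype.ext hx⟩⟩

@[simp] theorem Hyp.bruhat_coe (x : Σ i : Bool × Bool, L.Cell i) : (H.bruhat x : G) = L.cellEl x := rfl

end hyp

end LocalSL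

end Cfsg.Agent.GTwoOdd
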