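import Cfsg.Agent.GTwoOdd.HexaT

/-!
# The normaliser of the group generated by the root groups contains `C(t)`
-/

set_option autoImplicit false

namespace Cfsg.Agent.GTwoOdd

open Matrix

section matrices

variable {F : Type*} [Field F]

/-- `SL(2,F)` is generated by the unipotents -/
theorem mem_of_up_lo (H : Subgroup (SL2 F)) (h1 : ∀ a, up a ∈ H) (h2 : ∀ a, lo a ∈ H) (x : SL2 F) : x ∈ H := by
  have key : ∀ x : SL2 F, (x : M2 F) 1 0 ≠ 0 → x ∈ H := by
    intro x hc
    have hdet := sl_coe_det x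
    rw [Matrix.det_fin_two] at hdet
    have e : x = up (((x : M2 F) 0 0 - 1) / (x : M2 F) 1 0) * lo ((x : M2 F) 1 0) *
        up (((x : M2 F) 1 1 - 1) / (x : M2 F) 1 0) := by
      apply Subtype.ext
      change (x : M2 F) = (up (((x : M2 F) 0 0 - 1) / (x : M2 F) 1 0) : M2 F) * (lo ((x : M2 F) 1 0) : M2 F) *
        (up (((x : M2 F) 1 1 - 1) / (x : M2 F) 1 0) : M2 F)
      rw [up_coe, up_coe, lo_coe, m2_eq_iff]
      simp only [m2_mul_00, m2_mul_01, m2_mul_10, m2_mul_11]
      simp only [Matrix.of_apply, Matrix.cons_val', Matrix.cons_val_zero, Matrix.cons_val_one,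
        Matrix.cons_val_fin_one]
      refine ⟨?_, ?_, ?_, ?_⟩
      · field_simp; ring
      · field_simp
        linear_combination -hdet
      · ring
      · field_simp; ring
    rw [e]
    exact mul_mem (mul_mem (h1 _) (h2 _)) (h1 _)
  by_cases hc : (x : M2 F) 1 0 = 0
  · have hdet := sl_coe_det x
    rw [Matrix.det_fin_two, hc] at hdet
    have hd : (x : M2 F) 1 1 ≠ 0 := by
      intro h; rw [h] at hdet; simp at hdet
    have h3 : x * lo 1 ∈ H := by
      apply key
      change ((x : M2 F) * ((lo (1 : F) : SL2 F) : M2 F)) 1 0 ≠ 0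
      rw [m2_mul_10, hc, lo_coe]
      simpa using hd
    have h4 := mul_mem h3 (inv_mem (h2 1))
    rwa [mul_inv_cancel_right] at h4
  · exact key x hc

/-- a unipotent matrix inverted by `diag(1,-1)` is upper or lower unipotent -/
theorem up_or_lo {y : SL2 F} (h : ((y⁻¹ : SL2 F) : M2 F) * dg F = dg F * y) (ht : (y : M2 F).trace = 2)
    (h2 : (2 : F) ≠ 0) : (∃ a, y = up a) ∨ ∃ a, y = lo a := by
  rw [sl_inv_coe, Matrix.adjugate_fin_two, m2_eq_iff] at h
  simp only [m2_mul_00, m2_mul_01, m2_mul_10, m2_mul_11] at h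
  simp only [dg, Matrix.of_apply, Matrix.cons_val', Matrix.cons_val_zero, Matrix.cons_val_one,
    Matrix.cons_val_fin_one] at h
  obtain ⟨e1, -, -, -⟩ := h
  rw [Matrix.trace_fin_two] at ht
  have h00 : (y : M2 F) 0 0 = 1 := by
    have : 2 * (y : M2 F) 0 0 = 2 * 1 := by linear_combination ht - e1
    exact mul_left_cancel₀ h2 this
  have h11 : (y : M2 F) 1 1 = 1 := by linear_combination ht - h00
  have hdet := sl_coe_det y
  rw [Matrix.det_fin_two, h00, h11] at hdet
  have h3 : (y : M2 F) 0 1 * (y : M2 F) 1 0 = 0 := by linear_combination -hdet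
  rcases mul_eq_zero.1 h3 with h4 | h4
  · right
    exact ⟨(y : M2 F) 1 0, sl2_ext (by simp [lo, h00]) (by simp [lo, h4]) (by simp [lo]) (by simp [lo, h11])⟩
  · left
    exact ⟨(y : M2 F) 0 1, sl2_ext (by simp [up, h00]) (by simp [up]) (by simp [up, h4]) (by simp [up, h11])⟩

theorem cc_up_pow (a : F) (n : ℕ) : up a ^ n = up (n * a) := by
  induction n with
  | zero => rw [pow_zero, Nat.cast_zero, zero_mul, up_zero]
  | succ n ih => rw [pow_succ, ih, up_mul]; congr 1; push_cast; ring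

theorem cc_lo_pow (a : F) (n : ℕ) : lo a ^ n = lo (n * a) := by
  induction n with
  | zero => rw [pow_zero, Nat.cast_zero, zero_mul, lo_zero]
  | succ n ih => rw [pow_succ, ih, lo_mul]; congr 1; push_cast; ring

/-- elements of order `p` have trace `2` -/
theorem trace_of_pow {p : ℕ} [Fact p.Prime] [CharP F p] {y : SL2 F} (h : y ^ p = 1) : (y : M2 F).trace = 2 := by
  have hy : (y : M2 F) ^ p = 1 := by
    have := congrArg (fun z : SL2 F => (z : M2 F)) h
    simpa using this
  have : CharP (M2 F) p := Matrix.charP p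
  have h1 : ((y : M2 F) - 1) ^ p = 0 := by
    rw [sub_pow_char_of_commute p (Commute.one_right _), hy, one_pow, sub_self]
  have h2 : IsNilpotent ((y : M2 F) - 1) := ⟨p, h1⟩
  have h3 := Matrix.isNilpotent_trace_of_isNilpotent h2
  have h4 := h3.eq_zero
  rw [Matrix.trace_sub, Matrix.trace_one] at h4
  simp at h4
  linear_combination h4

end matrices

section sub

variable {G : Type*} [Group G]

/-- a subgroup contained in the union of two subgroups is contained in one of them -/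
theorem le_or_le_of_union {H A B : Subgroup G} (h : ∀ x ∈ H, x ∈ A ∨ x ∈ B) : H ≤ A ∨ H ≤ B := by
  by_contra hne
  rw [not_or] at hne
  obtain ⟨h1, h2⟩ := hne
  rw [SetLike.not_le_iff_exists] at h1 h2
  obtain ⟨x, hx, hxA⟩ := h1
  obtain ⟨y, hy, hyB⟩ := h2
  have hxB : x ∈ B := (h x hx).resolve_left hxA
  have hyA : y ∈ A := (h y hy).resolve_right hyB
  rcases h _ (mul_mem hx hy) with h3 | h3
  · apply hxA
    have := mul_mem h3 (inv_mem hyA)
    rwa [mul_inv_cancel_right] at this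
  · apply hyB
    have := mul_mem (inv_mem hxB) h3
    rwa [inv_mul_cancel_left] at this

/-- in a finite group `c D c⁻¹ ≤ D` is enough for `c` to normalise `D` -/
theorem mem_normalizer_of_cjS_le [Finite G] {D : Subgroup G} {c : G} (h : cjS c D ≤ D) :
    c ∈ Subgroup.normalizer (D : Set G) := by
  have h2 : cjS c D = D := by
    apply Subgroup.eq_of_le_of_card_ge h
    exact (Nat.card_congr (D.equivMapOfInjective _ (MulAut.conj c).injective).toEquiv).le
  rw [Subgroup.mem_normalizer_iff]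
  intro x
  constructor
  · intro hx
    exact h (conj_mem_cjS hx)
  · intro hx
    have h3 : c * x * c⁻¹ ∈ cjS c D := by rw [h2]; exact hx
    rw [mem_cjS] at h3
    have e : c⁻¹ * (c * x * c⁻¹) * c = x := by group
    rwa [e] at h3

end sub

namespace LocalSL

variable {G : Type*} [Group G] {t : G} {F1 F2 : Type*} [Field F1] [Field F2]
variable [Finite F1] [Finite F2] {L : LocalSL t F1 F2} {s g : G}

/-- the group generated by the root groups -/
def GG (L : LocalSL t F1 F2) (g : G) : Subgroup G := ⨆ m : ℕ, L.XN g m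

/-- its normaliser -/
def MM (L : LocalSL t F1 F2) (g : G) : Subgroup G := Subgroup.normalizer (L.GG g : Set G)

theorem XN_le_GG (L : LocalSL t F1 F2) (g : G) (m : ℕ) : L.XN g m ≤ L.GG g := le_iSup (fun m => L.XN g m) m

theorem GG_le_MM (L : LocalSL t F1 F2) (g : G) : L.GG g ≤ L.MM g := Subgroup.le_normalizer

theorem cjS_GG_le {c : G} (h : ∀ m : ℕ, ∃ k : ℕ, cjS c (L.XN g m) ≤ L.XN g k) : cjS c (L.GG g) ≤ L.GG g := by
  have h1 : L.GG g ≤ (L.GG g).comap (MulAut.conj c).toMonoidHom := by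
    refine iSup_le fun m => ?_
    obtain ⟨k, hk⟩ := h m
    intro x hx
    exact XN_le_GG L g k (hk (conj_mem_cjS hx))
  rintro _ ⟨x, hx, rfl⟩
  exact h1 hx

theorem mem_MM [Finite G] {c : G} (h : ∀ m : ℕ, ∃ k : ℕ, cjS c (L.XN g m) ≤ L.XN g k) : c ∈ L.MM g :=
  mem_normalizer_of_cjS_le (cjS_GG_le h)

/-- `e = e2` : an element which centralises `t` and `s` permutes the root groups of the factor -/
theorem perm_aux {F : Type*} [Field F] [Finite F] (h2 : (2 : F) ≠ 0) {e : SL2 F →* G} (he : Function.Injective e)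
    {s c : G} (hs : Acts e s (dg F)) (hcs : c * s = s * c) (hn : ∀ x, ∃ y, c * e x = e y * c) :
    (cjS c ((upU F).map e) ≤ (upU F).map e ∨ cjS c ((upU F).map e) ≤ (loU F).map e) ∧
    (cjS c ((loU F).map e) ≤ (upU F).map e ∨ cjS c ((loU F).map e) ≤ (loU F).map e) := by
  obtain ⟨p, hp⟩ := CharP.exists F
  have : Fact p.Prime := ⟨CharP.char_is_prime F p⟩
  -- the key
  have key : ∀ x : SL2 F, x ^ p = 1 → s * e x = e x⁻¹ * s → ∃ y : SL2 F, c * e x * c⁻¹ = e y ∧
      ((∃ a, y = up a) ∨ ∃ a, y = lo a) := by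
    intro x hx hsx
    obtain ⟨y, hy⟩ := hn x
    have hy' : c * e x * c⁻¹ = e y := by rw [hy]; group
    refine ⟨y, hy', up_or_lo ?_ (trace_of_pow (p := p) ?_) h2⟩
    · obtain ⟨z, hz⟩ := exists_cj hs.1 y
      have h3 := hs.2 y z hz
      have h4 : s * e y = e y⁻¹ * s := by
        rw [← hy', map_inv, ← hy']
        have hcs' : c⁻¹ * s = s * c⁻¹ := by
          calc c⁻¹ * s = c⁻¹ * (s * c) * c⁻¹ := by group
            _ = c⁻¹ * (c * s) * c⁻¹ := by rw [hcs]
            _ = s * c⁻¹ := by group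
        calc s * (c * e x * c⁻¹) = (s * c) * e x * c⁻¹ := by group
          _ = c * (s * e x) * c⁻¹ := by rw [← hcs]; group
          _ = c * (e x)⁻¹ * (s * c⁻¹) := by rw [hsx, map_inv]; group
          _ = (c * e x * c⁻¹)⁻¹ * s := by rw [← hcs']; group
      have h5 : z = y⁻¹ := by
        apply he
        rw [h3] at h4
        exact mul_right_cancel h4
      rw [← h5]
      exact hz
    · apply he
      rw [map_pow, map_one, ← hy', conj_pow, ← map_pow, hx, map_one]
      group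
  have hup : ∀ a : F, (up a) ^ p = 1 := by
    intro a
    rw [cc_up_pow, CharP.cast_eq_zero, zero_mul, up_zero]
  have hlo : ∀ a : F, (lo a) ^ p = 1 := by
    intro a
    rw [cc_lo_pow, CharP.cast_eq_zero, zero_mul, lo_zero]
  have hmem : ∀ {y : SL2 F}, ((∃ a, y = up a) ∨ ∃ a, y = lo a) → e y ∈ (upU F).map e ∨ e y ∈ (loU F).map e := by
    rintro y (⟨a, rfl⟩ | ⟨a, rfl⟩)
    · exact Or.inl ⟨_, up_mem a, rfl⟩
    · exact Or.inr ⟨_, lo_mem a, rfl⟩
  constructor
  · apply le_or_le_of_union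
    rintro _ ⟨_, ⟨_, ⟨a, rfl⟩, rfl⟩, rfl⟩
    obtain ⟨y, h3, h4⟩ := key (up a) (hup a) (by
      rw [up_inv]; exact hs.2 _ _ (dg_up a))
    change c * e (up a) * c⁻¹ ∈ _ ∨ c * e (up a) * c⁻¹ ∈ _
    rw [h3]
    exact hmem h4
  · apply le_or_le_of_union
    rintro _ ⟨_, ⟨_, ⟨a, rfl⟩, rfl⟩, rfl⟩
    obtain ⟨y, h3, h4⟩ := key (lo a) (hlo a) (by
      rw [lo_inv]; exact hs.2 _ _ (dg_lo a))
    change c * e (lo a) * c⁻¹ ∈ _ ∨ c * e (lo a) * c⁻¹ ∈ _
    rw [h3]
    exact hmem h4

namespace Swap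

variable (S : L.Split s g)
include S

/-- `X m` for `m` divisible by `3` -/
theorem XN_base {m : ℕ} (h : m % 3 = 0) : L.XN g m = L.baseX m := by
  have h1 : cjS (rho L (wn F1) g ^ m) (L.baseX m) = cjS 1 (L.baseX m) := by
    apply EqT.cjS_eq (T := TT L) _ NormT.one (fun c hc => S.cjS_base hc m)
    have := S.rho_mod (m := m) (k := 0) (by omega)
    rwa [pow_zero] at this
  unfold XN
  rw [h1, cjS_one]

theorem e1_mem_GG (x : SL2 F1) : L.e1 x ∈ L.GG g := by
  have h : x ∈ (L.GG g).comap L.e1 := by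
    apply mem_of_up_lo
    · intro a
      have h1 : L.e1 (up a) ∈ L.XN g 3 := by
        rw [S.XN_base (by norm_num), L.baseX_3 (by norm_num)]
        exact ⟨_, up_mem a, rfl⟩
      exact XN_le_GG L g 3 h1
    · intro a
      have h1 : L.e1 (lo a) ∈ L.XN g 9 := by
        rw [S.XN_base (by norm_num), L.baseX_1 (by norm_num)]
        exact ⟨_, lo_mem a, rfl⟩
      exact XN_le_GG L g 9 h1
  exact h

theorem e2_mem_GG (x : SL2 F2) : L.e2 x ∈ L.GG g := by
  have h : x ∈ (L.GG g).comap L.e2 := by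
    apply mem_of_up_lo
    · intro a
      have h1 : L.e2 (up a) ∈ L.XN g 0 := by
        rw [S.XN_base (by norm_num), L.baseX_0 (by norm_num)]
        exact ⟨_, up_mem a, rfl⟩
      exact XN_le_GG L g 0 h1
    · intro a
      have h1 : L.e2 (lo a) ∈ L.XN g 6 := by
        rw [S.XN_base (by norm_num), L.baseX_2 (by norm_num)]
        exact ⟨_, lo_mem a, rfl⟩
      exact XN_le_GG L g 6 h1
  exact h

/-- elements of `C(t, s)` permute the root groups of `C(t)` -/
theorem cent_base {c : G} (hct : c * t = t * c) (hcs : c * s = s * c) (i : ℕ) :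
    ∃ j, cjS c (L.baseX i) ≤ L.baseX j := by
  have h1 := perm_aux S.toFrame.two1 L.inj1 S.toFrame.rep.acts1 hcs (S.toFrame.hyp.norm1 c hct)
  have h2 := perm_aux S.toFrame.two2 L.inj2 S.toFrame.rep.acts2 hcs (S.toFrame.hyp.norm2 c hct)
  have h4 : i % 4 < 4 := Nat.mod_lt _ (by norm_num)
  interval_cases hi : i % 4
  · rw [L.baseX_0 hi]
    rcases h2.1 with h | h
    · exact ⟨0, h.trans (L.baseX_0 (by norm_num)).ge⟩
    · exact ⟨2, h.trans (L.baseX_2 (by norm_num)).ge⟩
  · rw [L.baseX_1 hi]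
    rcases h1.2 with h | h
    · exact ⟨3, h.trans (L.baseX_3 (by norm_num)).ge⟩
    · exact ⟨1, h.trans (L.baseX_1 (by norm_num)).ge⟩
  · rw [L.baseX_2 hi]
    rcases h2.2 with h | h
    · exact ⟨0, h.trans (L.baseX_0 (by norm_num)).ge⟩
    · exact ⟨2, h.trans (L.baseX_2 (by norm_num)).ge⟩
  · rw [L.baseX_3 hi]
    rcases h1.1 with h | h
    · exact ⟨3, h.trans (L.baseX_3 (by norm_num)).ge⟩
    · exact ⟨1, h.trans (L.baseX_1 (by norm_num)).ge⟩

/-- `ρ` normalises `⟨t, s⟩`: conjugates of elements of `C(t, s)` -/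
theorem cent_rho {c : G} (hct : c * t = t * c) (hcs : c * s = s * c) (m : ℕ) :
    ((ro L g ^ m)⁻¹ * c * ro L g ^ m) * t = t * ((ro L g ^ m)⁻¹ * c * ro L g ^ m) ∧
    ((ro L g ^ m)⁻¹ * c * ro L g ^ m) * s = s * ((ro L g ^ m)⁻¹ * c * ro L g ^ m) := by
  -- `c` commutes with every `x` of `⟨t, s⟩`
  have h1 : ∀ m : ℕ, c * (ro L g ^ m * t * (ro L g ^ m)⁻¹) = (ro L g ^ m * t * (ro L g ^ m)⁻¹) * c := by
    intro m
    have hm3 : m % 3 < 3 := Nat.mod_lt _ (by norm_num)
    have e : tN t L g m = tN t L g (m % 3) := S.tN_eq (by omega)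
    have e' : ro L g ^ m * t * (ro L g ^ m)⁻¹ = tN t L g (m % 3) := e
    rw [e']
    interval_cases h : m % 3
    · rw [S.tN_0]; exact hct
    · rw [S.tN_1]; exact hcs
    · rw [S.tN_2, ← mul_assoc, hcs, mul_assoc, hct, mul_assoc]
  constructor
  · have h := h1 m
    calc ((ro L g ^ m)⁻¹ * c * ro L g ^ m) * t
        = (ro L g ^ m)⁻¹ * (c * (ro L g ^ m * t * (ro L g ^ m)⁻¹)) * ro L g ^ m := by group
      _ = (ro L g ^ m)⁻¹ * ((ro L g ^ m * t * (ro L g ^ m)⁻¹) * c) * ro L g ^ m := by rw [h]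
      _ = _ := by group
  · have h := h1 (m + 1)
    have hs : s = ro L g * t * (ro L g)⁻¹ := by
      have := S.rho_t
      calc s = s * ro L g * (ro L g)⁻¹ := by group
        _ = _ := by rw [← this]
    have e : ro L g ^ (m + 1) * t * (ro L g ^ (m + 1))⁻¹ = ro L g ^ m * s * (ro L g ^ m)⁻¹ := by
      rw [hs, pow_succ]
      group
    rw [e] at h
    calc ((ro L g ^ m)⁻¹ * c * ro L g ^ m) * s
        = (ro L g ^ m)⁻¹ * (c * (ro L g ^ m * s * (ro L g ^ m)⁻¹)) * ro L g ^ m := by group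
      _ = (ro L g ^ m)⁻¹ * ((ro L g ^ m * s * (ro L g ^ m)⁻¹) * c) * ro L g ^ m := by rw [h]
      _ = _ := by group

/-- `C(t, s)` normalises the group generated by the root groups -/
theorem cent_four_mem [Finite G] {c : G} (hct : c * t = t * c) (hcs : c * s = s * c) : c ∈ L.MM g := by
  apply mem_MM
  intro m
  obtain ⟨h1, h2⟩ := S.cent_rho hct hcs m
  obtain ⟨j, hj⟩ := S.cent_base h1 h2 m
  -- `k ≡ m` modulo `3`, `k ≡ j` modulo `4`
  obtain ⟨k, hk3, hk4⟩ : ∃ k, k % 3 = m % 3 ∧ k % 4 = j % 4 := by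
    refine ⟨4 * (m % 3) + 9 * (j % 4), ?_, ?_⟩ <;> omega
  refine ⟨k, ?_⟩
  have e : L.XN g k = cjS (ro L g ^ m) (L.baseX j) := by
    unfold XN
    rw [L.baseX_mod hk4]
    exact EqT.cjS_eq (T := TT L) (S.rho_mod hk3) (S.nT_rho.pow m) (fun c hc => S.cjS_base hc j)
  rw [e]
  unfold XN
  rw [← cjS_mul]
  have e2 : c * rho L (wn F1) g ^ m = ro L g ^ m * ((ro L g ^ m)⁻¹ * c * ro L g ^ m) := by group
  rw [e2, cjS_mul]
  exact cjS_mono hj

theorem rho_mem_MM [Finite G] : ro L g ∈ L.MM g := mem_MM fun m => ⟨m + 4, (S.rho_XN m).le⟩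

/-- `C(t)` normalises the group generated by the root groups -/
theorem cent_mem [Finite G] {c : G} (hct : c * t = t * c) : c ∈ L.MM g := by
  have F := S.toFrame
  -- `s' = c s c⁻¹`
  set s' := c * s * c⁻¹ with hs'
  have hc' : t * c⁻¹ = c⁻¹ * t := by
    calc t * c⁻¹ = c⁻¹ * (c * t) * c⁻¹ := by group
      _ = c⁻¹ * t := by rw [hct]; group
  have h1 : s' * t = t * s' := by
    calc s' * t = c * s * (c⁻¹ * t) := by rw [hs']; group
      _ = c * (s * t) * c⁻¹ := by rw [← hc']; group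
      _ = (c * t) * s * c⁻¹ := by rw [F.st]; group
      _ = t * s' := by rw [hct, hs']; group
  have h2 : s' * s' = 1 := by
    calc s' * s' = c * (s * s) * c⁻¹ := by rw [hs']; group
      _ = 1 := by rw [F.ss]; group
  have h3 : s' ≠ 1 := by
    intro h
    apply F.s_ne_one
    calc s = c⁻¹ * s' * c := by rw [hs']; group
      _ = 1 := by rw [h]; group
  have h4 : s' ≠ t := by
    intro h
    apply F.s_ne_t
    calc s = c⁻¹ * s' * c := by rw [hs']; group
      _ = c⁻¹ * (t * c) := by rw [h]; group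
      _ = t := by rw [← hct]; group
  obtain ⟨E1, E2, m1, m2, F'⟩ := F.hyp.exists_frame h1 h2 h3 h4
  have hty : IsSquare (dg F1).det ↔ IsSquare E1.det := by
    rw [F.isSquare_iff, F'.isSquare_iff]
    have hcj : ∀ {a b : G}, a * b = b * a → (c * a * c⁻¹) * (c * b * c⁻¹) = (c * b * c⁻¹) * (c * a * c⁻¹) := by
      intro a b h
      calc (c * a * c⁻¹) * (c * b * c⁻¹) = c * (a * b) * c⁻¹ := by group
        _ = c * (b * a) * c⁻¹ := by rw [h]
        _ = _ := by group
    have ht' : c * t * c⁻¹ = t := by rw [hct]; group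
    constructor
    · rintro ⟨x, k1, k2, k3⟩
      refine ⟨c * x * c⁻¹, ?_, hcj k2, ?_⟩
      · have := hcj k1; rwa [ht'] at this
      · have e : c * x * c⁻¹ * (c * x * c⁻¹) = c * (x * x) * c⁻¹ := by group
        rw [e]
        rcases k3 with k3 | k3 | k3
        · left; rw [k3, ht']
        · right; left; rw [k3]
        · right; right
          rw [k3]
          calc c * (s * t) * c⁻¹ = (c * s * c⁻¹) * (c * t * c⁻¹) := by group
            _ = s' * t := by rw [ht']
    · rintro ⟨x, k1, k2, k3⟩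
      have hcj' : ∀ {a b : G}, a * b = b * a → (c⁻¹ * a * c) * (c⁻¹ * b * c) = (c⁻¹ * b * c) * (c⁻¹ * a * c) := by
        intro a b h
        calc (c⁻¹ * a * c) * (c⁻¹ * b * c) = c⁻¹ * (a * b) * c := by group
          _ = c⁻¹ * (b * a) * c := by rw [h]
          _ = _ := by group
      have ht'' : c⁻¹ * t * c = t := by rw [← hc']; group
      have hs'' : c⁻¹ * s' * c = s := by rw [hs']; group
      refine ⟨c⁻¹ * x * c, ?_, ?_, ?_⟩
      · have := hcj' k1; rwa [ht''] at this
      · have := hcj' k2; rwa [hs''] at this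
      · have e : c⁻¹ * x * c * (c⁻¹ * x * c) = c⁻¹ * (x * x) * c := by group
        rw [e]
        rcases k3 with k3 | k3 | k3
        · left; rw [k3, ht'']
        · right; left; rw [k3, hs'']
        · right; right
          rw [k3]
          calc c⁻¹ * (s' * t) * c = (c⁻¹ * s' * c) * (c⁻¹ * t * c) := by group
            _ = s * t := by rw [ht'', hs'']
  obtain ⟨x, y, hxy⟩ := F.conj_of_type F'.rep F'.tr1 F'.tr2 hty
  -- `d c` centralises `t` and `s`
  set d := L.e1 x * L.e2 y with hd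
  have hdM : d ∈ L.MM g := GG_le_MM L g (mul_mem (S.e1_mem_GG x) (S.e2_mem_GG y))
  have hdt : d * t = t * d := (Rep.e12 L x y).comm
  have h5 : d * c ∈ L.MM g := by
    apply S.cent_four_mem
    · rw [mul_assoc, hct, ← mul_assoc, hdt, mul_assoc]
    · calc d * c * s = d * s' * c := by rw [hs']; group
        _ = s * (d * c) := by rw [hxy]; group
  have h6 := mul_mem (inv_mem hdM) h5
  rwa [inv_mul_cancel_left] at h6

end Swap

end LocalSL

end Cfsg.Agent.GTwoOdd
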