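import Cfsg.Agent.GTwoOdd.CloseCent

/-!
# All involutions of the normaliser of the group generated by the root groups are conjugate in it
-/

set_option autoImplicit false

namespace Cfsg.Agent.GTwoOdd

open Matrix

section matrices

variable {F : Type*} [Field F]

/-- `diag(u, 1/u)` -/
def hU (u : Fˣ) : SL2 F := ⟨!![(u : F), 0; 0, ((u⁻¹ : Fˣ) : F)], by simp [Matrix.det_fin_two]⟩

theorem hU_coe (u : Fˣ) : (hU u : M2 F) = !![(u : F), 0; 0, ((u⁻¹ : Fˣ) : F)] := rfl

theorem hU_mul (u v : Fˣ) : hU (u * v) = hU u * hU v := by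
  apply Subtype.ext
  change (hU (u * v) : M2 F) = (hU u : M2 F) * (hU v : M2 F)
  rw [hU_coe, hU_coe, hU_coe, m2_eq_iff]
  simp only [m2_mul_00, m2_mul_01, m2_mul_10, m2_mul_11]
  simp [mul_comm]

theorem hU_one : hU (1 : Fˣ) = 1 := by
  apply Subtype.ext
  change (hU (1 : Fˣ) : M2 F) = 1
  rw [hU_coe, m2_eq_iff]
  simp

theorem hU_inv (u : Fˣ) : hU u⁻¹ = (hU u)⁻¹ := by
  rw [eq_inv_iff_mul_eq_one, ← hU_mul, inv_mul_cancel, hU_one]

theorem hU_inj {u : Fˣ} (h : hU u = 1) : u = 1 := by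
  have := congrArg (fun x : SL2 F => (x : M2 F) 0 0) h
  simp [hU] at this
  exact_mod_cast this

theorem hU_dg (u : Fˣ) : (hU u : M2 F) * dg F = dg F * hU u := by
  rw [hU_coe, m2_eq_iff]
  simp only [m2_mul_00, m2_mul_01, m2_mul_10, m2_mul_11]
  simp [dg]

theorem hU_wn_trace (u : Fˣ) : ((hU u * wn F : SL2 F) : M2 F).trace = 0 := by
  change ((hU u : M2 F) * (wn F : M2 F)).trace = 0
  rw [Matrix.trace_fin_two, m2_mul_00, m2_mul_11, hU_coe, wn_coe]
  simp

theorem wn_trace : (wn F : M2 F).trace = 0 := by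
  rw [Matrix.trace_fin_two, wn_coe]
  simp

end matrices

namespace LocalSL

variable {G : Type*} [Group G] {t : G} {F1 F2 : Type*} [Field F1] [Field F2]
variable [Finite F1] [Finite F2] {L : LocalSL t F1 F2} {s g : G}

/-- inner involutions of `C(t)` -/
def Inn (L : LocalSL t F1 F2) (y : G) : Prop :=
  ∃ A B, L.Rep y A B ∧ A.trace = 0 ∧ B.trace = 0 ∧ IsSquare A.det

/-- outer involutions of `C(t)` -/
def Out (L : LocalSL t F1 F2) (y : G) : Prop :=
  ∃ A B, L.Rep y A B ∧ A.trace = 0 ∧ B.trace = 0 ∧ ¬ IsSquare A.det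

theorem isSquare_smul_det {F : Type*} [Field F] {a : F} (ha : a ≠ 0) (A : M2 F) :
    IsSquare (a • A).det ↔ IsSquare A.det := by
  rw [det_smul2]
  constructor
  · intro h
    have h1 : IsSquare ((a * a)⁻¹ * (a * a * A.det)) := (IsSquare.inv ⟨a, rfl⟩).mul h
    rwa [inv_mul_cancel_left₀ (mul_ne_zero ha ha)] at h1
  · intro h
    exact IsSquare.mul ⟨a, rfl⟩ h

/-- the type does not depend on the matrices -/
theorem Rep.isSquare_iff {c : G} {A A' : M2 F1} {B B' : M2 F2} (h : L.Rep c A B) (h' : L.Rep c A' B') :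
    IsSquare A.det ↔ IsSquare A'.det := by
  obtain ⟨⟨a, ha, rfl⟩, -⟩ := h.prop h'
  exact (isSquare_smul_det ha A).symm

theorem Hyp.inn_or_out (H : L.Hyp) {y : G} (hy : y * t = t * y) (h : y * y = 1) (h1 : y ≠ 1) (h2 : y ≠ t) :
    L.Inn y ∨ L.Out y := by
  obtain ⟨A, B, hr, hA, hB⟩ := H.rep_of_invol hy h h1 h2
  by_cases h3 : IsSquare A.det
  · exact Or.inl ⟨A, B, hr, hA, hB, h3⟩
  · exact Or.inr ⟨A, B, hr, hA, hB, h3⟩

theorem Hyp.frame_of_rep (H : L.Hyp) {y : G} {A : M2 F1} {B : M2 F2} (h : L.Rep y A B) (hA : A.trace = 0)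
    (hB : B.trace = 0) : ∃ n1 n2, L.Frame y A B n1 n2 := by
  obtain ⟨n1, hn1⟩ := exists_anti H.two_ne1 h.det1 hA
  obtain ⟨n2, hn2⟩ := exists_anti H.two_ne2 h.det2 hB
  exact ⟨n1, n2, H, h, hA, hB, hn1, hn2⟩

theorem Hyp.inn_conj (H : L.Hyp) {y y' : G} (h : L.Inn y) (h' : L.Inn y') :
    ∃ (a : SL2 F1) (b : SL2 F2), L.e1 a * L.e2 b * y = y' * (L.e1 a * L.e2 b) := by
  obtain ⟨A, B, hr, hA, hB, hs⟩ := h
  obtain ⟨A', B', hr', hA', hB', hs'⟩ := h'
  obtain ⟨n1, n2, F⟩ := H.frame_of_rep hr' hA' hB'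
  exact F.conj_of_type hr hA hB ⟨fun _ => hs, fun _ => hs'⟩

theorem Hyp.out_conj (H : L.Hyp) {y y' : G} (h : L.Out y) (h' : L.Out y') :
    ∃ (a : SL2 F1) (b : SL2 F2), L.e1 a * L.e2 b * y = y' * (L.e1 a * L.e2 b) := by
  obtain ⟨A, B, hr, hA, hB, hs⟩ := h
  obtain ⟨A', B', hr', hA', hB', hs'⟩ := h'
  obtain ⟨n1, n2, F⟩ := H.frame_of_rep hr' hA' hB'
  exact F.conj_of_type hr hA hB ⟨fun h => absurd h hs', fun h => absurd h hs⟩

namespace Swap

variable (S : L.Split s g)
include S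

/-- an element of `T1` whose conjugate under `ρ` commutes with `r1` is trivial -/
theorem eq_one_of_rho {y : G} (hy : y ∈ L.tor1 (dg F1))
    (h : (ro L g * y * (ro L g)⁻¹) * L.e1 (wn F1) = L.e1 (wn F1) * (ro L g * y * (ro L g)⁻¹)) : y = 1 := by
  have F := S.toFrame
  set r := ro L g with hr
  set n := L.e1 (wn F1) with hn
  have hyT : y ∈ TT L := Frame.tor1_le L (dg F1) (dg F2) hy
  have h1 : n * y = y⁻¹ * n := F.tor1_inv hy
  have h2 : n * r * n⁻¹ * r = t * s := S.r1_rho
  have h3 : n * r = t * s * r⁻¹ * n := by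
    calc n * r = (n * r * n⁻¹ * r) * r⁻¹ * n := by group
      _ = _ := by rw [h2]
  -- `z = r⁻¹ y⁻¹ r`
  have h4 : r * y * r⁻¹ = r⁻¹ * y⁻¹ * r := by
    have k1 : r⁻¹ * y⁻¹ * r ∈ TT L := S.nT_rho.2 _ (inv_mem hyT)
    have k2 : t * s ∈ TT L := mul_mem S.t_mem_TT S.s_mem_TT
    have k3 : (t * s) * (r⁻¹ * y⁻¹ * r) = (r⁻¹ * y⁻¹ * r) * (t * s) := F.tor_comm k2 k1
    have h3' : r⁻¹ * n⁻¹ = n⁻¹ * r * (t * s)⁻¹ := by
      have := congrArg (fun z => z⁻¹) h3
      simp only [_root_.mul_inv_rev, inv_inv] at this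
      rw [this]
      group
    calc r * y * r⁻¹ = (r * y * r⁻¹) * n * n⁻¹ := by group
      _ = n * (r * y * r⁻¹) * n⁻¹ := by rw [h]
      _ = (n * r) * y * (r⁻¹ * n⁻¹) := by group
      _ = t * s * r⁻¹ * (n * y) * (n⁻¹ * r * (t * s)⁻¹) := by rw [h3, h3']; group
      _ = (t * s) * (r⁻¹ * y⁻¹ * r) * (t * s)⁻¹ := by rw [h1]; group
      _ = r⁻¹ * y⁻¹ * r := by rw [k3]; group
  have h5 : r * r * y = y⁻¹ * (r * r) := by
    calc r * r * y = r * (r * y * r⁻¹) * r := by group
      _ = r * (r⁻¹ * y⁻¹ * r) * r := by rw [h4]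
      _ = _ := by group
  have h6 : r * r * r * y = y * (r * r * r) := by
    have k1 : r * r * r ∈ TT L := by
      have := S.rho_cube
      exact this
    exact F.tor_comm k1 hyT
  have h7 : r * y⁻¹ = y * r := by
    have k : r * y⁻¹ * (r * r) = y * r * (r * r) := by
      calc r * y⁻¹ * (r * r) = r * (y⁻¹ * (r * r)) := by group
        _ = r * (r * r * y) := by rw [h5]
        _ = r * r * r * y := by group
        _ = y * (r * r * r) := h6
        _ = _ := by group
    exact mul_right_cancel k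
  have h8 : r * y = y⁻¹ * r := by
    calc r * y = y⁻¹ * (y * r) * y := by group
      _ = y⁻¹ * (r * y⁻¹) * y := by rw [h7]
      _ = _ := by group
  have h9 : r * r * y = y * (r * r) := by
    calc r * r * y = r * (r * y) := by group
      _ = (r * y⁻¹) * r := by rw [h8]; group
      _ = y * (r * r) := by rw [h7]; group
  have h10 : y = y⁻¹ := by
    rw [h5] at h9
    exact (mul_right_cancel h9).symm
  have hyy : y * y = 1 := by
    nth_rw 1 [h10]
    exact inv_mul_cancel y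
  rw [← h10] at h8
  have hrt : r * t = s * r := S.rho_t
  have hrs : r * s = s * t * r := S.rho_s
  rcases F.tor_invol hyT hyy with h11 | h11 | h11 | h11
  · exact h11
  · exfalso
    rw [h11, hrt] at h8
    exact F.s_ne_t (mul_right_cancel h8)
  · exfalso
    rw [h11, hrs] at h8
    have := mul_right_cancel h8
    apply F.t_ne
    have h12 : s * t = s * 1 := by rw [this, mul_one]
    exact mul_left_cancel h12
  · exfalso
    rw [h11] at h8
    have h12 : r * (s * t) = t * r := by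
      calc r * (s * t) = (r * s) * t := by group
        _ = s * t * (r * t) := by rw [hrs]; group
        _ = (s * t) * s * r := by rw [hrt]; group
        _ = (t * s) * s * r := by rw [F.st]
        _ = t * (s * s) * r := by group
        _ = t * r := by rw [F.ss]; group
    rw [h12] at h8
    have h13 := mul_right_cancel h8
    apply F.s_ne_one
    have h14 : 1 * t = s * t := by rw [one_mul]; exact h13
    exact (mul_right_cancel h14).symm

/-- some element of `T1^ρ` is outer -/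
theorem exists_outer : ∃ u : F1ˣ, ∃ A B, L.Rep (ro L g * L.e1 (hU u) * (ro L g)⁻¹) A B ∧ ¬ IsSquare A.det := by
  classical
  have F := S.toFrame
  have h2 := F.two1
  have hmem : ∀ u : F1ˣ, ∃ A : M2 F1, ∃ B, L.Rep (ro L g * L.e1 (hU u) * (ro L g)⁻¹) A B ∧
      (A 0 1 = 0 ∧ A 1 0 = 0) := by
    intro u
    have h1 : L.e1 (hU u) ∈ TT L := Frame.tor1_le L (dg F1) (dg F2) ⟨hU u, hU_dg u, rfl⟩
    obtain ⟨A, B, hr, hA, hB⟩ := S.nT_rho.1 _ h1
    exact ⟨A, B, hr, (comm_dg_iff h2).1 hA⟩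
  choose A B hr hA using hmem
  have hA0 : ∀ u, A u 0 0 ≠ 0 := by
    intro u h
    apply (hr u).det1
    rw [Matrix.det_fin_two, h, (hA u).1]
    ring
  have hA1 : ∀ u, A u 1 1 ≠ 0 := by
    intro u h
    apply (hr u).det1
    rw [Matrix.det_fin_two, h, (hA u).1]
    ring
  let ψ : F1ˣ → F1ˣ := fun u => Units.mk0 (A u 0 0) (hA0 u) * (Units.mk0 (A u 1 1) (hA1 u))⁻¹
  have hψ : Function.Injective ψ := by
    intro u v huv
    have h3 : A u 0 0 * A v 1 1 = A v 0 0 * A u 1 1 := by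
      have h4 := congrArg (fun x : F1ˣ => (x : F1)) huv
      simp only [ψ, Units.val_mul, Units.val_mk0, Units.val_inv_eq_inv_val] at h4
      have k1 := hA1 u
      have k2 := hA1 v
      field_simp at h4
      linear_combination h4
    -- the product acts trivially on `L1`
    have h5 := (hr u).mul (hr v).inv
    have h6 : A u * (A v).adjugate = (A u 0 0 * A v 1 1) • (1 : M2 F1) := by
      rw [Matrix.adjugate_fin_two, m2_eq_iff]
      simp only [m2_mul_00, m2_mul_01, m2_mul_10, m2_mul_11]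
      simp [(hA u).1, (hA u).2, (hA v).1, (hA v).2]
      rw [h3]; ring
    rw [h6] at h5
    have h7 : ro L g * L.e1 (hU u) * (ro L g)⁻¹ * (ro L g * L.e1 (hU v) * (ro L g)⁻¹)⁻¹ =
        ro L g * L.e1 (hU (u * v⁻¹)) * (ro L g)⁻¹ := by
      rw [hU_mul, hU_inv, map_mul, map_inv]
      group
    rw [h7] at h5
    have h8 := S.eq_one_of_rho (y := L.e1 (hU (u * v⁻¹))) ⟨_, hU_dg _, rfl⟩ (h5.acts1.comm_of_one (wn F1))
    have h9 : hU (u * v⁻¹) = 1 := L.inj1 (by rw [h8, map_one])
    have h10 := hU_inj h9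
    exact mul_inv_eq_one.1 h10
  have hsurj : Function.Surjective ψ := Finite.surjective_of_injective hψ
  obtain ⟨b, hb⟩ : ∃ b : F1, ¬ IsSquare b := by
    apply FiniteField.exists_nonsquare
    intro h
    apply h2
    have : CharP F1 2 := by rw [← h]; exact ringChar.charP F1
    exact_mod_cast CharP.cast_eq_zero F1 2
  have hb0 : b ≠ 0 := by rintro rfl; exact hb IsSquare.zero
  obtain ⟨u, hu⟩ := hsurj (Units.mk0 b hb0)
  refine ⟨u, A u, B u, hr u, fun hsq => hb ?_⟩
  have h4 := congrArg (fun x : F1ˣ => (x : F1)) hu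
  simp only [ψ, Units.val_mul, Units.val_mk0, Units.val_inv_eq_inv_val] at h4
  rw [← h4]
  have e : A u 0 0 * (A u 1 1)⁻¹ = (A u).det * ((A u 1 1)⁻¹ * (A u 1 1)⁻¹) := by
    have k1 := hA1 u
    rw [Matrix.det_fin_two, (hA u).1]
    field_simp
    ring
  rw [e]
  exact hsq.mul ⟨_, rfl⟩

/-- `w = r1 r2` -/
theorem w_inn : L.Inn (L.e1 (wn F1) * L.e2 (wn F2)) :=
  ⟨_, _, Rep.e12 L _ _, wn_trace, wn_trace, by rw [sl_coe_det]; exact IsSquare.one⟩

/-- an inner involution which is conjugate to an outer one under `ρ` -/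
theorem fuse : ∃ y1 y2, L.Inn y1 ∧ L.Out y2 ∧ ro L g * y1 = y2 * ro L g := by
  have F := S.toFrame
  have H := F.hyp
  set w := L.e1 (wn F1) * L.e2 (wn F2) with hw
  have hww : w * w = 1 := F.ww
  have hwt : w * t = t * w := F.w_t
  have hws : w * s = s * w := F.w_s
  -- conjugates under `ρ` of involutions of `C(t, s)` outside `V` are in `C(t)`
  have key : ∀ y : G, y * t = t * y → y * s = s * y → y * y = 1 → y ∉ TT L →
      L.Inn (ro L g * y * (ro L g)⁻¹) ∨ L.Out (ro L g * y * (ro L g)⁻¹) := by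
    intro y h1 h2 h3 h4
    have h5 : ro L g * y * (ro L g)⁻¹ ∉ TT L := by
      intro h
      apply h4
      have := S.nT_rho.2 _ h
      have e : (ro L g)⁻¹ * (ro L g * y * (ro L g)⁻¹) * ro L g = y := by group
      rwa [e] at this
    apply H.inn_or_out
    · have hrs : ro L g * (s * t) = t * ro L g := by
        calc ro L g * (s * t) = (ro L g * s) * t := by group
          _ = s * t * (ro L g * t) := by rw [S.rho_s]; group
          _ = (s * t) * s * ro L g := by rw [S.rho_t]; group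
          _ = (t * s) * s * ro L g := by rw [F.st]
          _ = t * (s * s) * ro L g := by group
          _ = t * ro L g := by rw [F.ss]; group
      have hyst : y * (s * t) = (s * t) * y := by
        rw [← mul_assoc, h2, mul_assoc, h1, ← mul_assoc]
      calc ro L g * y * (ro L g)⁻¹ * t = ro L g * y * (ro L g)⁻¹ * (t * ro L g) * (ro L g)⁻¹ := by group
        _ = ro L g * (y * (s * t)) * (ro L g)⁻¹ := by rw [← hrs]; group
        _ = (ro L g * (s * t)) * y * (ro L g)⁻¹ := by rw [hyst]; group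
        _ = t * (ro L g * y * (ro L g)⁻¹) := by rw [hrs]; group
    · calc ro L g * y * (ro L g)⁻¹ * (ro L g * y * (ro L g)⁻¹) = ro L g * (y * y) * (ro L g)⁻¹ := by group
        _ = 1 := by rw [h3]; group
    · intro h; apply h5; rw [h]; exact one_mem _
    · intro h; apply h5; rw [h]; exact S.t_mem_TT
  have hwT : w ∉ TT L := F.w_not_mem
  obtain ⟨u, A, B, hr, hA⟩ := S.exists_outer
  rcases key w hwt hws hww hwT with h1 | h1
  · -- `ρ w ρ⁻¹` is inner
    obtain ⟨A0, B0, hr0, hA0, hB0, hsq⟩ := h1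
    set y := L.e1 (hU u) * w with hy
    have huT : L.e1 (hU u) ∈ TT L := Frame.tor1_le L (dg F1) (dg F2) ⟨hU u, hU_dg u, rfl⟩
    have hyT : y ∉ TT L := by
      intro h
      apply hwT
      have := mul_mem (inv_mem huT) h
      rwa [hy, inv_mul_cancel_left] at this
    have hyt : y * t = t * y := by
      rw [hy, mul_assoc, hwt, ← mul_assoc, F.tor_t huT, mul_assoc]
    have hys : y * s = s * y := by
      rw [hy, mul_assoc, hws, ← mul_assoc, F.tor_s huT, mul_assoc]
    have hyy : y * y = 1 := F.mul_w_sq huT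
    have hyI : L.Inn y := by
      refine ⟨_, (wn F2 : M2 F2), ?_, hU_wn_trace u, wn_trace, ?_⟩
      · have := Rep.e12 L (hU u * wn F1) (wn F2)
        rw [map_mul, mul_assoc] at this
        exact this
      · rw [sl_coe_det]; exact IsSquare.one
    refine ⟨y, ro L g * y * (ro L g)⁻¹, hyI, ?_, by group⟩
    rcases key y hyt hys hyy hyT with h3 | h3
    · exfalso
      obtain ⟨A1, B1, hr1, -, -, hsq1⟩ := h3
      have h4 := hr.mul hr0
      have e : ro L g * L.e1 (hU u) * (ro L g)⁻¹ * (ro L g * w * (ro L g)⁻¹) = ro L g * y * (ro L g)⁻¹ := by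
        rw [hy]; group
      rw [e] at h4
      have h5 := (hr1.isSquare_iff h4).1 hsq1
      rw [Matrix.det_mul, mul_comm] at h5
      exact not_isSquare_mul hsq hr0.det1 hA h5
    · exact h3
  · exact ⟨w, ro L g * w * (ro L g)⁻¹, S.w_inn, h1, by group⟩

/-- all involutions of `C(t)` are conjugate to `t` in the normaliser of the group generated by the root
groups -/
theorem conj_t [Finite G] {y : G} (hy : y * t = t * y) (hyy : y * y = 1) (hy1 : y ≠ 1) :
    ∃ m ∈ L.MM g, m * y = t * m := by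
  have F := S.toFrame
  have H := F.hyp
  by_cases hyt : y = t
  · exact ⟨1, one_mem _, by rw [hyt]; simp⟩
  have hrho := S.rho_mem_MM
  have hL : ∀ (a : SL2 F1) (b : SL2 F2), L.e1 a * L.e2 b ∈ L.MM g := fun a b =>
    GG_le_MM L g (mul_mem (S.e1_mem_GG a) (S.e2_mem_GG b))
  -- transitivity
  have tr : ∀ {a b c : G}, (∃ m ∈ L.MM g, m * a = b * m) → (∃ m ∈ L.MM g, m * b = c * m) →
      ∃ m ∈ L.MM g, m * a = c * m := by
    rintro a b c ⟨m, hm, h1⟩ ⟨m', hm', h2⟩
    refine ⟨m' * m, mul_mem hm' hm, ?_⟩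
    rw [mul_assoc, h1, ← mul_assoc, h2, mul_assoc]
  have sy : ∀ {a b : G}, (∃ m ∈ L.MM g, m * a = b * m) → ∃ m ∈ L.MM g, m * b = a * m := by
    rintro a b ⟨m, hm, h1⟩
    refine ⟨m⁻¹, inv_mem hm, ?_⟩
    calc m⁻¹ * b = m⁻¹ * (b * m) * m⁻¹ := by group
      _ = m⁻¹ * (m * a) * m⁻¹ := by rw [h1]
      _ = a * m⁻¹ := by group
  have hI : ∀ {a b : G}, L.Inn a → L.Inn b → ∃ m ∈ L.MM g, m * a = b * m := by
    intro a b ha hb
    obtain ⟨x, z, h⟩ := H.inn_conj ha hb
    exact ⟨_, hL x z, h⟩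
  have hO : ∀ {a b : G}, L.Out a → L.Out b → ∃ m ∈ L.MM g, m * a = b * m := by
    intro a b ha hb
    obtain ⟨x, z, h⟩ := H.out_conj ha hb
    exact ⟨_, hL x z, h⟩
  obtain ⟨y1, y2, h1, h2, h3⟩ := S.fuse
  have h12 : ∃ m ∈ L.MM g, m * y1 = y2 * m := ⟨_, hrho, h3⟩
  have hst : ∃ m ∈ L.MM g, m * s = t * m := sy ⟨_, hrho, S.rho_t⟩
  have hsIO := H.inn_or_out F.st F.ss F.s_ne_one F.s_ne_t
  rcases H.inn_or_out hy hyy hy1 hyt with h4 | h4 <;> rcases hsIO with h5 | h5
  · exact tr (hI h4 h5) hst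
  · exact tr (hI h4 h1) (tr h12 (tr (hO h2 h5) hst))
  · exact tr (hO h4 h2) (tr (sy h12) (tr (hI h1 h5) hst))
  · exact tr (hO h4 h5) hst

/-- all involutions of the normaliser of the group generated by the root groups are conjugate in it -/
theorem conj_mem [Finite G] {x : G} (hx : x ∈ L.MM g) (hxx : x * x = 1) (hx1 : x ≠ 1) :
    ∃ m ∈ L.MM g, m * x = t * m := by
  have F := S.toFrame
  have htt : t * t = 1 := L.t_sq
  have htM : t ∈ L.MM g := S.cent_mem rfl
  set a := x * t with ha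
  have haM : a ∈ L.MM g := mul_mem hx htM
  have hta : t * a = a⁻¹ * t := by
    rw [ha]
    have h1 : (x * t)⁻¹ = t * x := by
      rw [_root_.mul_inv_rev, inv_eq_of_mul_eq_one_left htt, inv_eq_of_mul_eq_one_left hxx]
    rw [h1, mul_assoc]
  have htp : ∀ k : ℕ, t * a ^ k = (a ^ k)⁻¹ * t := by
    intro k
    have e : t * a ^ k * t⁻¹ = (t * a * t⁻¹) ^ k := by rw [conj_pow]
    have e2 : t * a * t⁻¹ = a⁻¹ := by rw [hta]; group
    rw [e2, inv_pow] at e
    calc t * a ^ k = (t * a ^ k * t⁻¹) * t := by group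
      _ = _ := by rw [e]
  have hxt : x = a * t := by rw [ha, mul_assoc, htt, mul_one]
  have hfin : IsOfFinOrder a := isOfFinOrder_of_finite a
  rcases Nat.even_or_odd' (orderOf a) with ⟨k, hk | hk⟩
  · -- even order: a central involution
    have hpos := hfin.orderOf_pos
    have hk0 : 0 < k := by omega
    set z := a ^ k with hz
    have hzz : z * z = 1 := by
      rw [hz, ← pow_add]
      have : k + k = orderOf a := by omega
      rw [this, pow_orderOf_eq_one]
    have hz1 : z ≠ 1 := by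
      intro h
      have := orderOf_dvd_of_pow_eq_one (hz ▸ h)
      have := Nat.le_of_dvd hk0 this
      omega
    have hzi : z⁻¹ = z := inv_eq_of_mul_eq_one_left hzz
    have hzt : z * t = t * z := by
      have := htp k
      rw [← hz, hzi] at this
      exact this.symm
    have hza : z * a = a * z := by rw [hz, ← pow_succ, ← pow_succ']
    have hzx : z * x = x * z := by
      have e1 : z * x = z * (a * t) := congrArg (fun y => z * y) hxt
      have e2 : x * z = (a * t) * z := congrArg (fun y => y * z) hxt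
      rw [e1, e2, ← mul_assoc, hza, mul_assoc a z t, hzt, ← mul_assoc]
    obtain ⟨m, hm, h1⟩ := S.conj_t hzt hzz hz1
    -- `m x m⁻¹` commutes with `t`
    have hmz : t = m * z * m⁻¹ := by rw [h1]; group
    have h2 : (m * x * m⁻¹) * t = t * (m * x * m⁻¹) := by
      rw [hmz]
      calc m * x * m⁻¹ * (m * z * m⁻¹) = m * (x * z) * m⁻¹ := by group
        _ = m * (z * x) * m⁻¹ := by rw [hzx]
        _ = _ := by group
    obtain ⟨m', hm', h3⟩ := S.conj_t h2
      (by calc m * x * m⁻¹ * (m * x * m⁻¹) = m * (x * x) * m⁻¹ := by group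
            _ = 1 := by rw [hxx]; group)
      (by intro h
          apply hx1
          calc x = m⁻¹ * (m * x * m⁻¹) * m := by group
            _ = 1 := by rw [h]; group)
    refine ⟨m' * m, mul_mem hm' hm, ?_⟩
    calc m' * m * x = m' * (m * x * m⁻¹) * m := by group
      _ = t * (m' * m) := by rw [h3]; group
  · -- odd order
    refine ⟨(a ^ (k + 1))⁻¹, inv_mem (pow_mem haM _), ?_⟩
    have h1 : a ^ (k + 1) * t = x * a ^ (k + 1) := by
      have h2 : a ^ (k + 1) * a ^ (k + 1) = a := by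
        rw [← pow_add]
        have : k + 1 + (k + 1) = orderOf a + 1 := by omega
        rw [this, pow_succ, pow_orderOf_eq_one, one_mul]
      have h3 := htp (k + 1)
      calc a ^ (k + 1) * t = (a ^ (k + 1) * a ^ (k + 1)) * ((a ^ (k + 1))⁻¹ * t) := by group
        _ = a * (t * a ^ (k + 1)) := by rw [h2, h3]
        _ = x * a ^ (k + 1) := by rw [hxt]; group
    calc (a ^ (k + 1))⁻¹ * x = (a ^ (k + 1))⁻¹ * (x * a ^ (k + 1)) * (a ^ (k + 1))⁻¹ := by group
      _ = (a ^ (k + 1))⁻¹ * (a ^ (k + 1) * t) * (a ^ (k + 1))⁻¹ := by rw [h1]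
      _ = t * (a ^ (k + 1))⁻¹ := by group

end Swap

end LocalSL

end Cfsg.Agent.GTwoOdd
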