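import Cfsg.Agent.GTwoOdd.SLMore

/-!
# Elements of `SL(2,F)` of odd order inverted by an involution of `PGL(2,F)` which commute with their
conjugates under the torus
-/

set_option autoImplicit false

namespace Cfsg.Agent.GTwoOdd

open Matrix

section comp

variable {F : Type*} [Field F]

theorem neg_one_ne_one (h2 : (2 : F) ≠ 0) : (-1 : SL2 F) ≠ 1 := by
  intro h
  have := congrArg (fun z : SL2 F => (z : M2 F) 0 0) h
  simp at this
  apply h2
  linear_combination -this

/-- if `x y = ± y x` and `x` has odd order then `x y = y x` -/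
theorem comm_of_neg (h2 : (2 : F) ≠ 0) {x y : SL2 F} {m : ℕ} (hm : Odd m) (hx : x ^ m = 1)
    (h : x * y = y * x ∨ x * y = -(y * x)) : x * y = y * x := by
  rcases h with h | h
  · exact h
  · exfalso
    have h1 : ∀ k : ℕ, x ^ k * y = (-1) ^ k * (y * x ^ k) := by
      intro k
      induction k with
      | zero => simp
      | succ k ih =>
        rw [pow_succ', mul_assoc, ih, pow_succ' (-1 : SL2 F), ← mul_assoc x, ((Commute.neg_one_right x).pow_right k).eq]
        rw [mul_assoc, ← mul_assoc x, h]
        simp only [neg_mul, mul_neg, one_mul, mul_assoc]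
    have h3 := h1 m
    rw [hx, hm.neg_one_pow, one_mul, mul_one, neg_one_mul] at h3
    have h4 : (-1 : SL2 F) = 1 := by
      have : (-1 : SL2 F) * y = 1 * y := by rw [neg_one_mul, one_mul]; exact h3.symm
      exact mul_right_cancel this
    exact neg_one_ne_one h2 h4

theorem eq_of_neg_odd (h2 : (2 : F) ≠ 0) {x y : SL2 F} {m : ℕ} (hm : Odd m) (hx : x ^ m = 1) (hy : y ^ m = 1)
    (h : x = y ∨ x = -y) : x = y := by
  rcases h with h | h
  · exact h
  · exfalso
    have h3 : x ^ m = -(y ^ m) := by rw [h, neg_pow, hm.neg_one_pow, neg_one_mul]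
    rw [hx, hy] at h3
    exact neg_one_ne_one h2 h3.symm

/-- an element `x` with `x dg = dg x⁻¹` has equal diagonal entries -/
theorem diag_eq_of_inv {x : SL2 F} (h : (x : M2 F) * dg F = dg F * (x⁻¹ : SL2 F)) : (x : M2 F) 1 1 = (x : M2 F) 0 0 := by
  rw [sl_inv_coe, Matrix.adjugate_fin_two, m2_eq_iff] at h
  simp only [m2_mul_00, m2_mul_01, m2_mul_10, m2_mul_11] at h
  simp [dg] at h
  exact h.1.symm

/-- the split case -/
theorem comp_split [Finite F] (h2 : (2 : F) ≠ 0) {x : SL2 F} {m : ℕ} (hm : Odd m) (hx : x ^ m = 1)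
    (h : (x : M2 F) * dg F = dg F * (x⁻¹ : SL2 F))
    (hc : ∀ (A : M2 F) (y : SL2 F), A 0 1 = 0 → A 1 0 = 0 → A.det ≠ 0 → (y : M2 F) * A = A * x → x * y = y * x) :
    x ∈ upU F ∨ x ∈ loU F := by
  have hd := diag_eq_of_inv h
  have hdet := sl_coe_det x
  rw [Matrix.det_fin_two, hd] at hdet
  -- the off-diagonal entries
  have hbc : (x : M2 F) 0 1 * (x : M2 F) 1 0 = 0 := by
    by_cases hF : ∃ l : F, l ≠ 0 ∧ l * l ≠ 1
    · obtain ⟨l, hl0, hl1⟩ := hF
      have hdA : (!![l, 0; 0, 1] : M2 F).det ≠ 0 := by rw [Matrix.det_fin_two]; simpa using hl0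
      obtain ⟨y, hy⟩ := exists_cj hdA x
      have h3 := hc _ y (by simp) (by simp) hdA hy
      rw [m2_eq_iff] at hy
      simp only [m2_mul_00, m2_mul_01, m2_mul_10, m2_mul_11] at hy
      simp at hy
      obtain ⟨y1, y2, y3, y4⟩ := hy
      have h4 := congrArg (fun z : SL2 F => (z : M2 F) 0 0) h3
      have h5 : (x : M2 F) 0 0 * (y : M2 F) 0 0 + (x : M2 F) 0 1 * (y : M2 F) 1 0 =
          (y : M2 F) 0 0 * (x : M2 F) 0 0 + (y : M2 F) 0 1 * (x : M2 F) 1 0 := by
        have : ((x : M2 F) * (y : M2 F)) 0 0 = ((y : M2 F) * (x : M2 F)) 0 0 := h4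
        rwa [m2_mul_00, m2_mul_00] at this
      have h6 : (x : M2 F) 0 1 * (x : M2 F) 1 0 * (1 - l * l) = 0 := by
        linear_combination l * h5 - (x : M2 F) 0 1 * y3 + l * (x : M2 F) 1 0 * y2
      rcases mul_eq_zero.1 h6 with h7 | h7
      · exact h7
      · exfalso; apply hl1; linear_combination -h7
    · push Not at hF
      -- `F` has three elements
      by_contra hbc
      have h3 : (3 : F) = 0 := by
        have := hF 2 h2
        linear_combination this
      have hb0 : (x : M2 F) 0 1 ≠ 0 := left_ne_zero_of_mul hbc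
      have hc0 : (x : M2 F) 1 0 ≠ 0 := right_ne_zero_of_mul hbc
      have hb := hF _ hb0
      have hcc := hF _ hc0
      -- `bc = ± 1`
      have hbc1 : ((x : M2 F) 0 1 * (x : M2 F) 1 0) * ((x : M2 F) 0 1 * (x : M2 F) 1 0) = 1 := by
        linear_combination ((x : M2 F) 1 0 * (x : M2 F) 1 0) * hb + hcc
      rcases mul_self_eq_one_iff.1 hbc1 with h4 | h4
      · by_cases ha : (x : M2 F) 0 0 = 0
        · rw [ha, h4] at hdet
          apply h2
          linear_combination -hdet
        · have := hF _ ha
          rw [h4, this] at hdet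
          apply one_ne_zero (α := F)
          linear_combination -hdet
      · rw [h4] at hdet
        have ha : (x : M2 F) 0 0 = 0 := by
          have : (x : M2 F) 0 0 * (x : M2 F) 0 0 = 0 := by linear_combination hdet
          simpa using this
        -- `x² = -1`
        have hxx : x * x = -1 := by
          apply Subtype.ext
          change (x : M2 F) * x = -1
          rw [m2_sq_of_trace (by rw [Matrix.trace_fin_two, hd, ha]; ring), sl_coe_det]
          simp
        have h5 : (x * x) ^ m = 1 := by rw [← pow_two, ← pow_mul, mul_comm, pow_mul, hx, one_pow]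
        rw [hxx, hm.neg_one_pow] at h5
        exact neg_one_ne_one h2 h5
  rw [hbc, sub_zero] at hdet
  -- the diagonal entry is `1`
  have key : (x : M2 F) 0 0 = 1 := by
    rcases mul_self_eq_one_iff.1 hdet with h3 | h3
    · exact h3
    · exfalso
      obtain ⟨p, hp⟩ := CharP.exists F
      have hpp : p.Prime := CharP.char_is_prime F p
      have hp2 : p ≠ 2 := by
        rintro rfl
        apply h2
        exact_mod_cast CharP.cast_eq_zero F 2
      have hodd : Odd p := hpp.odd_of_ne_two hp2
      have h4 : x ^ p = -1 := by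
        rcases mul_eq_zero.1 hbc with h5 | h5
        · have e : x = -lo (-(x : M2 F) 1 0) := by
            apply Subtype.ext
            rw [Matrix.SpecialLinearGroup.coe_neg, lo_coe, m2_eq_iff]
            simp [h3, h5, hd]
          rw [e, neg_pow, hodd.neg_one_pow, lo_pow, CharP.cast_eq_zero, zero_mul, lo_zero]
          simp
        · have e : x = -up (-(x : M2 F) 0 1) := by
            apply Subtype.ext
            rw [Matrix.SpecialLinearGroup.coe_neg, up_coe, m2_eq_iff]
            simp [h3, h5, hd]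
          rw [e, neg_pow, hodd.neg_one_pow, up_pow, CharP.cast_eq_zero, zero_mul, up_zero]
          simp
      have h5 : (x ^ p) ^ m = 1 := by rw [← pow_mul, mul_comm, pow_mul, hx, one_pow]
      rw [h4, hm.neg_one_pow] at h5
      exact neg_one_ne_one h2 h5
  rcases mul_eq_zero.1 hbc with h5 | h5
  · right
    refine ⟨(x : M2 F) 1 0, ?_⟩
    apply Subtype.ext
    rw [lo_coe, m2_eq_iff]
    simp [h5, hd, key]
  · left
    refine ⟨(x : M2 F) 0 1, ?_⟩
    apply Subtype.ext
    rw [up_coe, m2_eq_iff]
    simp [h5, hd, key]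

/-- a nilpotent matrix anticommuting with `D` only exists if `D` is split -/
theorem split_of_nilp {X D : M2 F} (hX : X ≠ 0) (ht : X.trace = 0) (hd : X.det = 0)
    (hD : D.trace = 0) (h : X * D = -(D * X)) : IsSquare (-D.det) := by
  have e1 := trace_zero_iff.1 ht
  have e2 := trace_zero_iff.1 hD
  rw [Matrix.det_fin_two, e1] at hd
  rw [m2_eq_iff] at h
  simp only [Matrix.neg_apply, m2_mul_00, m2_mul_01, m2_mul_10, m2_mul_11, e1, e2] at h
  obtain ⟨h1, h2, h3, h4⟩ := h
  rw [Matrix.det_fin_two, e2]
  by_cases hq : X 0 1 = 0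
  · have hp : X 0 0 = 0 := by
      rw [hq] at hd
      have : X 0 0 * X 0 0 = 0 := by linear_combination -hd
      simpa using this
    have hr : X 1 0 ≠ 0 := by
      intro hr
      apply hX
      rw [m2_eq_iff]
      simp [hp, hq, hr, e1]
    have hb : D 0 1 = 0 := by
      rw [hp, hq] at h1
      have : X 1 0 * D 0 1 = 0 := by linear_combination h1
      exact (mul_eq_zero.1 this).resolve_left hr
    refine ⟨D 0 0, ?_⟩
    rw [hb]; ring
  · refine ⟨D 0 0 - X 0 0 * D 0 1 / X 0 1, ?_⟩
    field_simp
    linear_combination (D 0 1 * X 0 1) * h1 + (D 0 1) ^ 2 * hd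

/-- the nonsplit case -/
theorem comp_nonsplit (h2 : (2 : F) ≠ 0) {D : M2 F} (hD : D.trace = 0) (hns : ¬ IsSquare (-D.det))
    {x : SL2 F} {m : ℕ} (hm : Odd m) (hx : x ^ m = 1)
    (h : (x : M2 F) * D = D * (x⁻¹ : SL2 F))
    (hc : ∀ (A : M2 F) (y : SL2 F), A * D = D * A → A.det ≠ 0 → (y : M2 F) * A = A * x → x * y = y * x) :
    x = 1 := by
  have hD0 : D.det ≠ 0 := by
    intro h0
    apply hns
    rw [h0]; simp
  -- the part of trace `0`
  obtain ⟨X, a, hxa, hXt⟩ : ∃ (X : M2 F) (a : F), (x : M2 F) = a • (1 : M2 F) + X ∧ X.trace = 0 := by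
    refine ⟨(x : M2 F) - ((x : M2 F).trace / 2) • (1 : M2 F), (x : M2 F).trace / 2, by abel, ?_⟩
    rw [Matrix.trace_sub, Matrix.trace_smul]
    simp
    field_simp
    ring
  have hxi : ((x⁻¹ : SL2 F) : M2 F) = a • (1 : M2 F) - X := by
    rw [sl_inv_coe, adjugate_eq, hxa, Matrix.trace_add, hXt, Matrix.trace_smul]
    simp
    rw [mul_two, add_smul]
    abel
  have hXD : X * D = -(D * X) := by
    rw [hxi, hxa] at h
    simp only [add_mul, mul_sub, Matrix.smul_mul, Matrix.mul_smul, one_mul, mul_one] at h
    have h' : X * D = a • D - D * X - a • D := by rw [← h]; abel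
    rw [h']; abel
  -- `det X = 0`
  have hXd : X.det = 0 := by
    by_contra hXd
    have hA : (1 + D).det ≠ 0 := by
      have := cent_det hD (1 : F) 1
      rw [one_smul, one_smul] at this
      rw [this]
      intro h0
      apply hns
      refine ⟨1, ?_⟩
      linear_combination -h0
    have hAc : (1 + D) * D = D * (1 + D) := by rw [add_mul, mul_add]; simp
    obtain ⟨y, hy⟩ := exists_cj hA x
    have h3 := hc _ y hAc hA hy
    have h3' : (x : M2 F) * y = y * x := congrArg (fun z : SL2 F => (z : M2 F)) h3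
    -- `(1 + D) x = y (1 + D)`, so `X` commutes with `y`
    have h4 : X * (y : M2 F) = y * X := by
      rw [hxa] at h3'
      simp only [add_mul, mul_add, Matrix.smul_mul, Matrix.mul_smul, one_mul, mul_one] at h3'
      exact add_left_cancel h3'
    -- multiply by `(1 + D)`
    have h5 : X * ((1 + D) * x) = (1 - D) * (X * x) := by
      have : X * (1 + D) = (1 - D) * X := by
        rw [mul_add, sub_mul, hXD]; simp [sub_eq_add_neg]
      rw [← mul_assoc, this, mul_assoc]
    have h6 : X * (y : M2 F) * (1 + D) = (y : M2 F) * (X * (1 + D)) := by rw [h4, mul_assoc]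
    have h7 : X * (1 + D) = (1 - D) * X := by
      rw [mul_add, sub_mul, hXD]; simp [sub_eq_add_neg]
    -- `X (1+D) x = y (1 - D) X`
    rw [mul_assoc, hy, h5, h7] at h6
    -- `y = (1+D) x (1+D)⁻¹`; multiply by adjugate
    have h8 : (y : M2 F) * (1 - D) * (1 + D) = (1 + D) * x * (1 - D) := by
      have : (1 - D) * (1 + D) = (1 + D) * (1 - D) := by
        simp only [sub_mul, add_mul, mul_sub, mul_add, one_mul, mul_one]; abel
      rw [mul_assoc, this, ← mul_assoc, hy]
    -- from `(1 - D) X x = y (1 - D) X`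
    have h9 : (1 + D) * x * (1 - D) * X = (1 - D) * (X * x) * (1 - D) := by
      calc (1 + D) * x * (1 - D) * X = (y : M2 F) * (1 - D) * ((1 + D) * X) := by rw [← h8]; simp only [mul_assoc]
        _ = (y : M2 F) * (1 - D) * (X * (1 - D)) := by
          congr 1
          rw [add_mul, mul_sub, hXD]; simp
        _ = ((y : M2 F) * ((1 - D) * X)) * (1 - D) := by simp only [mul_assoc]
        _ = _ := by rw [← h6]
    -- expand with `x = a + X`
    have h10 : (1 + D) * X * (1 - D) * X = (1 - D) * (X * X) * (1 - D) := by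
      have e1 : (1 + D) * (a • (1 : M2 F)) * (1 - D) * X = (1 - D) * (X * (a • (1 : M2 F))) * (1 - D) := by
        simp only [Matrix.mul_smul, Matrix.smul_mul, mul_one]
        congr 1
        have : X * (1 - D) = (1 + D) * X := by rw [mul_sub, add_mul, hXD]; simp
        calc (1 + D) * (1 - D) * X = (1 - D) * ((1 + D) * X) := by
              simp only [sub_mul, add_mul, mul_sub, mul_add, one_mul, mul_one, mul_assoc]; abel
          _ = (1 - D) * (X * (1 - D)) := by rw [this]
          _ = _ := by simp only [mul_assoc]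
      rw [hxa] at h9
      have h9' : (1 + D) * (a • (1 : M2 F)) * (1 - D) * X + (1 + D) * X * (1 - D) * X =
          (1 - D) * (X * (a • (1 : M2 F))) * (1 - D) + (1 - D) * (X * X) * (1 - D) := by
        have l : (1 + D) * (a • (1 : M2 F) + X) * (1 - D) * X =
            (1 + D) * (a • (1 : M2 F)) * (1 - D) * X + (1 + D) * X * (1 - D) * X := by
          rw [mul_add, add_mul, add_mul]
        have r : (1 - D) * (X * (a • (1 : M2 F) + X)) * (1 - D) =
            (1 - D) * (X * (a • (1 : M2 F))) * (1 - D) + (1 - D) * (X * X) * (1 - D) := by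
          rw [mul_add, mul_add, add_mul]
        rw [← l, ← r]; exact h9
      rw [e1] at h9'
      exact add_left_cancel h9'
    have hXX : X * X = (-X.det) • (1 : M2 F) := m2_sq_of_trace hXt
    have h11 : (1 + D) * X * (1 - D) * X = (-X.det) • ((1 + D) * (1 + D)) := by
      have : X * (1 - D) = (1 + D) * X := by rw [mul_sub, add_mul, hXD]; simp
      calc (1 + D) * X * (1 - D) * X = (1 + D) * (X * (1 - D)) * X := by simp only [mul_assoc]
        _ = (1 + D) * (1 + D) * (X * X) := by rw [this]; simp only [mul_assoc]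
        _ = _ := by rw [hXX]; simp
    rw [h11, hXX] at h10
    simp only [Matrix.mul_smul, Matrix.smul_mul, mul_one] at h10
    have h12 := smul_cancel (neg_ne_zero.2 hXd) h10
    -- `(1 + D)² = (1 - D)²`
    have h13 : (4 : F) • D = 0 := by
      have : (1 + D) * (1 + D) - (1 - D) * (1 - D) = (4 : F) • D := by
        simp only [sub_mul, add_mul, mul_sub, mul_add, one_mul, mul_one]
        have : (4 : F) • D = D + D + D + D := by
          rw [show (4 : F) = 1 + 1 + 1 + 1 by norm_num, add_smul, add_smul, add_smul, one_smul]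
        rw [this]; abel
      rw [← this, h12, sub_self]
    have h4 : (4 : F) ≠ 0 := by
      intro h4
      have : (2 : F) * 2 = 0 := by linear_combination h4
      simp [h2] at this
    have hD00 : D = 0 := smul_cancel h4 (h13.trans (smul_zero _).symm)
    apply hD0
    rw [hD00]; simp
  by_cases hX0 : X = 0
  · rw [hX0, add_zero] at hxa
    rcases sl_scalar hxa with h3 | h3
    · exact h3
    · exfalso
      rw [h3, hm.neg_one_pow] at hx
      exact neg_one_ne_one h2 hx
  · exact absurd (split_of_nilp hX0 hXt hXd hD hXD) hns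

end comp

end Cfsg.Agent.GTwoOdd
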