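import Cfsg.Agent.GTwoOdd.Fusion

/-!
# Fusion of the involutions of a four-group; the Weyl group

Hypothesis: every involution of `G` is conjugate to `t`.
-/

set_option autoImplicit false

namespace Cfsg.Agent.GTwoOdd

open Matrix

section matrices

variable {F : Type*} [Field F] [Finite F]

/-- matrices of trace `0` whose determinants are in the same square class are conjugate up to scalars -/
theorem exists_sl_conj_smul (h2 : (2 : F) ≠ 0) {D E : M2 F} (hD : D.det ≠ 0) (hE : E.det ≠ 0) (ht : D.trace = 0)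
    (ht' : E.trace = 0) (h : IsSquare (D.det * E.det)) :
    ∃ (P : SL2 F) (a : F), a ≠ 0 ∧ (P : M2 F) * E = a • (D * P) := by
  obtain ⟨u, hu⟩ := h
  have hu0 : u ≠ 0 := by
    rintro rfl
    exact mul_ne_zero hD hE (by rw [hu]; simp)
  have hc : u / E.det ≠ 0 := div_ne_zero hu0 hE
  have hdet : ((u / E.det) • E).det = D.det := by
    rw [det_smul2]
    field_simp
    linear_combination -hu
  have htr : ((u / E.det) • E).trace = 0 := by rw [Matrix.trace_smul, ht']; simp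
  obtain ⟨P, hP⟩ := exists_sl_conj h2 (D := (u / E.det) • E) (D' := D) (by rw [hdet]; exact hD) htr ht hdet.symm
  refine ⟨P, (u / E.det)⁻¹, inv_ne_zero hc, ?_⟩
  rw [← hP, Matrix.mul_smul, smul_smul, inv_mul_cancel₀ hc, one_smul]

end matrices

namespace LocalSL

variable {G : Type*} [Group G] {t : G} {F1 F2 : Type*} [Field F1] [Field F2] [Finite F1] [Finite F2]
  {L : LocalSL t F1 F2} {s : G} {D1 : M2 F1} {D2 : M2 F2} {n1 : SL2 F1} {n2 : SL2 F2}

omit [Finite F1] [Finite F2] in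
theorem Rep.of_conj' {d : G} {A : M2 F1} {B : M2 F2} {g : G} {r : G} {hr : g * t = r * g}
    (h : (L.conj g hr).Rep d A B) : L.Rep (g⁻¹ * d * g) A B := by
  apply Rep.of_conj g (hs := hr)
  have e : g * (g⁻¹ * d * g) * g⁻¹ = d := by group
  rw [e]
  exact h

/-- transport of a frame -/
theorem Frame.conj (F : L.Frame s D1 D2 n1 n2) (g : G) {r : G} (hr : g * t = r * g) :
    (L.conj g hr).Frame (g * s * g⁻¹) D1 D2 n1 n2 :=
  ⟨F.hyp.conj g hr, F.rep.conj g hr, F.tr1, F.tr2, F.anti1, F.anti2⟩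

theorem conj_tor (L : LocalSL t F1 F2) (g : G) {r : G} (hr : g * t = r * g) (D1 : M2 F1) (D2 : M2 F2) (c : G) :
    c ∈ L.tor D1 D2 ↔ g * c * g⁻¹ ∈ (L.conj g hr).tor D1 D2 := by
  constructor
  · rintro ⟨A, B, h, h1, h2⟩
    exact ⟨A, B, h.conj g hr, h1, h2⟩
  · rintro ⟨A, B, h, h1, h2⟩
    exact ⟨A, B, h.of_conj, h1, h2⟩

omit [Finite F1] [Finite F2] in
theorem conj_tor1 (L : LocalSL t F1 F2) (g : G) {r : G} (hr : g * t = r * g) (D1 : M2 F1) (c : G) :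
    c ∈ L.tor1 D1 ↔ g * c * g⁻¹ ∈ (L.conj g hr).tor1 D1 := by
  constructor
  · rintro ⟨x, h, rfl⟩
    exact ⟨x, h, rfl⟩
  · rintro ⟨x, h, h1⟩
    refine ⟨x, h, ?_⟩
    rw [conj_e1] at h1
    exact mul_left_cancel (mul_right_cancel h1)

omit [Finite F1] [Finite F2] in
theorem conj_tor2 (L : LocalSL t F1 F2) (g : G) {r : G} (hr : g * t = r * g) (D2 : M2 F2) (c : G) :
    c ∈ L.tor2 D2 ↔ g * c * g⁻¹ ∈ (L.conj g hr).tor2 D2 := by
  constructor
  · rintro ⟨x, h, rfl⟩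
    exact ⟨x, h, rfl⟩
  · rintro ⟨x, h, h1⟩
    refine ⟨x, h, ?_⟩
    rw [conj_e2] at h1
    exact mul_left_cancel (mul_right_cancel h1)

/-- conjugacy in `C(t)` of two involutions of the same type -/
theorem Frame.conj_of_type (F : L.Frame s D1 D2 n1 n2) {s' : G} {E1 : M2 F1} {E2 : M2 F2} (h : L.Rep s' E1 E2)
    (h1 : E1.trace = 0) (h2 : E2.trace = 0) (h3 : IsSquare D1.det ↔ IsSquare E1.det) :
    ∃ (x : SL2 F1) (y : SL2 F2), L.e1 x * L.e2 y * s' = s * (L.e1 x * L.e2 y) := by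
  have h4 : IsSquare D2.det ↔ IsSquare E2.det := by
    rw [← F.hyp.square_iff _ _ _ F.rep, ← F.hyp.square_iff _ _ _ h, h3]
  obtain ⟨P, a, ha, hP⟩ := exists_sl_conj_smul F.two1 F.det1 h.det1 F.tr1 h1
    ((isSquare_mul_iff F.det1 h.det1).2 h3)
  obtain ⟨Q, b, hb, hQ⟩ := exists_sl_conj_smul F.two2 F.det2 h.det2 F.tr2 h2
    ((isSquare_mul_iff F.det2 h.det2).2 h4)
  have e1 := (Rep.e12 L P Q).mul h
  have e2 := F.rep.mul (Rep.e12 L P Q)
  rcases e2.unique e1 (a := a) (b := b) hP hQ with h5 | h5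
  · exact ⟨P, Q, h5⟩
  · -- use `n1`
    refine ⟨n1 * P, Q, ?_⟩
    have h6 := F.n1_s
    have ht := F.rep.comm
    have h7 : L.e1 P * L.e2 Q * t = t * (L.e1 P * L.e2 Q) := (Rep.e12 L P Q).comm
    calc L.e1 (n1 * P) * L.e2 Q * s' = L.e1 n1 * (L.e1 P * L.e2 Q * s') := by rw [map_mul]; group
      _ = L.e1 n1 * (s * (L.e1 P * L.e2 Q) * t) := by rw [h5]
      _ = L.e1 n1 * s * (L.e1 P * L.e2 Q * t) := by group
      _ = s * t * L.e1 n1 * (t * (L.e1 P * L.e2 Q)) := by rw [h6, h7]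
      _ = s * t * (L.e1 n1 * t) * (L.e1 P * L.e2 Q) := by group
      _ = s * (t * t) * L.e1 n1 * (L.e1 P * L.e2 Q) := by rw [e1_t]; group
      _ = s * (L.e1 (n1 * P) * L.e2 Q) := by rw [L.t_sq, map_mul]; group

/-- the type is symmetric -/
theorem Frame.type_symm (F : L.Frame s D1 D2 n1 n2) {L' : LocalSL s F1 F2} {E1 : M2 F1} {E2 : M2 F2}
    {m1 : SL2 F1} {m2 : SL2 F2} (F' : L'.Frame t E1 E2 m1 m2) : IsSquare D1.det ↔ IsSquare E1.det := by
  rw [F.isSquare_iff, F'.isSquare_iff]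
  have hst := F.rep.comm
  constructor
  · rintro ⟨x, h1, h2, h3 | h3 | h3⟩
    · exact ⟨x, h2, h1, Or.inr (Or.inl h3)⟩
    · exact ⟨x, h2, h1, Or.inl h3⟩
    · exact ⟨x, h2, h1, Or.inr (Or.inr (h3.trans hst))⟩
  · rintro ⟨x, h1, h2, h3 | h3 | h3⟩
    · exact ⟨x, h2, h1, Or.inr (Or.inl h3)⟩
    · exact ⟨x, h2, h1, Or.inl h3⟩
    · exact ⟨x, h2, h1, Or.inr (Or.inr (h3.trans hst.symm))⟩

/-- an element of `G` which swaps `t` and `s` -/
theorem Frame.exists_swap (F : L.Frame s D1 D2 n1 n2) (hcl : ∃ g, g * t = s * g) :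
    ∃ g, g * t = s * g ∧ g * s = t * g := by
  obtain ⟨g, hg⟩ := hcl
  have H' := F.hyp.conj g hg
  have hst := F.rep.comm
  obtain ⟨E1, E2, m1, m2, F'⟩ := H'.exists_frame (s := t) hst.symm L.t_sq F.t_ne F.s_ne_t.symm
  have hty := F.type_symm F'
  have hr : L.Rep (g⁻¹ * t * g) E1 E2 := F'.rep.of_conj'
  obtain ⟨x, y, hxy⟩ := F.conj_of_type hr F'.tr1 F'.tr2 hty
  refine ⟨L.e1 x * L.e2 y * g⁻¹, ?_, ?_⟩
  · calc L.e1 x * L.e2 y * g⁻¹ * t = L.e1 x * L.e2 y * (g⁻¹ * t * g) * g⁻¹ := by group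
      _ = _ := by rw [hxy]; group
  · have h1 : L.e1 x * L.e2 y * t = t * (L.e1 x * L.e2 y) := (Rep.e12 L x y).comm
    calc L.e1 x * L.e2 y * g⁻¹ * s = L.e1 x * L.e2 y * g⁻¹ * (s * g) * g⁻¹ := by group
      _ = L.e1 x * L.e2 y * t * g⁻¹ := by rw [← hg]; group
      _ = _ := by rw [h1]; group

namespace Frame

variable (F : L.Frame s D1 D2 n1 n2)
include F

/-- elements of `L1` which commute with `s` -/
theorem e1_comm_s {x : SL2 F1} (h : L.e1 x * s = s * L.e1 x) : (x : M2 F1) * D1 = D1 * x := by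
  rcases F.of_comm_s (Rep.e1 L x) h with ⟨h1, -⟩ | ⟨-, h1⟩
  · exact h1
  · exfalso
    have h4 : (2 : F2) • D2 = 0 := by
      have h5 : D2 = -D2 := by simpa using h1
      rw [two_smul]
      nth_rw 1 [h5]
      simp
    apply F.det2
    have h6 : D2 = 0 := smul_cancel F.two2 (h4.trans (smul_zero _).symm)
    rw [h6]; simp

theorem e2_comm_s {x : SL2 F2} (h : L.e2 x * s = s * L.e2 x) : (x : M2 F2) * D2 = D2 * x := by
  rcases F.of_comm_s (Rep.e2 L x) h with ⟨-, h1⟩ | ⟨h1, -⟩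
  · exact h1
  · exfalso
    have h4 : (2 : F1) • D1 = 0 := by
      have h5 : D1 = -D1 := by simpa using h1
      rw [two_smul]
      nth_rw 1 [h5]
      simp
    apply F.det1
    have h6 : D1 = 0 := smul_cancel F.two1 (h4.trans (smul_zero _).symm)
    rw [h6]; simp

theorem e1_swap_s {x : SL2 F1} (h : L.e1 x * s = s * t * L.e1 x) : ∃ c ∈ L.tor1 D1, L.e1 x = c * L.e1 n1 := by
  refine ⟨L.e1 (x * n1⁻¹), ⟨x * n1⁻¹, ?_, rfl⟩, ?_⟩
  · apply F.e1_comm_s
    rw [map_mul, map_inv]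
    have h6 := F.n1_s
    calc L.e1 x * (L.e1 n1)⁻¹ * s = L.e1 x * (L.e1 n1)⁻¹ * (s * t * L.e1 n1) * (L.e1 n1)⁻¹ * t⁻¹ := by
          have : t⁻¹ = t := inv_eq_of_mul_eq_one_left L.t_sq
          rw [this]
          calc L.e1 x * (L.e1 n1)⁻¹ * s = L.e1 x * (L.e1 n1)⁻¹ * (s * (t * t)) := by rw [L.t_sq, mul_one]
            _ = _ := by group
      _ = L.e1 x * s * (L.e1 n1)⁻¹ * t⁻¹ := by rw [← h6]; group
      _ = s * t * (L.e1 x * (L.e1 n1)⁻¹) * t⁻¹ := by rw [h]; group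
      _ = s * (L.e1 (x * n1⁻¹) * t) * t⁻¹ := by rw [e1_t, map_mul, map_inv]; group
      _ = s * (L.e1 x * (L.e1 n1)⁻¹) := by rw [map_mul, map_inv]; group
  · rw [map_mul, map_inv]; group

theorem e2_swap_s {x : SL2 F2} (h : L.e2 x * s = s * t * L.e2 x) : ∃ c ∈ L.tor2 D2, L.e2 x = c * L.e2 n2 := by
  refine ⟨L.e2 (x * n2⁻¹), ⟨x * n2⁻¹, ?_, rfl⟩, ?_⟩
  · apply F.e2_comm_s
    rw [map_mul, map_inv]
    have h6 := F.n2_s
    calc L.e2 x * (L.e2 n2)⁻¹ * s = L.e2 x * (L.e2 n2)⁻¹ * (s * t * L.e2 n2) * (L.e2 n2)⁻¹ * t⁻¹ := by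
          have : t⁻¹ = t := inv_eq_of_mul_eq_one_left L.t_sq
          rw [this]
          calc L.e2 x * (L.e2 n2)⁻¹ * s = L.e2 x * (L.e2 n2)⁻¹ * (s * (t * t)) := by rw [L.t_sq, mul_one]
            _ = _ := by group
      _ = L.e2 x * s * (L.e2 n2)⁻¹ * t⁻¹ := by rw [← h6]; group
      _ = s * t * (L.e2 x * (L.e2 n2)⁻¹) * t⁻¹ := by rw [h]; group
      _ = s * (L.e2 (x * n2⁻¹) * t) * t⁻¹ := by rw [e2_t, map_mul, map_inv]; group
      _ = s * (L.e2 x * (L.e2 n2)⁻¹) := by rw [map_mul, map_inv]; group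
  · rw [map_mul, map_inv]; group

/-- an element normalising the four-group normalises `T`: general form -/
theorem conj_mem_of_can {g : G} (h : ∀ x, CanT (g * t * g⁻¹) (g * s * g⁻¹) x ↔ CanT t s x) {c : G} :
    c ∈ L.tor D1 D2 ↔ g * c * g⁻¹ ∈ L.tor D1 D2 := by
  rw [F.mem_iff_can, F.mem_iff_can, ← h (g * c * g⁻¹)]
  constructor
  · intro h1
    exact h1.conj g
  · intro h1
    have := h1.conj g⁻¹
    have e1 : g⁻¹ * (g * t * g⁻¹) * g⁻¹⁻¹ = t := by group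
    have e2 : g⁻¹ * (g * s * g⁻¹) * g⁻¹⁻¹ = s := by group
    have e3 : g⁻¹ * (g * c * g⁻¹) * g⁻¹⁻¹ = c := by group
    rwa [e1, e2, e3] at this

/-- elements which swap `t` and `s` normalise `T` -/
theorem swap_tor {g : G} (h1 : g * t = s * g) (h2 : g * s = t * g) {c : G} :
    c ∈ L.tor D1 D2 ↔ g * c * g⁻¹ ∈ L.tor D1 D2 := by
  apply F.conj_mem_of_can
  intro x
  have e1 : g * t * g⁻¹ = s := by rw [h1]; group
  have e2 : g * s * g⁻¹ = t := by rw [h2]; group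
  rw [e1, e2]
  exact CanT.swap_iff F.rep.comm

/-- elements which centralise `t` and move `s` to `s t` normalise `T` -/
theorem fix_tor {g : G} (h1 : g * t = t * g) (h2 : g * s = s * t * g) {c : G} :
    c ∈ L.tor D1 D2 ↔ g * c * g⁻¹ ∈ L.tor D1 D2 := by
  apply F.conj_mem_of_can
  intro x
  have e1 : g * t * g⁻¹ = t := by rw [h1]; group
  have e2 : g * s * g⁻¹ = s * t := by rw [h2]; group
  rw [e1, e2]
  exact CanT.right_iff L.t_sq

/-- elements which centralise `t` and `s` normalise `T` -/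
theorem cent_tor {g : G} (h1 : g * t = t * g) (h2 : g * s = s * g) {c : G} :
    c ∈ L.tor D1 D2 ↔ g * c * g⁻¹ ∈ L.tor D1 D2 := by
  apply F.conj_mem_of_can
  intro x
  have e1 : g * t * g⁻¹ = t := by rw [h1]; group
  have e2 : g * s * g⁻¹ = s := by rw [h2]; group
  rw [e1, e2]

/-- `T` is the same for the frame at `s` -/
theorem tor_swap_eq {g : G} (h1 : g * t = s * g) (h2 : g * s = t * g) :
    (L.conj g h1).tor D1 D2 = L.tor D1 D2 := by
  ext c
  have e : c = g * (g⁻¹ * c * g) * g⁻¹ := by group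
  rw [e, ← conj_tor]
  exact F.swap_tor h1 h2

end Frame

end LocalSL

end Cfsg.Agent.GTwoOdd
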