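import Cfsg.Agent.GTwoOdd.Setup
import Cfsg.Agent.GTwoOdd.Core.Defs

/-!
# Transport of `LocalSL` and `Hyp` along an isomorphism onto a centraliser

If the odd core of `C(t)` is trivial then `LocHyp t` gives `LocalSL` and `Hyp` in `G` itself.
-/

set_option autoImplicit false

namespace Cfsg.Agent.GTwoOdd

open Matrix

section acts

variable {G K : Type*} [Group G] [Group K] {F : Type*} [Field F] {e : SL2 F →* K} {φ : K →* G}

theorem Acts.comp_map {c : K} {A : M2 F} (h : Acts e c A) (φ : K →* G) : Acts (φ.comp e) (φ c) A := by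
  refine ⟨h.1, fun x y hxy => ?_⟩
  change φ c * φ (e x) = φ (e y) * φ c
  rw [← map_mul, h.2 x y hxy, map_mul]

theorem Acts.of_comp (hφ : Function.Injective φ) {c : K} {A : M2 F} (h : Acts (φ.comp e) (φ c) A) : Acts e c A := by
  refine ⟨h.1, fun x y hxy => ?_⟩
  apply hφ
  rw [map_mul, map_mul]
  exact h.2 x y hxy

end acts

namespace LocalSL

variable {G K : Type*} [Group G] [Group K] {F1 F2 : Type*} [Field F1] [Field F2]

/-- transport of a `LocalSL` along an injective homomorphism whose image is `C(t)` -/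
def map {t' : K} (L : LocalSL t' F1 F2) (φ : K →* G) (hφ : Function.Injective φ) {t : G} (ht : φ t' = t)
    (hr : ∀ c : G, c * t = t * c → ∃ k, φ k = c) : LocalSL t F1 F2 where
  e1 := φ.comp L.e1
  e2 := φ.comp L.e2
  inj1 := hφ.comp L.inj1
  inj2 := hφ.comp L.inj2
  comm x y := by
    change φ (L.e1 x) * φ (L.e2 y) = φ (L.e2 y) * φ (L.e1 x)
    rw [← map_mul, L.comm, map_mul]
  neg1 := by
    change φ (L.e1 (-1)) = t
    rw [L.neg1, ht]
  neg2 := by
    change φ (L.e2 (-1)) = t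
    rw [L.neg2, ht]
  cent c hc h1 h2 := by
    obtain ⟨k, rfl⟩ := hr c hc
    have h3 : k = 1 ∨ k = t' := by
      apply L.cent
      · apply hφ
        rw [map_mul, map_mul, ht]
        exact hc
      · intro x
        apply hφ
        rw [map_mul, map_mul]
        exact h1 x
      · intro x
        apply hφ
        rw [map_mul, map_mul]
        exact h2 x
    rcases h3 with h3 | h3
    · left
      rw [h3, map_one]
    · right
      rw [h3, ht]

@[simp] theorem map_e1 {t' : K} (L : LocalSL t' F1 F2) (φ : K →* G) (hφ : Function.Injective φ) {t : G} (ht : φ t' = t)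
    (hr : ∀ c : G, c * t = t * c → ∃ k, φ k = c) (x : SL2 F1) : (L.map φ hφ ht hr).e1 x = φ (L.e1 x) := rfl

@[simp] theorem map_e2 {t' : K} (L : LocalSL t' F1 F2) (φ : K →* G) (hφ : Function.Injective φ) {t : G} (ht : φ t' = t)
    (hr : ∀ c : G, c * t = t * c → ∃ k, φ k = c) (x : SL2 F2) : (L.map φ hφ ht hr).e2 x = φ (L.e2 x) := rfl

theorem Rep.map {t' : K} {L : LocalSL t' F1 F2} {φ : K →* G} {hφ : Function.Injective φ} {t : G} {ht : φ t' = t}
    {hr : ∀ c : G, c * t = t * c → ∃ k, φ k = c} {c : K} {A : M2 F1} {B : M2 F2} (h : L.Rep c A B) :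
    (L.map φ hφ ht hr).Rep (φ c) A B := by
  refine ⟨?_, h.acts1.comp_map φ, h.acts2.comp_map φ⟩
  rw [← ht, ← map_mul, h.comm, map_mul]

theorem Rep.of_map {t' : K} {L : LocalSL t' F1 F2} {φ : K →* G} {hφ : Function.Injective φ} {t : G} {ht : φ t' = t}
    {hr : ∀ c : G, c * t = t * c → ∃ k, φ k = c} {c : K} {A : M2 F1} {B : M2 F2}
    (h : (L.map φ hφ ht hr).Rep (φ c) A B) : L.Rep c A B := by
  refine ⟨?_, h.acts1.of_comp hφ, h.acts2.of_comp hφ⟩
  apply hφ
  rw [map_mul, map_mul, ht]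
  exact h.comm

theorem Hyp.map {t' : K} {L : LocalSL t' F1 F2} (H : L.Hyp) {φ : K →* G} {hφ : Function.Injective φ} {t : G}
    {ht : φ t' = t} {hr : ∀ c : G, c * t = t * c → ∃ k, φ k = c} : (L.map φ hφ ht hr).Hyp := by
  have hc : ∀ k : K, φ k * t = t * φ k → k * t' = t' * k := by
    intro k h
    apply hφ
    rw [map_mul, map_mul, ht]
    exact h
  refine ⟨?_, ?_, ?_, ?_, ?_, ?_⟩
  · intro c h x
    obtain ⟨k, rfl⟩ := hr c h
    obtain ⟨y, hy⟩ := H.norm1 k (hc k h) x
    exact ⟨y, by rw [map_e1, map_e1, ← map_mul, hy, map_mul]⟩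
  · intro c h x
    obtain ⟨k, rfl⟩ := hr c h
    obtain ⟨y, hy⟩ := H.norm2 k (hc k h) x
    exact ⟨y, by rw [map_e2, map_e2, ← map_mul, hy, map_mul]⟩
  · intro c d h h'
    obtain ⟨k, rfl⟩ := hr c h
    obtain ⟨l, rfl⟩ := hr d h'
    obtain ⟨x, y, hy⟩ := H.comm_mem k l (hc k h) (hc l h')
    exact ⟨x, y, by rw [map_e1, map_e2, ← map_mul, hy]; simp⟩
  · rintro c h ⟨A, B, h'⟩
    obtain ⟨k, rfl⟩ := hr c h
    rw [← map_mul] at h'
    obtain ⟨A', B', h''⟩ := H.sq_mem k (hc k h) ⟨A, B, h'.of_map⟩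
    exact ⟨A', B', h''.map⟩
  · intro c A B h
    obtain ⟨k, rfl⟩ := hr c h.comm
    exact H.square_iff k A B h.of_map
  · obtain ⟨g, A, B, h1, h2, h3, h4⟩ := H.outer
    exact ⟨φ g, A, B, h1.map, h2, h3, by rw [← map_mul, h4, map_one]⟩

end LocalSL

namespace Core

open Subgroup

/-- `LocHyp t` in the case of a trivial odd core of `C(t)` -/
theorem LocHyp.exists_localSL {G : Type*} [Group G] {t : G} (h : LocHyp t)
    (hO : Cfsg.pPrimeCore 2 (Subgroup.centralizer ({t} : Set G)) = ⊥) :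
    ∃ (F1 F2 : Type) (_ : Field F1) (_ : Field F2) (_ : Finite F1) (_ : Finite F2) (L : LocalSL t F1 F2), L.Hyp := by
  obtain ⟨F1, F2, i1, i2, i3, i4, L, H⟩ := h
  have hinj : Function.Injective (bar t) := by
    rw [← MonoidHom.ker_eq_bot_iff]
    change (QuotientGroup.mk' _).ker = ⊥
    rw [QuotientGroup.ker_mk', hO]
  have hsurj : Function.Surjective (bar t) := QuotientGroup.mk'_surjective _
  let E := MulEquiv.ofBijective (bar t) ⟨hinj, hsurj⟩
  let φ : (Subgroup.centralizer ({t} : Set G) ⧸ Cfsg.pPrimeCore 2 (Subgroup.centralizer ({t} : Set G))) →* G :=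
    (Subgroup.centralizer ({t} : Set G)).subtype.comp E.symm.toMonoidHom
  have hφ : Function.Injective φ := (Subgroup.subtype_injective _).comp E.symm.injective
  have hφb : ∀ c : Subgroup.centralizer ({t} : Set G), φ (bar t c) = c := by
    intro c
    change ((E.symm (E c) : Subgroup.centralizer ({t} : Set G)) : G) = c
    rw [E.symm_apply_apply]
  have ht : φ (bar t ⟨t, Subgroup.mem_centralizer_singleton_iff.2 rfl⟩) = t := hφb _
  have hr : ∀ c : G, c * t = t * c → ∃ k, φ k = c := by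
    intro c hc
    exact ⟨bar t ⟨c, Subgroup.mem_centralizer_singleton_iff.2 hc⟩, hφb _⟩
  exact ⟨F1, F2, i1, i2, i3, i4, L.map φ hφ ht hr, H.map⟩

/-- the same for `centralizerPPrimeCore` -/
theorem LocHyp.exists_localSL' {G : Type*} [Group G] {t : G} (h : LocHyp t)
    (hO : Cfsg.centralizerPPrimeCore 2 t = ⊥) :
    ∃ (F1 F2 : Type) (_ : Field F1) (_ : Field F2) (_ : Finite F1) (_ : Finite F2) (L : LocalSL t F1 F2), L.Hyp := by
  apply h.exists_localSL
  have h1 : (Cfsg.pPrimeCore 2 (Subgroup.centralizer ({t} : Set G))).map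
      (Subgroup.centralizer ({t} : Set G)).subtype = ⊥ := hO
  exact (Subgroup.map_eq_bot_iff_of_injective _ (Subgroup.subtype_injective _)).1 h1

end Core

end Cfsg.Agent.GTwoOdd
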