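import Cfsg.Agent.GTwoOdd.Hexa

/-!
# Normal subgroups and automorphisms of `SL(2,F)`

* a normal subgroup of `SL(2,F)`, `F` finite of odd characteristic, without `-1` is trivial
* an injective endomorphism of `SL(2,F)` which fixes the upper unipotents is conjugation by one of them
-/

set_option autoImplicit false

namespace Cfsg.Agent.GTwoOdd

open Matrix

section

variable {F : Type*} [Field F]

theorem lo_pow (a : F) (n : ℕ) : (lo a) ^ n = lo (n * a) := by
  induction n with
  | zero => rw [pow_zero]; simp [lo_zero]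
  | succ n ih => rw [pow_succ, ih, lo_mul]; congr 1; push_cast; ring

theorem up_pow (a : F) (n : ℕ) : (up a) ^ n = up (n * a) := by
  induction n with
  | zero => rw [pow_zero]; simp [up_zero]
  | succ n ih => rw [pow_succ, ih, up_mul]; congr 1; push_cast; ring

theorem sl_scalar {x : SL2 F} {a : F} (h : (x : M2 F) = a • (1 : M2 F)) : x = 1 ∨ x = -1 := by
  have h1 := sl_coe_det x
  rw [h, det_smul2] at h1
  have h2 : a * a = 1 := by simpa using h1
  rcases mul_self_eq_one_iff.1 h2 with rfl | rfl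
  · left; apply Subtype.ext; rw [h]; simp
  · right; apply Subtype.ext; rw [h]; simp

/-- a matrix which is not scalar is similar to a companion matrix -/
theorem exists_companion' {x : M2 F} (hx : ∀ a : F, x ≠ a • (1 : M2 F)) :
    ∃ P : M2 F, P.det ≠ 0 ∧ x * P = P * !![0, -x.det; 1, x.trace] := by
  have hdet := Matrix.det_fin_two x
  have htr := Matrix.trace_fin_two x
  by_cases hr : x 1 0 = 0
  · by_cases hq : x 0 1 = 0
    · refine ⟨!![1, x 0 0; 1, x 1 1], ?_, ?_⟩
      · rw [Matrix.det_fin_two]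
        simp
        intro h
        apply hx (x 0 0)
        rw [m2_eq_iff]
        simp [hr, hq]
        linear_combination h
      · rw [m2_eq_iff]
        simp only [m2_mul_00, m2_mul_01, m2_mul_10, m2_mul_11, hdet, htr]
        simp [hr, hq]
        constructor <;> ring
    · refine ⟨!![0, x 0 1; 1, x 1 1], ?_, ?_⟩
      · rw [Matrix.det_fin_two]
        simpa using hq
      · rw [m2_eq_iff]
        simp only [m2_mul_00, m2_mul_01, m2_mul_10, m2_mul_11, hdet, htr]
        simp [hr]
        constructor <;> ring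
  · refine ⟨!![1, x 0 0; 0, x 1 0], ?_, ?_⟩
    · rw [Matrix.det_fin_two]
      simpa using hr
    · rw [m2_eq_iff]
      simp only [m2_mul_00, m2_mul_01, m2_mul_10, m2_mul_11, hdet, htr]
      simp
      constructor <;> ring

/-- a normal subgroup of `SL(2,F)` which contains a noncentral element contains `-1` -/
theorem neg_one_mem_of_normal [Finite F] (h2 : (2 : F) ≠ 0) {N : Subgroup (SL2 F)} (hN : ∀ x ∈ N, ∀ y, y * x * y⁻¹ ∈ N)
    {x : SL2 F} (hx : x ∈ N) (hs : ∀ a : F, (x : M2 F) ≠ a • (1 : M2 F)) : (-1 : SL2 F) ∈ N := by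
  obtain ⟨P, hP, hxP⟩ := exists_companion' hs
  rw [sl_coe_det] at hxP
  obtain ⟨y, hy⟩ := exists_cj hP (wn F)
  have hz : x * (y * x * y⁻¹) ∈ N := mul_mem hx (hN x hx y)
  -- `z P = P M`
  have hyi : ((y⁻¹ : SL2 F) : M2 F) * P = P * ((wn F)⁻¹ : SL2 F) := by
    have h1 : ((y⁻¹ : SL2 F) : M2 F) * (y * P) * ((wn F)⁻¹ : SL2 F) = ((y⁻¹ : SL2 F) : M2 F) * (P * wn F) * ((wn F)⁻¹ : SL2 F) := by
      rw [hy]
    rw [← mul_assoc, sl_inv_mul, one_mul, mul_assoc, mul_assoc, sl_mul_inv, mul_one] at h1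
    exact h1.symm
  have hzP : ((x * (y * x * y⁻¹) : SL2 F) : M2 F) * P = P * ((-lo (-(2 * (x : M2 F).trace)) : SL2 F) : M2 F) := by
    have e1 : ((x * (y * x * y⁻¹) : SL2 F) : M2 F) = (x : M2 F) * ((y : M2 F) * x * ((y⁻¹ : SL2 F) : M2 F)) := by
      rw [Matrix.SpecialLinearGroup.coe_mul, Matrix.SpecialLinearGroup.coe_mul, Matrix.SpecialLinearGroup.coe_mul]
    have e2 : ((-lo (-(2 * (x : M2 F).trace)) : SL2 F) : M2 F) =
        !![0, -1; 1, (x : M2 F).trace] * (wn F : M2 F) * !![0, -1; 1, (x : M2 F).trace] * ((wn F)⁻¹ : SL2 F) := by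
      rw [sl_inv_coe, Matrix.adjugate_fin_two, wn_coe]
      rw [Matrix.SpecialLinearGroup.coe_neg, lo_coe, m2_eq_iff]
      simp
      ring
    rw [e1, e2]
    calc (x : M2 F) * ((y : M2 F) * x * ((y⁻¹ : SL2 F) : M2 F)) * P
        = (x : M2 F) * (y : M2 F) * x * (((y⁻¹ : SL2 F) : M2 F) * P) := by simp only [mul_assoc]
      _ = (x : M2 F) * (y : M2 F) * (x * P) * ((wn F)⁻¹ : SL2 F) := by rw [hyi]; simp only [mul_assoc]
      _ = (x : M2 F) * ((y : M2 F) * P) * !![0, -1; 1, (x : M2 F).trace] * ((wn F)⁻¹ : SL2 F) := by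
        rw [hxP]; simp only [mul_assoc]
      _ = (x * P) * (wn F) * !![0, -1; 1, (x : M2 F).trace] * ((wn F)⁻¹ : SL2 F) := by
        rw [hy]; simp only [mul_assoc]
      _ = _ := by rw [hxP]; simp only [mul_assoc]
  have hpow : ∀ (z m : SL2 F), (z : M2 F) * P = P * (m : M2 F) → ∀ n : ℕ, ((z ^ n : SL2 F) : M2 F) * P =
      P * ((m ^ n : SL2 F) : M2 F) := by
    intro z m hzm n
    induction n with
    | zero => simp
    | succ n ih =>
      rw [pow_succ, pow_succ, Matrix.SpecialLinearGroup.coe_mul, Matrix.SpecialLinearGroup.coe_mul, mul_assoc, hzm,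
        ← mul_assoc, ih, mul_assoc]
  obtain ⟨p, hp⟩ := CharP.exists F
  have hpp : p.Prime := CharP.char_is_prime F p
  have hp2 : p ≠ 2 := by
    rintro rfl
    apply h2
    exact_mod_cast CharP.cast_eq_zero F 2
  have hodd : Odd p := hpp.odd_of_ne_two hp2
  have h3 : (-lo (-(2 * (x : M2 F).trace)) : SL2 F) ^ p = -1 := by
    rw [neg_pow, hodd.neg_one_pow, lo_pow, CharP.cast_eq_zero, zero_mul, lo_zero]
    simp
  have h4 := hpow _ _ hzP p
  rw [h3] at h4
  have h5 : (x * (y * x * y⁻¹)) ^ p = -1 := by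
    apply sl_eq_of_mul hP
    rw [h4]
    simp
  rw [← h5]
  exact pow_mem hz p

/-- a normal subgroup of `SL(2,F)` without `-1` is trivial -/
theorem normal_eq_one [Finite F] (h2 : (2 : F) ≠ 0) {N : Subgroup (SL2 F)} (hN : ∀ x ∈ N, ∀ y, y * x * y⁻¹ ∈ N)
    (h : (-1 : SL2 F) ∉ N) {x : SL2 F} (hx : x ∈ N) : x = 1 := by
  by_cases hs : ∀ a : F, (x : M2 F) ≠ a • (1 : M2 F)
  · exact absurd (neg_one_mem_of_normal h2 hN hx hs) h
  · push Not at hs
    obtain ⟨a, ha⟩ := hs
    rcases sl_scalar ha with h1 | h1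
    · exact h1
    · rw [h1] at hx; exact absurd hx h

theorem wn_eq : wn F = up 1 * lo (-1) * up 1 := by
  apply Subtype.ext
  change (wn F : M2 F) = (up (1 : F) : M2 F) * (lo (-1 : F) : M2 F) * (up (1 : F) : M2 F)
  rw [wn_coe, up_coe, lo_coe, m2_eq_iff]
  simp

/-- `SL(2,F)` is generated by the unipotents -/
theorem sl_gen {P : SL2 F → Prop} (hup : ∀ a, P (up a)) (hlo : ∀ a, P (lo a)) (hmul : ∀ x y, P x → P y → P (x * y))
    (x : SL2 F) : P x := by
  have key : ∀ x : SL2 F, (x : M2 F) 1 0 ≠ 0 → P x := by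
    intro x hr
    have hd := sl_coe_det x
    rw [Matrix.det_fin_two] at hd
    have e : x = up (((x : M2 F) 0 0 - 1) / (x : M2 F) 1 0) * lo ((x : M2 F) 1 0) *
        up (((x : M2 F) 1 1 - 1) / (x : M2 F) 1 0) := by
      apply Subtype.ext
      change (x : M2 F) = (up (((x : M2 F) 0 0 - 1) / (x : M2 F) 1 0) : M2 F) * (lo ((x : M2 F) 1 0) : M2 F) *
        (up (((x : M2 F) 1 1 - 1) / (x : M2 F) 1 0) : M2 F)
      rw [up_coe, lo_coe, up_coe, m2_eq_iff]
      simp only [m2_mul_00, m2_mul_01, m2_mul_10, m2_mul_11]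
      simp
      refine ⟨by field_simp; ring, ?_, by field_simp; ring⟩
      field_simp
      linear_combination -hd
    rw [e]
    exact hmul _ _ (hmul _ _ (hup _) (hlo _)) (hup _)
  by_cases hr : (x : M2 F) 1 0 = 0
  · have hp : (x : M2 F) 0 0 ≠ 0 := by
      intro h
      have hd := sl_coe_det x
      rw [Matrix.det_fin_two, h, hr] at hd
      simp at hd
    have e : x = lo (-1) * (lo 1 * x) := by
      rw [← mul_assoc, lo_mul]; simp [lo_zero]
    rw [e]
    apply hmul _ _ (hlo _)
    apply key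
    change ((lo (1 : F) : M2 F) * (x : M2 F)) 1 0 ≠ 0
    rw [lo_coe, m2_mul_10]
    simp [hr, hp]
  · exact key x hr

/-- an injective endomorphism of `SL(2,F)` which fixes the upper unipotents is conjugation by one of them -/
theorem exists_up_of_fix (α : SL2 F →* SL2 F) (hα : Function.Injective α) (h : ∀ a, α (up a) = up a) :
    ∃ b : F, ∀ x, α x = up b * x * up (-b) := by
  have hd := sl_coe_det (α (wn F))
  rw [Matrix.det_fin_two] at hd
  -- conjugates of `up a` by `α w`
  have hcj : ∀ a : F, α (wn F) * up a = α (lo (-a)) * α (wn F) := by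
    intro a
    rw [← h a, ← map_mul, wn_up, map_mul]
  have hr : (α (wn F) : M2 F) 1 0 ≠ 0 := by
    intro hr
    rw [hr, mul_zero, sub_zero] at hd
    have h00 : (α (wn F) : M2 F) 0 0 ≠ 0 := left_ne_zero_of_mul_eq_one hd
    have h11 : (α (wn F) : M2 F) 1 1 ≠ 0 := right_ne_zero_of_mul_eq_one hd
    -- `α w` normalises the upper unipotents
    have e1 : α (wn F) * up 1 = up ((α (wn F) : M2 F) 0 0 / (α (wn F) : M2 F) 1 1) * α (wn F) := by
      apply Subtype.ext
      change (α (wn F) : M2 F) * (up (1 : F) : M2 F) = (up ((α (wn F) : M2 F) 0 0 / (α (wn F) : M2 F) 1 1) : M2 F) * (α (wn F) : M2 F)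
      rw [up_coe, up_coe, m2_eq_iff]
      simp only [m2_mul_00, m2_mul_01, m2_mul_10, m2_mul_11]
      simp [hr]
      field_simp
      ring
    rw [hcj 1] at e1
    have e2 := mul_right_cancel e1
    rw [← h] at e2
    have e3 := hα e2
    have e4 := congrArg (fun z : SL2 F => (z : M2 F) 1 0) e3
    simp [lo_coe, up_coe] at e4
  -- replace `α` by `β x = up (-b) α x up b`
  set r := (α (wn F) : M2 F) 1 0 with hrdef
  set b := (α (wn F) : M2 F) 0 0 / r with hb
  let β : SL2 F → SL2 F := fun x => up (-b) * α x * up b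
  have hβmul : ∀ x y, β (x * y) = β x * β y := by
    intro x y
    change up (-b) * α (x * y) * up b = up (-b) * α x * up b * (up (-b) * α y * up b)
    have : up b * up (-b) = 1 := by rw [up_mul]; simp [up_zero]
    calc up (-b) * α (x * y) * up b = up (-b) * α x * 1 * α y * up b := by rw [map_mul]; group
      _ = _ := by rw [← this]; group
  have hβup : ∀ a, β (up a) = up a := by
    intro a
    change up (-b) * α (up a) * up b = up a
    rw [h, up_mul, up_mul]; congr 1; ring
  -- `β w` has entries `0, -1/r; r, s'`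
  have hw00 : (β (wn F) : M2 F) 0 0 = 0 := by
    change ((up (-b) : M2 F) * (α (wn F) : M2 F) * (up b : M2 F)) 0 0 = 0
    rw [up_coe, up_coe]
    simp only [m2_mul_00, m2_mul_01]
    simp
    rw [hb, ← hrdef]
    field_simp
    ring
  have hw10 : (β (wn F) : M2 F) 1 0 = r := by
    change ((up (-b) : M2 F) * (α (wn F) : M2 F) * (up b : M2 F)) 1 0 = r
    rw [up_coe, up_coe]
    simp only [m2_mul_10, m2_mul_11]
    simp
    exact hrdef.symm
  have hw01 : (β (wn F) : M2 F) 0 1 * r = -1 := by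
    have hd' := sl_coe_det (β (wn F))
    rw [Matrix.det_fin_two, hw00, hw10] at hd'
    linear_combination -hd'
  -- `β (lo a) = lo (r² a)`
  have hβlo : ∀ a, β (lo a) = lo (r * r * a) := by
    intro a
    have e1 : β (wn F) * up (-a) = β (lo a) * β (wn F) := by
      rw [← hβup (-a), ← hβmul, wn_up, hβmul, neg_neg]
    have e2 : β (wn F) * up (-a) = lo (r * r * a) * β (wn F) := by
      apply Subtype.ext
      change (β (wn F) : M2 F) * (up (-a) : M2 F) = (lo (r * r * a) : M2 F) * (β (wn F) : M2 F)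
      rw [up_coe, lo_coe, m2_eq_iff]
      simp only [m2_mul_00, m2_mul_01, m2_mul_10, m2_mul_11]
      simp [hw00, hw10]
      linear_combination (-r * a) * hw01
    rw [e1] at e2
    exact mul_right_cancel e2
  have hr2 : r * r = 1 := by
    have e1 : β (wn F) = up 1 * lo (r * r * (-1)) * up 1 := by
      conv_lhs => rw [wn_eq]
      rw [hβmul, hβmul, hβup, hβlo]
    have e2 := hw00
    rw [e1] at e2
    have e3 : ((up (1 : F) : M2 F) * (lo (r * r * (-1)) : M2 F) * (up (1 : F) : M2 F)) 0 0 = 0 := e2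
    rw [up_coe, lo_coe] at e3
    simp only [m2_mul_00, m2_mul_01] at e3
    simp at e3
    linear_combination -e3
  have hβ : ∀ x, β x = x := by
    intro x
    refine sl_gen (P := fun x => β x = x) hβup (fun a => ?_) (fun x y hx hy => ?_) x
    · change β (lo a) = lo a
      rw [hβlo, hr2, one_mul]
    · change β (x * y) = x * y
      rw [hβmul]
      change β x = x at hx
      change β y = y at hy
      rw [hx, hy]
  refine ⟨b, fun x => ?_⟩
  have h1 : up (-b) * α x * up b = x := hβ x
  have h3 : up b * up (-b) = 1 := by rw [up_mul]; simp [up_zero]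
  calc α x = (up b * up (-b)) * α x * (up b * up (-b)) := by rw [h3]; group
    _ = up b * (up (-b) * α x * up b) * up (-b) := by group
    _ = up b * x * up (-b) := by rw [h1]

end

end Cfsg.Agent.GTwoOdd
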