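import Cfsg.Agent.GTwoOdd.Torus

/-!
# Reflections, types of four-groups and fusion
-/

set_option autoImplicit false

namespace Cfsg.Agent.GTwoOdd

open Matrix

namespace LocalSL

namespace Frame

variable {G : Type*} [Group G] {t : G} {F1 F2 : Type*} [Field F1] [Field F2]
variable [Finite F1] [Finite F2] {L : LocalSL t F1 F2} {s : G} {D1 : M2 F1} {D2 : M2 F2} {n1 : SL2 F1} {n2 : SL2 F2}
  (F : L.Frame s D1 D2 n1 n2)
include F

/-- the frame at `s t` with the same matrices -/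
theorem mul_t : L.Frame (s * t) D1 D2 n1 n2 := by
  refine ⟨F.hyp, ?_, F.tr1, F.tr2, F.anti1, F.anti2⟩
  have := F.rep.mul (Rep.rep_t L)
  simpa using this

theorem n1_mul {A : M2 F1} (hA : A * D1 = D1 * A) : (n1 : M2 F1) * A = A.adjugate * n1 :=
  anti_mul F.two1 F.det1 F.tr1 hA F.anti1

theorem n2_mul {A : M2 F2} (hA : A * D2 = D2 * A) : (n2 : M2 F2) * A = A.adjugate * n2 :=
  anti_mul F.two2 F.det2 F.tr2 hA F.anti2

/-- `n1 x n1⁻¹ = x⁻¹` -/
theorem n1_inv {x : SL2 F1} (hx : (x : M2 F1) * D1 = D1 * x) : n1 * x = x⁻¹ * n1 := by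
  apply Subtype.ext
  change (n1 : M2 F1) * x = ((x⁻¹ : SL2 F1) : M2 F1) * n1
  rw [F.n1_mul hx, sl_inv_coe]

theorem n2_inv {x : SL2 F2} (hx : (x : M2 F2) * D2 = D2 * x) : n2 * x = x⁻¹ * n2 := by
  apply Subtype.ext
  change (n2 : M2 F2) * x = ((x⁻¹ : SL2 F2) : M2 F2) * n2
  rw [F.n2_mul hx, sl_inv_coe]

theorem tor1_inv {c : G} (hc : c ∈ L.tor1 D1) : L.e1 n1 * c = c⁻¹ * L.e1 n1 := by
  obtain ⟨x, hx, rfl⟩ := hc
  rw [← map_mul, F.n1_inv hx, map_mul, map_inv]

theorem tor2_inv {c : G} (hc : c ∈ L.tor2 D2) : L.e2 n2 * c = c⁻¹ * L.e2 n2 := by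
  obtain ⟨x, hx, rfl⟩ := hc
  rw [← map_mul, F.n2_inv hx, map_mul, map_inv]

omit F in
theorem tor2_e1 {c : G} (hc : c ∈ L.tor2 D2) (x : SL2 F1) : L.e1 x * c = c * L.e1 x := by
  obtain ⟨y, hy, rfl⟩ := hc
  exact L.comm x y

omit F in
theorem tor1_e2 {c : G} (hc : c ∈ L.tor1 D1) (y : SL2 F2) : L.e2 y * c = c * L.e2 y := by
  obtain ⟨x, hx, rfl⟩ := hc
  exact (L.comm x y).symm

/-- `c n1 = x n1 c` with `x` in `T1` for `c` in `T`, `x = A²/det A` -/
theorem refl1_aux {c : G} {A : M2 F1} {B : M2 F2} (h : L.Rep c A B) (hA : A * D1 = D1 * A) {x : SL2 F1}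
    (hx : A.det • (x : M2 F1) = A * A) : c * L.e1 n1 = L.e1 x * L.e1 n1 * c := by
  have k1 : (x : M2 F1) * (n1 * A) = A * n1 := by
    rw [F.n1_mul hA, ← mul_assoc]
    congr 1
    apply smul_cancel h.det1
    rw [← Matrix.smul_mul, hx, mul_assoc, Matrix.mul_adjugate]
    simp
  have := F.hyp.commutator h (Rep.e1 L n1) (x := x) (y := 1) k1 (by simp)
  simpa using this

theorem refl2_aux {c : G} {A : M2 F1} {B : M2 F2} (h : L.Rep c A B) (hB : B * D2 = D2 * B) {y : SL2 F2}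
    (hy : B.det • (y : M2 F2) = B * B) : c * L.e2 n2 = L.e2 y * L.e2 n2 * c := by
  have k1 : (y : M2 F2) * (n2 * B) = B * n2 := by
    rw [F.n2_mul hB, ← mul_assoc]
    congr 1
    apply smul_cancel h.det2
    rw [← Matrix.smul_mul, hy, mul_assoc, Matrix.mul_adjugate]
    simp
  have := F.hyp.commutator h (Rep.e2 L n2) (x := 1) (y := y) (by simp) k1
  simpa using this

omit F [Finite F1] [Finite F2] in
theorem sq_cent {K : Type*} [Field K] {A D : M2 K} (hA : A * D = D * A) (hdet : A.det ≠ 0) {x : SL2 K}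
    (hx : A.det • (x : M2 K) = A * A) : (x : M2 K) * D = D * x := by
  apply smul_cancel hdet
  rw [← Matrix.smul_mul, hx, ← Matrix.mul_smul, hx, mul_assoc, hA, ← mul_assoc, hA, mul_assoc]

/-- `[T, n1] ≤ T1` -/
theorem refl1 {c : G} (hc : c ∈ L.tor D1 D2) : ∃ x ∈ L.tor1 D1, c * L.e1 n1 = x * L.e1 n1 * c := by
  obtain ⟨A, B, h, hA, hB⟩ := hc
  obtain ⟨x, hx⟩ := exists_sq h.det1
  exact ⟨L.e1 x, ⟨x, sq_cent hA h.det1 hx, rfl⟩, F.refl1_aux h hA hx⟩

/-- `[T, n2] ≤ T2` -/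
theorem refl2 {c : G} (hc : c ∈ L.tor D1 D2) : ∃ x ∈ L.tor2 D2, c * L.e2 n2 = x * L.e2 n2 * c := by
  obtain ⟨A, B, h, hA, hB⟩ := hc
  obtain ⟨x, hx⟩ := exists_sq h.det2
  exact ⟨L.e2 x, ⟨x, sq_cent hB h.det2 hx, rfl⟩, F.refl2_aux h hB hx⟩

/-- every matrix of the torus of the first factor occurs -/
theorem exists_tor1 {A : M2 F1} (hA : A * D1 = D1 * A) (hdet : A.det ≠ 0) :
    ∃ B c, L.Rep c A B ∧ B * D2 = D2 * B := by
  by_cases h1 : IsSquare A.det
  · obtain ⟨c, hc⟩ := F.hyp.exists_rep (A := A) (B := 1) hdet (by simp) (by simp [h1])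
    exact ⟨1, c, hc, by simp⟩
  · obtain ⟨g, A', B', h2, h3, h4, h5⟩ := F.hyp.outer
    obtain ⟨B, hB, hB'⟩ := exists_cent_det F.two2 F.det2 F.tr2 B'.det
    obtain ⟨c, hc⟩ := F.hyp.exists_rep (A := A) (B := B) hdet (by rw [hB']; exact h2.det2)
      (by rw [hB']; exact iff_of_false h1 h4)
    exact ⟨B, c, hc, hB⟩

/-- every matrix of the torus of the second factor occurs -/
theorem exists_tor2 {B : M2 F2} (hB : B * D2 = D2 * B) (hdet : B.det ≠ 0) :
    ∃ A c, L.Rep c A B ∧ A * D1 = D1 * A := by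
  by_cases h1 : IsSquare B.det
  · obtain ⟨c, hc⟩ := F.hyp.exists_rep (A := 1) (B := B) (by simp) hdet (by simp [h1])
    exact ⟨1, c, hc, by simp⟩
  · obtain ⟨g, A', B', h2, h3, h4, h5⟩ := F.hyp.outer
    obtain ⟨A, hA, hA'⟩ := exists_cent_det F.two1 F.det1 F.tr1 A'.det
    obtain ⟨c, hc⟩ := F.hyp.exists_rep (A := A) (B := B) (by rw [hA']; exact h2.det1) hdet
      (by rw [hA']; exact iff_of_false h3 h1)
    exact ⟨A, c, hc, hA⟩

/-- `T1 ≤ [T, n1]` -/
theorem refl1_surj {x : G} (hx : x ∈ L.tor1 D1) : ∃ c ∈ L.tor D1 D2, c * L.e1 n1 = x * L.e1 n1 * c := by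
  obtain ⟨x, hx, rfl⟩ := hx
  obtain ⟨A, hA, hdet, hA2⟩ := hilbert90 F.two1 F.det1 F.tr1 hx
  obtain ⟨B, c, hc, hB⟩ := F.exists_tor1 hA hdet
  exact ⟨c, ⟨A, B, hc, hA, hB⟩, F.refl1_aux hc hA hA2⟩

/-- `T2 ≤ [T, n2]` -/
theorem refl2_surj {x : G} (hx : x ∈ L.tor2 D2) : ∃ c ∈ L.tor D1 D2, c * L.e2 n2 = x * L.e2 n2 * c := by
  obtain ⟨x, hx, rfl⟩ := hx
  obtain ⟨A, hA, hdet, hA2⟩ := hilbert90 F.two2 F.det2 F.tr2 hx
  obtain ⟨B, c, hc, hB⟩ := F.exists_tor2 hA hdet
  exact ⟨c, ⟨B, A, hc, hB, hA⟩, F.refl2_aux hc hA hA2⟩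

omit F [Finite F1] [Finite F2] in
theorem scalar_of_sq_det {K : Type*} [Field K] (h2 : (2 : K) ≠ 0) {A : M2 K} (hdet : A.det ≠ 0)
    (h : A.det • (1 : M2 K) = A * A) : ∃ a : K, a ≠ 0 ∧ A = a • (1 : M2 K) := by
  have h1 := m2_sq A
  rw [← h, eq_sub_iff_add_eq, ← add_smul] at h1
  have htr : A.trace ≠ 0 := by
    intro h0
    rw [h0, zero_smul] at h1
    have h3 := congrFun (congrFun h1 0) 0
    simp at h3
    have : 2 * A.det = 0 := by rw [two_mul]; exact h3
    rcases mul_eq_zero.1 this with h4 | h4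
    · exact h2 h4
    · exact hdet h4
  have h4 : A = ((A.trace)⁻¹ * (A.det + A.det)) • (1 : M2 K) := by
    have h5 := congrArg (fun Z => (A.trace)⁻¹ • Z) h1
    simpa only [smul_smul, inv_mul_cancel₀ htr, one_smul] using h5.symm
  refine ⟨_, ?_, h4⟩
  intro h0
  rw [h0] at h4
  apply hdet
  rw [h4]; simp

omit F [Finite F1] [Finite F2] in
theorem isSquare_of_neg {K : Type*} [Field K] (h2 : (2 : K) ≠ 0) {A D : M2 K} (hD : D.det ≠ 0)
    (ht : D.trace = 0) (hA : A * D = D * A) (hdet : A.det ≠ 0) (h : A.det • (-1 : M2 K) = A * A)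
    (hs : IsSquare A.det) : IsSquare D.det := by
  have htA : A.trace = 0 := by
    apply trace_of_sq_scalar (a := -A.det)
    · rw [← h]; simp
    · rintro b rfl
      rw [det_smul2] at h
      have h3 := congrFun (congrFun h 0) 0
      simp at h3
      have h4 : 2 * (b * b) = 0 := by linear_combination -h3
      rcases mul_eq_zero.1 h4 with h5 | h5
      · exact h2 h5
      · apply hdet; rw [det_smul2, h5]; simp
  obtain ⟨a, b, hab⟩ := cent_form h2 hD ht hA
  have ha : a = 0 := by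
    rw [hab, cent_trace ht] at htA
    exact (mul_eq_zero.1 htA).resolve_left h2
  rw [ha, zero_smul, zero_add] at hab
  have hb : b ≠ 0 := by
    rintro rfl
    apply hdet; rw [hab]; simp
  have h3 : D.det = b⁻¹ * b⁻¹ * A.det := by
    rw [hab, det_smul2]
    field_simp
  rw [h3]
  exact (IsSquare.mul_self _).mul hs

/-- `C_T(n1) = T2` -/
theorem mem_tor2_iff {c : G} (hc : c ∈ L.tor D1 D2) : c * L.e1 n1 = L.e1 n1 * c ↔ c ∈ L.tor2 D2 := by
  constructor
  · intro h
    obtain ⟨A, B, hr, hA, hB⟩ := hc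
    obtain ⟨x, hx⟩ := exists_sq hr.det1
    have h1 := F.refl1_aux hr hA hx
    rw [h, mul_assoc] at h1
    have h2 : L.e1 x = 1 := by
      have : 1 * (L.e1 n1 * c) = L.e1 x * (L.e1 n1 * c) := by rw [one_mul]; exact h1
      exact (mul_right_cancel this).symm
    have h3 : x = 1 := L.inj1 (by rw [h2, map_one])
    rw [h3] at hx
    obtain ⟨a, ha, rfl⟩ := scalar_of_sq_det F.two1 hr.det1 (by simpa using hx)
    obtain ⟨x0, y, a', b', ha', hb', hA', hB', hc'⟩ := hr.inner (isSquare_det_scalar a)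
      ((F.hyp.square_iff _ _ _ hr).1 (isSquare_det_scalar a))
    have hy : L.Rep (L.e2 y) (a • 1) B := by
      have := (Rep.e2 L y).smul ha hb'
      rwa [← hB'] at this
    have hyD : (y : M2 F2) * D2 = D2 * y := by
      rw [hB', Matrix.smul_mul, Matrix.mul_smul] at hB
      exact smul_cancel hb' hB
    rcases hy.unique hr (a := 1) (b := 1) (by simp) (by simp) with h4 | h4
    · exact ⟨y, hyD, h4⟩
    · refine ⟨-y, ?_, ?_⟩
      · simp [hyD]
      · rw [h4, Rep.e2_neg]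
  · intro h
    exact (tor2_e1 h n1).symm

/-- `C_T(n2) = T1` -/
theorem mem_tor1_iff {c : G} (hc : c ∈ L.tor D1 D2) : c * L.e2 n2 = L.e2 n2 * c ↔ c ∈ L.tor1 D1 := by
  constructor
  · intro h
    obtain ⟨A, B, hr, hA, hB⟩ := hc
    obtain ⟨y, hy⟩ := exists_sq hr.det2
    have h1 := F.refl2_aux hr hB hy
    rw [h, mul_assoc] at h1
    have h2 : L.e2 y = 1 := by
      have : 1 * (L.e2 n2 * c) = L.e2 y * (L.e2 n2 * c) := by rw [one_mul]; exact h1
      exact (mul_right_cancel this).symm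
    have h3 : y = 1 := L.inj2 (by rw [h2, map_one])
    rw [h3] at hy
    obtain ⟨b, hb, rfl⟩ := scalar_of_sq_det F.two2 hr.det2 (by simpa using hy)
    obtain ⟨x, y0, a', b', ha', hb', hA', hB', hc'⟩ := hr.inner
      ((F.hyp.square_iff _ _ _ hr).2 (isSquare_det_scalar b)) (isSquare_det_scalar b)
    have hx : L.Rep (L.e1 x) A (b • 1) := by
      have := (Rep.e1 L x).smul ha' hb
      rwa [← hA'] at this
    have hxD : (x : M2 F1) * D1 = D1 * x := by
      rw [hA', Matrix.smul_mul, Matrix.mul_smul] at hA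
      exact smul_cancel ha' hA
    rcases hx.unique hr (a := 1) (b := 1) (by simp) (by simp) with h4 | h4
    · exact ⟨x, hxD, h4⟩
    · refine ⟨-x, ?_, ?_⟩
      · simp [hxD]
      · rw [h4, Rep.e1_neg]
  · intro h
    exact (tor1_e2 h n2).symm

/-- `n1 : s ↦ s t` -/
theorem n1_s : L.e1 n1 * s = s * t * L.e1 n1 := by
  have := F.hyp.commutator (Rep.e1 L n1) F.rep (x := -1) (y := 1) (by simp [F.anti1]) (by simp)
  rw [L.neg1, map_one, mul_one] at this
  rw [this, ← F.rep.comm]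

theorem n2_s : L.e2 n2 * s = s * t * L.e2 n2 := by
  have := F.hyp.commutator (Rep.e2 L n2) F.rep (x := 1) (y := -1) (by simp) (by simp [F.anti2])
  rw [L.neg2, map_one, one_mul] at this
  rw [this, ← F.rep.comm]

/-- the type of the four-group `⟨t, s⟩` -/
theorem isSquare_iff : IsSquare D1.det ↔
    ∃ x, x * t = t * x ∧ x * s = s * x ∧ (x * x = t ∨ x * x = s ∨ x * x = s * t) := by
  constructor
  · rintro ⟨a, ha⟩
    have ha0 : a ≠ 0 := by
      rintro rfl
      exact F.det1 (by rw [ha]; simp)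
    obtain ⟨x, hx⟩ := exists_sl_of_sq ha0 ha
    have hxD : (x : M2 F1) * D1 = D1 * x := by
      rw [hx]; simp
    have hxt : (x : M2 F1).trace = 0 := by
      have := F.tr1
      rw [hx, Matrix.trace_smul, smul_eq_mul] at this
      exact (mul_eq_zero.1 this).resolve_left ha0
    refine ⟨L.e1 x, e1_t x, F.hyp.commute_of (Rep.e1 L x) F.rep hxD (by simp), Or.inl ?_⟩
    rw [← map_mul]
    have : x * x = -1 := by
      apply Subtype.ext
      change (x : M2 F1) * x = -1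
      rw [m2_sq_of_trace hxt, sl_coe_det]
      simp
    rw [this, L.neg1]
  · rintro ⟨x, hxt, hxs, hxx⟩
    by_contra hn
    have hn2 : ¬ IsSquare D2.det := fun h => hn ((F.hyp.square_iff _ _ _ F.rep).2 h)
    -- the square of `x` is in `C0`
    have hC : ∃ A B, L.Rep (x * x) A B := by
      rcases hxx with h | h | h
      · exact ⟨1, 1, by rw [h]; exact Rep.rep_t L⟩
      · exact ⟨D1, D2, by rw [h]; exact F.rep⟩
      · exact ⟨D1, D2, by rw [h]; exact F.mul_t.rep⟩
    obtain ⟨A, B, hr⟩ := F.hyp.sq_mem x hxt hC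
    have hr2 := hr.mul hr
    have hsqd : IsSquare (A * A).det := by rw [Matrix.det_mul]; exact ⟨_, rfl⟩
    have hxx' : x * x = t := by
      rcases hxx with h | h | h
      · exact h
      · exfalso
        rw [h] at hr2
        obtain ⟨⟨a, ha, h1⟩, -⟩ := F.rep.prop hr2
        apply hn
        have h2 : (A * A).det = a * a * D1.det := by rw [h1, det_smul2]
        have h3 : D1.det = a⁻¹ * a⁻¹ * (A * A).det := by rw [h2]; field_simp
        rw [h3]
        exact (IsSquare.mul_self _).mul hsqd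
      · exfalso
        rw [h] at hr2
        obtain ⟨⟨a, ha, h1⟩, -⟩ := F.mul_t.rep.prop hr2
        apply hn
        have h2 : (A * A).det = a * a * D1.det := by rw [h1, det_smul2]
        have h3 : D1.det = a⁻¹ * a⁻¹ * (A * A).det := by rw [h2]; field_simp
        rw [h3]
        exact (IsSquare.mul_self _).mul hsqd
    obtain ⟨y, hy⟩ := exists_sq hr.det1
    obtain ⟨z, hz⟩ := exists_sq hr.det2
    have hsq := F.hyp.sq hr hy hz
    have hsq1 : L.e1 (-y) * L.e2 z = 1 := by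
      rw [Rep.e1_neg, mul_assoc, ← e2_t, ← mul_assoc, ← hsq, hxx', L.t_sq]
    rcases e12_eq_one hsq1 with ⟨h1, h2⟩ | ⟨h1, h2⟩
    · -- `A² = - det A`, `B` scalar
      have hy1 : y = -1 := by rw [← h1]; simp
      rw [hy1] at hy
      rw [h2] at hz
      obtain ⟨b, hb, rfl⟩ := scalar_of_sq_det F.two2 hr.det2 (by simpa using hz)
      have hsA := (F.hyp.square_iff _ _ _ hr).2 (isSquare_det_scalar b)
      rcases F.of_comm_s hr hxs with ⟨h3, -⟩ | ⟨-, h3⟩
      · exact hn (isSquare_of_neg F.two1 F.det1 F.tr1 h3 hr.det1 (by simpa using hy) hsA)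
      · have h4 : (2 * b) • D2 = 0 := by
          have h5 : b • D2 = -(b • D2) := by simpa using h3
          rw [two_mul, add_smul]
          nth_rw 1 [h5]
          simp
        apply F.det2
        have h6 : D2 = 0 := smul_cancel (mul_ne_zero F.two2 hb) (h4.trans (smul_zero _).symm)
        rw [h6]; simp
    · have hy1 : y = 1 := by
        rw [← neg_neg y, h1]; simp
      rw [hy1] at hy
      rw [h2] at hz
      obtain ⟨b, hb, rfl⟩ := scalar_of_sq_det F.two1 hr.det1 (by simpa using hy)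
      have hsB := (F.hyp.square_iff _ _ _ hr).1 (isSquare_det_scalar b)
      rcases F.of_comm_s hr hxs with ⟨-, h3⟩ | ⟨h3, -⟩
      · exact hn2 (isSquare_of_neg F.two2 F.det2 F.tr2 h3 hr.det2 (by simpa using hz) hsB)
      · have h4 : (2 * b) • D1 = 0 := by
          have h5 : b • D1 = -(b • D1) := by simpa using h3
          rw [two_mul, add_smul]
          nth_rw 1 [h5]
          simp
        apply F.det1
        have h6 : D1 = 0 := smul_cancel (mul_ne_zero F.two1 hb) (h4.trans (smul_zero _).symm)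
        rw [h6]; simp

end Frame

end LocalSL

end Cfsg.Agent.GTwoOdd
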