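import Cfsg.Agent.GTwoOdd.HexaT

/-!
# Exchange of the two factors
-/

set_option autoImplicit false

namespace Cfsg.Agent.GTwoOdd

open Matrix

namespace LocalSL

variable {G : Type*} [Group G] {t : G} {F1 F2 : Type*} [Field F1] [Field F2]

/-- exchange of the two factors -/
def sw (L : LocalSL t F1 F2) : LocalSL t F2 F1 where
  e1 := L.e2
  e2 := L.e1
  inj1 := L.inj2
  inj2 := L.inj1
  comm x y := (L.comm y x).symm
  neg1 := L.neg2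
  neg2 := L.neg1
  cent c h h1 h2 := L.cent c h h2 h1

@[simp] theorem sw_e1 (L : LocalSL t F1 F2) : L.sw.e1 = L.e2 := rfl
@[simp] theorem sw_e2 (L : LocalSL t F1 F2) : L.sw.e2 = L.e1 := rfl
@[simp] theorem sw_sw (L : LocalSL t F1 F2) : L.sw.sw = L := rfl

variable {L : LocalSL t F1 F2}

theorem Rep.sw {c : G} {A : M2 F1} {B : M2 F2} (h : L.Rep c A B) : L.sw.Rep c B A := ⟨h.comm, h.acts2, h.acts1⟩

theorem Rep.of_sw {c : G} {A : M2 F1} {B : M2 F2} (h : L.sw.Rep c B A) : L.Rep c A B := ⟨h.comm, h.acts2, h.acts1⟩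

theorem Hyp.sw (H : L.Hyp) : L.sw.Hyp where
  norm1 := H.norm2
  norm2 := H.norm1
  comm_mem c d hc hd := by
    obtain ⟨x, y, h⟩ := H.comm_mem c d hc hd
    refine ⟨y, x, ?_⟩
    rw [sw_e1, sw_e2, ← L.comm]
    exact h
  sq_mem c hc h := by
    obtain ⟨A, B, h⟩ := h
    obtain ⟨A', B', h'⟩ := H.sq_mem c hc ⟨B, A, h.of_sw⟩
    exact ⟨B', A', h'.sw⟩
  square_iff c A B h := (H.square_iff c B A h.of_sw).symm
  outer := by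
    obtain ⟨g, A, B, h1, h2, h3, h4⟩ := H.outer
    exact ⟨g, B, A, h1.sw, h3, h2, h4⟩

theorem Frame.sw {s : G} {D1 : M2 F1} {D2 : M2 F2} {n1 : SL2 F1} {n2 : SL2 F2} (F : L.Frame s D1 D2 n1 n2) :
    L.sw.Frame s D2 D1 n2 n1 := ⟨F.hyp.sw, F.rep.sw, F.tr2, F.tr1, F.anti2, F.anti1⟩

theorem Swap.sw {s g : G} {D1 : M2 F1} {D2 : M2 F2} {n1 : SL2 F1} {n2 : SL2 F2} (S : L.Swap s D1 D2 n1 n2 g) :
    L.sw.Swap s D2 D1 n2 n1 g := ⟨S.toFrame.sw, S.gt, S.gs⟩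

theorem sw_tor (L : LocalSL t F1 F2) (D1 : M2 F1) (D2 : M2 F2) : L.sw.tor D2 D1 = L.tor D1 D2 := by
  ext c
  constructor
  · rintro ⟨A, B, h, h1, h2⟩
    exact ⟨B, A, h.of_sw, h2, h1⟩
  · rintro ⟨A, B, h, h1, h2⟩
    exact ⟨B, A, h.sw, h2, h1⟩

theorem sw_tor1 (L : LocalSL t F1 F2) (D : M2 F2) : L.sw.tor1 D = L.tor2 D := rfl

theorem sw_tor2 (L : LocalSL t F1 F2) (D : M2 F1) : L.sw.tor2 D = L.tor1 D := rfl

theorem sw_baseX (L : LocalSL t F1 F2) {i j : ℕ} (h : (i + j) % 4 = 3) : L.sw.baseX i = L.baseX j := by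
  have h4 : i % 4 < 4 := Nat.mod_lt _ (by norm_num)
  interval_cases hi : i % 4
  · rw [L.sw.baseX_0 hi, L.baseX_3 (by omega)]; rfl
  · rw [L.sw.baseX_1 hi, L.baseX_2 (by omega)]; rfl
  · rw [L.sw.baseX_2 hi, L.baseX_1 (by omega)]; rfl
  · rw [L.sw.baseX_3 hi, L.baseX_0 (by omega)]; rfl

variable [Finite F1] [Finite F2] {s g : G}

/-- `ρ` of the exchanged datum is `ρ` modulo `T` -/
theorem Swap.sw_rho (S : L.Split s g) : EqT (TT L) (ro L.sw g) (ro L g) := by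
  -- `r2 = r1⁻¹ w`
  obtain ⟨τ, hτ, hw⟩ := S.w_g
  have nr1 := S.nT_r1
  have nr2 := S.nT_r2
  have nrp := S.nT_rp
  have cm : L.e1 (wn F1) * L.e2 (wn F2) = L.e2 (wn F2) * L.e1 (wn F1) := L.comm _ _
  -- `g r2 g⁻¹ = (g r1 g⁻¹)⁻¹ τ r1 r2`
  have h1 : g * L.e2 (wn F2) * g⁻¹ = (rp L (wn F1) g)⁻¹ * τ * (L.e1 (wn F1) * L.e2 (wn F2)) := by
    unfold rp
    calc g * L.e2 (wn F2) * g⁻¹ = (g * L.e1 (wn F1) * g⁻¹)⁻¹ * (g * (L.e1 (wn F1) * L.e2 (wn F2)) * g⁻¹) := by group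
      _ = _ := by rw [hw]; group
  have h2 : ro L.sw g = L.e2 (wn F2) * ((rp L (wn F1) g)⁻¹ * τ * (L.e1 (wn F1) * L.e2 (wn F2))) := by
    change L.e2 (wn F2) * (g * L.e2 (wn F2) * g⁻¹) = _
    rw [h1]
  -- `r2 rp⁻¹ r1 r2 = r2 (r1⁻¹ ρ)⁻¹ r1 r2 = r2 ρ⁻¹ r1 r1 r2 = r2 ρ⁻¹ r2 = ρ`
  have h3 : EqT (TT L) (ro L.sw g) (L.e2 (wn F2) * ((rp L (wn F1) g)⁻¹ * (L.e1 (wn F1) * L.e2 (wn F2)))) := by
    rw [h2]
    apply EqT.mul nr2 (EqT.refl _)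
    have e : (rp L (wn F1) g)⁻¹ * τ * (L.e1 (wn F1) * L.e2 (wn F2)) =
        ((rp L (wn F1) g)⁻¹ * τ * rp L (wn F1) g) * ((rp L (wn F1) g)⁻¹ * (L.e1 (wn F1) * L.e2 (wn F2))) := by group
    rw [e]
    unfold EqT
    have e2 : (rp L (wn F1) g)⁻¹ * τ * rp L (wn F1) g * ((rp L (wn F1) g)⁻¹ * (L.e1 (wn F1) * L.e2 (wn F2))) *
        ((rp L (wn F1) g)⁻¹ * (L.e1 (wn F1) * L.e2 (wn F2)))⁻¹ = (rp L (wn F1) g)⁻¹ * τ * rp L (wn F1) g := by group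
    rw [e2]
    exact nrp.2 _ hτ
  refine h3.trans ?_
  have h4 : L.e2 (wn F2) * ((rp L (wn F1) g)⁻¹ * (L.e1 (wn F1) * L.e2 (wn F2))) =
      L.e2 (wn F2) * (ro L g)⁻¹ * (L.e1 (wn F1) * L.e1 (wn F1)) * L.e2 (wn F2) := by
    unfold ro rho
    group
  rw [h4]
  have nro := S.nT_rho
  have h5 : EqT (TT L) (L.e2 (wn F2) * (ro L g)⁻¹ * (L.e1 (wn F1) * L.e1 (wn F1)) * L.e2 (wn F2))
      (L.e2 (wn F2) * (ro L g)⁻¹ * 1 * L.e2 (wn F2)) :=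
    EqT.mul ((nr2.mul nro.inv).mul NormT.one) (EqT.mul (nr2.mul nro.inv) (EqT.refl _) S.r1_sqT) (EqT.refl _)
  refine h5.trans ?_
  rw [mul_one]
  -- `r2 ρ⁻¹ r2 = (r2 ρ r2⁻¹)⁻¹ (r2 r2)`
  have h6 : L.e2 (wn F2) * (ro L g)⁻¹ * L.e2 (wn F2) =
      (L.e2 (wn F2) * ro L g * (L.e2 (wn F2))⁻¹)⁻¹ * (L.e2 (wn F2) * L.e2 (wn F2)) := by group
  rw [h6]
  have h7 := EqT.inv nro.inv S.r2_rhoT
  rw [inv_inv] at h7
  have h8 := EqT.mul nro h7 S.r2_sqT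
  rwa [mul_one] at h8

/-- the root groups of the exchanged datum: `m ↦ 7 m + 3` -/
theorem Swap.sw_XN (S : L.Split s g) {m k : ℕ} (h : k % 12 = (7 * m + 3) % 12) : L.sw.XN g m = L.XN g k := by
  unfold XN
  rw [L.sw_baseX (show (m + k) % 4 = 3 by omega)]
  refine EqT.cjS_eq (T := TT L) (b := rho L (wn F1) g ^ k) ?_ (S.nT_rho.pow k) (fun c hc => S.cjS_base hc k)
  have h1 : ∀ j : ℕ, EqT (TT L) (ro L.sw g ^ j) (ro L g ^ j) := by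
    intro j
    induction j with
    | zero => rw [pow_zero, pow_zero]; exact EqT.refl 1
    | succ j ih =>
      rw [pow_succ, pow_succ]
      exact EqT.mul (S.nT_rho.pow j) ih S.sw_rho
  exact (h1 m).trans (S.rho_mod (by omega))

end LocalSL

end Cfsg.Agent.GTwoOdd
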