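import Cfsg.Agent.GTwoOdd.HexaX

/-!
# The twelve root groups: involutions, transitivity of `T`, existence of split frames
-/

set_option autoImplicit false

namespace Cfsg.Agent.GTwoOdd

open Matrix

namespace LocalSL

variable {G : Type*} [Group G] {t : G} {F1 F2 : Type*} [Field F1] [Field F2]
variable [Finite F1] [Finite F2] {L : LocalSL t F1 F2} {s g : G}

/-- split frames exist if `-1` has the same quadratic character in the two fields -/
theorem Hyp.exists_split (H : L.Hyp) (h : IsSquare (-1 : F1) ↔ IsSquare (-1 : F2))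
    (hcl : ∀ x : G, x * x = 1 → x ≠ 1 → ∃ g, g * t = x * g) : ∃ s g, L.Split s g := by
  obtain ⟨s, hs⟩ := H.exists_rep (A := dg F1) (B := dg F2) (by rw [dg_det]; simp) (by rw [dg_det]; simp)
    (by rw [dg_det, dg_det]; exact h)
  have F : L.Frame s (dg F1) (dg F2) (wn F1) (wn F2) := ⟨H, hs, dg_trace, dg_trace, wn_anti, wn_anti⟩
  obtain ⟨g, h1, h2⟩ := F.exists_swap (hcl s F.ss F.s_ne_one)
  exact ⟨s, g, F, h1, h2⟩

namespace Swap

variable (S : L.Split s g)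
include S

theorem tN_eq {m k : ℕ} (h : m % 3 = k % 3) : tN t L g m = tN t L g k := by
  unfold tN
  have h1 := S.rho_mod h
  unfold EqT at h1
  have h2 : rho L (wn F1) g ^ m = (ro L g ^ k) * ((ro L g ^ k)⁻¹ * (ro L g ^ m * (ro L g ^ k)⁻¹) * ro L g ^ k) := by
    group
  have h3 : (ro L g ^ k)⁻¹ * (ro L g ^ m * (ro L g ^ k)⁻¹) * ro L g ^ k ∈ TT L := (S.nT_rho.pow k).2 _ h1
  have h4 := S.toFrame.tor_t h3
  rw [h2]
  calc ro L g ^ k * ((ro L g ^ k)⁻¹ * (ro L g ^ m * (ro L g ^ k)⁻¹) * ro L g ^ k) * t *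
        (ro L g ^ k * ((ro L g ^ k)⁻¹ * (ro L g ^ m * (ro L g ^ k)⁻¹) * ro L g ^ k))⁻¹
      = ro L g ^ k * (((ro L g ^ k)⁻¹ * (ro L g ^ m * (ro L g ^ k)⁻¹) * ro L g ^ k) * t) *
        ((ro L g ^ k)⁻¹ * (ro L g ^ m * (ro L g ^ k)⁻¹) * ro L g ^ k)⁻¹ * (ro L g ^ k)⁻¹ := by group
    _ = _ := by rw [h4]; group

theorem tN_0 : tN t L g 0 = t := by unfold tN; simp

theorem tN_1 : tN t L g 1 = s := by
  unfold tN
  rw [pow_one, S.rho_t]; group

theorem tN_2 : tN t L g 2 = s * t := by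
  unfold tN
  have h1 := S.rho_t
  have h2 := S.rho_s
  calc rho L (wn F1) g ^ 2 * t * (rho L (wn F1) g ^ 2)⁻¹
      = rho L (wn F1) g * (rho L (wn F1) g * t) * (rho L (wn F1) g)⁻¹ * (rho L (wn F1) g)⁻¹ := by
        rw [pow_two]; group
    _ = (rho L (wn F1) g * s) * rho L (wn F1) g * (rho L (wn F1) g)⁻¹ * (rho L (wn F1) g)⁻¹ := by rw [h1]; group
    _ = s * t := by rw [h2]; group

theorem tN_sq (m : ℕ) : tN t L g m * tN t L g m = 1 := by
  unfold tN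
  calc rho L (wn F1) g ^ m * t * (rho L (wn F1) g ^ m)⁻¹ * (rho L (wn F1) g ^ m * t * (rho L (wn F1) g ^ m)⁻¹)
      = rho L (wn F1) g ^ m * (t * t) * (rho L (wn F1) g ^ m)⁻¹ := by group
    _ = 1 := by rw [L.t_sq]; group

/-- `t_m` centralises `X m` -/
theorem tN_cent {m k : ℕ} (h : k % 3 = m % 3) {x : G} (hx : x ∈ L.XN g m) : tN t L g k * x = x * tN t L g k := by
  rw [S.tN_eq h]
  unfold XN at hx
  rw [mem_cjS] at hx
  have h1 := t_base m hx
  have h2 : t * ((rho L (wn F1) g ^ m)⁻¹ * x * rho L (wn F1) g ^ m) =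
      ((rho L (wn F1) g ^ m)⁻¹ * x * rho L (wn F1) g ^ m) * t := by
    calc t * ((rho L (wn F1) g ^ m)⁻¹ * x * rho L (wn F1) g ^ m)
        = t * ((rho L (wn F1) g ^ m)⁻¹ * x * rho L (wn F1) g ^ m) * t⁻¹ * t := by group
      _ = _ := by rw [h1]
  unfold tN
  calc rho L (wn F1) g ^ m * t * (rho L (wn F1) g ^ m)⁻¹ * x
      = rho L (wn F1) g ^ m * (t * ((rho L (wn F1) g ^ m)⁻¹ * x * rho L (wn F1) g ^ m)) *
        (rho L (wn F1) g ^ m)⁻¹ := by group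
    _ = _ := by rw [h2]; group

/-- `t_k` inverts `X m` for `k ≠ m` modulo `3` -/
theorem tN_inv {m k : ℕ} (h : k % 3 ≠ m % 3) {x : G} (hx : x ∈ L.XN g m) :
    tN t L g k * x * (tN t L g k)⁻¹ = x⁻¹ := by
  -- `t_k = ρ^m t_j ρ^-m` with `j = 1, 2`
  obtain ⟨j, hj1, hj2⟩ : ∃ j, (j = 1 ∨ j = 2) ∧ k % 3 = (m + j) % 3 := by
    have h1 : m % 3 < 3 := Nat.mod_lt _ (by norm_num)
    have h2 : k % 3 < 3 := Nat.mod_lt _ (by norm_num)
    rcases Nat.lt_trichotomy (k % 3) (m % 3) with h3 | h3 | h3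
    · by_cases h4 : k % 3 = (m + 1) % 3
      · exact ⟨1, Or.inl rfl, h4⟩
      · exact ⟨2, Or.inr rfl, by omega⟩
    · exact absurd h3 h
    · by_cases h4 : k % 3 = (m + 1) % 3
      · exact ⟨1, Or.inl rfl, h4⟩
      · exact ⟨2, Or.inr rfl, by omega⟩
  rw [S.tN_eq hj2]
  unfold XN at hx
  rw [mem_cjS] at hx
  have e : tN t L g (m + j) = rho L (wn F1) g ^ m * tN t L g j * (rho L (wn F1) g ^ m)⁻¹ := by
    unfold tN; rw [pow_add]; group
  have h1 : tN t L g j * ((rho L (wn F1) g ^ m)⁻¹ * x * rho L (wn F1) g ^ m) * (tN t L g j)⁻¹ =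
      ((rho L (wn F1) g ^ m)⁻¹ * x * rho L (wn F1) g ^ m)⁻¹ := by
    rcases hj1 with rfl | rfl
    · rw [S.tN_1]; exact S.s_base m hx
    · rw [S.tN_2]
      have h3 := t_base m hx
      calc s * t * ((rho L (wn F1) g ^ m)⁻¹ * x * rho L (wn F1) g ^ m) * (s * t)⁻¹
          = s * (t * ((rho L (wn F1) g ^ m)⁻¹ * x * rho L (wn F1) g ^ m) * t⁻¹) * s⁻¹ := by group
        _ = _ := by rw [h3]; exact S.s_base m hx
  rw [e]
  calc rho L (wn F1) g ^ m * tN t L g j * (rho L (wn F1) g ^ m)⁻¹ * x *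
        (rho L (wn F1) g ^ m * tN t L g j * (rho L (wn F1) g ^ m)⁻¹)⁻¹
      = rho L (wn F1) g ^ m * (tN t L g j * ((rho L (wn F1) g ^ m)⁻¹ * x * rho L (wn F1) g ^ m) *
        (tN t L g j)⁻¹) * (rho L (wn F1) g ^ m)⁻¹ := by group
    _ = _ := by rw [h1]; group

omit [Finite F1] [Finite F2] S in
theorem base_comm (i : ℕ) {x y : G} (hx : x ∈ L.baseX i) (hy : y ∈ L.baseX i) : x * y = y * x := by
  have h4 : i % 4 < 4 := Nat.mod_lt _ (by norm_num)
  interval_cases hi : i % 4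
  · rw [L.baseX_0 hi] at hx hy
    obtain ⟨_, ⟨a, rfl⟩, rfl⟩ := hx
    obtain ⟨_, ⟨b, rfl⟩, rfl⟩ := hy
    rw [← map_mul, ← map_mul, up_mul, up_mul, add_comm]
  · rw [L.baseX_1 hi] at hx hy
    obtain ⟨_, ⟨a, rfl⟩, rfl⟩ := hx
    obtain ⟨_, ⟨b, rfl⟩, rfl⟩ := hy
    rw [← map_mul, ← map_mul, lo_mul, lo_mul, add_comm]
  · rw [L.baseX_2 hi] at hx hy
    obtain ⟨_, ⟨a, rfl⟩, rfl⟩ := hx
    obtain ⟨_, ⟨b, rfl⟩, rfl⟩ := hy
    rw [← map_mul, ← map_mul, lo_mul, lo_mul, add_comm]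
  · rw [L.baseX_3 hi] at hx hy
    obtain ⟨_, ⟨a, rfl⟩, rfl⟩ := hx
    obtain ⟨_, ⟨b, rfl⟩, rfl⟩ := hy
    rw [← map_mul, ← map_mul, up_mul, up_mul, add_comm]

omit [Finite F1] [Finite F2] S in
theorem base_comm' {i j : ℕ} (h : (i + j) % 2 = 1) {x y : G} (hx : x ∈ L.baseX i) (hy : y ∈ L.baseX j) :
    x * y = y * x := by
  have key : ∀ (k : ℕ) {z : G}, z ∈ L.baseX k → (k % 2 = 0 → ∃ w, z = L.e2 w) ∧ (k % 2 = 1 → ∃ w, z = L.e1 w) := by
    intro k z hz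
    have h4 : k % 4 < 4 := Nat.mod_lt _ (by norm_num)
    interval_cases hk : k % 4
    · rw [L.baseX_0 hk] at hz
      obtain ⟨w, _, rfl⟩ := hz
      exact ⟨fun _ => ⟨w, rfl⟩, fun h => by omega⟩
    · rw [L.baseX_1 hk] at hz
      obtain ⟨w, _, rfl⟩ := hz
      exact ⟨fun h => by omega, fun _ => ⟨w, rfl⟩⟩
    · rw [L.baseX_2 hk] at hz
      obtain ⟨w, _, rfl⟩ := hz
      exact ⟨fun _ => ⟨w, rfl⟩, fun h => by omega⟩
    · rw [L.baseX_3 hk] at hz
      obtain ⟨w, _, rfl⟩ := hz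
      exact ⟨fun h => by omega, fun _ => ⟨w, rfl⟩⟩
  by_cases hi : i % 2 = 0
  · obtain ⟨w, rfl⟩ := (key i hx).1 hi
    obtain ⟨v, rfl⟩ := (key j hy).2 (by omega)
    exact (L.comm v w).symm
  · obtain ⟨w, rfl⟩ := (key i hx).2 (by omega)
    obtain ⟨v, rfl⟩ := (key j hy).1 (by omega)
    exact L.comm w v

omit [Finite F1] [Finite F2] S in
/-- the root groups are abelian -/
theorem XN_comm (m : ℕ) {x y : G} (hx : x ∈ L.XN g m) (hy : y ∈ L.XN g m) : x * y = y * x := by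
  unfold XN at hx hy
  rw [mem_cjS] at hx hy
  have h := base_comm m hx hy
  calc x * y = rho L (wn F1) g ^ m * (((rho L (wn F1) g ^ m)⁻¹ * x * rho L (wn F1) g ^ m) *
        ((rho L (wn F1) g ^ m)⁻¹ * y * rho L (wn F1) g ^ m)) * (rho L (wn F1) g ^ m)⁻¹ := by group
    _ = _ := by rw [h]; group

/-- root groups at distance `3` commute -/
theorem XN_comm3 {m k : ℕ} (h1 : m % 3 = k % 3) (h2 : m % 2 ≠ k % 2) {x y : G} (hx : x ∈ L.XN g m)
    (hy : y ∈ L.XN g k) : x * y = y * x := by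
  -- move `X k` to the power `ρ^m`
  have hk : L.XN g k = cjS (rho L (wn F1) g ^ m) (L.baseX k) := by
    unfold XN
    exact EqT.cjS_eq (T := TT L) (S.rho_mod h1.symm) (S.nT_rho.pow m) (fun c hc => S.cjS_base hc k)
  rw [hk] at hy
  unfold XN at hx
  rw [mem_cjS] at hx hy
  have h := base_comm' (i := m) (j := k) (by omega) hx hy
  calc x * y = rho L (wn F1) g ^ m * (((rho L (wn F1) g ^ m)⁻¹ * x * rho L (wn F1) g ^ m) *
        ((rho L (wn F1) g ^ m)⁻¹ * y * rho L (wn F1) g ^ m)) * (rho L (wn F1) g ^ m)⁻¹ := by group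
    _ = _ := by rw [h]; group

/-- `T` is transitive on `X m ∖ 1` -/
theorem tor_trans_XN (m : ℕ) {x y : G} (hx : x ∈ L.XN g m) (hy : y ∈ L.XN g m) (hx1 : x ≠ 1) (hy1 : y ≠ 1) :
    ∃ c ∈ TT L, c * x * c⁻¹ = y := by
  unfold XN at hx hy
  rw [mem_cjS] at hx hy
  obtain ⟨c, hc, h⟩ := S.tor_trans m hx hy
    (by intro h; apply hx1
        calc x = rho L (wn F1) g ^ m * ((rho L (wn F1) g ^ m)⁻¹ * x * rho L (wn F1) g ^ m) *
              (rho L (wn F1) g ^ m)⁻¹ := by group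
          _ = 1 := by rw [h]; group)
    (by intro h; apply hy1
        calc y = rho L (wn F1) g ^ m * ((rho L (wn F1) g ^ m)⁻¹ * y * rho L (wn F1) g ^ m) *
              (rho L (wn F1) g ^ m)⁻¹ := by group
          _ = 1 := by rw [h]; group)
  refine ⟨rho L (wn F1) g ^ m * c * (rho L (wn F1) g ^ m)⁻¹, (S.nT_rho.pow m).1 _ hc, ?_⟩
  calc rho L (wn F1) g ^ m * c * (rho L (wn F1) g ^ m)⁻¹ * x * (rho L (wn F1) g ^ m * c * (rho L (wn F1) g ^ m)⁻¹)⁻¹
      = rho L (wn F1) g ^ m * (c * ((rho L (wn F1) g ^ m)⁻¹ * x * rho L (wn F1) g ^ m) * c⁻¹) *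
        (rho L (wn F1) g ^ m)⁻¹ := by group
    _ = y := by rw [h]; group

/-- a subgroup of `X m` normalised by `T` is `1` or `X m` -/
theorem XN_irred (m : ℕ) {H : Subgroup G} (hH : H ≤ L.XN g m) (hT : ∀ c ∈ TT L, ∀ x ∈ H, c * x * c⁻¹ ∈ H) :
    H = ⊥ ∨ H = L.XN g m := by
  by_cases h : H = ⊥
  · exact Or.inl h
  right
  obtain ⟨⟨x, hx⟩, hx1⟩ := Subgroup.ne_bot_iff_exists_ne_one.1 h
  replace hx1 : x ≠ 1 := fun h => hx1 (Subtype.ext h)
  apply le_antisymm hH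
  intro y hy
  by_cases hy1 : y = 1
  · rw [hy1]; exact one_mem _
  · obtain ⟨c, hc, h⟩ := S.tor_trans_XN m (hH hx) hy hx1 hy1
    rw [← h]
    exact hT c hc x hx

omit [Finite F1] [Finite F2] S in
/-- the orders of the root groups of type `1` -/
theorem card_XN_odd {m : ℕ} (h : m % 2 = 1) : Nat.card (L.XN g m) = Nat.card F1 := by
  unfold XN cjS
  rw [Subgroup.card_map_of_injective (MulAut.conj _).injective]
  by_cases h1 : m % 4 = 1
  · rw [L.baseX_1 h1, Subgroup.card_map_of_injective L.inj1]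
    refine Nat.card_congr (Equiv.ofBijective (fun a => (⟨lo a, lo_mem a⟩ : loU F1)) ⟨?_, ?_⟩).symm
    · intro a b hab
      have := congrArg (fun z : loU F1 => (z.1 : M2 F1) 1 0) hab
      simpa [lo_coe] using this
    · rintro ⟨_, ⟨a, rfl⟩⟩
      exact ⟨a, rfl⟩
  · rw [L.baseX_3 (by omega), Subgroup.card_map_of_injective L.inj1]
    refine Nat.card_congr (Equiv.ofBijective (fun a => (⟨up a, up_mem a⟩ : upU F1)) ⟨?_, ?_⟩).symm
    · intro a b hab
      have := congrArg (fun z : upU F1 => (z.1 : M2 F1) 0 1) hab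
      simpa [up_coe] using this
    · rintro ⟨_, ⟨a, rfl⟩⟩
      exact ⟨a, rfl⟩

omit [Finite F1] [Finite F2] S in
/-- the orders of the root groups of type `2` -/
theorem card_XN_even {m : ℕ} (h : m % 2 = 0) : Nat.card (L.XN g m) = Nat.card F2 := by
  unfold XN cjS
  rw [Subgroup.card_map_of_injective (MulAut.conj _).injective]
  by_cases h1 : m % 4 = 2
  · rw [L.baseX_2 h1, Subgroup.card_map_of_injective L.inj2]
    refine Nat.card_congr (Equiv.ofBijective (fun a => (⟨lo a, lo_mem a⟩ : loU F2)) ⟨?_, ?_⟩).symm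
    · intro a b hab
      have := congrArg (fun z : loU F2 => (z.1 : M2 F2) 1 0) hab
      simpa [lo_coe] using this
    · rintro ⟨_, ⟨a, rfl⟩⟩
      exact ⟨a, rfl⟩
  · rw [L.baseX_0 (by omega), Subgroup.card_map_of_injective L.inj2]
    refine Nat.card_congr (Equiv.ofBijective (fun a => (⟨up a, up_mem a⟩ : upU F2)) ⟨?_, ?_⟩).symm
    · intro a b hab
      have := congrArg (fun z : upU F2 => (z.1 : M2 F2) 0 1) hab
      simpa [up_coe] using this
    · rintro ⟨_, ⟨a, rfl⟩⟩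
      exact ⟨a, rfl⟩

end Swap

end LocalSL

end Cfsg.Agent.GTwoOdd
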