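import Mathlib
import Cfsg.Agent.Lib.Cores
import Cfsg.Agent.Lib.LocalCore
import Cfsg.Agent.S0215

/-!
# An involution which is the only involution of its centraliser is central modulo the odd core
-/

set_option autoImplicit false

namespace Cfsg.Agent.GTwoOdd.ZIso

open Subgroup

/-- if `t` is the only involution of `C(t)` then `[t, h] ∈ O(H)` for all `h` -/
theorem comm_mem_core {H : Type*} [Group H] [Finite H] {t : H} (ht : t * t = 1) (ht1 : t ≠ 1)
    (huniq : ∀ c : H, c * t = t * c → c * c = 1 → c ≠ 1 → c = t) (h : H) :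
    t * h * t⁻¹ * h⁻¹ ∈ Cfsg.pPrimeCore 2 H := by
  have h2 : Fact (Nat.Prime 2) := ⟨Nat.prime_two⟩
  have hord : orderOf t = 2 := by
    rw [orderOf_eq_prime_iff]
    exact ⟨by rw [pow_two]; exact ht, ht1⟩
  have hp : IsPGroup 2 (zpowers t) := by
    rw [IsPGroup.iff_card]
    exact ⟨1, by rw [Nat.card_zpowers, hord, pow_one]⟩
  obtain ⟨P, hP⟩ := hp.exists_le_sylow
  have htP : t ∈ P := hP (mem_zpowers t)
  -- a central involution of `P`
  have hnt : Nontrivial (P : Subgroup H) := ⟨⟨⟨t, htP⟩, 1, fun h => ht1 (congrArg Subtype.val h)⟩⟩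
  have hc : Nontrivial (center (P : Subgroup H)) := P.2.center_nontrivial
  have hdvd : 2 ∣ Nat.card (center (P : Subgroup H)) := by
    have hPc : IsPGroup 2 (center (P : Subgroup H)) := P.2.to_subgroup _
    obtain ⟨n, hn⟩ := IsPGroup.iff_card.1 hPc
    rw [hn]
    apply dvd_pow_self
    rintro rfl
    rw [pow_zero] at hn
    have := Finite.one_lt_card (α := center (P : Subgroup H))
    omega
  obtain ⟨z, hz⟩ := exists_prime_orderOf_dvd_card' 2 hdvd
  have hz1 : ((z : (P : Subgroup H)) : H) ≠ 1 := by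
    intro h1
    have : z = 1 := Subtype.ext (Subtype.ext h1)
    rw [this, orderOf_one] at hz
    norm_num at hz
  have hzz : ((z : (P : Subgroup H)) : H) * ((z : (P : Subgroup H)) : H) = 1 := by
    have h3 : z ^ 2 = 1 := orderOf_dvd_iff_pow_eq_one.1 (by rw [hz])
    have h4 := congrArg (fun w : center (P : Subgroup H) => ((w : (P : Subgroup H)) : H)) h3
    simpa [pow_two] using h4
  have hzc : ∀ c ∈ P, c * ((z : (P : Subgroup H)) : H) = ((z : (P : Subgroup H)) : H) * c := by
    intro c hc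
    have := (Subgroup.mem_center_iff.1 z.2) ⟨c, hc⟩
    exact congrArg Subtype.val this
  have hzt : ((z : (P : Subgroup H)) : H) = t := huniq _ (hzc t htP).symm hzz hz1
  obtain ⟨N, hN, hodd, hmem⟩ := Cfsg.Agent.S0215.result P t hord htP (by
    intro g hg
    apply huniq
    · have := hzc _ hg
      rw [hzt] at this
      exact this
    · calc g * t * g⁻¹ * (g * t * g⁻¹) = g * (t * t) * g⁻¹ := by group
        _ = 1 := by rw [ht]; group
    · intro h1
      apply ht1
      calc t = g⁻¹ * (g * t * g⁻¹) * g := by group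
        _ = 1 := by rw [h1]; group)
  exact Cfsg.Agent.Lib.Cores.le_pPrimeCore hN (Nat.coprime_two_right.2 hodd) (hmem h)

/-- the odd core of the centraliser of `A` -/
def rc {G : Type*} [Group G] (A : Subgroup G) : Subgroup G :=
  (Cfsg.pPrimeCore 2 (centralizer (A : Set G))).map (centralizer (A : Set G)).subtype

variable {G : Type*} [Group G]

theorem rc_le (A : Subgroup G) : rc A ≤ centralizer (A : Set G) := Subgroup.map_subtype_le _

theorem rc_comm {A : Subgroup G} {x a : G} (hx : x ∈ rc A) (ha : a ∈ A) : x * a = a * x :=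
  (Subgroup.mem_centralizer_iff.1 (rc_le A hx) a ha).symm

theorem rc_odd [Finite G] (A : Subgroup G) : Odd (Nat.card (rc A)) := by
  have := Cfsg.Agent.Lib.LocalCore.card_map_pPrimeCore_coprime 2 (centralizer (A : Set G))
  exact Nat.coprime_two_right.1 this

theorem rc_norm {A : Subgroup G} {c x : G} (hc : c ∈ centralizer (A : Set G)) (hx : x ∈ rc A) : c * x * c⁻¹ ∈ rc A :=
  ((Cfsg.Agent.Lib.LocalCore.le_normalizer_map_pPrimeCore 2 (centralizer (A : Set G)) hc) x).1 hx

theorem le_rc [Finite G] {A K : Subgroup G} (hK : K ≤ centralizer (A : Set G)) (hodd : Odd (Nat.card K))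
    (hn : ∀ c ∈ centralizer (A : Set G), ∀ x ∈ K, c * x * c⁻¹ ∈ K) : K ≤ rc A := by
  apply Cfsg.Agent.Lib.LocalCore.le_map_pPrimeCore hK (Nat.coprime_two_right.2 hodd)
  intro c hc x
  constructor
  · exact hn c hc x
  · intro h
    have := hn c⁻¹ (inv_mem hc) _ h
    have e : c⁻¹ * (c * x * c⁻¹) * c⁻¹⁻¹ = x := by group
    rwa [e] at this

/-- elements which normalise `A` normalise `rc A` -/
theorem rc_norm' [Finite G] {A : Subgroup G} {g x : G} (h1 : ∀ a ∈ A, g * a * g⁻¹ ∈ A)
    (h2 : ∀ a ∈ A, g⁻¹ * a * g ∈ A) (hx : x ∈ rc A) : g * x * g⁻¹ ∈ rc A := by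
  have key : (rc A).map (MulAut.conj g).toMonoidHom ≤ rc A := by
    apply le_rc
    · rintro _ ⟨y, hy, rfl⟩
      rw [mem_centralizer_iff]
      intro a ha
      change a * (g * y * g⁻¹) = g * y * g⁻¹ * a
      have := rc_comm hy (h2 a ha)
      calc a * (g * y * g⁻¹) = g * ((g⁻¹ * a * g) * y) * g⁻¹ := by group
        _ = g * (y * (g⁻¹ * a * g)) * g⁻¹ := by rw [this]
        _ = _ := by group
    · rw [Subgroup.card_map_of_injective (MulAut.conj g).injective]
      exact rc_odd A
    · rintro c hc _ ⟨y, hy, rfl⟩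
      have hc' : g⁻¹ * c * g ∈ centralizer (A : Set G) := by
        rw [mem_centralizer_iff] at hc ⊢
        intro a ha
        have := hc _ (h1 a ha)
        calc a * (g⁻¹ * c * g) = g⁻¹ * ((g * a * g⁻¹) * c) * g := by group
          _ = g⁻¹ * (c * (g * a * g⁻¹)) * g := by rw [this]
          _ = _ := by group
      refine ⟨(g⁻¹ * c * g) * y * (g⁻¹ * c * g)⁻¹, rc_norm hc' hy, ?_⟩
      change g * ((g⁻¹ * c * g) * y * (g⁻¹ * c * g)⁻¹) * g⁻¹ = c * (g * y * g⁻¹) * c⁻¹
      group
  exact key ⟨x, hx, rfl⟩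

/-- if `t` centralises `A` and is the only involution of `C(t) ∩ C(A)` then `[t, h] ∈ rc A` for `h` in `C(A)` -/
theorem comm_mem_rc [Finite G] {A : Subgroup G} {t : G} (ht : t * t = 1) (ht1 : t ≠ 1)
    (htA : t ∈ centralizer (A : Set G))
    (huniq : ∀ c ∈ centralizer (A : Set G), c * t = t * c → c * c = 1 → c ≠ 1 → c = t) {h : G}
    (hh : h ∈ centralizer (A : Set G)) : t * h * t⁻¹ * h⁻¹ ∈ rc A := by
  have := comm_mem_core (H := centralizer (A : Set G)) (t := ⟨t, htA⟩) (Subtype.ext ht)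
    (fun h => ht1 (congrArg Subtype.val h))
    (fun c h1 h2 h3 => Subtype.ext (huniq c.1 c.2 (congrArg Subtype.val h1) (congrArg Subtype.val h2)
      (fun h => h3 (Subtype.ext h)))) ⟨h, hh⟩
  exact ⟨_, this, rfl⟩

end Cfsg.Agent.GTwoOdd.ZIso
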