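import Cfsg.Agent.GTwoOdd.CompY
import Cfsg.Agent.GTwoOdd.HexaT
import Cfsg.Agent.GTwoOdd.ZIso
import Cfsg.Agent.Lib.KleinGen
import Cfsg.Agent.Lib.KleinOrder

/-!
# The odd core of the centraliser of a root group

`A1 = e1 (upper unipotents)`, `R = rc A1 = O(C_G(A1))`.
-/

set_option autoImplicit false

namespace Cfsg.Agent.GTwoOdd

open Matrix ZIso

namespace LocalSL

variable {G : Type*} [Group G] [Finite G] {t : G} {F1 F2 : Type*} [Field F1] [Field F2]

/-- the root group `e1 (upper unipotents)` -/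
def A1 (L : LocalSL t F1 F2) : Subgroup G := (upU F1).map L.e1

omit [Finite G] in
theorem mem_A1 {L : LocalSL t F1 F2} {x : G} : x ∈ L.A1 ↔ ∃ a : F1, x = L.e1 (up a) := by
  constructor
  · rintro ⟨_, ⟨a, rfl⟩, rfl⟩
    exact ⟨a, rfl⟩
  · rintro ⟨a, rfl⟩
    exact ⟨up a, ⟨a, rfl⟩, rfl⟩

variable {L : LocalSL t F1 F2}

omit [Finite G] in
theorem A1_comm {x y : G} (hx : x ∈ L.A1) (hy : y ∈ L.A1) : x * y = y * x := by
  obtain ⟨a, rfl⟩ := mem_A1.1 hx
  obtain ⟨b, rfl⟩ := mem_A1.1 hy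
  rw [← map_mul, ← map_mul, up_mul, up_mul, add_comm]

omit [Finite G] in
theorem A1_t {x : G} (hx : x ∈ L.A1) : x * t = t * x := by
  obtain ⟨a, rfl⟩ := mem_A1.1 hx
  exact e1_t _

omit [Finite G] in
theorem e2_mem_cent (y : SL2 F2) : L.e2 y ∈ Subgroup.centralizer (L.A1 : Set G) := by
  rw [Subgroup.mem_centralizer_iff]
  intro a ha
  obtain ⟨a, rfl⟩ := mem_A1.1 ha
  exact L.comm _ _

omit [Finite G] in
theorem t_mem_cent : t ∈ Subgroup.centralizer (L.A1 : Set G) := by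
  rw [Subgroup.mem_centralizer_iff]
  intro a ha
  exact A1_t ha

omit [Finite G] in
theorem card_A1 : Nat.card L.A1 = Nat.card F1 := by
  unfold A1
  rw [Subgroup.card_map_of_injective L.inj1]
  refine Nat.card_congr (Equiv.ofBijective (fun a => (⟨up a, up_mem a⟩ : upU F1)) ⟨?_, ?_⟩).symm
  · intro a b hab
    have := congrArg (fun z : upU F1 => (z.1 : M2 F1) 0 1) hab
    simpa [up_coe] using this
  · rintro ⟨_, ⟨a, rfl⟩⟩
    exact ⟨a, rfl⟩

theorem odd_card_field {F : Type*} [Field F] [Finite F] (h2 : (2 : F) ≠ 0) : Odd (Nat.card F) := by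
  have := Fintype.ofFinite F
  rw [Nat.card_eq_fintype_card]
  apply Nat.odd_iff.2
  apply FiniteField.odd_card_of_char_ne_two
  intro h
  apply h2
  have := ringChar.Nat.cast_ringChar (R := F)
  rw [h] at this
  exact_mod_cast this

variable [Finite F1] [Finite F2] (H : L.Hyp)
include H

/-- the elements of `C(t)` which centralise `A1` act on `L1` as elements of `A1` -/
theorem Hyp.cent_A1 {c : G} (hc : c * t = t * c) (hA : c ∈ Subgroup.centralizer (L.A1 : Set G)) :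
    ∃ b : F1, ∀ x, c * L.e1 x = L.e1 (up b * x * up (-b)) * c := by
  choose α hα using H.norm1 c hc
  have hmul : ∀ x y, α (x * y) = α x * α y := by
    intro x y
    apply L.inj1
    have h1 : L.e1 (α (x * y)) * c = L.e1 (α x * α y) * c := by
      rw [← hα, map_mul, map_mul, ← mul_assoc, hα x, mul_assoc, hα y, ← mul_assoc]
    exact mul_right_cancel h1
  have hinj : Function.Injective α := by
    intro x y hxy
    apply L.inj1
    have h1 : c * L.e1 x = c * L.e1 y := by rw [hα, hα, hxy]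
    exact mul_left_cancel h1
  have hup : ∀ a, α (up a) = up a := by
    intro a
    apply L.inj1
    have h1 := Subgroup.mem_centralizer_iff.1 hA _ (mem_A1.2 ⟨a, rfl⟩)
    have h2 := hα (up a)
    rw [← h1] at h2
    exact (mul_right_cancel h2).symm
  let β : SL2 F1 →* SL2 F1 := MonoidHom.mk' α hmul
  obtain ⟨b, hb⟩ := exists_up_of_fix β hinj hup
  exact ⟨b, fun x => by rw [hα]; congr 2; exact hb x⟩

/-- `t` is the only involution of `C(t) ∩ C(A1)` -/
theorem Hyp.uniq_invol {c : G} (hA : c ∈ Subgroup.centralizer (L.A1 : Set G)) (hc : c * t = t * c) (hcc : c * c = 1)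
    (hc1 : c ≠ 1) : c = t := by
  by_contra hct
  obtain ⟨A, B, hr, hA', hB'⟩ := H.rep_of_invol hc hcc hc1 hct
  have h1 := Subgroup.mem_centralizer_iff.1 hA _ (mem_A1.2 ⟨1, rfl⟩)
  obtain ⟨y, hy⟩ := exists_cj hr.det1 (up (1 : F1))
  have h2 := hr.acts1.2 _ _ hy
  rw [← h1] at h2
  have h3 : up (1 : F1) = y := L.inj1 (mul_right_cancel h2)
  rw [← h3] at hy
  obtain ⟨h4, h5⟩ := comm_up hy.symm
  rw [Matrix.trace_fin_two, h5] at hA'
  have h6 : A 0 0 = 0 := by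
    have : 2 * A 0 0 = 0 := by linear_combination hA'
    exact (mul_eq_zero.1 this).resolve_left H.two_ne1
  apply hr.det1
  rw [Matrix.det_fin_two, h6, h4]
  ring

theorem Hyp.A1_odd : Odd (Nat.card L.A1) := by
  rw [card_A1]
  exact odd_card_field H.two_ne1

theorem Hyp.A1_le : L.A1 ≤ rc L.A1 := by
  apply le_rc _ H.A1_odd
  · intro c hc x hx
    have := Subgroup.mem_centralizer_iff.1 hc x hx
    have e : c * x * c⁻¹ = x := by rw [← this]; group
    rwa [e]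
  · intro x hx
    rw [Subgroup.mem_centralizer_iff]
    intro a ha
    exact A1_comm ha hx

omit [Finite F1] [Finite F2] H in
theorem odd_no_invol {K : Subgroup G} (hodd : Odd (Nat.card K)) {x : G} (hx : x ∈ K) (hxx : x * x = 1) : x = 1 := by
  have h1 : (⟨x, hx⟩ : K) ^ Nat.card K = 1 := pow_card_eq_one'
  obtain ⟨m, hm⟩ := hodd
  have h2 : x ^ Nat.card K = 1 := congrArg Subtype.val h1
  rw [hm, pow_succ, pow_mul, pow_two, hxx, one_pow, one_mul] at h2
  exact h2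

theorem Hyp.t_not_mem_rc : t ∉ rc L.A1 := fun h => H.t_ne_one (odd_no_invol (rc_odd _) h L.t_sq)

/-- `C_R(t) = A1` -/
theorem Hyp.rc_t {x : G} (hx : x ∈ rc L.A1) (hxt : x * t = t * x) : x ∈ L.A1 := by
  obtain ⟨b, hb⟩ := H.cent_A1 hxt (rc_le _ hx)
  -- `d = e1 (up (-b)) x` centralises `L1`
  have hd1 : L.e1 (up (-b)) * x ∈ rc L.A1 := mul_mem (H.A1_le (mem_A1.2 ⟨-b, rfl⟩)) hx
  have hdt : L.e1 (up (-b)) * x * t = t * (L.e1 (up (-b)) * x) := by
    rw [mul_assoc, hxt, ← mul_assoc, e1_t, mul_assoc]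
  have hde1 : ∀ z, L.e1 (up (-b)) * x * L.e1 z = L.e1 z * (L.e1 (up (-b)) * x) := by
    intro z
    have h1 : L.e1 (up (-b)) * L.e1 (up b * z * up (-b)) = L.e1 z * L.e1 (up (-b)) := by
      rw [← map_mul, ← map_mul]
      congr 1
      have : up (-b) * up b = 1 := by rw [up_mul]; simp [up_zero]
      rw [← mul_assoc, ← mul_assoc, this, one_mul]
    rw [mul_assoc, hb, ← mul_assoc, h1, mul_assoc]
  -- the normal subgroup of `SL(2,F2)`
  have hN : ∀ z : SL2 F2, L.e2 z ∈ rc L.A1 → z = 1 := by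
    intro z hz
    refine normal_eq_one H.two_ne2 (N := (rc L.A1).comap L.e2) ?_ ?_ hz
    · intro u hu v
      change L.e2 (v * u * v⁻¹) ∈ rc L.A1
      rw [map_mul, map_mul, map_inv]
      exact rc_norm (e2_mem_cent v) hu
    · intro h
      change L.e2 (-1) ∈ rc L.A1 at h
      rw [L.neg2] at h
      exact H.t_not_mem_rc h
  have hde2 : ∀ y, L.e1 (up (-b)) * x * L.e2 y = L.e2 y * (L.e1 (up (-b)) * x) := by
    intro y
    obtain ⟨y', hy'⟩ := H.norm2 _ hdt y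
    have h1 : L.e2 (y' * y⁻¹) ∈ rc L.A1 := by
      have h2 := rc_norm (e2_mem_cent y) (inv_mem hd1)
      have h3 := mul_mem hd1 h2
      have e : L.e1 (up (-b)) * x * (L.e2 y * (L.e1 (up (-b)) * x)⁻¹ * (L.e2 y)⁻¹) = L.e2 (y' * y⁻¹) := by
        calc L.e1 (up (-b)) * x * (L.e2 y * (L.e1 (up (-b)) * x)⁻¹ * (L.e2 y)⁻¹)
            = (L.e1 (up (-b)) * x * L.e2 y) * (L.e1 (up (-b)) * x)⁻¹ * (L.e2 y)⁻¹ := by group
          _ = L.e2 y' * (L.e2 y)⁻¹ := by rw [hy']; group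
          _ = _ := by rw [map_mul, map_inv]
      rwa [e] at h3
    have h2 := hN _ h1
    rw [hy', mul_inv_eq_one.1 h2]
  rcases L.cent _ hdt hde1 hde2 with h | h
  · refine mem_A1.2 ⟨b, ?_⟩
    have : x = (L.e1 (up (-b)))⁻¹ * (L.e1 (up (-b)) * x) := by group
    rw [this, h, mul_one, ← map_inv, up_inv, neg_neg]
  · exfalso
    rw [h] at hd1
    exact H.t_not_mem_rc hd1

/-- `t` normalises `R` -/
theorem Hyp.t_rc {x : G} (hx : x ∈ rc L.A1) : t * x * t⁻¹ ∈ rc L.A1 := rc_norm t_mem_cent hx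

/-- `t` inverts `R` modulo `A1` -/
theorem Hyp.rc_inv {x : G} (hx : x ∈ rc L.A1) : ∃ a ∈ L.A1, t * x * t⁻¹ = a * x⁻¹ := by
  obtain ⟨c, hc, k, hk, h1, h2, rfl⟩ := Cfsg.Agent.Lib.KleinGen.exists_centralizer_mul_inverted (rc L.A1) (rc_odd _) t
    L.t_sq (fun h hh => H.t_rc hh) hx
  have hcA := H.rc_t hc h1.symm
  have hck := rc_comm hk hcA
  refine ⟨c * c, mul_mem hcA hcA, ?_⟩
  calc t * (c * k) * t⁻¹ = (t * c) * k * t⁻¹ := by group
    _ = c * (t * k * t⁻¹) := by rw [h1]; group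
    _ = c * k⁻¹ := by rw [h2]
    _ = c * (c * c⁻¹) * k⁻¹ := by group
    _ = c * c * (k * c)⁻¹ := by group
    _ = c * c * (c * k)⁻¹ := by rw [hck]

/-- `[R, R] ≤ A1` -/
theorem Hyp.rc_comm_mem {x y : G} (hx : x ∈ rc L.A1) (hy : y ∈ rc L.A1) : x * y * x⁻¹ * y⁻¹ ∈ L.A1 := by
  obtain ⟨a, ha, h1⟩ := H.rc_inv (inv_mem hx)
  obtain ⟨b, hb, h2⟩ := H.rc_inv (inv_mem hy)
  obtain ⟨c, hc, h3⟩ := H.rc_inv (inv_mem (mul_mem hy hx))
  -- `t x⁻¹ t⁻¹ = a x`, `t y⁻¹ t⁻¹ = b y`, `t (y x)⁻¹ t⁻¹ = c y x`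
  rw [inv_inv] at h1 h2 h3
  have e : t * (y * x)⁻¹ * t⁻¹ = (t * x⁻¹ * t⁻¹) * (t * y⁻¹ * t⁻¹) := by group
  rw [e, h1, h2] at h3
  -- a x b y = c y x
  have hxb := rc_comm hx hb
  have h4 : x * y = (a * b)⁻¹ * c * (y * x) := by
    have : a * b * (x * y) = c * (y * x) := by
      rw [← h3]
      calc a * b * (x * y) = a * (b * x) * y := by group
        _ = a * x * (b * y) := by rw [← hxb]; group
    calc x * y = (a * b)⁻¹ * (a * b * (x * y)) := by group
      _ = _ := by rw [this]; group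
  have h5 : x * y * x⁻¹ * y⁻¹ = (a * b)⁻¹ * c := by
    rw [h4]; group
  rw [h5]
  exact mul_mem (inv_mem (mul_mem ha hb)) hc

end LocalSL

end Cfsg.Agent.GTwoOdd
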