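import Cfsg.Agent.GTwoOdd.HexFull
import Cfsg.Agent.GTwoOdd.RootCent

/-!
# Commuting long root groups at distance 4 are impossible

If `X 3` commutes with `X 7` and `X 11` (and `X 2`, `X 4`), we get a contradiction.  Type 2 version of the facts
on `O(C_G(X))`: `[X 11, X 1] ≤ X 0`.
-/

set_option autoImplicit false

namespace Cfsg.Agent.GTwoOdd.HexBad

open Matrix
open Cfsg.Agent.GTwoOdd.Hex
open Cfsg.Agent.GTwoOdd.LocalSL
open Cfsg.Agent.GTwoOdd.HexFrame
open Cfsg.Agent.GTwoOdd.HexFull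
open Cfsg.Agent.GTwoOdd.ZIso

section swp

variable {G : Type*} [Group G] {t : G} {F1 F2 : Type*} [Field F1] [Field F2]

/-- exchange of the two factors -/
def swp (L : LocalSL t F1 F2) : LocalSL t F2 F1 where
  e1 := L.e2
  e2 := L.e1
  inj1 := L.inj2
  inj2 := L.inj1
  comm x y := (L.comm y x).symm
  neg1 := L.neg2
  neg2 := L.neg1
  cent c h h1 h2 := L.cent c h h2 h1

variable {L : LocalSL t F1 F2}

theorem rep_swp {c : G} {A : M2 F1} {B : M2 F2} (h : L.Rep c A B) : (swp L).Rep c B A := ⟨h.comm, h.acts2, h.acts1⟩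

theorem rep_of_swp {c : G} {A : M2 F1} {B : M2 F2} (h : (swp L).Rep c B A) : L.Rep c A B := ⟨h.comm, h.acts2, h.acts1⟩

theorem hyp_swp (H : L.Hyp) : (swp L).Hyp where
  norm1 := H.norm2
  norm2 := H.norm1
  comm_mem c d hc hd := by
    obtain ⟨x, y, h⟩ := H.comm_mem c d hc hd
    refine ⟨y, x, ?_⟩
    rw [h]
    change L.e1 x * L.e2 y * d * c = L.e2 y * L.e1 x * d * c
    rw [L.comm]
  sq_mem c hc h := by
    obtain ⟨A, B, h⟩ := h
    obtain ⟨A', B', h'⟩ := H.sq_mem c hc ⟨B, A, rep_of_swp h⟩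
    exact ⟨B', A', rep_swp h'⟩
  square_iff c A B h := (H.square_iff c B A (rep_of_swp h)).symm
  outer := by
    obtain ⟨g, A, B, h, h1, h2, h3⟩ := H.outer
    exact ⟨g, B, A, rep_swp h, h2, h1, h3⟩

end swp

section frame

variable {G : Type*} [Group G] [Finite G] {t : G} {F1 F2 : Type*} [Field F1] [Field F2]
variable [Finite F1] [Finite F2] {L : LocalSL t F1 F2} {s g : G}

omit [Finite G] [Finite F1] [Finite F2] in
theorem swp_A1 : (swp L).A1 = L.baseX 0 := (L.baseX_0 rfl).symm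

/-- elements inverted by `t` and centralising `X 0` lie in `O(C(X 0))` -/
theorem mem_rc (H : L.Hyp) {x : G} (hx : x ∈ Subgroup.centralizer (((swp L).A1 : Subgroup G) : Set G))
    (hodd : ∃ y, x = y * y ∧ y ∈ Subgroup.centralizer (((swp L).A1 : Subgroup G) : Set G) ∧ t * y * t⁻¹ = y⁻¹) :
    x ∈ rc (swp L).A1 := by
  obtain ⟨y, rfl, hy, h1⟩ := hodd
  have H' := hyp_swp H
  have h2 := comm_mem_rc (A := (swp L).A1) (t := t) L.t_sq H.t_ne_one (t_mem_cent)
    (fun c hc h3 h4 h5 => H'.uniq_invol hc h3 h4 h5) hy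
  rw [h1] at h2
  have := inv_mem h2
  have e : (y⁻¹ * y⁻¹)⁻¹ = y * y := by rw [_root_.mul_inv_rev, inv_inv]
  rwa [e] at this

omit [Finite G] in
/-- square roots in root groups -/
theorem exists_sqrt (S : L.Split s g) (m : ℕ) {x : G} (hx : x ∈ L.XN g m) : ∃ y ∈ L.XN g m, x = y * y := by
  have hodd : Odd (Nat.card (L.XN g m)) := by
    rcases Nat.mod_two_eq_zero_or_one m with h | h
    · rw [Swap.card_XN_even h]
      exact odd_card_field S.toFrame.two2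
    · rw [Swap.card_XN_odd h]
      exact odd_card_field S.toFrame.two1
  obtain ⟨n, hn⟩ := hodd
  refine ⟨x ^ (n + 1), pow_mem hx _, ?_⟩
  have h1 : (⟨x, hx⟩ : L.XN g m) ^ Nat.card (L.XN g m) = 1 := pow_card_eq_one'
  have h2 : x ^ Nat.card (L.XN g m) = 1 := congrArg Subtype.val h1
  rw [← pow_add, show n + 1 + (n + 1) = 2 * n + 1 + 1 by ring, pow_succ, ← hn, h2, one_mul]

/-- the elements of `X m`, `m` not divisible by `3`, lie in `O(C(X 0))` if `X m` commutes with `X 0` -/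
theorem XN_le_rc (S : L.Split s g) {m : ℕ} (hm : m % 3 ≠ 0)
    (h1 : ∀ x ∈ L.XN g m, ∀ y ∈ L.XN g 0, x * y = y * x) {x : G} (hx : x ∈ L.XN g m) : x ∈ rc (swp L).A1 := by
  have h0 : L.XN g 0 = (swp L).A1 := by rw [swp_A1, XN_base S rfl]
  have hc : ∀ y ∈ L.XN g m, y ∈ Subgroup.centralizer (((swp L).A1 : Subgroup G) : Set G) := by
    intro y hy
    rw [Subgroup.mem_centralizer_iff]
    intro z hz
    rw [SetLike.mem_coe, ← h0] at hz
    exact (h1 y hy z hz).symm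
  obtain ⟨y, hy, hxy⟩ := exists_sqrt S m hx
  refine mem_rc S.toFrame.hyp (hc x hx) ⟨y, hxy, hc y hy, ?_⟩
  have := S.tN_inv (m := m) (k := 0) (by omega) hy
  rwa [Swap.tN_0 S] at this

/-- `[X m, X k] ≤ X 0` if both commute with `X 0` -/
theorem comm_mem_X0 (S : L.Split s g) {m k : ℕ} (hm : m % 3 ≠ 0) (hk : k % 3 ≠ 0)
    (h1 : ∀ x ∈ L.XN g m, ∀ y ∈ L.XN g 0, x * y = y * x)
    (h2 : ∀ x ∈ L.XN g k, ∀ y ∈ L.XN g 0, x * y = y * x) {x y : G} (hx : x ∈ L.XN g m) (hy : y ∈ L.XN g k) :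
    x * y * x⁻¹ * y⁻¹ ∈ L.XN g 0 := by
  have h0 : L.XN g 0 = (swp L).A1 := by rw [swp_A1, XN_base S rfl]
  rw [h0]
  exact (hyp_swp S.toFrame.hyp).rc_comm_mem (XN_le_rc S hm h1 hx) (XN_le_rc S hk h2 hy)

/-- the long root groups at distance `4` do not commute -/
theorem false_of_five (S : L.Split s g) {R : Subgroup G}
    (hR : Five (L.XN g 7) (L.XN g 2) (L.XN g 3) (L.XN g 4) (L.XN g 11) R) : False := by
  -- the groups `R 1` and `R 11`
  have hR1 : Five (L.XN g 5) (L.XN g 0) (L.XN g 1) (L.XN g 2) (L.XN g 9) (cjS ((pre S).nJ * (pre S).nI) R) := by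
    have h := Five.map hR ((pre S).nJ * (pre S).nI)
    rw [cjS_mul _ _ (L.XN g 7), cjS_mul _ _ (L.XN g 2), cjS_mul _ _ (L.XN g 3), cjS_mul _ _ (L.XN g 4),
      cjS_mul _ _ (L.XN g 11), nI_XN S (m := 7) (k := 11) (by norm_num), nI_XN S (m := 2) (k := 4) (by norm_num),
      nI_XN S (m := 3) (k := 3) (by norm_num), nI_XN S (m := 4) (k := 2) (by norm_num),
      nI_XN S (m := 11) (k := 7) (by norm_num), nJ_XN S (m := 11) (k := 5) (by norm_num),
      nJ_XN S (m := 4) (k := 0) (by norm_num), nJ_XN S (m := 3) (k := 1) (by norm_num),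
      nJ_XN S (m := 2) (k := 2) (by norm_num), nJ_XN S (m := 7) (k := 9) (by norm_num)] at h
    exact h
  have hR11 : Five (L.XN g 3) (L.XN g 10) (L.XN g 11) (L.XN g 0) (L.XN g 7)
      (cjS ((pre S).nJ * (pre S).nI) (cjS ((pre S).nJ * (pre S).nI) R)) := by
    have h := Five.map hR1 ((pre S).nJ * (pre S).nI)
    rw [cjS_mul _ _ (L.XN g 5), cjS_mul _ _ (L.XN g 0), cjS_mul _ _ (L.XN g 1), cjS_mul _ _ (L.XN g 2),
      cjS_mul _ _ (L.XN g 9), nI_XN S (m := 5) (k := 1) (by norm_num), nI_XN S (m := 0) (k := 6) (by norm_num),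
      nI_XN S (m := 1) (k := 5) (by norm_num), nI_XN S (m := 2) (k := 4) (by norm_num),
      nI_XN S (m := 9) (k := 9) (by norm_num), nJ_XN S (m := 1) (k := 3) (by norm_num),
      nJ_XN S (m := 6) (k := 10) (by norm_num), nJ_XN S (m := 5) (k := 11) (by norm_num),
      nJ_XN S (m := 4) (k := 0) (by norm_num), nJ_XN S (m := 9) (k := 7) (by norm_num)] at h
    exact h
  -- commutation with `X 0`
  have c1 : ∀ x ∈ L.XN g 1, ∀ y ∈ L.XN g 0, x * y = y * x := fun x hx y hy =>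
    (hR1.cent y (hR1.hB hy) x hx).symm
  have c11 : ∀ x ∈ L.XN g 11, ∀ y ∈ L.XN g 0, x * y = y * x := fun x hx y hy =>
    (hR11.cent y (hR11.hD hy) x hx).symm
  have c51 : ∀ x ∈ L.XN g 5, ∀ y ∈ L.XN g 1, x * y = y * x := fun x hx y hy => hR1.cent x (hR1.hA hx) y hy
  -- a decomposition of `nJ`
  obtain ⟨p, hp, q, hq, r, hr, hn⟩ : ∃ p ∈ L.XN g 11, ∃ q ∈ L.XN g 5, ∃ r ∈ L.XN g 11, (pre S).nJ = p * q * r := by
    have e1 : (pre S).nJ = (pre S).x6 1 * (pre S).y6 (-1) * (pre S).x6 1 := (pre S).J.n_eq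
    have m1 : (pre S).nJ * (pre S).x6 1 * ((pre S).nJ)⁻¹ ∈ L.XN g 11 :=
      (mem_cj (nJ_XN S (m := 5) (k := 11) (by norm_num))).2 ⟨_, (mem_x6 S).2 ⟨1, rfl⟩, rfl⟩
    have m2 : (pre S).nJ * (pre S).y6 (-1) * ((pre S).nJ)⁻¹ ∈ L.XN g 5 :=
      (mem_cj (nJ_XN S (m := 11) (k := 5) (by norm_num))).2 ⟨_, (mem_y6 S).2 ⟨-1, rfl⟩, rfl⟩
    refine ⟨_, m1, _, m2, _, m1, ?_⟩
    calc (pre S).nJ = (pre S).nJ * (pre S).nJ * ((pre S).nJ)⁻¹ := by group
      _ = (pre S).nJ * ((pre S).x6 1 * (pre S).y6 (-1) * (pre S).x6 1) * ((pre S).nJ)⁻¹ := by rw [← e1]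
      _ = _ := by group
  -- every element of `X 1` is trivial
  have key : ∀ v ∈ L.XN g 1, v = 1 := by
    intro v hv
    -- `r v r⁻¹ = c v`
    have hc : r * v * r⁻¹ * v⁻¹ ∈ L.XN g 0 := comm_mem_X0 S (by norm_num) (by norm_num) c11 c1 hr hv
    set c := r * v * r⁻¹ * v⁻¹ with hcdef
    have e1 : r * v * r⁻¹ = c * v := by rw [hcdef]; group
    -- `q c q⁻¹ = d c`
    have hd : q * c * q⁻¹ * c⁻¹ ∈ L.XN g 1 := hR1.abel q (hR1.hA hq) c (hR1.hB hc)
    set d := q * c * q⁻¹ * c⁻¹ with hddef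
    have e2 : q * c * q⁻¹ = d * c := by rw [hddef]; group
    have e3 : q * v * q⁻¹ = v := by rw [c51 q hq v hv]; group
    -- `p d p⁻¹ = e d`
    have he : p * d * p⁻¹ * d⁻¹ ∈ L.XN g 0 := comm_mem_X0 S (by norm_num) (by norm_num) c11 c1 hp hd
    have hf : p * v * p⁻¹ * v⁻¹ ∈ L.XN g 0 := comm_mem_X0 S (by norm_num) (by norm_num) c11 c1 hp hv
    set e := p * d * p⁻¹ * d⁻¹ with hedef
    set f := p * v * p⁻¹ * v⁻¹ with hfdef
    have e4 : p * d * p⁻¹ = e * d := by rw [hedef]; group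
    have e5 : p * v * p⁻¹ = f * v := by rw [hfdef]; group
    have e6 : p * c * p⁻¹ = c := by rw [c11 p hp c hc]; group
    have hy : (pre S).nJ * v * ((pre S).nJ)⁻¹ = (e * c * f) * (d * v) := by
      rw [hn]
      calc p * q * r * v * (p * q * r)⁻¹ = p * (q * (r * v * r⁻¹) * q⁻¹) * p⁻¹ := by group
        _ = p * ((q * c * q⁻¹) * (q * v * q⁻¹)) * p⁻¹ := by rw [e1]; group
        _ = (p * d * p⁻¹) * (p * c * p⁻¹) * (p * v * p⁻¹) := by rw [e2, e3]; group
        _ = e * (d * c) * f * v := by rw [e4, e6, e5]; group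
        _ = e * (c * d) * f * v := by rw [c1 d hd c hc]
        _ = e * c * (d * f) * v := by group
        _ = e * c * (f * d) * v := by rw [c1 d hd f hf]
        _ = _ := by group
    have hy3 : (pre S).nJ * v * ((pre S).nJ)⁻¹ ∈ L.XN g 3 :=
      (mem_cj (nJ_XN S (m := 1) (k := 3) (by norm_num))).2 ⟨v, hv, rfl⟩
    rw [hy] at hy3
    set P := e * c * f with hP
    set T := d * v with hT
    have hP0 : P ∈ L.XN g 0 := mul_mem (mul_mem he hc) hf
    have hT1 : T ∈ L.XN g 1 := mul_mem hd hv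
    have hPT := c1 T hT1 P hP0
    -- apply `t₁`
    have i1 := S.tN_inv (m := 3) (k := 1) (by norm_num) hy3
    have i2 := S.tN_inv (m := 0) (k := 1) (by norm_num) hP0
    have i3 := S.tN_cent (m := 1) (k := 1) rfl hT1
    have i4 : tN t L g 1 * (P * T) * (tN t L g 1)⁻¹ = P⁻¹ * T := by
      calc tN t L g 1 * (P * T) * (tN t L g 1)⁻¹
          = (tN t L g 1 * P * (tN t L g 1)⁻¹) * (tN t L g 1 * T) * (tN t L g 1)⁻¹ := by group
        _ = P⁻¹ * T := by rw [i2, i3]; group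
    rw [i1, ← hPT] at i4
    have i5 : T * T = 1 := by
      have : (T * P)⁻¹ = P⁻¹ * T⁻¹ := by group
      rw [this] at i4
      have := mul_left_cancel i4
      calc T * T = T⁻¹ * T := by rw [this]
        _ = 1 := by group
    have i6 := XN_sq S hT1 i5
    rw [i6, mul_one] at hy3
    have i7 : P = 1 := XN_inf S (m := 0) (k := 3) (by norm_num) (by norm_num) hP0 hy3
    rw [i6, i7, mul_one] at hy
    calc v = ((pre S).nJ)⁻¹ * ((pre S).nJ * v * ((pre S).nJ)⁻¹) * (pre S).nJ := by group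
      _ = 1 := by rw [hy]; group
  have h1 := key _ ((mem_x2 S).2 ⟨1, rfl⟩)
  rw [← (pre S).x2_zero] at h1
  exact one_ne_zero (x2_inj S h1)

end frame

end Cfsg.Agent.GTwoOdd.HexBad
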