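import Cfsg.Agent.GTwoOdd.RootFull
import Cfsg.Agent.GTwoOdd.HexFull

/-!
# The possibilities for `R = O(C_G(A1))` in a split frame
-/

set_option autoImplicit false

namespace Cfsg.Agent.GTwoOdd

open Matrix ZIso

namespace LocalSL

variable {G : Type*} [Group G] [Finite G] {t : G} {F1 F2 : Type*} [Field F1] [Field F2]
variable [Finite F1] [Finite F2] {L : LocalSL t F1 F2} {s g : G}

theorem card_cjS (a : G) (H : Subgroup G) : Nat.card (cjS a H) = Nat.card H := by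
  unfold cjS
  exact Subgroup.card_map_of_injective (MulAut.conj a).injective

theorem odd_of_le {H K : Subgroup G} (h : H ≤ K) (hK : Odd (Nat.card K)) : Odd (Nat.card H) :=
  Odd.of_dvd_nat hK (Subgroup.card_dvd_of_le h)

section swap

variable {D2 : M2 F2} {n2 : SL2 F2} (S : L.Swap s (dg F1) D2 (wn F1) n2 g)
include S

/-- `ρ⁻¹ C_R(s) ρ` is centralised by `t`, inverted by `s` and normalised by `T` -/
theorem Swap.yd : YD L s (dg F1) D2 (cjS (rho L (wn F1) g)⁻¹ (L.DD s)) := by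
  set r := rho L (wn F1) g with hr
  have hmem : ∀ y, y ∈ cjS r⁻¹ (L.DD s) ↔ r * y * r⁻¹ ∈ L.DD s := by
    intro y; rw [mem_cjS, inv_inv]
  have h1 : r * t = s * r := S.rho_t
  have h2 : r * s = s * t * r := S.rho_s
  have F := S.toFrame
  have hst := F.rep.comm
  have hct : ∀ y ∈ cjS r⁻¹ (L.DD s), y * t = t * y := by
    intro y hy
    have h3 := (mem_DD.1 ((hmem y).1 hy)).2
    calc y * t = r⁻¹ * (r * y * r⁻¹) * (r * t) := by group
      _ = r⁻¹ * ((r * y * r⁻¹) * s) * r := by rw [h1]; group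
      _ = r⁻¹ * (s * r) * y := by rw [h3]; group
      _ = _ := by rw [← h1]; group
  refine ⟨?_, hct, ?_, ?_⟩
  · rw [card_cjS]
    exact odd_of_le inf_le_left (rc_odd _)
  · intro y hy
    have h3 := F.t_DD ((hmem y).1 hy)
    -- `r (s t) = t r`
    have h4 : r * (s * t) = t * r := by
      calc r * (s * t) = (r * s) * t := by group
        _ = s * t * (r * t) := by rw [h2]; group
        _ = s * (t * s) * r := by rw [h1]; group
        _ = s * (s * t) * r := by rw [hst]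
        _ = _ := by rw [← mul_assoc s s t, F.ss, one_mul]
    have h5 : s * t * y * (s * t)⁻¹ = y⁻¹ := by
      calc s * t * y * (s * t)⁻¹ = r⁻¹ * (r * (s * t)) * y * (r * (s * t))⁻¹ * r := by group
        _ = r⁻¹ * (t * (r * y * r⁻¹) * t⁻¹) * r := by rw [h4]; group
        _ = _ := by rw [h3]; group
    have h6 : t * y * t⁻¹ = y := by rw [← hct y hy]; group
    calc s * y * s⁻¹ = s * (t * y * t⁻¹) * s⁻¹ := by rw [h6]
      _ = s * t * y * (s * t)⁻¹ := by group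
      _ = _ := h5
  · intro c hc y hy
    rw [hmem] at hy ⊢
    have hc' := S.rho_tor hc
    rw [← hr] at hc'
    have h3 : r * (c * y * c⁻¹) * r⁻¹ = (r * c * r⁻¹) * (r * y * r⁻¹) * (r * c * r⁻¹)⁻¹ := by group
    rw [h3]
    obtain ⟨h4, h5⟩ := mem_DD.1 hy
    refine mem_DD.2 ⟨F.tor_rc hc' h4, ?_⟩
    have h6 : (r * c * r⁻¹) * s = s * (r * c * r⁻¹) := F.tor_s hc'
    have h7 : (r * c * r⁻¹)⁻¹ * s = s * (r * c * r⁻¹)⁻¹ := by
      rw [inv_mul_eq_iff_eq_mul, ← mul_assoc, h6, mul_assoc, mul_inv_cancel, mul_one]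
    calc (r * c * r⁻¹) * (r * y * r⁻¹) * (r * c * r⁻¹)⁻¹ * s
        = (r * c * r⁻¹) * (r * y * r⁻¹) * ((r * c * r⁻¹)⁻¹ * s) := by group
      _ = (r * c * r⁻¹) * ((r * y * r⁻¹) * s) * (r * c * r⁻¹)⁻¹ := by rw [h7]; group
      _ = ((r * c * r⁻¹) * s) * (r * y * r⁻¹) * (r * c * r⁻¹)⁻¹ := by rw [h5]; group
      _ = _ := by rw [h6]; group

theorem Swap.mem_DD_iff {x : G} : x ∈ L.DD s ↔ (rho L (wn F1) g)⁻¹ * x * rho L (wn F1) g ∈
    cjS (rho L (wn F1) g)⁻¹ (L.DD s) := by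
  rw [mem_cjS]
  have e : (rho L (wn F1) g)⁻¹⁻¹ * ((rho L (wn F1) g)⁻¹ * x * rho L (wn F1) g) * (rho L (wn F1) g)⁻¹ = x := by group
  rw [e]

theorem Swap.DD_eq_cj {P : Subgroup G} (h : cjS (rho L (wn F1) g)⁻¹ (L.DD s) = P) : L.DD s = cjS (rho L (wn F1) g) P := by
  rw [← h, ← cjS_mul, mul_inv_cancel, cjS_one]

/-- second torus nonsplit -/
theorem Swap.DD_nonsplit (hns : ¬ IsSquare (-D2.det)) : L.DD s = ⊥ ∨
    L.DD s = cjS (rho L (wn F1) g) ((upU F1).map L.e1) ∨ L.DD s = cjS (rho L (wn F1) g) ((loU F1).map L.e1) := by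
  rcases S.yd.nonsplit2 S.toFrame hns with h | h | h
  · left
    have := Swap.DD_eq_cj S h
    rw [this]
    unfold cjS
    exact Subgroup.map_bot _
  · right; left; exact Swap.DD_eq_cj S h
  · right; right; exact Swap.DD_eq_cj S h

end swap

section split

variable (S : L.Split s g)
include S

theorem Swap.XN_base' {m : ℕ} (h : m % 3 = 0) : L.XN g m = L.baseX m := by
  unfold XN
  have h1 := EqT.cjS_eq (T := TT L) (H := L.baseX m) (S.rho_mod (m := m) (k := 0) (by omega)) (by rw [pow_zero]; exact NormT.one)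
    (fun c hc => S.cjS_base hc m)
  rw [pow_zero, cjS_one] at h1
  exact h1

theorem Swap.A1_eq : L.A1 = L.XN g 3 := by
  rw [S.XN_base' (by norm_num), L.baseX_3 (by norm_num)]; rfl

theorem Swap.cj1 : cjS (ro L g) ((upU F1).map L.e1) = L.XN g 7 := by
  rw [← L.baseX_3 (j := 3) (by norm_num), ← S.XN_base' (by norm_num), S.rho_XN]

theorem Swap.cj1' : cjS (ro L g) ((loU F1).map L.e1) = L.XN g 1 := by
  rw [← L.baseX_1 (j := 9) (by norm_num), ← S.XN_base' (by norm_num), S.rho_XN]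
  exact S.XN_eq (by norm_num)

theorem Swap.cj2 : cjS (ro L g) ((upU F2).map L.e2) = L.XN g 4 := by
  rw [← L.baseX_0 (j := 0) (by norm_num), ← S.XN_base' (by norm_num), S.rho_XN]

theorem Swap.cj2' : cjS (ro L g) ((loU F2).map L.e2) = L.XN g 10 := by
  rw [← L.baseX_2 (j := 6) (by norm_num), ← S.XN_base' (by norm_num), S.rho_XN]

/-- the possibilities for `C_R(s)` -/
theorem Swap.DD_class (hq : 3 < Nat.card F1 ∨ 3 < Nat.card F2) : ∃ P Q : Subgroup G,
    (P = ⊥ ∨ P = L.XN g 1 ∨ P = L.XN g 7) ∧ (Q = ⊥ ∨ Q = L.XN g 4 ∨ Q = L.XN g 10) ∧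
    ∀ x, x ∈ L.DD s ↔ ∃ p ∈ P, ∃ q ∈ Q, x = p * q := by
  obtain ⟨P, Q, hP, hQ, h⟩ := S.yd.split S hq
  refine ⟨cjS (ro L g) P, cjS (ro L g) Q, ?_, ?_, ?_⟩
  · rcases hP with rfl | rfl | rfl
    · left; unfold cjS; exact Subgroup.map_bot _
    · right; right; exact S.cj1
    · right; left; exact S.cj1'
  · rcases hQ with rfl | rfl | rfl
    · left; unfold cjS; exact Subgroup.map_bot _
    · right; left; exact S.cj2
    · right; right; exact S.cj2'
  · intro x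
    rw [Swap.mem_DD_iff S, h]
    constructor
    · rintro ⟨p, hp, q, hq, he⟩
      refine ⟨_, conj_mem_cjS hp, _, conj_mem_cjS hq, ?_⟩
      calc x = ro L g * ((ro L g)⁻¹ * x * ro L g) * (ro L g)⁻¹ := by group
        _ = _ := by rw [he]; group
    · rintro ⟨p, hp, q, hq, rfl⟩
      rw [mem_cjS] at hp hq
      refine ⟨_, hp, _, hq, ?_⟩
      group

/-- `C_R(s t)` from `C_R(s)` -/
theorem Swap.le_DD2 {a b : ℕ} (hab : (a + b) % 12 = 6) (h : L.XN g a ≤ L.DD s) : L.XN g b ≤ L.DD (s * t) := by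
  rw [S.toFrame.DD_eq, ← S.r2_XN hab]
  exact cjS_mono h

/-- two root groups in `C_R(s)`: the full case -/
theorem Swap.five {a b c d : ℕ} (h : ∀ x ∈ L.DD s, ∃ p ∈ L.XN g a, ∃ q ∈ L.XN g b, x = p * q)
    (ha : L.XN g a ≤ L.DD s) (hb : L.XN g b ≤ L.DD s) (hc : (a + c) % 12 = 6) (hd : (b + d) % 12 = 6) :
    HexFull.Five (L.XN g a) (L.XN g d) (L.XN g 3) (L.XN g b) (L.XN g c) (rc L.A1) where
  cent x hx y hy := by
    rw [← S.A1_eq] at hy
    exact rc_comm hx hy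
  norm c' hc' x hx := by
    refine rc_norm ?_ hx
    rw [Subgroup.mem_centralizer_iff]
    intro y hy
    rw [S.A1_eq] at hy
    exact (hc' y hy).symm
  abel x hx y hy := by
    rw [← S.A1_eq]
    exact S.hyp.rc_comm_mem hx hy
  hA := ha.trans inf_le_left
  hB := (S.le_DD2 hd hb).trans inf_le_left
  hC := by rw [← S.A1_eq]; exact S.hyp.A1_le
  hD := hb.trans inf_le_left
  hE := (S.le_DD2 hc ha).trans inf_le_left
  le := by
    intro x hx
    obtain ⟨z, hz, y, hy, y', hy', rfl⟩ := S.toFrame.rc_prod hx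
    rw [S.A1_eq] at hz
    obtain ⟨p, hp, q, hq, rfl⟩ := h y hy
    rw [S.toFrame.DD_eq, mem_cjS] at hy'
    obtain ⟨p', hp', q', hq', he⟩ := h _ hy'
    have h1 : y' = (L.e2 (wn F2) * p' * (L.e2 (wn F2))⁻¹) * (L.e2 (wn F2) * q' * (L.e2 (wn F2))⁻¹) := by
      calc y' = L.e2 (wn F2) * ((L.e2 (wn F2))⁻¹ * y' * L.e2 (wn F2)) * (L.e2 (wn F2))⁻¹ := by group
        _ = _ := by rw [he]; group
    have h2 : L.e2 (wn F2) * p' * (L.e2 (wn F2))⁻¹ ∈ L.XN g c := by
      rw [← S.r2_XN hc]; exact conj_mem_cjS hp'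
    have h3 : L.e2 (wn F2) * q' * (L.e2 (wn F2))⁻¹ ∈ L.XN g d := by
      rw [← S.r2_XN hd]; exact conj_mem_cjS hq'
    rw [h1]
    have l1 : L.XN g a ≤ L.XN g a ⊔ L.XN g d ⊔ L.XN g 3 ⊔ L.XN g b ⊔ L.XN g c :=
      le_sup_left.trans (le_sup_left.trans (le_sup_left.trans le_sup_left))
    have l2 : L.XN g d ≤ L.XN g a ⊔ L.XN g d ⊔ L.XN g 3 ⊔ L.XN g b ⊔ L.XN g c :=
      le_sup_right.trans (le_sup_left.trans (le_sup_left.trans le_sup_left))
    have l3 : L.XN g 3 ≤ L.XN g a ⊔ L.XN g d ⊔ L.XN g 3 ⊔ L.XN g b ⊔ L.XN g c :=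
      le_sup_right.trans (le_sup_left.trans le_sup_left)
    have l4 : L.XN g b ≤ L.XN g a ⊔ L.XN g d ⊔ L.XN g 3 ⊔ L.XN g b ⊔ L.XN g c :=
      le_sup_right.trans le_sup_left
    have l5 : L.XN g c ≤ L.XN g a ⊔ L.XN g d ⊔ L.XN g 3 ⊔ L.XN g b ⊔ L.XN g c := le_sup_right
    exact mul_mem (mul_mem (l3 hz) (mul_mem (l1 hp) (l4 hq))) (mul_mem (l5 h2) (l2 h3))

/-- the cases for `R = O(C_G(A1))` in a split frame, one of the fields having more than three elements -/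
theorem Swap.cases (hq : 3 < Nat.card F1 ∨ 3 < Nat.card F2) : L.DD s = ⊥ ∨
    (L.DD s = L.XN g 1 ∨ L.DD s = L.XN g 7) ∨ (L.DD s = L.XN g 4 ∨ L.DD s = L.XN g 10) ∨
    (HexFull.Five (L.XN g 1) (L.XN g 2) (L.XN g 3) (L.XN g 4) (L.XN g 5) (rc L.A1) ∨
     HexFull.Five (L.XN g 1) (L.XN g 8) (L.XN g 3) (L.XN g 10) (L.XN g 5) (rc L.A1) ∨
     HexFull.Five (L.XN g 7) (L.XN g 2) (L.XN g 3) (L.XN g 4) (L.XN g 11) (rc L.A1) ∨
     HexFull.Five (L.XN g 7) (L.XN g 8) (L.XN g 3) (L.XN g 10) (L.XN g 11) (rc L.A1)) := by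
  obtain ⟨P, Q, hP, hQ, h⟩ := S.DD_class hq
  have hPle : P ≤ L.DD s := fun x hx => (h x).2 ⟨x, hx, 1, one_mem _, by simp⟩
  have hQle : Q ≤ L.DD s := fun x hx => (h x).2 ⟨1, one_mem _, x, hx, by simp⟩
  have hP0 : P = ⊥ → L.DD s = Q := by
    rintro rfl
    apply le_antisymm _ hQle
    intro x hx
    obtain ⟨p, hp, q, hq, rfl⟩ := (h x).1 hx
    rw [Subgroup.mem_bot.1 hp, one_mul]; exact hq
  have hQ0 : Q = ⊥ → L.DD s = P := by
    rintro rfl
    apply le_antisymm _ hPle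
    intro x hx
    obtain ⟨p, hp, q, hq, rfl⟩ := (h x).1 hx
    rw [Subgroup.mem_bot.1 hq, mul_one]; exact hp
  have h' : ∀ x ∈ L.DD s, ∃ p ∈ P, ∃ q ∈ Q, x = p * q := fun x hx => (h x).1 hx
  rcases hP with hP | hP | hP
  · rcases hQ with hQ | hQ | hQ
    · left; rw [hP0 hP, hQ]
    · right; right; left; left; rw [hP0 hP, hQ]
    · right; right; left; right; rw [hP0 hP, hQ]
  · rcases hQ with hQ | hQ | hQ
    · right; left; left; rw [hQ0 hQ, hP]
    · right; right; right; left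
      subst hP hQ
      exact S.five h' hPle hQle (by norm_num) (by norm_num)
    · right; right; right; right; left
      subst hP hQ
      exact S.five h' hPle hQle (by norm_num) (by norm_num)
  · rcases hQ with hQ | hQ | hQ
    · right; left; right; rw [hQ0 hQ, hP]
    · right; right; right; right; right; left
      subst hP hQ
      exact S.five h' hPle hQle (by norm_num) (by norm_num)
    · right; right; right; right; right; right
      subst hP hQ
      exact S.five h' hPle hQle (by norm_num) (by norm_num)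

end split

end LocalSL

end Cfsg.Agent.GTwoOdd
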