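import Cfsg.Agent.GTwoOdd.XCent
import Cfsg.Agent.GTwoOdd.RootSplit

/-!
# `x ∈ T_2 ∩ T_2^ρ` with `T_1` split: `R = O(C_G(A1))` is full
-/

set_option autoImplicit false

namespace Cfsg.Agent.GTwoOdd

open Matrix ZIso

namespace LocalSL

variable {G : Type*} [Group G] {t : G} {F1 F2 : Type*} [Field F1] [Field F2]
variable [Finite F1] [Finite F2] {L : LocalSL t F1 F2} {s g : G} {D2 : M2 F2} {n2 : SL2 F2} {n1 : SL2 F1}

/-- `O(C_G(A1))` is full in some split frame -/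
def FullF [Finite G] (L : LocalSL t F1 F2) : Prop := ∃ s g : G, L.Split s g ∧
    (HexFull.Five (L.XN g 1) (L.XN g 2) (L.XN g 3) (L.XN g 4) (L.XN g 5) (rc L.A1) ∨
     HexFull.Five (L.XN g 1) (L.XN g 8) (L.XN g 3) (L.XN g 10) (L.XN g 5) (rc L.A1) ∨
     HexFull.Five (L.XN g 7) (L.XN g 2) (L.XN g 3) (L.XN g 4) (L.XN g 11) (rc L.A1) ∨
     HexFull.Five (L.XN g 7) (L.XN g 8) (L.XN g 3) (L.XN g 10) (L.XN g 11) (rc L.A1))

section diag

variable {F : Type*} [Field F]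

theorem diag_entries {y : SL2 F} (h01 : (y : M2 F) 0 1 = 0) : (y : M2 F) 0 0 * (y : M2 F) 1 1 = 1 := by
  have := sl_coe_det y
  rw [Matrix.det_fin_two, h01] at this
  linear_combination this

theorem diag_ne {y : SL2 F} (h01 : (y : M2 F) 0 1 = 0) (h10 : (y : M2 F) 1 0 = 0) (h1 : y ≠ 1) (h2 : y ≠ -1) :
    (y : M2 F) 0 0 ≠ (y : M2 F) 1 1 := by
  intro h
  have hd := diag_entries h01
  rw [← h] at hd
  have h3 : (y : M2 F) = ((y : M2 F) 0 0) • (1 : M2 F) := by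
    rw [m2_eq_iff]
    simp [h01, h10, h]
  rcases sl_scalar h3 with h4 | h4
  · exact h1 h4
  · exact h2 h4

theorem diag_up_comm {y : SL2 F} (h01 : (y : M2 F) 0 1 = 0) (hne : (y : M2 F) 0 0 ≠ (y : M2 F) 1 1) {a : F}
    (h : y * up a = up a * y) : a = 0 := by
  have h1 : ((y : M2 F) * (up a : M2 F)) 0 1 = ((up a : M2 F) * (y : M2 F)) 0 1 :=
    congrArg (fun z : SL2 F => (z : M2 F) 0 1) h
  rw [m2_mul_01, m2_mul_01, up_coe] at h1
  simp [h01] at h1
  have h2 : a * ((y : M2 F) 0 0 - (y : M2 F) 1 1) = 0 := by linear_combination h1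
  rcases mul_eq_zero.1 h2 with h3 | h3
  · exact h3
  · exact absurd (sub_eq_zero.1 h3) hne

theorem diag_lo_comm {y : SL2 F} (h10 : (y : M2 F) 1 0 = 0) (hne : (y : M2 F) 0 0 ≠ (y : M2 F) 1 1) {a : F}
    (h : y * lo a = lo a * y) : a = 0 := by
  have h1 : ((y : M2 F) * (lo a : M2 F)) 1 0 = ((lo a : M2 F) * (y : M2 F)) 1 0 :=
    congrArg (fun z : SL2 F => (z : M2 F) 1 0) h
  rw [m2_mul_10, m2_mul_10, lo_coe] at h1
  simp [h10] at h1
  have h2 : a * ((y : M2 F) 0 0 - (y : M2 F) 1 1) = 0 := by linear_combination -h1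
  rcases mul_eq_zero.1 h2 with h3 | h3
  · exact h3
  · exact absurd (sub_eq_zero.1 h3) hne

theorem card_of_diag [Finite F] (h2 : (2 : F) ≠ 0) {y : SL2 F} (h01 : (y : M2 F) 0 1 = 0)
    (hne : (y : M2 F) 0 0 ≠ (y : M2 F) 1 1) : 3 < Nat.card F := by
  classical
  have := Fintype.ofFinite F
  rw [Nat.card_eq_fintype_card]
  set l := (y : M2 F) 0 0 with hl
  have hd := diag_entries h01
  rw [← hl] at hd
  have hl0 : l ≠ 0 := by rintro h; rw [h, zero_mul] at hd; exact zero_ne_one hd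
  have hl1 : l ≠ 1 := by
    intro h; apply hne; rw [h, one_mul] at hd; rw [hd, h]
  have hl2 : l ≠ -1 := by
    intro h; apply hne; rw [h] at hd ⊢; linear_combination hd
  have h11 : (1 : F) ≠ -1 := by
    intro h; apply h2; linear_combination h
  have h3 : ({0, 1, -1, l} : Finset F).card = 4 := by
    rw [Finset.card_insert_of_notMem, Finset.card_insert_of_notMem, Finset.card_insert_of_notMem, Finset.card_singleton]
    · simp [hl2.symm]
    · simp [h11, hl1.symm]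
    · simp [hl0.symm]
  have h4 := Finset.card_le_univ ({0, 1, -1, l} : Finset F)
  omega

end diag

variable [Finite G]

theorem Frame.tor_DD (F : L.Frame s (dg F1) D2 n1 n2) {c : G} (hc : c ∈ L.tor (dg F1) D2) {d : G} (hd : d ∈ L.DD s) :
    c * d * c⁻¹ ∈ L.DD s := by
  obtain ⟨h4, h5⟩ := mem_DD.1 hd
  refine mem_DD.2 ⟨F.tor_rc hc h4, ?_⟩
  have h6 := F.tor_s hc
  have h7 : c⁻¹ * s = s * c⁻¹ := by
    rw [inv_mul_eq_iff_eq_mul, ← mul_assoc, h6, mul_assoc, mul_inv_cancel, mul_one]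
  calc c * d * c⁻¹ * s = c * d * (c⁻¹ * s) := by group
    _ = c * (d * s) * c⁻¹ := by rw [h7]; group
    _ = (c * s) * d * c⁻¹ := by rw [h5]; group
    _ = _ := by rw [h6]; group

namespace XIn

variable {x : G} (X : XIn L s (dg F1) D2 (wn F1) n2 g x)
include X

/-- from `C_R(s)` to `C_R(s t)` -/
theorem comm_DD2 {d : G} (h : (L.e2 n2)⁻¹ * d * L.e2 n2 * x = x * ((L.e2 n2)⁻¹ * d * L.e2 n2)) : d * x = x * d := by
  have h1 := X.sw.toFrame.tor2_inv X.mem
  -- `r x = x⁻¹ r`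
  have h2 : L.e2 n2 * x * (L.e2 n2)⁻¹ = x⁻¹ := by rw [h1]; group
  have h3 : d * x⁻¹ = x⁻¹ * d := by
    calc d * x⁻¹ = d * (L.e2 n2 * x * (L.e2 n2)⁻¹) := by rw [h2]
      _ = L.e2 n2 * ((L.e2 n2)⁻¹ * d * L.e2 n2 * x) * (L.e2 n2)⁻¹ := by group
      _ = L.e2 n2 * (x * ((L.e2 n2)⁻¹ * d * L.e2 n2)) * (L.e2 n2)⁻¹ := by rw [h]
      _ = (L.e2 n2 * x * (L.e2 n2)⁻¹) * d := by group
      _ = _ := by rw [h2]
  calc d * x = x * (x⁻¹ * d) * x := by group
    _ = x * (d * x⁻¹) * x := by rw [h3]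
    _ = _ := by group

theorem comm_DD2' {d : G} (h : d * x = x * d) : (L.e2 n2)⁻¹ * d * L.e2 n2 * x = x * ((L.e2 n2)⁻¹ * d * L.e2 n2) := by
  have h1 := X.sw.toFrame.tor2_inv X.mem
  have h3 : d * x⁻¹ = x⁻¹ * d := by
    rw [eq_inv_mul_iff_mul_eq, ← mul_assoc, ← h]; group
  calc (L.e2 n2)⁻¹ * d * L.e2 n2 * x = (L.e2 n2)⁻¹ * d * (L.e2 n2 * x) := by group
    _ = (L.e2 n2)⁻¹ * (d * x⁻¹) * L.e2 n2 := by rw [h1]; group
    _ = (L.e2 n2)⁻¹ * x⁻¹ * d * L.e2 n2 := by rw [h3]; group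
    _ = (L.e2 n2)⁻¹ * (x⁻¹ * L.e2 n2) * (L.e2 n2)⁻¹ * d * L.e2 n2 := by group
    _ = _ := by rw [← h1]; group

/-- `C_R(s)` is not centralised by `x` -/
theorem not_all (hM : MCl G F1) (hall : ∀ d ∈ L.DD s, d * x = x * d) : False := by
  have F := X.sw.toFrame
  have H := F.hyp
  obtain ⟨x0, hx0, -, hne, -⟩ := X.exists_x0
  have hR : ∀ r ∈ rc L.A1, r * x = x * r := by
    intro r hr
    obtain ⟨a, ha, d, hd, d', hd', rfl⟩ := F.rc_prod hr
    have h1 : a * x = x * a := by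
      obtain ⟨u, rfl⟩ := mem_A1.1 ha
      exact X.e1 _
    have h2 := hall d hd
    have h3 : d' * x = x * d' := X.comm_DD2 (hall _ (F.r2_DD' hd'))
    calc a * d * d' * x = a * d * (d' * x) := by group
      _ = a * (d * x) * d' := by rw [h3]; group
      _ = (a * x) * d * d' := by rw [h2]; group
      _ = _ := by rw [h1]; group
  obtain ⟨r, hr, -, hrA⟩ := X.exists_rc hM
  apply hne
  refine normal_eq_one H.two_ne2 (N := (Subgroup.centralizer (rc L.A1 : Set G)).comap L.e2) ?_ ?_ ?_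
  · intro u hu v
    rw [Subgroup.mem_comap, Subgroup.mem_centralizer_iff] at hu ⊢
    intro r hr
    have h1 := rc_norm (inv_mem (e2_mem_cent v)) hr
    rw [inv_inv] at h1
    have h2 := hu _ h1
    rw [map_mul, map_mul, map_inv]
    calc r * (L.e2 v * L.e2 u * (L.e2 v)⁻¹) = L.e2 v * ((L.e2 v)⁻¹ * r * L.e2 v * L.e2 u) * (L.e2 v)⁻¹ := by group
      _ = L.e2 v * (L.e2 u * ((L.e2 v)⁻¹ * r * L.e2 v)) * (L.e2 v)⁻¹ := by rw [h2]
      _ = _ := by group
  · intro h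
    rw [Subgroup.mem_comap, L.neg2, Subgroup.mem_centralizer_iff] at h
    exact hrA (H.rc_t hr (h r hr))
  · rw [Subgroup.mem_comap, Subgroup.mem_centralizer_iff]
    intro r hr
    rw [← hx0]
    exact hR r hr

/-- the second torus cannot be nonsplit -/
theorem nonsplit (hM : MCl G F1) (hns : ¬ IsSquare (-D2.det)) : False := by
  apply X.not_all hM
  intro d hd
  rcases X.sw.DD_nonsplit hns with h | h | h
  · rw [h, Subgroup.mem_bot] at hd
    rw [hd, one_mul, mul_one]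
  · rw [h, mem_cjS] at hd
    obtain ⟨y, -, hy⟩ := hd
    have := X.re1 y
    rw [hy] at this
    have e : rho L (wn F1) g * ((rho L (wn F1) g)⁻¹ * d * rho L (wn F1) g) * (rho L (wn F1) g)⁻¹ = d := by group
    rwa [e] at this
  · rw [h, mem_cjS] at hd
    obtain ⟨y, -, hy⟩ := hd
    have := X.re1 y
    rw [hy] at this
    have e : rho L (wn F1) g * ((rho L (wn F1) g)⁻¹ * d * rho L (wn F1) g) * (rho L (wn F1) g)⁻¹ = d := by group
    rwa [e] at this

/-- the matrix of `ρ⁻¹ x ρ` -/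
theorem exists_y0 : ∃ y0 : SL2 F2, (rho L (wn F1) g)⁻¹ * x * rho L (wn F1) g = L.e2 y0 ∧ (y0 : M2 F2) * D2 = D2 * y0 ∧
    y0 ≠ 1 ∧ y0 ≠ -1 := by
  obtain ⟨y0, h1, h2⟩ := mem_tor2.1 X.mem'
  have hx : x = rho L (wn F1) g * L.e2 y0 * (rho L (wn F1) g)⁻¹ := by rw [← h2]; group
  refine ⟨y0, h2, h1, ?_, ?_⟩
  · rintro rfl
    apply X.ne
    rw [hx, map_one]; group
  · rintro rfl
    rw [L.neg2] at hx
    have h3 : x = s := by rw [hx, X.sw.rho_t]; group
    obtain ⟨x0, h4, -⟩ := X.exists_x0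
    rw [h3] at h4
    have h5 := Rep.e2 L x0
    rw [← h4] at h5
    obtain ⟨⟨a, ha, h9⟩, -⟩ := h5.prop X.sw.toFrame.rep
    exact not_scalar X.sw.toFrame.two1 X.sw.toFrame.det1 X.sw.toFrame.tr1 a h9

end XIn

section split

variable {x : G} (X : XIn L s (dg F1) (dg F2) (wn F1) (wn F2) g x)
include X

theorem XIn.card2 : 3 < Nat.card F2 := by
  obtain ⟨x0, -, h1, h2, h3⟩ := X.exists_x0
  obtain ⟨h4, h5⟩ := (comm_dg_iff X.sw.toFrame.two2).1 h1
  exact card_of_diag X.sw.toFrame.two2 h4 (diag_ne h4 h5 h2 h3)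

/-- `x` acts fixed point freely on `X 4` -/
theorem XIn.X4 {d : G} (hd : d ∈ L.XN g 4) (h : d * x = x * d) : d = 1 := by
  obtain ⟨y0, h0, h1, h2, h3⟩ := X.exists_y0
  obtain ⟨h4, h5⟩ := (comm_dg_iff X.sw.toFrame.two2).1 h1
  have hne := diag_ne h4 h5 h2 h3
  rw [← X.sw.cj2, mem_cjS] at hd
  obtain ⟨_, ⟨a, rfl⟩, ha⟩ := hd
  have h6 : L.e2 (up a) * L.e2 y0 = L.e2 y0 * L.e2 (up a) := by
    rw [ha, ← h0]
    calc (ro L g)⁻¹ * d * ro L g * ((ro L g)⁻¹ * x * ro L g) = (ro L g)⁻¹ * (d * x) * ro L g := by group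
      _ = (ro L g)⁻¹ * (x * d) * ro L g := by rw [h]
      _ = _ := by group
  rw [← map_mul, ← map_mul] at h6
  have h7 := diag_up_comm h4 hne (L.inj2 h6).symm
  rw [h7, up_zero, map_one] at ha
  calc d = ro L g * ((ro L g)⁻¹ * d * ro L g) * (ro L g)⁻¹ := by group
    _ = 1 := by rw [← ha]; group

/-- `x` acts fixed point freely on `X 10` -/
theorem XIn.X10 {d : G} (hd : d ∈ L.XN g 10) (h : d * x = x * d) : d = 1 := by
  obtain ⟨y0, h0, h1, h2, h3⟩ := X.exists_y0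
  obtain ⟨h4, h5⟩ := (comm_dg_iff X.sw.toFrame.two2).1 h1
  have hne := diag_ne h4 h5 h2 h3
  rw [← X.sw.cj2', mem_cjS] at hd
  obtain ⟨_, ⟨a, rfl⟩, ha⟩ := hd
  have h6 : L.e2 (lo a) * L.e2 y0 = L.e2 y0 * L.e2 (lo a) := by
    rw [ha, ← h0]
    calc (ro L g)⁻¹ * d * ro L g * ((ro L g)⁻¹ * x * ro L g) = (ro L g)⁻¹ * (d * x) * ro L g := by group
      _ = (ro L g)⁻¹ * (x * d) * ro L g := by rw [h]
      _ = _ := by group
  rw [← map_mul, ← map_mul] at h6
  have h7 := diag_lo_comm h5 hne (L.inj2 h6).symm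
  rw [h7, lo_zero, map_one] at ha
  calc d = ro L g * ((ro L g)⁻¹ * d * ro L g) * (ro L g)⁻¹ := by group
    _ = 1 := by rw [← ha]; group

/-- `x` commutes with `X 7`, `X 1` -/
theorem XIn.X7 {d : G} (hd : d ∈ L.XN g 7 ∨ d ∈ L.XN g 1) : d * x = x * d := by
  have key : ∀ y : SL2 F1, L.e1 y = (ro L g)⁻¹ * d * ro L g → d * x = x * d := by
    intro y hy
    have := X.re1 y
    rw [hy] at this
    have e : rho L (wn F1) g * ((rho L (wn F1) g)⁻¹ * d * rho L (wn F1) g) * (rho L (wn F1) g)⁻¹ = d := by group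
    rwa [e] at this
  rcases hd with hd | hd
  · rw [← X.sw.cj1, mem_cjS] at hd
    obtain ⟨y, -, hy⟩ := hd
    exact key y hy
  · rw [← X.sw.cj1', mem_cjS] at hd
    obtain ⟨y, -, hy⟩ := hd
    exact key y hy

/-- an element of `C_R(s)` different from `1` commutes with `x` -/
theorem XIn.exists_DD (hM : MCl G F1) : ∃ d ∈ L.DD s, d ≠ 1 ∧ d * x = x * d := by
  by_contra hcon
  push Not at hcon
  have F := X.sw.toFrame
  obtain ⟨r, hr, hrx, hrA⟩ := X.exists_rc hM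
  obtain ⟨a, ha, d, hd, d', hd', rfl⟩ := F.rc_prod hr
  have h1 : a * x = x * a := by
    obtain ⟨u, rfl⟩ := mem_A1.1 ha
    exact X.e1 _
  have hxT : x ∈ L.tor (dg F1) (dg F2) := X.x_tor
  have he := F.tor_DD hxT hd
  have he' := F.mul_t.tor_DD hxT hd'
  set e := x * d * x⁻¹ with hedef
  set e' := x * d' * x⁻¹ with hedef'
  have h2 : d * d' = e * e' := by
    have h3 : a * (d * d') = a * (e * e') := by
      calc a * (d * d') = (a * d * d' * x) * x⁻¹ := by group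
        _ = (x * a) * d * d' * x⁻¹ := by rw [hrx]; group
        _ = _ := by rw [← h1, hedef, hedef']; group
    exact mul_left_cancel h3
  have h4 : 1 * (e⁻¹ * d) * (d' * e'⁻¹) = 1 := by
    calc 1 * (e⁻¹ * d) * (d' * e'⁻¹) = e⁻¹ * (d * d') * e'⁻¹ := by group
      _ = 1 := by rw [h2]; group
  obtain ⟨-, h5, h6⟩ := F.rc_unique (one_mem _) (mul_mem (inv_mem he) hd) (mul_mem hd' (inv_mem he')) h4
  have h7 : d * x = x * d := by
    have : d = e := by rw [← mul_one e, ← h5]; group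
    calc d * x = e * x := by rw [← this]
      _ = _ := by rw [hedef]; group
  have h8 : d' * x = x * d' := by
    have : d' = e' := by rw [← one_mul e', ← h6]; group
    calc d' * x = e' * x := by rw [← this]
      _ = _ := by rw [hedef']; group
  have h9 : d = 1 := by
    by_contra h
    exact hcon d hd h h7
  have h10 : d' = 1 := by
    have h11 := X.comm_DD2' h8
    have h12 : (L.e2 (wn F2))⁻¹ * d' * L.e2 (wn F2) = 1 := by
      by_contra h
      exact hcon _ (F.r2_DD' hd') h h11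
    calc d' = L.e2 (wn F2) * ((L.e2 (wn F2))⁻¹ * d' * L.e2 (wn F2)) * (L.e2 (wn F2))⁻¹ := by group
      _ = 1 := by rw [h12]; group
  apply hrA
  rw [h9, h10, mul_one, mul_one]
  exact ha

/-- both tori split: `R` is full -/
theorem XIn.full (hM : MCl G F1) : FullF L := by
  rcases X.sw.cases (Or.inr X.card2) with h | h | h | h
  · exfalso
    apply X.not_all hM
    intro d hd
    rw [h, Subgroup.mem_bot] at hd
    rw [hd, one_mul, mul_one]
  · exfalso
    apply X.not_all hM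
    intro d hd
    rcases h with h | h
    · rw [h] at hd
      exact X.X7 (Or.inr hd)
    · rw [h] at hd
      exact X.X7 (Or.inl hd)
  · exfalso
    obtain ⟨d, hd, hd1, hdx⟩ := X.exists_DD hM
    rcases h with h | h
    · rw [h] at hd
      exact hd1 (X.X4 hd hdx)
    · rw [h] at hd
      exact hd1 (X.X10 hd hdx)
  · exact ⟨s, g, X.sw, h⟩

end split

end LocalSL

end Cfsg.Agent.GTwoOdd
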