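import Cfsg.Agent.GTwoOdd.HexRename
import Cfsg.Agent.GTwoOdd.HexBad
import Cfsg.Agent.GTwoOdd.XFull


/-!
# The four shapes of the full group `R = O(C_G(A1))`

`exists_full`: `FullF L` gives a split frame with full `R₃` (after a renaming) and the generation of the simple
group by its root groups.
-/

set_option autoImplicit false

namespace Cfsg.Agent.GTwoOdd.FullEnd

open Cfsg
open Cfsg.Agent.GTwoOdd.LocalSL
open Cfsg.Agent.GTwoOdd.HexFull
open Cfsg.Agent.GTwoOdd.HexRename

variable {G : Type*} [Group G] {t : G} {F1 F2 : Type*} [Field F1] [Field F2]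
variable [Finite F1] [Finite F2] {L : LocalSL t F1 F2} {s g : G}

/-- the last shape is impossible -/
theorem false_of_last [Finite G] (S : L.Split s g) {R : Subgroup G}
    (h : Five (L.XN g 7) (L.XN g 8) (L.XN g 3) (L.XN g 10) (L.XN g 11) R) : False := by
  refine HexBad.false_of_five (L := flipL L) (split_flip S) (R := R) ?_
  rw [XN_flip_odd L g (m := 7) (by norm_num), XN_flip_odd L g (m := 3) (by norm_num),
    XN_flip_odd L g (m := 11) (by norm_num), XN_flip_even S (m := 2) (k := 8) (by norm_num) (by norm_num),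
    XN_flip_even S (m := 4) (k := 10) (by norm_num) (by norm_num)]
  exact h

/-- **the full case up to renaming** -/
theorem exists_full [Finite G] (h : FullF L) :
    ∃ (L' : LocalSL t F1 F2) (s g : G) (R : Subgroup G), L'.Split s g ∧ Full L' g R := by
  obtain ⟨s, g, S, h | h | h | h⟩ := h
  · exact ⟨L, s, g, _, S, h⟩
  · exact ⟨flipL L, s, g, _, split_flip S, full_of_flip S h⟩
  · exact (HexBad.false_of_five S h).elim
  · exact (false_of_last S h).elim

omit [Finite F1] [Finite F2] in
theorem noncomm (L : LocalSL t F1 F2) : ∃ a b : G, a * b ≠ b * a := by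
  refine ⟨L.e1 (up 1), L.e1 (lo 1), fun h => ?_⟩
  rw [← map_mul, ← map_mul] at h
  rcases up_lo_comm (L.inj1 h) with h | h <;> exact one_ne_zero h

end Cfsg.Agent.GTwoOdd.FullEnd
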