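import Cfsg.Agent.GTwoOdd.GamSum

/-!
# The class function on the centraliser: four irreducible characters
-/

set_option autoImplicit false

open Cfsg
open scoped ComplexConjugate

namespace Cfsg.Agent.GTwoOdd.GamC

open Cfsg.Agent.GTwoOdd.GamSum

universe u
variable {H : Type u} [Group H]

/-- a linear character of a subgroup, extended by zero -/
noncomputable def ez (Q : Subgroup H) (ξ : Q →* ℂˣ) : H → ℂ := extendByZero Q (fun x => (ξ x : ℂ))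

theorem ez_mem (Q : Subgroup H) (ξ : Q →* ℂˣ) {x : H} (hx : x ∈ Q) : ez Q ξ x = (ξ ⟨x, hx⟩ : ℂ) :=
  Cfsg.Agent.Characters.Core.extendByZero_of_mem Q _ hx

theorem ez_notMem (Q : Subgroup H) (ξ : Q →* ℂˣ) {x : H} (hx : x ∉ Q) : ez Q ξ x = 0 :=
  Cfsg.Agent.Characters.Core.extendByZero_of_notMem Q _ hx

theorem ez_ne (Q : Subgroup H) (ξ : Q →* ℂˣ) {x : H} (hx : x ∈ Q) : ez Q ξ x ≠ 0 := by
  rw [ez_mem Q ξ hx]
  exact Units.ne_zero _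

theorem ez_one (Q : Subgroup H) (ξ : Q →* ℂˣ) : ez Q ξ 1 = 1 := by
  rw [ez_mem Q ξ Q.one_mem]
  have : (⟨1, Q.one_mem⟩ : Q) = 1 := rfl
  rw [this, map_one, Units.val_one]

theorem ez_mul (Q : Subgroup H) (ξ : Q →* ℂˣ) {x y : H} (hx : x ∈ Q) (hy : y ∈ Q) :
    ez Q ξ (x * y) = ez Q ξ x * ez Q ξ y := by
  rw [ez_mem Q ξ hx, ez_mem Q ξ hy, ez_mem Q ξ (Q.mul_mem hx hy), ← Units.val_mul, ← map_mul]
  rfl

theorem ez_conj (Q : Subgroup H) (ξ : Q →* ℂˣ) {q : H} (hq : q ∈ Q) (x : H) :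
    ez Q ξ (q * x * q⁻¹) = ez Q ξ x := by
  by_cases hx : x ∈ Q
  · rw [ez_mul Q ξ (Q.mul_mem hq hx) (Q.inv_mem hq), ez_mul Q ξ hq hx]
    have h1 : ez Q ξ q * ez Q ξ q⁻¹ = 1 := by
      rw [← ez_mul Q ξ hq (Q.inv_mem hq), mul_inv_cancel, ez_one]
    calc ez Q ξ q * ez Q ξ x * ez Q ξ q⁻¹ = ez Q ξ x * (ez Q ξ q * ez Q ξ q⁻¹) := by ring
      _ = _ := by rw [h1, mul_one]
  · have hx' : q * x * q⁻¹ ∉ Q := by
      intro h
      apply hx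
      have := Q.mul_mem (Q.mul_mem (Q.inv_mem hq) h) hq
      have e : q⁻¹ * (q * x * q⁻¹) * q = x := by group
      rwa [e] at this
    rw [ez_notMem Q ξ hx, ez_notMem Q ξ hx']

/-- the data on the centraliser -/
structure CData (H : Type u) [Group H] where
  /-- the central involution -/
  t : H
  /-- the second involution -/
  t2 : H
  /-- the third involution -/
  t3 : H
  /-- the torus -/
  T : Subgroup H
  /-- the Borel subgroup -/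
  B : Subgroup H
  /-- the parabolic subgroup -/
  Q : Subgroup H
  /-- the first character -/
  lam : Q →* ℂˣ
  /-- the second character -/
  mu : Q →* ℂˣ
  /-- the conjugate of the first character -/
  lam1 : B →* ℂˣ
  /-- the conjugate of the second character -/
  mu1 : B →* ℂˣ
  tt : t * t = 1
  t1 : t ≠ 1
  tc : ∀ x, x * t = t * x
  t2t2 : t2 * t2 = 1
  t2_ne : t2 ≠ 1
  t2_ne_t : t2 ≠ t
  t3_eq : t3 = t * t2
  TB : T ≤ B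
  BQ : B ≤ Q
  t_mem : t ∈ T
  t2_mem : t2 ∈ T
  comm : ∀ x ∈ T, ∀ y ∈ T, x * y = y * x
  Qinv : ∀ s ∈ Q, s * s = 1 → s ≠ 1 → s ≠ t → ∃ q ∈ Q, q * t2 * q⁻¹ = s
  Qcent : ∀ q ∈ Q, q * t2 = t2 * q → q ∈ T
  Binv : ∀ s ∈ B, s * s = 1 → s ≠ 1 → s ≠ t → (∃ b ∈ B, b * t2 * b⁻¹ = s) ∨ ∃ b ∈ B, b * t3 * b⁻¹ = s
  Bne : ∀ b ∈ B, b * t2 * b⁻¹ ≠ t3
  dec : ∀ c : H, ∃ b ∈ B, ∃ n, (∀ τ ∈ T, n * τ * n⁻¹ ∈ T) ∧ ∃ b' ∈ B, c = b * n * b'
  odd : ∀ x : H, (∀ s ∈ Subgroup.zpowers x, s * s = 1 → s = 1) → ez Q lam x = ez Q mu x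
  odd1 : ∀ x : H, (∀ s ∈ Subgroup.zpowers x, s * s = 1 → s = 1) → ez B lam1 x = ez B mu1 x
  lam_t : ez Q lam t = 1
  lam_t2 : ez Q lam t2 = 1
  mu_t : ez Q mu t = 1
  mu_t2 : ez Q mu t2 = -1
  lam1_t : ez B lam1 t = 1
  lam1_t2 : ez B lam1 t2 = 1
  mu1_t : ez B mu1 t = -1
  mu1_t2 : ez B mu1 t2 = -1
  st : ∀ n, (∀ τ ∈ T, n * τ * n⁻¹ ∈ T) → (∀ τ ∈ T, ez Q lam τ = ez Q lam (n * τ * n⁻¹)) → n ∈ Q
  st' : ∀ n, (∀ τ ∈ T, n * τ * n⁻¹ ∈ T) → (∀ τ ∈ T, ez Q mu τ = ez Q mu (n * τ * n⁻¹)) → n ∈ Q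
  st1 : ∀ n, (∀ τ ∈ T, n * τ * n⁻¹ ∈ T) → (∀ τ ∈ T, ez B lam1 τ = ez B lam1 (n * τ * n⁻¹)) → n ∈ B
  st1' : ∀ n, (∀ τ ∈ T, n * τ * n⁻¹ ∈ T) → (∀ τ ∈ T, ez B mu1 τ = ez B mu1 (n * τ * n⁻¹)) → n ∈ B
  ne1 : ∀ n, (∀ τ ∈ T, n * τ * n⁻¹ ∈ T) → ¬ ∀ τ ∈ T, ez Q lam τ = ez Q mu (n * τ * n⁻¹)
  ne2 : ∀ n, (∀ τ ∈ T, n * τ * n⁻¹ ∈ T) → ¬ ∀ τ ∈ T, ez B lam1 τ = ez B mu1 (n * τ * n⁻¹)
  ne3 : ∀ n, (∀ τ ∈ T, n * τ * n⁻¹ ∈ T) → ¬ ∀ τ ∈ T, ez Q lam τ = ez B lam1 (n * τ * n⁻¹)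
  ne4 : ∀ n, (∀ τ ∈ T, n * τ * n⁻¹ ∈ T) → ¬ ∀ τ ∈ T, ez Q lam τ = ez B mu1 (n * τ * n⁻¹)
  ne5 : ∀ n, (∀ τ ∈ T, n * τ * n⁻¹ ∈ T) → ¬ ∀ τ ∈ T, ez Q mu τ = ez B lam1 (n * τ * n⁻¹)
  ne6 : ∀ n, (∀ τ ∈ T, n * τ * n⁻¹ ∈ T) → ¬ ∀ τ ∈ T, ez Q mu τ = ez B mu1 (n * τ * n⁻¹)

namespace CData

variable (D : CData H)

theorem t2t : D.t2 * D.t = D.t * D.t2 := D.tc D.t2

theorem t3t3 : D.t3 * D.t3 = 1 := by
  rw [D.t3_eq]
  calc D.t * D.t2 * (D.t * D.t2) = D.t * (D.t2 * D.t) * D.t2 := by group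
    _ = (D.t * D.t) * (D.t2 * D.t2) := by rw [D.t2t]; group
    _ = 1 := by rw [D.tt, D.t2t2, one_mul]

theorem t3_ne : D.t3 ≠ 1 := by
  rw [D.t3_eq]
  intro h
  apply D.t2_ne_t
  have : D.t * (D.t * D.t2) = D.t := by rw [h, mul_one]
  rw [← mul_assoc, D.tt, one_mul] at this
  exact this

theorem t3_ne_t : D.t3 ≠ D.t := by
  rw [D.t3_eq]
  intro h
  apply D.t2_ne
  exact mul_left_cancel (h.trans (mul_one _).symm)

theorem t3_ne_t2 : D.t3 ≠ D.t2 := by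
  rw [D.t3_eq]
  intro h
  apply D.t1
  exact mul_right_cancel (h.trans (one_mul _).symm)

theorem t3_mem : D.t3 ∈ D.T := by
  rw [D.t3_eq]; exact D.T.mul_mem D.t_mem D.t2_mem

theorem TQ : D.T ≤ D.Q := D.TB.trans D.BQ

/-- `C_Q(t2) = T` -/
theorem Qcent_iff : ∀ q ∈ D.Q, q * D.t2 = D.t2 * q ↔ q ∈ D.T :=
  fun q hq => ⟨D.Qcent q hq, fun h => D.comm q h _ D.t2_mem⟩

theorem Bcent_iff : ∀ q ∈ D.B, q * D.t2 = D.t2 * q ↔ q ∈ D.T :=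
  fun q hq => D.Qcent_iff q (D.BQ hq)

theorem Bcent_iff3 : ∀ q ∈ D.B, q * D.t3 = D.t3 * q ↔ q ∈ D.T := by
  intro q hq
  rw [← D.Bcent_iff q hq, D.t3_eq]
  constructor
  · intro h
    have h1 : D.t * (q * D.t2) = D.t * (D.t2 * q) := by
      rw [← mul_assoc, ← D.tc q, mul_assoc, h, mul_assoc]
    exact mul_left_cancel h1
  · intro h
    rw [← mul_assoc, D.tc q, mul_assoc, h, mul_assoc]

/-- the third values -/
theorem lam_t3 : ez D.Q D.lam D.t3 = 1 := by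
  rw [D.t3_eq, ez_mul _ _ (D.TQ D.t_mem) (D.TQ D.t2_mem), D.lam_t, D.lam_t2, one_mul]

theorem mu_t3 : ez D.Q D.mu D.t3 = -1 := by
  rw [D.t3_eq, ez_mul _ _ (D.TQ D.t_mem) (D.TQ D.t2_mem), D.mu_t, D.mu_t2, one_mul]

theorem lam1_t3 : ez D.B D.lam1 D.t3 = 1 := by
  rw [D.t3_eq, ez_mul _ _ (D.TB D.t_mem) (D.TB D.t2_mem), D.lam1_t, D.lam1_t2, one_mul]

theorem mu1_t3 : ez D.B D.mu1 D.t3 = 1 := by
  rw [D.t3_eq, ez_mul _ _ (D.TB D.t_mem) (D.TB D.t2_mem), D.mu1_t, D.mu1_t2]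
  norm_num

/-- `x` has an involution different from `t` among its powers -/
def E (x : H) : Prop := ∃ s ∈ Subgroup.zpowers x, s * s = 1 ∧ s ≠ 1 ∧ s ≠ D.t

variable [Fintype H]

/-- the induced character -/
noncomputable def X (Q : Subgroup H) (ξ : Q →* ℂˣ) : H → ℂ := indFun Q (fun x => (ξ x : ℂ))

/-- the class function -/
noncomputable def F : H → ℂ := X D.Q D.lam - X D.Q D.mu + (X D.B D.lam1 - X D.B D.mu1)

omit D in
theorem X_class (Q : Subgroup H) (ξ : Q →* ℂˣ) (g x : H) : X Q ξ (g * x * g⁻¹) = X Q ξ x :=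
  Cfsg.Agent.OddOrderCharacters.IndRes.isClassFunction_indFun Q _ x g

omit D in
theorem X_def (Q : Subgroup H) (ξ : Q →* ℂˣ) (x : H) :
    X Q ξ x = (Nat.card Q : ℂ)⁻¹ * ∑ g : H, ez Q ξ (g⁻¹ * x * g) := rfl

theorem F_class (g x : H) : D.F (g * x * g⁻¹) = D.F x := by
  simp only [F, Pi.add_apply, Pi.sub_apply, X_class]

/-- `F` vanishes on the elements without involutions -/
theorem F_odd {x : H} (hx : ∀ s ∈ Subgroup.zpowers x, s * s = 1 → s = 1) : D.F x = 0 := by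
  have h : ∀ g : H, ∀ s ∈ Subgroup.zpowers (g⁻¹ * x * g), s * s = 1 → s = 1 := by
    intro g s hs hss
    rw [zpowers_conj_mem] at hs
    have h1 := hx _ hs (by
      calc g * s * g⁻¹ * (g * s * g⁻¹) = g * (s * s) * g⁻¹ := by group
        _ = 1 := by rw [hss]; group)
    calc s = g⁻¹ * (g * s * g⁻¹) * g := by group
      _ = 1 := by rw [h1]; group
  have e1 : X D.Q D.lam x = X D.Q D.mu x := by
    rw [X_def, X_def]
    congr 1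
    exact Finset.sum_congr rfl fun g _ => D.odd _ (h g)
  have e2 : X D.B D.lam1 x = X D.B D.mu1 x := by
    rw [X_def, X_def]
    congr 1
    exact Finset.sum_congr rfl fun g _ => D.odd1 _ (h g)
  simp only [F, Pi.add_apply, Pi.sub_apply, e1, e2, sub_self, add_zero]

omit D [Fintype H] in
/-- the common Mackey argument -/
theorem mackey {A B T R : Subgroup H} (hA : R ≤ A) (hB : R ≤ B) (hT : T ≤ R) (ξ : A →* ℂˣ) (ξ' : B →* ℂˣ)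
    (dec : ∀ c : H, ∃ b ∈ R, ∃ n, (∀ τ ∈ T, n * τ * n⁻¹ ∈ T) ∧ ∃ b' ∈ R, c = b * n * b') {g : H}
    (h : ∀ (a : ↥A) (b : ↥B), (b : H) = g * a * g⁻¹ → ξ a = ξ' b) :
    ∃ b ∈ R, ∃ n, (∀ τ ∈ T, n * τ * n⁻¹ ∈ T) ∧ (∃ b' ∈ R, g = b * n * b') ∧
      ∀ τ ∈ T, ez A ξ τ = ez B ξ' (n * τ * n⁻¹) := by
  obtain ⟨b, hb, n, hn, b', hb', rfl⟩ := dec g
  refine ⟨b, hb, n, hn, ⟨b', hb', rfl⟩, fun τ hτ => ?_⟩
  have hτ' := hn τ hτ
  have h1 : b'⁻¹ * τ * b' ∈ A := A.mul_mem (A.mul_mem (A.inv_mem (hA hb')) (hA (hT hτ))) (hA hb')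
  have h2 : b * (n * τ * n⁻¹) * b⁻¹ ∈ B := B.mul_mem (B.mul_mem (hB hb) (hB (hT hτ'))) (B.inv_mem (hB hb))
  have h3 := h ⟨_, h1⟩ ⟨_, h2⟩ (by
    change b * (n * τ * n⁻¹) * b⁻¹ = b * n * b' * (b'⁻¹ * τ * b') * (b * n * b')⁻¹
    group)
  have h4 : ez A ξ (b'⁻¹ * τ * b') = ez B ξ' (b * (n * τ * n⁻¹) * b⁻¹) := by
    rw [ez_mem _ _ h1, ez_mem _ _ h2, h3]
  rw [ez_conj B ξ' (hB hb)] at h4
  have h5 := ez_conj A ξ (A.inv_mem (hA hb')) τ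
  rw [inv_inv] at h5
  rw [← h5, h4]

theorem irr_lam : IsIrrCharacter H (X D.Q D.lam) := by
  apply Cfsg.Agent.OddOrderCharacters.PF9.MackeyIrr.isIrr_ind
  intro g hg
  obtain ⟨b, hb, n, hn, ⟨b', hb', rfl⟩, h⟩ := mackey D.BQ D.BQ D.TB D.lam D.lam D.dec hg
  exact D.Q.mul_mem (D.Q.mul_mem (D.BQ hb) (D.st n hn h)) (D.BQ hb')

theorem irr_mu : IsIrrCharacter H (X D.Q D.mu) := by
  apply Cfsg.Agent.OddOrderCharacters.PF9.MackeyIrr.isIrr_ind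
  intro g hg
  obtain ⟨b, hb, n, hn, ⟨b', hb', rfl⟩, h⟩ := mackey D.BQ D.BQ D.TB D.mu D.mu D.dec hg
  exact D.Q.mul_mem (D.Q.mul_mem (D.BQ hb) (D.st' n hn h)) (D.BQ hb')

theorem irr_lam1 : IsIrrCharacter H (X D.B D.lam1) := by
  apply Cfsg.Agent.OddOrderCharacters.PF9.MackeyIrr.isIrr_ind
  intro g hg
  obtain ⟨b, hb, n, hn, ⟨b', hb', rfl⟩, h⟩ := mackey le_rfl le_rfl D.TB D.lam1 D.lam1 D.dec hg
  exact D.B.mul_mem (D.B.mul_mem hb (D.st1 n hn h)) hb'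

theorem irr_mu1 : IsIrrCharacter H (X D.B D.mu1) := by
  apply Cfsg.Agent.OddOrderCharacters.PF9.MackeyIrr.isIrr_ind
  intro g hg
  obtain ⟨b, hb, n, hn, ⟨b', hb', rfl⟩, h⟩ := mackey le_rfl le_rfl D.TB D.mu1 D.mu1 D.dec hg
  exact D.B.mul_mem (D.B.mul_mem hb (D.st1' n hn h)) hb'

omit D in
theorem inner_zero {A B T R : Subgroup H} (hA : R ≤ A) (hB : R ≤ B) (hT : T ≤ R) (ξ : A →* ℂˣ) (ξ' : B →* ℂˣ)
    (dec : ∀ c : H, ∃ b ∈ R, ∃ n, (∀ τ ∈ T, n * τ * n⁻¹ ∈ T) ∧ ∃ b' ∈ R, c = b * n * b')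
    (hne : ∀ n, (∀ τ ∈ T, n * τ * n⁻¹ ∈ T) → ¬ ∀ τ ∈ T, ez A ξ τ = ez B ξ' (n * τ * n⁻¹)) :
    classInner (X A ξ) (X B ξ') = 0 := by
  by_contra h
  obtain ⟨g, hg⟩ := Cfsg.Agent.OddOrderCharacters.PF9.Mackey.exists_conj_of_inner_ne A B ξ ξ' h
  obtain ⟨b, hb, n, hn, -, h1⟩ := mackey hA hB hT ξ ξ' dec hg
  exact hne n hn h1

theorem inner_symm_zero {φ ψ : H → ℂ} (h : classInner φ ψ = 0) : classInner ψ φ = 0 := by
  rw [← Cfsg.Agent.Characters.Core.classInner_conj_symm, h, map_zero]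

/-- the norm of `F` -/
theorem norm_F : classInner D.F D.F = 4 := by
  have h11 := Cfsg.Agent.Characters.Core.classInner_irr_self D.irr_lam
  have h22 := Cfsg.Agent.Characters.Core.classInner_irr_self D.irr_mu
  have h33 := Cfsg.Agent.Characters.Core.classInner_irr_self D.irr_lam1
  have h44 := Cfsg.Agent.Characters.Core.classInner_irr_self D.irr_mu1
  have h12 := inner_zero D.BQ D.BQ D.TB D.lam D.mu D.dec D.ne1
  have h34 := inner_zero le_rfl le_rfl D.TB D.lam1 D.mu1 D.dec D.ne2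
  have h13 := inner_zero D.BQ le_rfl D.TB D.lam D.lam1 D.dec D.ne3
  have h14 := inner_zero D.BQ le_rfl D.TB D.lam D.mu1 D.dec D.ne4
  have h23 := inner_zero D.BQ le_rfl D.TB D.mu D.lam1 D.dec D.ne5
  have h24 := inner_zero D.BQ le_rfl D.TB D.mu D.mu1 D.dec D.ne6
  have h21 := inner_symm_zero h12
  have h43 := inner_symm_zero h34
  have h31 := inner_symm_zero h13
  have h41 := inner_symm_zero h14
  have h32 := inner_symm_zero h23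
  have h42 := inner_symm_zero h24
  unfold F
  simp only [Cfsg.Agent.Characters.Core.classInner_add_left, Cfsg.Agent.Characters.Core.classInner_sub_left,
    Cfsg.Agent.Characters.Core.classInner_add_right, Cfsg.Agent.Characters.Core.classInner_sub_right,
    h11, h22, h33, h44, h12, h34, h13, h14, h23, h24, h21, h43, h31, h41, h32, h42]
  norm_num

/-- `F` is a generalised character -/
theorem gen_F : IsGeneralizedCharacter H D.F := by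
  refine ⟨X D.Q D.lam + X D.B D.lam1, X D.Q D.mu + X D.B D.mu1, ?_, ?_, ?_⟩
  · exact Cfsg.Agent.Characters.Core.isCharacter_add
      (Cfsg.Agent.Characters.Core.isIrr_isCharacter D.irr_lam)
      (Cfsg.Agent.Characters.Core.isIrr_isCharacter D.irr_lam1)
  · exact Cfsg.Agent.Characters.Core.isCharacter_add
      (Cfsg.Agent.Characters.Core.isIrr_isCharacter D.irr_mu)
      (Cfsg.Agent.Characters.Core.isIrr_isCharacter D.irr_mu1)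
  · unfold F; abel

end CData

end Cfsg.Agent.GTwoOdd.GamC
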