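import Cfsg.Agent.GTwoOdd.GamSemi

/-!
# Orders of `B`, `Q`

`|B| = q1 q2 |T|`, `|Q| = (q1 + 1) |B|` (`|C0| = (q1 + 1) (q2 + 1) |B|` is `Hyp.card_zero` in `Mack.lean`).
-/

set_option autoImplicit false

namespace Cfsg.Agent.GTwoOdd

open Matrix

namespace LocalSL

variable {G : Type*} [Group G] {t : G} {F1 F2 : Type*} [Field F1] [Field F2]

section hyp

variable [Finite F1] [Finite F2] {L : LocalSL t F1 F2} (H : L.Hyp)
include H

/-- elements of the Borel subgroup are unique products of a torus element and a unipotent element -/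
noncomputable def Hyp.borEquiv : (L.T0 × (F1 × F2)) ≃ L.bor :=
  Equiv.ofBijective (fun x => ⟨x.1 * L.up2 x.2, L.bor.mul_mem (H.T0_le_bor x.1.2) (up2_mem_bor L x.2)⟩)
    ⟨fun x y h => by
        have h1 : (x.1 : G) * L.up2 x.2 = y.1 * L.up2 y.2 := congrArg Subtype.val h
        obtain ⟨h2, h3⟩ := H.factor_unique x.1.2 y.1.2 (L.up2_mem _) (L.up2_mem _) h1
        exact Prod.ext (Subtype.ext h2) (L.up2_inj H.two_ne1 h3),
      fun c => by
        obtain ⟨τ, hτ, u, ⟨a, b, rfl⟩, h⟩ := H.bor_factor c.2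
        exact ⟨(⟨τ, hτ⟩, (a, b)), Subtype.ext h.symm⟩⟩

/-- `|B| = q1 q2 |T|` -/
theorem Hyp.card_bor : Nat.card L.bor = Nat.card F1 * Nat.card F2 * Nat.card L.T0 := by
  rw [← Nat.card_congr H.borEquiv, Nat.card_prod, Nat.card_prod, mul_comm]

omit [Finite F1] [Finite F2] H in
theorem card_opt (F : Type*) [Field F] [Finite F] (i : Bool) : Nat.card {y : F // i = false → y = 0} = if i then Nat.card F else 1 := by
  rcases i with _ | _
  · simp
  · simp

omit H in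
theorem card_cell' (L : LocalSL t F1 F2) [Finite L.T0] (i : Bool × Bool) : Nat.card (L.Cell i) =
    Nat.card F1 * Nat.card F2 * Nat.card L.T0 * ((if i.1 then Nat.card F1 else 1) * (if i.2 then Nat.card F2 else 1)) := by
  let e : L.Cell i ≃ (F1 × F2) × L.T0 × ({y : F1 // i.1 = false → y = 0} × {y : F2 // i.2 = false → y = 0}) :=
    { toFun := fun x => (x.1.1, x.1.2.1, ⟨x.1.2.2.1, x.2.1⟩, ⟨x.1.2.2.2, x.2.2⟩)
      invFun := fun x => ⟨(x.1, x.2.1, (x.2.2.1.1, x.2.2.2.1)), x.2.2.1.2, x.2.2.2.2⟩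
      left_inv := fun _ => rfl
      right_inv := fun _ => rfl }
  rw [Nat.card_congr e, Nat.card_prod, Nat.card_prod, Nat.card_prod, Nat.card_prod, card_opt, card_opt]
  ring

theorem Hyp.cell_par (x : Σ i : Bool × Bool, L.Cell i) : L.cellEl x ∈ L.par ↔ x.1.2 = false := by
  obtain ⟨D, E, hr, h1, h2, h3, h4⟩ := H.T0_rep x.2.1.2.1.2
  have hR := (((L.up2_rep x.2.1.1).mul (L.wel_rep x.1)).mul hr).mul (L.up2_rep x.2.1.2.2)
  rw [show L.cellEl x = L.up2 x.2.1.1 * L.wel x.1 * x.2.1.2.1 * L.up2 x.2.1.2.2 from rfl, hR.mem_par]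
  have hE := hr.det2
  rw [Matrix.det_fin_two, h3, zero_mul, sub_zero] at hE
  obtain ⟨⟨i, j⟩, ⟨p, τ, p'⟩, h⟩ := x
  rcases j with _ | _
  · have h5 := h.2 rfl
    change p'.2 = 0 at h5
    simp only at h1 h2 h3 h4 hE ⊢
    rw [h5, cell_false _ h3 h4]
    simp
  · simp only at h1 h2 h3 h4 hE ⊢
    rw [cell_true _ _ h3 h4]
    simp [left_ne_zero_of_mul hE]

/-- `|Q| = (q1 + 1) |B|` -/
theorem Hyp.card_par [Finite G] : Nat.card L.par = (Nat.card F1 + 1) * (Nat.card F1 * Nat.card F2 * Nat.card L.T0) := by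
  have hf : ∀ i, Finite (L.Cell i) := fun i => Subtype.finite
  let e : (Σ i : Bool, L.Cell (i, false)) ≃ L.par :=
    Equiv.ofBijective (fun x => ⟨L.cellEl ⟨(x.1, false), x.2⟩, (H.cell_par _).2 rfl⟩)
      ⟨fun x y h => by
        have h1 := H.cell_inj (congrArg Subtype.val h)
        obtain ⟨i, x⟩ := x
        obtain ⟨j, y⟩ := y
        simp only [Sigma.mk.injEq, Prod.mk.injEq, and_true] at h1
        obtain ⟨rfl, h2⟩ := h1
        rw [eq_of_heq h2],
      fun c => by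
        obtain ⟨⟨⟨i, j⟩, x⟩, hx⟩ := H.cell_surj (L.par_le_zero c.2)
        have h1 := (H.cell_par ⟨(i, j), x⟩).1 (hx ▸ c.2)
        simp only at h1
        subst h1
        exact ⟨⟨i, x⟩, Subtype.ext hx⟩⟩
  rw [← Nat.card_congr e, Nat.card_sigma]
  simp only [card_cell', Fintype.sum_bool]
  simp
  ring

/-- the weak Bruhat decomposition of `C(t)` -/
theorem Hyp.weak_bruhat' {c : G} (hc : c * t = t * c) :
    ∃ b ∈ L.bor, ∃ n : G, n * t = t * n ∧ (∀ τ ∈ L.T0, n * τ * n⁻¹ ∈ L.T0) ∧ ∃ b' ∈ L.bor, c = b * n * b' := by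
  obtain ⟨u, hu, n, u', hu', h1, h2, h3⟩ := H.weak_bruhat hc
  exact ⟨u, L.uni_le_bor hu, n, h2, h3, u', L.uni_le_bor hu', h1⟩

end hyp

end LocalSL

end Cfsg.Agent.GTwoOdd
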