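import Cfsg.Agent.GTwoOdd.GamFields
import Cfsg.Agent.GTwoOdd.Braid

/-!
# The characters of `Q` and `B`

`bet : Q →* F2ˣ`, the ratio `B 0 0 / B 1 1`; `χ` a faithful character of `F2ˣ`; `m` the odd part of `|F2| - 1`;
`lam = (χ ∘ bet)²`, `mu = (χ ∘ bet)^(2 + m)`; `lam1`, `mu1` their conjugates by `ρ` on `B`.
-/

set_option autoImplicit false

namespace Cfsg.Agent.GTwoOdd

open Matrix

namespace GamChar

section abelian

variable {A : Type*} [CommGroup A] [Finite A]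

/-- the odd part of the order -/
noncomputable def om (A : Type*) : ℕ := Nat.card A / 2 ^ (Nat.card A).factorization 2

theorem om_odd : Odd (om A) := by
  have h := Nat.coprime_ordCompl Nat.prime_two (n := Nat.card A) Nat.card_pos.ne'
  exact Nat.coprime_two_left.1 h

omit [Finite A] in
theorem orderOf_dvd_om {x : A} (h : Odd (orderOf x)) : orderOf x ∣ om A := by
  have h1 : orderOf x ∣ 2 ^ (Nat.card A).factorization 2 * om A := by
    rw [om, Nat.ordProj_mul_ordCompl_eq_self]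
    exact orderOf_dvd_natCard x
  exact (Nat.Coprime.dvd_mul_left (Nat.Coprime.pow_right _ (Nat.coprime_two_right.2 h))).1 h1

theorem pow_om {x : A} (h : Odd (orderOf x)) : x ^ om A = 1 := orderOf_dvd_iff_pow_eq_one.1 (orderOf_dvd_om h)

theorem eq_one_of_pow {x : A} (h : x ^ (2 + om A) = 1) : x = 1 := by
  have h1 := orderOf_dvd_of_pow_eq_one h
  have h2 : Odd (orderOf x) := Odd.of_dvd_nat (Even.add_odd even_two om_odd) h1
  have h3 := orderOf_dvd_om h2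
  have h4 : orderOf x ∣ 2 := (Nat.dvd_add_left h3).1 h1
  rw [← orderOf_eq_one_iff]
  exact Nat.Coprime.eq_one_of_dvd (Nat.coprime_two_right.2 h2) h4

/-- a faithful character of a finite cyclic group -/
theorem exists_char (A : Type*) [CommGroup A] [Finite A] [IsCyclic A] : ∃ χ : A →* ℂˣ, Function.Injective χ := by
  obtain ⟨g, hg⟩ := IsCyclic.exists_generator (α := A)
  have hn : Nat.card A ≠ 0 := Nat.card_pos.ne'
  have hz := Complex.isPrimitiveRoot_exp (Nat.card A) hn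
  have hu := hz.isUnit hn
  have hz' : IsPrimitiveRoot hu.unit (Nat.card A) := by
    rw [← IsPrimitiveRoot.coe_units_iff]
    exact hz
  have ho : orderOf g = Nat.card A := orderOf_eq_card_of_forall_mem_zpowers hg
  have ho' : orderOf hu.unit = Nat.card A := hz'.eq_orderOf.symm
  refine ⟨monoidHomOfForallMemZpowers hg (g' := hu.unit) (by rw [ho, ho']), ?_⟩
  rw [injective_iff_map_eq_one]
  intro x hx
  obtain ⟨k, rfl⟩ := Subgroup.mem_zpowers_iff.1 (hg x)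
  rw [map_zpow, monoidHomOfForallMemZpowers_apply_gen, ← orderOf_dvd_iff_zpow_eq_one, ho', ← ho] at hx
  exact orderOf_dvd_iff_zpow_eq_one.1 hx

end abelian

/-- an element without involutions in the group generated by it has odd order -/
theorem odd_order {G : Type*} [Group G] [Finite G] {x : G} (h : ∀ s ∈ Subgroup.zpowers x, s * s = 1 → s = 1) :
    Odd (orderOf x) := by
  by_contra hn
  rw [Nat.not_odd_iff_even] at hn
  obtain ⟨k, hk⟩ := hn
  have hpos : 0 < orderOf x := orderOf_pos x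
  have h1 := h (x ^ k) ⟨k, by simp⟩ (by rw [← pow_add, ← hk, pow_orderOf_eq_one])
  have h2 := orderOf_dvd_of_pow_eq_one h1
  have h3 := Nat.le_of_dvd (by omega) h2
  omega

end GamChar

namespace LocalSL

universe u

variable {G : Type u} [Group G] {t : G} {F1 F2 : Type*} [Field F1] [Field F2]

open Classical in
/-- the ratio of the diagonal entries of the second matrix -/
noncomputable def betf (L : LocalSL t F1 F2) (c : G) : F2 :=
  if h : ∃ B : M2 F2, (∃ A, L.Rep c A B) ∧ B 1 0 = 0 then Classical.choose h 0 0 / Classical.choose h 1 1 else 1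

theorem Rep.betf_eq {L : LocalSL t F1 F2} {c : G} {A : M2 F1} {B : M2 F2} (h : L.Rep c A B) (h10 : B 1 0 = 0) :
    L.betf c = B 0 0 / B 1 1 := by
  have hex : ∃ B : M2 F2, (∃ A, L.Rep c A B) ∧ B 1 0 = 0 := ⟨B, ⟨A, h⟩, h10⟩
  unfold betf
  rw [dif_pos hex]
  obtain ⟨⟨A', h'⟩, h10'⟩ := Classical.choose_spec hex
  obtain ⟨-, b, hb, hB⟩ := h.prop h'
  rw [hB]
  simp only [Matrix.smul_apply, smul_eq_mul]
  rw [mul_div_mul_left _ _ hb]

theorem Rep.betf_ne {L : LocalSL t F1 F2} {c : G} {A : M2 F1} {B : M2 F2} (h : L.Rep c A B) (h10 : B 1 0 = 0) :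
    B 0 0 ≠ 0 ∧ B 1 1 ≠ 0 := by
  have := h.det2
  rw [Matrix.det_fin_two, h10, mul_zero, sub_zero] at this
  exact ⟨left_ne_zero_of_mul this, right_ne_zero_of_mul this⟩

theorem betf_ne {L : LocalSL t F1 F2} {c : G} (hc : c ∈ L.par) : L.betf c ≠ 0 := by
  obtain ⟨A, B, h, h10⟩ := hc
  rw [h.betf_eq h10]
  exact div_ne_zero (h.betf_ne h10).1 (h.betf_ne h10).2

theorem betf_mul {L : LocalSL t F1 F2} {c d : G} (hc : c ∈ L.par) (hd : d ∈ L.par) :
    L.betf (c * d) = L.betf c * L.betf d := by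
  obtain ⟨A, B, h, h10⟩ := hc
  obtain ⟨A', B', h', h10'⟩ := hd
  have h2 : (B * B') 1 0 = 0 := by rw [m2_mul_10, h10, h10']; ring
  rw [h.betf_eq h10, h'.betf_eq h10', (h.mul h').betf_eq h2, m2_mul_00, m2_mul_11, h10, h10', div_mul_div_comm]
  ring

/-- the ratio of the diagonal entries of the second matrix, as a homomorphism -/
noncomputable def bet (L : LocalSL t F1 F2) : L.par →* F2ˣ where
  toFun c := Units.mk0 (L.betf c) (betf_ne c.2)
  map_one' := by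
    apply Units.ext
    change L.betf 1 = 1
    rw [(Rep.one L).betf_eq (by simp)]
    simp
  map_mul' c d := Units.ext (betf_mul c.2 d.2)

theorem bet_coe (L : LocalSL t F1 F2) (c : L.par) : ((L.bet c : F2ˣ) : F2) = L.betf c := rfl

theorem Rep.bet_eq {L : LocalSL t F1 F2} {c : L.par} {A : M2 F1} {B : M2 F2} (h : L.Rep (c : G) A B) :
    ((L.bet c : F2ˣ) : F2) = B 0 0 / B 1 1 := by
  rw [bet_coe, h.betf_eq (h.mem_par.1 c.2)]

section hyp

variable [Finite F1] [Finite F2] {L : LocalSL t F1 F2} (H : L.Hyp)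
include H

/-- the torus part is multiplicative -/
theorem Hyp.tp_mul {b c : G} (hb : b ∈ L.bor) (hc : c ∈ L.bor) : L.tp (b * c) = L.tp b * L.tp c := by
  obtain ⟨h1, u, h2, h3⟩ := H.tp_spec hb
  obtain ⟨h4, v, h5, h6⟩ := H.tp_spec hc
  have h7 := H.uni_norm (L.T0.inv_mem h4) h2
  rw [inv_inv] at h7
  have e : b * c = (L.tp b * L.tp c) * (((L.tp c)⁻¹ * u * L.tp c) * v) := by
    calc b * c = (L.tp b * u) * (L.tp c * v) := by rw [← h3, ← h6]
      _ = _ := by group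
  rw [e]
  exact H.tp_eq (L.T0.mul_mem h1 h4) (L.uni.mul_mem h7 h5)

/-- the torus part as a homomorphism -/
noncomputable def Hyp.tpHom : L.bor →* L.T0 where
  toFun b := ⟨L.tp b, (H.tp_spec b.2).1⟩
  map_one' := Subtype.ext (by
    have h := H.tp_eq L.T0.one_mem L.uni.one_mem
    rw [mul_one] at h
    exact h)
  map_mul' b c := Subtype.ext (H.tp_mul b.2 c.2)

theorem Hyp.tpHom_T0 {τ : G} (hτ : τ ∈ L.T0) : H.tpHom ⟨τ, H.T0_le_bor hτ⟩ = ⟨τ, hτ⟩ := by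
  apply Subtype.ext
  have h := H.tp_eq hτ L.uni.one_mem
  rw [mul_one] at h
  exact h

/-- conjugation of the torus by an element normalising it -/
noncomputable def Hyp.conjHom (ρ : G) (hρ : ∀ τ ∈ L.T0, ρ * τ * ρ⁻¹ ∈ L.T0) : L.T0 →* L.par where
  toFun τ := ⟨ρ * τ * ρ⁻¹, L.bor_le_par (H.T0_le_bor (hρ τ τ.2))⟩
  map_one' := Subtype.ext (by simp)
  map_mul' a b := Subtype.ext (by simp)

omit [Finite F1] [Finite F2] H in
/-- the character `(χ ∘ bet) ^ k` of `Q` -/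
noncomputable def lamk (L : LocalSL t F1 F2) (χ : F2ˣ →* ℂˣ) (k : ℕ) : L.par →* ℂˣ := (powMonoidHom k).comp (χ.comp L.bet)

omit [Finite F1] [Finite F2] H in
theorem lamk_apply (L : LocalSL t F1 F2) (χ : F2ˣ →* ℂˣ) (k : ℕ) (c : L.par) : L.lamk χ k c = χ (L.bet c ^ k) := by
  change (χ (L.bet c)) ^ k = _
  rw [map_pow]

/-- the conjugate character of `B` -/
noncomputable def Hyp.lamk1 (χ : F2ˣ →* ℂˣ) (k : ℕ) (ρ : G) (hρ : ∀ τ ∈ L.T0, ρ * τ * ρ⁻¹ ∈ L.T0) : L.bor →* ℂˣ :=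
  (L.lamk χ k).comp ((H.conjHom ρ hρ).comp H.tpHom)

theorem Hyp.lamk1_eq (χ : F2ˣ →* ℂˣ) (k : ℕ) (ρ : G) (hρ : ∀ τ ∈ L.T0, ρ * τ * ρ⁻¹ ∈ L.T0) :
    ∀ τ ∈ L.T0, GamC.ez L.bor (H.lamk1 χ k ρ hρ) τ = GamC.ez L.par (L.lamk χ k) (ρ * τ * ρ⁻¹) := by
  intro τ hτ
  rw [GamC.ez_mem _ _ (H.T0_le_bor hτ), GamC.ez_mem _ _ (L.bor_le_par (H.T0_le_bor (hρ τ hτ)))]
  change ((L.lamk χ k (H.conjHom ρ hρ (H.tpHom ⟨τ, H.T0_le_bor hτ⟩)) : ℂˣ) : ℂ) = _
  rw [H.tpHom_T0 hτ]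
  rfl

omit [Finite F1] H in
/-- on elements of odd order both characters agree -/
theorem pow_two_om {K : Type*} [Group K] (φ : K →* F2ˣ) {x : K} (h : Odd (orderOf x)) :
    (φ x) ^ 2 = (φ x) ^ (2 + GamChar.om F2ˣ) := by
  have h1 : Odd (orderOf (φ x)) := Odd.of_dvd_nat h (orderOf_map_dvd φ x)
  rw [pow_add, GamChar.pow_om h1, mul_one]

omit [Finite F1] H in
theorem lam_odd [Finite G] (L : LocalSL t F1 F2) (χ : F2ˣ →* ℂˣ) :
    ∀ x : G, (∀ s ∈ Subgroup.zpowers x, s * s = 1 → s = 1) →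
      GamC.ez L.par (L.lamk χ 2) x = GamC.ez L.par (L.lamk χ (2 + GamChar.om F2ˣ)) x := by
  intro x hx
  have h1 := GamChar.odd_order hx
  by_cases h : x ∈ L.par
  · rw [GamC.ez_mem _ _ h, GamC.ez_mem _ _ h, lamk_apply, lamk_apply, pow_two_om]
    rwa [Subgroup.orderOf_mk]
  · rw [GamC.ez_notMem _ _ h, GamC.ez_notMem _ _ h]

theorem Hyp.lam_odd1 [Finite G] (χ : F2ˣ →* ℂˣ) (ρ : G) (hρ : ∀ τ ∈ L.T0, ρ * τ * ρ⁻¹ ∈ L.T0) :
    ∀ x : G, (∀ s ∈ Subgroup.zpowers x, s * s = 1 → s = 1) →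
      GamC.ez L.bor (H.lamk1 χ 2 ρ hρ) x = GamC.ez L.bor (H.lamk1 χ (2 + GamChar.om F2ˣ) ρ hρ) x := by
  intro x hx
  have h1 := GamChar.odd_order hx
  by_cases h : x ∈ L.bor
  · rw [GamC.ez_mem _ _ h, GamC.ez_mem _ _ h]
    change ((L.lamk χ 2 (H.conjHom ρ hρ (H.tpHom ⟨x, h⟩)) : ℂˣ) : ℂ) =
      ((L.lamk χ (2 + GamChar.om F2ˣ) (H.conjHom ρ hρ (H.tpHom ⟨x, h⟩)) : ℂˣ) : ℂ)
    have h2 := pow_two_om (L.bet.comp ((H.conjHom ρ hρ).comp H.tpHom)) (x := (⟨x, h⟩ : L.bor)) (by rwa [Subgroup.orderOf_mk])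
    change (L.bet (H.conjHom ρ hρ (H.tpHom ⟨x, h⟩))) ^ 2 = (L.bet (H.conjHom ρ hρ (H.tpHom ⟨x, h⟩))) ^ (2 + GamChar.om F2ˣ) at h2
    rw [lamk_apply, lamk_apply, h2]
  · rw [GamC.ez_notMem _ _ h, GamC.ez_notMem _ _ h]

end hyp

section frame

variable [Finite F1] [Finite F2] {L : LocalSL t F1 F2} {s : G} {n1 : SL2 F1} {n2 : SL2 F2}
  (F : L.Frame s (dg F1) (dg F2) n1 n2)
include F

omit F [Finite F1] [Finite F2] in
theorem lam_t (L : LocalSL t F1 F2) (χ : F2ˣ →* ℂˣ) (k : ℕ) (ht : t ∈ L.par) : GamC.ez L.par (L.lamk χ k) t = 1 := by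
  rw [GamC.ez_mem _ _ ht, lamk_apply]
  have h : L.bet ⟨t, ht⟩ = 1 := by
    apply Units.ext
    rw [Rep.bet_eq (c := ⟨t, ht⟩) (Rep.rep_t L)]
    simp
  rw [h, one_pow, map_one]
  rfl

omit [Finite F1] [Finite F2] in
theorem Frame.bet_s (hs : s ∈ L.par) : L.bet ⟨s, hs⟩ = -1 := by
  apply Units.ext
  rw [Rep.bet_eq (c := ⟨s, hs⟩) F.rep]
  simp [dg]

theorem Frame.lam_s (χ : F2ˣ →* ℂˣ) : GamC.ez L.par (L.lamk χ 2) s = 1 := by
  have hs : s ∈ L.par := L.bor_le_par (F.hyp.T0_le_bor F.s_mem)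
  rw [GamC.ez_mem _ _ hs, lamk_apply, F.bet_s hs]
  simp

theorem Frame.mu_s (χ : F2ˣ →* ℂˣ) (hχ : Function.Injective χ) :
    GamC.ez L.par (L.lamk χ (2 + GamChar.om F2ˣ)) s = -1 := by
  have hs : s ∈ L.par := L.bor_le_par (F.hyp.T0_le_bor F.s_mem)
  rw [GamC.ez_mem _ _ hs, lamk_apply, F.bet_s hs, pow_add, GamChar.om_odd.neg_one_pow]
  have h1 : χ (-1) ≠ 1 := by
    intro h
    have h2 : (-1 : F2ˣ) = 1 := hχ (h.trans (map_one χ).symm)
    have h3 : (-1 : F2) = 1 := by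
      have := congrArg (fun z : F2ˣ => (z : F2)) h2
      simpa using this
    apply F.two2
    linear_combination -h3
  have h2 : χ (-1) * χ (-1) = 1 := by rw [← map_mul]; simp
  have h3 : ((χ (-1) : ℂˣ) : ℂ) * ((χ (-1) : ℂˣ) : ℂ) = 1 := by
    rw [← Units.val_mul, h2, Units.val_one]
  have h4 : ((χ (-1) : ℂˣ) : ℂ) ≠ 1 := fun h => h1 (Units.ext h)
  have h5 : ((-1 : F2ˣ) ^ 2 * -1) = -1 := by simp
  rw [h5]
  exact (mul_self_eq_one_iff.1 h3).resolve_left h4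

/-- equality of the characters at conjugate torus elements gives equality of the ratios -/
theorem Frame.ratio (χ : F2ˣ →* ℂˣ) (hχ : Function.Injective χ) (k : ℕ) {τ τ' : G} (hτ : τ ∈ L.T0) (hτ' : τ' ∈ L.T0)
    (h : GamC.ez L.par (L.lamk χ k) τ' = GamC.ez L.par (L.lamk χ k) τ) {A A' : M2 F1} {B B' : M2 F2}
    (hr : L.Rep τ A B) (hr' : L.Rep τ' A' B') : (B' 0 0 / B' 1 1) ^ k = (B 0 0 / B 1 1) ^ k := by
  have h1 : τ ∈ L.par := L.bor_le_par (F.hyp.T0_le_bor hτ)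
  have h2 : τ' ∈ L.par := L.bor_le_par (F.hyp.T0_le_bor hτ')
  rw [GamC.ez_mem _ _ h1, GamC.ez_mem _ _ h2, lamk_apply, lamk_apply] at h
  have h3 := hχ (Units.ext h)
  have h4 := congrArg (fun z : F2ˣ => (z : F2)) h3
  simp only [Units.val_pow_eq_pow_val] at h4
  rw [Rep.bet_eq (c := ⟨τ, h1⟩) hr, Rep.bet_eq (c := ⟨τ', h2⟩) hr'] at h4
  exact h4

end frame

end LocalSL

end Cfsg.Agent.GTwoOdd
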