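import Cfsg.Agent.GTwoOdd.GamSemi

/-!
# The split torus and the ratios of its elements

`L.al c`, `L.be c`: for `c` in the split torus `L.T0`, the element `c` acts on `L1` and `L2` as
conjugation by `diag(al c, 1)` and `diag(be c, 1)`.
-/

set_option autoImplicit false

namespace Cfsg.Agent.GTwoOdd

open Matrix

section matrices

variable {F : Type*} [Field F]

/-- `diag(a, 1)` -/
def dm (a : F) : M2 F := !![a, 0; 0, 1]

@[simp] theorem dm_00 (a : F) : dm a 0 0 = a := rfl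
@[simp] theorem dm_01 (a : F) : dm a 0 1 = 0 := rfl
@[simp] theorem dm_10 (a : F) : dm a 1 0 = 0 := rfl
@[simp] theorem dm_11 (a : F) : dm a 1 1 = 1 := rfl

theorem dm_det (a : F) : (dm a).det = a := by rw [Matrix.det_fin_two]; simp

theorem dm_one : dm (1 : F) = 1 := by rw [m2_eq_iff]; simp

theorem dm_mul (a b : F) : dm a * dm b = dm (a * b) := by
  rw [m2_eq_iff]
  simp only [m2_mul_00, m2_mul_01, m2_mul_10, m2_mul_11]
  simp

theorem dm_comm (a b : F) : dm a * dm b = dm b * dm a := by rw [dm_mul, dm_mul, mul_comm]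

theorem dm_dg (a : F) : dm a * dg F = dg F * dm a := dg_comm_of rfl rfl

theorem dg_eq (F : Type*) [Field F] : dg F = (-1 : F) • dm (-1 : F) := by
  rw [m2_eq_iff]; simp [dg]

theorem dm_map (σ : F ≃+* F) (a : F) : (dm a).map σ = dm (σ a) := by
  rw [m2_eq_iff]; simp

theorem diag_eq {A : M2 F} (h01 : A 0 1 = 0) (h10 : A 1 0 = 0) (h : A 1 1 ≠ 0) : A = A 1 1 • dm (A 0 0 / A 1 1) := by
  rw [m2_eq_iff]
  simp [h01, h10]
  field_simp

theorem diag_ne {A : M2 F} (h01 : A 0 1 = 0) (h : A.det ≠ 0) : A 0 0 ≠ 0 ∧ A 1 1 ≠ 0 := by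
  rw [Matrix.det_fin_two, h01, zero_mul, sub_zero] at h
  exact ⟨left_ne_zero_of_mul h, right_ne_zero_of_mul h⟩

/-- conjugation of a diagonal matrix by a diagonal matrix -/
theorem diag_conj_dm {A : M2 F} (h01 : A 0 1 = 0) (h10 : A 1 0 = 0) (a : F) : A * dm a * A.adjugate = A.det • dm a := by
  rw [Matrix.adjugate_fin_two, m2_eq_iff]
  simp only [m2_mul_00, m2_mul_01, m2_mul_10, m2_mul_11]
  simp [h01, h10, Matrix.det_fin_two]
  ring_nf
  trivial

end matrices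

namespace LocalSL

variable {G : Type*} [Group G] {t : G} {F1 F2 : Type*} [Field F1] [Field F2] {L : LocalSL t F1 F2}

theorem Rep.ratio1 {c : G} {A : M2 F1} {B : M2 F2} (h : L.Rep c A B) {a : F1} {b : F2} (k : L.Rep c (dm a) (dm b)) :
    A 0 0 / A 1 1 = a := by
  obtain ⟨⟨u, hu, rfl⟩, -⟩ := k.prop h
  simp only [Matrix.smul_apply, dm_00, dm_11, smul_eq_mul, mul_one]
  field_simp

theorem Rep.ratio2 {c : G} {A : M2 F1} {B : M2 F2} (h : L.Rep c A B) {a : F1} {b : F2} (k : L.Rep c (dm a) (dm b)) :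
    B 0 0 / B 1 1 = b := by
  obtain ⟨-, ⟨u, hu, rfl⟩⟩ := k.prop h
  simp only [Matrix.smul_apply, dm_00, dm_11, smul_eq_mul, mul_one]
  field_simp

theorem Rep.dm_eq {c : G} {a a' : F1} {b b' : F2} (h : L.Rep c (dm a) (dm b)) (k : L.Rep c (dm a') (dm b')) :
    a = a' ∧ b = b' := by
  have h1 := h.ratio1 k
  have h2 := h.ratio2 k
  simp only [dm_00, dm_11, div_one] at h1 h2
  exact ⟨h1, h2⟩

theorem Rep.ne1 {c : G} {a : F1} {b : F2} (h : L.Rep c (dm a) (dm b)) : a ≠ 0 := by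
  have := h.det1
  rwa [dm_det] at this

theorem Rep.ne2 {c : G} {a : F1} {b : F2} (h : L.Rep c (dm a) (dm b)) : b ≠ 0 := by
  have := h.det2
  rwa [dm_det] at this

section hyp

variable [Finite F1] [Finite F2] (H : L.Hyp)
include H

theorem Hyp.T0_dm {c : G} (h : c ∈ L.T0) : ∃ a b, L.Rep c (dm a) (dm b) := by
  obtain ⟨A, B, hr, h1, h2⟩ := h
  obtain ⟨a1, a2⟩ := comm_dg H.two_ne1 h1
  obtain ⟨b1, b2⟩ := comm_dg H.two_ne2 h2
  have hA := (diag_ne a1 hr.det1).2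
  have hB := (diag_ne b1 hr.det2).2
  refine ⟨A 0 0 / A 1 1, B 0 0 / B 1 1, ?_⟩
  have := hr.smul (inv_ne_zero hA) (inv_ne_zero hB)
  have e1 : (A 1 1)⁻¹ • A = dm (A 0 0 / A 1 1) := by
    have := congrArg (fun Z => (A 1 1)⁻¹ • Z) (diag_eq a1 a2 hA)
    rwa [smul_smul, inv_mul_cancel₀ hA, one_smul] at this
  have e2 : (B 1 1)⁻¹ • B = dm (B 0 0 / B 1 1) := by
    have := congrArg (fun Z => (B 1 1)⁻¹ • Z) (diag_eq b1 b2 hB)
    rwa [smul_smul, inv_mul_cancel₀ hB, one_smul] at this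
  rw [e1, e2] at this
  exact this

omit [Finite F1] [Finite F2] H in
theorem mem_T0 {c : G} {a : F1} {b : F2} (h : L.Rep c (dm a) (dm b)) : c ∈ L.T0 := ⟨_, _, h, dm_dg a, dm_dg b⟩

end hyp

open Classical in
/-- the ratio on the first side -/
noncomputable def al (L : LocalSL t F1 F2) (c : G) : F1 :=
  if h : ∃ a b, L.Rep c (dm a) (dm b) then h.choose else 1

open Classical in
/-- the ratio on the second side -/
noncomputable def be (L : LocalSL t F1 F2) (c : G) : F2 :=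
  if h : ∃ a b, L.Rep c (dm a) (dm b) then h.choose_spec.choose else 1

theorem Rep.al_eq {c : G} {a : F1} {b : F2} (h : L.Rep c (dm a) (dm b)) : L.al c = a := by
  have hex : ∃ a b, L.Rep c (dm a) (dm b) := ⟨a, b, h⟩
  rw [al, dif_pos hex]
  exact (Rep.dm_eq hex.choose_spec.choose_spec h).1

theorem Rep.be_eq {c : G} {a : F1} {b : F2} (h : L.Rep c (dm a) (dm b)) : L.be c = b := by
  have hex : ∃ a b, L.Rep c (dm a) (dm b) := ⟨a, b, h⟩
  rw [be, dif_pos hex]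
  exact (Rep.dm_eq hex.choose_spec.choose_spec h).2

section hyp

variable [Finite F1] [Finite F2] (H : L.Hyp)
include H

theorem Hyp.rep_T0 {c : G} (h : c ∈ L.T0) : L.Rep c (dm (L.al c)) (dm (L.be c)) := by
  obtain ⟨a, b, hr⟩ := H.T0_dm h
  rw [hr.al_eq, hr.be_eq]
  exact hr

theorem Hyp.al_ne {c : G} (h : c ∈ L.T0) : L.al c ≠ 0 := (H.rep_T0 h).ne1

theorem Hyp.be_ne {c : G} (h : c ∈ L.T0) : L.be c ≠ 0 := (H.rep_T0 h).ne2

theorem Hyp.al_ratio {c : G} (h : c ∈ L.T0) {A : M2 F1} {B : M2 F2} (hr : L.Rep c A B) : A 0 0 / A 1 1 = L.al c :=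
  hr.ratio1 (H.rep_T0 h)

theorem Hyp.be_ratio {c : G} (h : c ∈ L.T0) {A : M2 F1} {B : M2 F2} (hr : L.Rep c A B) : B 0 0 / B 1 1 = L.be c :=
  hr.ratio2 (H.rep_T0 h)

theorem Hyp.al_mul {c d : G} (h : c ∈ L.T0) (h' : d ∈ L.T0) : L.al (c * d) = L.al c * L.al d := by
  have := (H.rep_T0 h).mul (H.rep_T0 h')
  rw [dm_mul, dm_mul] at this
  exact this.al_eq

theorem Hyp.be_mul {c d : G} (h : c ∈ L.T0) (h' : d ∈ L.T0) : L.be (c * d) = L.be c * L.be d := by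
  have := (H.rep_T0 h).mul (H.rep_T0 h')
  rw [dm_mul, dm_mul] at this
  exact this.be_eq

omit [Finite F1] [Finite F2] H in
theorem al_one (L : LocalSL t F1 F2) : L.al 1 = 1 := by
  have := Rep.one L
  rw [← dm_one, ← dm_one] at this
  exact this.al_eq

omit [Finite F1] [Finite F2] H in
theorem be_one (L : LocalSL t F1 F2) : L.be 1 = 1 := by
  have := Rep.one L
  rw [← dm_one, ← dm_one] at this
  exact this.be_eq

omit [Finite F1] [Finite F2] H in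
theorem al_t (L : LocalSL t F1 F2) : L.al t = 1 := by
  have := Rep.rep_t L
  rw [← dm_one, ← dm_one] at this
  exact this.al_eq

omit [Finite F1] [Finite F2] H in
theorem be_t (L : LocalSL t F1 F2) : L.be t = 1 := by
  have := Rep.rep_t L
  rw [← dm_one, ← dm_one] at this
  exact this.be_eq

/-- the first ratio as a homomorphism -/
noncomputable def Hyp.alh : L.T0 →* F1ˣ where
  toFun c := Units.mk0 (L.al (c : G)) (H.al_ne c.2)
  map_one' := Units.ext (by simp [al_one])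
  map_mul' c d := Units.ext (by
    simp only [Subgroup.coe_mul, Units.val_mk0, Units.val_mul]
    exact H.al_mul c.2 d.2)

/-- the second ratio as a homomorphism -/
noncomputable def Hyp.beh : L.T0 →* F2ˣ where
  toFun c := Units.mk0 (L.be (c : G)) (H.be_ne c.2)
  map_one' := Units.ext (by simp [be_one])
  map_mul' c d := Units.ext (by
    simp only [Subgroup.coe_mul, Units.val_mk0, Units.val_mul]
    exact H.be_mul c.2 d.2)

theorem Hyp.alh_coe (c : L.T0) : (H.alh c : F1) = L.al (c : G) := rfl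

theorem Hyp.beh_coe (c : L.T0) : (H.beh c : F2) = L.be (c : G) := rfl

theorem Hyp.al_inv {c : G} (h : c ∈ L.T0) : L.al c⁻¹ = (L.al c)⁻¹ := by
  have := H.al_mul h (inv_mem h)
  rw [mul_inv_cancel, al_one] at this
  exact eq_inv_of_mul_eq_one_right this.symm

theorem Hyp.be_inv {c : G} (h : c ∈ L.T0) : L.be c⁻¹ = (L.be c)⁻¹ := by
  have := H.be_mul h (inv_mem h)
  rw [mul_inv_cancel, be_one] at this
  exact eq_inv_of_mul_eq_one_right this.symm

theorem Hyp.mem_tor1_be {c : G} (h : c ∈ L.T0) : c ∈ L.tor1 (dg F1) ↔ L.be c = 1 := by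
  have hr := H.rep_T0 h
  rw [H.mem_tor1_iff' hr ⟨rfl, rfl⟩ (dm_dg _) hr.ne2]
  rfl

theorem Hyp.mem_tor2_al {c : G} (h : c ∈ L.T0) : c ∈ L.tor2 (dg F2) ↔ L.al c = 1 := by
  have hr := H.rep_T0 h
  rw [H.mem_tor2_iff' hr ⟨rfl, rfl⟩ (dm_dg _) hr.ne1]
  rfl

end hyp

section frame

variable [Finite F1] [Finite F2] {s : G} {n1 : SL2 F1} {n2 : SL2 F2} (F : L.Frame s (dg F1) (dg F2) n1 n2)
include F

omit [Finite F1] [Finite F2] in
theorem Frame.rep_s : L.Rep s (dm (-1)) (dm (-1)) := by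
  have := F.rep.smul (a := (-1 : F1)) (b := (-1 : F2)) (by simp) (by simp)
  rw [dg_eq, dg_eq, smul_smul, smul_smul] at this
  simpa using this

theorem Frame.al_s : L.al s = -1 := F.rep_s.al_eq

theorem Frame.be_s : L.be s = -1 := F.rep_s.be_eq

theorem Frame.be_surj {b : F2} (hb : b ≠ 0) : ∃ c ∈ L.T0, L.be c = b := by
  obtain ⟨A, c, hc, hA⟩ := F.exists_tor2 (B := dm b) (dm_dg b) (by rwa [dm_det])
  refine ⟨c, ⟨A, _, hc, hA, dm_dg b⟩, ?_⟩
  rw [← F.hyp.be_ratio ⟨A, _, hc, hA, dm_dg b⟩ hc]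
  simp

theorem Frame.al_surj {a : F1} (ha : a ≠ 0) : ∃ c ∈ L.T0, L.al c = a := by
  obtain ⟨B, c, hc, hB⟩ := F.exists_tor1 (A := dm a) (dm_dg a) (by rwa [dm_det])
  refine ⟨c, ⟨_, B, hc, dm_dg a, hB⟩, ?_⟩
  rw [← F.hyp.al_ratio ⟨_, B, hc, dm_dg a, hB⟩ hc]
  simp

theorem Frame.n1_T0 {c : G} (hc : c ∈ L.T0) : L.e1 n1 * c * (L.e1 n1)⁻¹ ∈ L.T0 :=
  (F.fix_tor (e1_t n1) F.n1_s).1 hc

theorem Frame.n2_T0 {c : G} (hc : c ∈ L.T0) : L.e2 n2 * c * (L.e2 n2)⁻¹ ∈ L.T0 :=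
  (F.fix_tor (e2_t n2) F.n2_s).1 hc

/-- conjugation by `n1` -/
theorem Frame.be_n1 {c : G} (hc : c ∈ L.T0) : L.be (L.e1 n1 * c * (L.e1 n1)⁻¹) = L.be c := by
  have hr := ((Rep.e1 L n1).mul (F.hyp.rep_T0 hc)).mul (Rep.e1 L n1).inv
  rw [← F.hyp.be_ratio (F.n1_T0 hc) hr]
  simp

/-- conjugation by `n2` -/
theorem Frame.al_n2 {c : G} (hc : c ∈ L.T0) : L.al (L.e2 n2 * c * (L.e2 n2)⁻¹) = L.al c := by
  have hr := ((Rep.e2 L n2).mul (F.hyp.rep_T0 hc)).mul (Rep.e2 L n2).inv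
  rw [← F.hyp.al_ratio (F.n2_T0 hc) hr]
  simp

omit F in
theorem anti_conj {F : Type*} [Field F] {n : SL2 F} (h0 : (n : M2 F) 0 0 = 0) (h1 : (n : M2 F) 1 1 = 0) {b : F} (hb : b ≠ 0) :
    ((n : M2 F) * dm b * (n : M2 F).adjugate) 0 0 / ((n : M2 F) * dm b * (n : M2 F).adjugate) 1 1 = b⁻¹ := by
  have hd := sl_coe_det n
  rw [Matrix.det_fin_two, h0, zero_mul, zero_sub] at hd
  have h01 : (n : M2 F) 0 1 ≠ 0 := by
    intro h
    rw [h] at hd
    simp at hd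
  have h10 : (n : M2 F) 1 0 ≠ 0 := by
    intro h
    rw [h] at hd
    simp at hd
  rw [Matrix.adjugate_fin_two]
  simp only [m2_mul_00, m2_mul_01, m2_mul_10, m2_mul_11]
  simp [h0, h1]
  field_simp

theorem Frame.be_n2 {c : G} (hc : c ∈ L.T0) : L.be (L.e2 n2 * c * (L.e2 n2)⁻¹) = (L.be c)⁻¹ := by
  have hr := ((Rep.e2 L n2).mul (F.hyp.rep_T0 hc)).mul (Rep.e2 L n2).inv
  obtain ⟨h0, h1⟩ := anti_dg F.two2 F.anti2
  rw [← F.hyp.be_ratio (F.n2_T0 hc) hr]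
  exact anti_conj h0 h1 (F.hyp.be_ne hc)

theorem Frame.al_n1 {c : G} (hc : c ∈ L.T0) : L.al (L.e1 n1 * c * (L.e1 n1)⁻¹) = (L.al c)⁻¹ := by
  have hr := ((Rep.e1 L n1).mul (F.hyp.rep_T0 hc)).mul (Rep.e1 L n1).inv
  obtain ⟨h0, h1⟩ := anti_dg F.two1 F.anti1
  rw [← F.hyp.al_ratio (F.n1_T0 hc) hr]
  exact anti_conj h0 h1 (F.hyp.al_ne hc)

end frame

end LocalSL

end Cfsg.Agent.GTwoOdd
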