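import Cfsg.Agent.GTwoOdd.GamC

/-!
# Sums over the elements with an involution different from `t` among their powers
-/

set_option autoImplicit false

open Cfsg
open scoped ComplexConjugate

namespace Cfsg.Agent.GTwoOdd.GamC

open Cfsg.Agent.GTwoOdd.GamSum

universe u
variable {H : Type u} [Group H]

namespace CData

variable (D : CData H)

theorem E_conj {x : H} (g : H) : D.E (g * x * g⁻¹) ↔ D.E x := by
  constructor
  · rintro ⟨s, hs, h1, h2, h3⟩
    rw [zpowers_conj_mem'] at hs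
    refine ⟨_, hs, ?_, ?_, ?_⟩
    · calc g⁻¹ * s * g * (g⁻¹ * s * g) = g⁻¹ * (s * s) * g := by group
        _ = 1 := by rw [h1]; group
    · intro h
      apply h2
      calc s = g * (g⁻¹ * s * g) * g⁻¹ := by group
        _ = 1 := by rw [h]; group
    · intro h
      apply h3
      calc s = g * (g⁻¹ * s * g) * g⁻¹ := by group
        _ = D.t := by rw [h, D.tc]; group
  · rintro ⟨s, hs, h1, h2, h3⟩
    refine ⟨g * s * g⁻¹, ?_, ?_, ?_, ?_⟩
    · rw [zpowers_conj_mem']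
      have : g⁻¹ * (g * s * g⁻¹) * g = s := by group
      rwa [this]
    · calc g * s * g⁻¹ * (g * s * g⁻¹) = g * (s * s) * g⁻¹ := by group
        _ = 1 := by rw [h1]; group
    · intro h
      apply h2
      calc s = g⁻¹ * (g * s * g⁻¹) * g := by group
        _ = 1 := by rw [h]; group
    · intro h
      apply h3
      calc s = g⁻¹ * (g * s * g⁻¹) * g := by group
        _ = g⁻¹ * (D.t * g) := by rw [h]; group
        _ = D.t := by rw [← D.tc]; group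

theorem conj_ne_t {g s : H} (h : s ≠ D.t) : g * s * g⁻¹ ≠ D.t := by
  intro h'
  apply h
  calc s = g⁻¹ * (g * s * g⁻¹) * g := by group
    _ = g⁻¹ * (D.t * g) := by rw [h']; group
    _ = D.t := by rw [← D.tc]; group

omit D in
theorem conj_invol {g s : H} (h : s * s = 1) : g * s * g⁻¹ * (g * s * g⁻¹) = 1 := by
  calc g * s * g⁻¹ * (g * s * g⁻¹) = g * (s * s) * g⁻¹ := by group
    _ = 1 := by rw [h]; group

omit D in
theorem conj_ne_one {g s : H} (h : s ≠ 1) : g * s * g⁻¹ ≠ 1 := by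
  intro h'
  apply h
  calc s = g⁻¹ * (g * s * g⁻¹) * g := by group
    _ = 1 := by rw [h']; group

omit D in
theorem zp_le {x s : H} {Q : Subgroup H} (hx : x ∈ Q) (hs : s ∈ Subgroup.zpowers x) : s ∈ Q := by
  have : Subgroup.zpowers x ≤ Q := by rwa [Subgroup.zpowers_le]
  exact this hs

theorem E_iff_Q {x : H} (hx : x ∈ D.Q) : D.E x ↔ ∃ q ∈ D.Q, q * D.t2 * q⁻¹ ∈ Subgroup.zpowers x := by
  constructor
  · rintro ⟨s, hs, h1, h2, h3⟩
    obtain ⟨q, hq, rfl⟩ := D.Qinv s (zp_le hx hs) h1 h2 h3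
    exact ⟨q, hq, hs⟩
  · rintro ⟨q, hq, h⟩
    exact ⟨_, h, conj_invol D.t2t2, conj_ne_one D.t2_ne, D.conj_ne_t D.t2_ne_t⟩

theorem E_iff_B {x : H} (hx : x ∈ D.B) : D.E x ↔ (∃ q ∈ D.B, q * D.t2 * q⁻¹ ∈ Subgroup.zpowers x) ∨
    ∃ q ∈ D.B, q * D.t3 * q⁻¹ ∈ Subgroup.zpowers x := by
  constructor
  · rintro ⟨s, hs, h1, h2, h3⟩
    rcases D.Binv s (zp_le hx hs) h1 h2 h3 with ⟨q, hq, rfl⟩ | ⟨q, hq, rfl⟩
    · exact Or.inl ⟨q, hq, hs⟩
    · exact Or.inr ⟨q, hq, hs⟩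
  · rintro (⟨q, hq, h⟩ | ⟨q, hq, h⟩)
    · exact ⟨_, h, conj_invol D.t2t2, conj_ne_one D.t2_ne, D.conj_ne_t D.t2_ne_t⟩
    · exact ⟨_, h, conj_invol D.t3t3, conj_ne_one D.t3_ne, D.conj_ne_t D.t3_ne_t⟩

theorem not_both {x : H} (h : ∃ q ∈ D.B, q * D.t2 * q⁻¹ ∈ Subgroup.zpowers x)
    (h' : ∃ q ∈ D.B, q * D.t3 * q⁻¹ ∈ Subgroup.zpowers x) : False := by
  obtain ⟨q, hq, h⟩ := h
  obtain ⟨r, hr, h'⟩ := h'
  have h1 := inv_unique h h' (conj_invol D.t2t2) (conj_invol D.t3t3) (conj_ne_one D.t2_ne)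
    (conj_ne_one D.t3_ne)
  apply D.Bne (r⁻¹ * q) (D.B.mul_mem (D.B.inv_mem hr) hq)
  calc r⁻¹ * q * D.t2 * (r⁻¹ * q)⁻¹ = r⁻¹ * (q * D.t2 * q⁻¹) * r := by group
    _ = D.t3 := by rw [h1]; group

variable [Fintype H]

open scoped Classical in
theorem sum_E_Q (ξ : D.Q →* ℂˣ) (ψ : H → ℂ) (hψ : ∀ g x, ψ (g * x * g⁻¹) = ψ x) :
    ∑ x : H, (if D.E x then X D.Q ξ x * ψ x else 0) = (Nat.card H : ℂ) / (Nat.card D.T : ℂ) *
      ∑ x : H, (if D.t2 ∈ Subgroup.zpowers x then ez D.Q ξ x * ψ x else 0) := by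
  have hQ : (Nat.card D.Q : ℂ) ≠ 0 := by exact_mod_cast Nat.card_pos.ne'
  have h1 := sum_indFun_mul D.Q (fun x => (ξ x : ℂ)) (fun x => if D.E x then ψ x else 0) (by
    intro g x
    simp only [E_conj, hψ])
  have h2 := sum_conj D.Q D.T D.TQ D.t2 D.t2t2 D.t2_ne D.Qcent_iff (fun x => ez D.Q ξ x * ψ x) (by
    intro q hq x
    simp only [hψ, ez_conj D.Q ξ hq])
  have e1 : ∑ x : H, (if D.E x then X D.Q ξ x * ψ x else 0) =
      ∑ x : H, indFun D.Q (fun x => (ξ x : ℂ)) x * (if D.E x then ψ x else 0) := by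
    refine Finset.sum_congr rfl fun x _ => ?_
    split_ifs
    · rfl
    · rw [mul_zero]
  have e2 : ∑ x : H, extendByZero D.Q (fun x => (ξ x : ℂ)) x * (if D.E x then ψ x else 0) =
      ∑ x : H, (if ∃ q ∈ D.Q, q * D.t2 * q⁻¹ ∈ Subgroup.zpowers x then ez D.Q ξ x * ψ x else 0) := by
    refine Finset.sum_congr rfl fun x _ => ?_
    by_cases hx : x ∈ D.Q
    · simp only [D.E_iff_Q hx]
      split_ifs
      · rfl
      · rw [mul_zero]
    · have : extendByZero D.Q (fun x => (ξ x : ℂ)) x = 0 := ez_notMem D.Q ξ hx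
      rw [this, zero_mul]
      split_ifs
      · rw [ez_notMem D.Q ξ hx, zero_mul]
      · rfl
  rw [e1, h1, e2, h2]
  field_simp

open scoped Classical in
theorem sum_E_B (ξ : D.B →* ℂˣ) (ψ : H → ℂ) (hψ : ∀ g x, ψ (g * x * g⁻¹) = ψ x) :
    ∑ x : H, (if D.E x then X D.B ξ x * ψ x else 0) = (Nat.card H : ℂ) / (Nat.card D.T : ℂ) *
      (∑ x : H, (if D.t2 ∈ Subgroup.zpowers x then ez D.B ξ x * ψ x else 0) +
        ∑ x : H, (if D.t3 ∈ Subgroup.zpowers x then ez D.B ξ x * ψ x else 0)) := by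
  have hB : (Nat.card D.B : ℂ) ≠ 0 := by exact_mod_cast Nat.card_pos.ne'
  have h1 := sum_indFun_mul D.B (fun x => (ξ x : ℂ)) (fun x => if D.E x then ψ x else 0) (by
    intro g x
    simp only [E_conj, hψ])
  have h2 := sum_conj D.B D.T D.TB D.t2 D.t2t2 D.t2_ne D.Bcent_iff (fun x => ez D.B ξ x * ψ x) (by
    intro q hq x
    simp only [hψ, ez_conj D.B ξ hq])
  have h3 := sum_conj D.B D.T D.TB D.t3 D.t3t3 D.t3_ne D.Bcent_iff3 (fun x => ez D.B ξ x * ψ x) (by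
    intro q hq x
    simp only [hψ, ez_conj D.B ξ hq])
  have e1 : ∑ x : H, (if D.E x then X D.B ξ x * ψ x else 0) =
      ∑ x : H, indFun D.B (fun x => (ξ x : ℂ)) x * (if D.E x then ψ x else 0) := by
    refine Finset.sum_congr rfl fun x _ => ?_
    split_ifs
    · rfl
    · rw [mul_zero]
  have e2 : ∑ x : H, extendByZero D.B (fun x => (ξ x : ℂ)) x * (if D.E x then ψ x else 0) =
      ∑ x : H, (if ∃ q ∈ D.B, q * D.t2 * q⁻¹ ∈ Subgroup.zpowers x then ez D.B ξ x * ψ x else 0) +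
      ∑ x : H, (if ∃ q ∈ D.B, q * D.t3 * q⁻¹ ∈ Subgroup.zpowers x then ez D.B ξ x * ψ x else 0) := by
    rw [← Finset.sum_add_distrib]
    refine Finset.sum_congr rfl fun x _ => ?_
    by_cases hx : x ∈ D.B
    · simp only [D.E_iff_B hx]
      by_cases c1 : ∃ q ∈ D.B, q * D.t2 * q⁻¹ ∈ Subgroup.zpowers x
      · have c2 : ¬ ∃ q ∈ D.B, q * D.t3 * q⁻¹ ∈ Subgroup.zpowers x := fun h => D.not_both c1 h
        rw [if_pos (Or.inl c1), if_pos c1, if_neg c2, add_zero]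
        rfl
      · by_cases c2 : ∃ q ∈ D.B, q * D.t3 * q⁻¹ ∈ Subgroup.zpowers x
        · rw [if_pos (Or.inr c2), if_neg c1, if_pos c2, zero_add]
          rfl
        · rw [if_neg (not_or.2 ⟨c1, c2⟩), if_neg c1, if_neg c2, mul_zero, add_zero]
    · have : extendByZero D.B (fun x => (ξ x : ℂ)) x = 0 := ez_notMem D.B ξ hx
      rw [this, zero_mul, ez_notMem D.B ξ hx, zero_mul]
      simp
  rw [e1, h1, e2, h2, h3]
  field_simp

/-- `ζ = λ - μ` -/
noncomputable def z (x : H) : ℂ := ez D.Q D.lam x - ez D.Q D.mu x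

/-- `ζ₁ = λ₁ - μ₁` -/
noncomputable def z1 (x : H) : ℂ := ez D.B D.lam1 x - ez D.B D.mu1 x

open scoped Classical in
/-- the `E` part of a scalar product with `F` -/
theorem sum_E (ψ : H → ℂ) (hψ : ∀ g x, ψ (g * x * g⁻¹) = ψ x) :
    ∑ x : H, (if D.E x then D.F x * ψ x else 0) = (Nat.card H : ℂ) / (Nat.card D.T : ℂ) *
      (∑ x : H, (if D.t2 ∈ Subgroup.zpowers x then D.z x * ψ x else 0) +
        (∑ x : H, (if D.t2 ∈ Subgroup.zpowers x then D.z1 x * ψ x else 0) +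
        ∑ x : H, (if D.t3 ∈ Subgroup.zpowers x then D.z1 x * ψ x else 0))) := by
  have a1 := D.sum_E_Q D.lam ψ hψ
  have a2 := D.sum_E_Q D.mu ψ hψ
  have a3 := D.sum_E_B D.lam1 ψ hψ
  have a4 := D.sum_E_B D.mu1 ψ hψ
  have e1 : ∑ x : H, (if D.E x then D.F x * ψ x else 0) =
      ∑ x : H, (if D.E x then X D.Q D.lam x * ψ x else 0) - ∑ x : H, (if D.E x then X D.Q D.mu x * ψ x else 0) +
      (∑ x : H, (if D.E x then X D.B D.lam1 x * ψ x else 0) - ∑ x : H, (if D.E x then X D.B D.mu1 x * ψ x else 0)) := by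
    rw [← Finset.sum_sub_distrib, ← Finset.sum_sub_distrib, ← Finset.sum_add_distrib]
    refine Finset.sum_congr rfl fun x _ => ?_
    split_ifs
    · simp only [F, Pi.add_apply, Pi.sub_apply]; ring
    · ring
  have e2 : ∀ (P : H → Prop) (u v : H → ℂ), ∑ x : H, (if P x then (u x - v x) * ψ x else 0) =
      ∑ x : H, (if P x then u x * ψ x else 0) - ∑ x : H, (if P x then v x * ψ x else 0) := by
    intro P u v
    rw [← Finset.sum_sub_distrib]
    refine Finset.sum_congr rfl fun x _ => ?_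
    split_ifs <;> ring
  rw [e1, a1, a2, a3, a4]
  simp only [z, z1]
  rw [e2, e2, e2]
  ring

open scoped Classical in
/-- value of an induced character at an element with the involution `s` among its powers -/
theorem X_apply (R : Subgroup H) (ξ : R →* ℂˣ) (S : H → Prop)
    (hS : ∀ y ∈ R, y * y = 1 → y ≠ 1 → y ≠ D.t → ∃ b ∈ R, ∀ q ∈ R, S (q⁻¹ * y * q) ↔ b⁻¹ * q ∈ D.T)
    (hT : D.T ≤ R) {x s : H} (hs : s ∈ Subgroup.zpowers x) (h1 : s * s = 1) (h2 : s ≠ 1) (h3 : s ≠ D.t) :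
    X R ξ x = (Nat.card D.T : ℂ)⁻¹ * ∑ c : H, (if S (c⁻¹ * s * c) then ez R ξ (c⁻¹ * x * c) else 0) := by
  have hR0 : (Nat.card R : ℂ) ≠ 0 := by exact_mod_cast Nat.card_pos.ne'
  have hT0 : (Nat.card D.T : ℂ) ≠ 0 := by exact_mod_cast Nat.card_pos.ne'
  have key : ∀ g : H, ∑ q : R, (if S ((g * q)⁻¹ * s * (g * q)) then ez R ξ ((g * q)⁻¹ * x * (g * q)) else 0) =
      (Nat.card D.T : ℂ) * ez R ξ (g⁻¹ * x * g) := by
    intro g
    have e1 : ∀ q : R, ez R ξ ((g * q)⁻¹ * x * (g * q)) = ez R ξ (g⁻¹ * x * g) := by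
      intro q
      have h := ez_conj R ξ (R.inv_mem q.2) (g⁻¹ * x * g)
      rw [inv_inv] at h
      rw [← h]
      congr 1
      group
    simp only [e1]
    by_cases hx : g⁻¹ * x * g ∈ R
    · have hsR : g⁻¹ * s * g ∈ R := by
        apply zp_le hx
        rw [zpowers_conj_mem]
        have : g * (g⁻¹ * s * g) * g⁻¹ = s := by group
        rwa [this]
      have i1 : g⁻¹ * s * g * (g⁻¹ * s * g) = 1 := by
        have := conj_invol (g := g⁻¹) h1
        rwa [inv_inv] at this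
      have i2 : g⁻¹ * s * g ≠ 1 := by
        have := conj_ne_one (g := g⁻¹) h2
        rwa [inv_inv] at this
      have i3 : g⁻¹ * s * g ≠ D.t := by
        have := D.conj_ne_t (g := g⁻¹) h3
        rwa [inv_inv] at this
      obtain ⟨b, hb, hbq⟩ := hS _ hsR i1 i2 i3
      have hset : (Finset.univ.filter fun q : R => S ((g * q)⁻¹ * s * (g * q))) =
          Finset.univ.map ⟨fun τ : D.T => (⟨b * τ, R.mul_mem hb (hT τ.2)⟩ : R), by
            intro a c hac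
            have : b * (a : H) = b * c := congrArg Subtype.val hac
            exact Subtype.ext (mul_left_cancel this)⟩ := by
        ext q
        simp only [Finset.mem_filter, Finset.mem_univ, true_and, Finset.mem_map]
        have e3 : (g * (q : H))⁻¹ * s * (g * q) = (q : H)⁻¹ * (g⁻¹ * s * g) * q := by group
        rw [e3, hbq q q.2]
        constructor
        · intro h
          refine ⟨⟨_, h⟩, Subtype.ext ?_⟩
          change b * (b⁻¹ * (q : H)) = q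
          group
        · rintro ⟨τ, rfl⟩
          change b⁻¹ * (b * (τ : H)) ∈ D.T
          rw [inv_mul_cancel_left]
          exact τ.2
      rw [← Finset.sum_filter, Finset.sum_const, hset, Finset.card_map, Finset.card_univ, nsmul_eq_mul,
        Nat.card_eq_fintype_card]
    · rw [ez_notMem R ξ hx, mul_zero]
      simp
  have h4 : ∑ g : H, ∑ q : R, (if S ((g * q)⁻¹ * s * (g * q)) then ez R ξ ((g * q)⁻¹ * x * (g * q)) else 0) =
      (Nat.card R : ℂ) * ∑ c : H, (if S (c⁻¹ * s * c) then ez R ξ (c⁻¹ * x * c) else 0) := by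
    rw [Finset.sum_comm]
    have : ∀ q : R, ∑ g : H, (if S ((g * q)⁻¹ * s * (g * q)) then ez R ξ ((g * q)⁻¹ * x * (g * q)) else 0) =
        ∑ c : H, (if S (c⁻¹ * s * c) then ez R ξ (c⁻¹ * x * c) else 0) := by
      intro q
      exact Equiv.sum_comp (Equiv.mulRight (q : H)) (fun c => if S (c⁻¹ * s * c) then ez R ξ (c⁻¹ * x * c) else 0)
    rw [Finset.sum_congr rfl fun q _ => this q, Finset.sum_const, Finset.card_univ, nsmul_eq_mul,
      Nat.card_eq_fintype_card]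
  rw [Finset.sum_congr rfl fun g _ => key g, ← Finset.mul_sum] at h4
  have h5 : ∑ c : H, (if S (c⁻¹ * s * c) then ez R ξ (c⁻¹ * x * c) else 0) =
      (Nat.card R : ℂ)⁻¹ * ((Nat.card D.T : ℂ) * ∑ g : H, ez R ξ (g⁻¹ * x * g)) := by
    rw [h4, ← mul_assoc, inv_mul_cancel₀ hR0, one_mul]
  rw [X_def, h5]
  calc (Nat.card R : ℂ)⁻¹ * ∑ g : H, ez R ξ (g⁻¹ * x * g)
      = ((Nat.card D.T : ℂ)⁻¹ * (Nat.card D.T : ℂ)) * ((Nat.card R : ℂ)⁻¹ * ∑ g : H, ez R ξ (g⁻¹ * x * g)) := by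
        rw [inv_mul_cancel₀ hT0, one_mul]
    _ = _ := by ring

open scoped Classical in
theorem X_apply_Q (ξ : D.Q →* ℂˣ) {x s : H} (hs : s ∈ Subgroup.zpowers x) (h1 : s * s = 1) (h2 : s ≠ 1)
    (h3 : s ≠ D.t) : X D.Q ξ x = (Nat.card D.T : ℂ)⁻¹ *
      ∑ c : H, (if c⁻¹ * s * c = D.t2 then ez D.Q ξ (c⁻¹ * x * c) else 0) := by
  apply D.X_apply D.Q ξ (fun y => y = D.t2) _ D.TQ hs h1 h2 h3
  intro y hy y1 y2 y3
  obtain ⟨b, hb, rfl⟩ := D.Qinv y hy y1 y2 y3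
  refine ⟨b, hb, fun q hq => ?_⟩
  rw [← D.Qcent_iff _ (D.Q.mul_mem (D.Q.inv_mem hb) hq)]
  constructor
  · intro h
    calc b⁻¹ * q * D.t2 = b⁻¹ * q * (q⁻¹ * (b * D.t2 * b⁻¹) * q) := by rw [h]
      _ = D.t2 * (b⁻¹ * q) := by group
  · intro h
    calc q⁻¹ * (b * D.t2 * b⁻¹) * q = q⁻¹ * b * (D.t2 * (b⁻¹ * q)) := by group
      _ = D.t2 := by rw [← h]; group

omit [Fintype H] in
/-- `t2` or `t3` -/
def R23 (y : H) : Prop := y = D.t2 ∨ y = D.t3

open scoped Classical in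
theorem X_apply_B (ξ : D.B →* ℂˣ) {x s : H} (hs : s ∈ Subgroup.zpowers x) (h1 : s * s = 1) (h2 : s ≠ 1)
    (h3 : s ≠ D.t) : X D.B ξ x = (Nat.card D.T : ℂ)⁻¹ *
      ∑ c : H, (if D.R23 (c⁻¹ * s * c) then ez D.B ξ (c⁻¹ * x * c) else 0) := by
  apply D.X_apply D.B ξ D.R23 _ D.TB hs h1 h2 h3
  intro y hy y1 y2 y3
  rcases D.Binv y hy y1 y2 y3 with ⟨b, hb, rfl⟩ | ⟨b, hb, rfl⟩
  · refine ⟨b, hb, fun q hq => ?_⟩
    rw [← D.Bcent_iff _ (D.B.mul_mem (D.B.inv_mem hb) hq)]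
    constructor
    · rintro (h | h)
      · calc b⁻¹ * q * D.t2 = b⁻¹ * q * (q⁻¹ * (b * D.t2 * b⁻¹) * q) := by rw [h]
          _ = D.t2 * (b⁻¹ * q) := by group
      · exfalso
        apply D.Bne (q⁻¹ * b) (D.B.mul_mem (D.B.inv_mem hq) hb)
        rw [← h]; group
    · intro h
      left
      calc q⁻¹ * (b * D.t2 * b⁻¹) * q = q⁻¹ * b * (D.t2 * (b⁻¹ * q)) := by group
        _ = D.t2 := by rw [← h]; group
  · refine ⟨b, hb, fun q hq => ?_⟩
    rw [← D.Bcent_iff3 _ (D.B.mul_mem (D.B.inv_mem hb) hq)]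
    constructor
    · rintro (h | h)
      · exfalso
        apply D.Bne (b⁻¹ * q) (D.B.mul_mem (D.B.inv_mem hb) hq)
        rw [← h]; group
      · calc b⁻¹ * q * D.t3 = b⁻¹ * q * (q⁻¹ * (b * D.t3 * b⁻¹) * q) := by rw [h]
          _ = D.t3 * (b⁻¹ * q) := by group
    · intro h
      right
      calc q⁻¹ * (b * D.t3 * b⁻¹) * q = q⁻¹ * b * (D.t3 * (b⁻¹ * q)) := by group
        _ = D.t3 := by rw [← h]; group

open scoped Classical in
/-- value of `F` at an element with the involution `s ≠ t` among its powers -/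
theorem F_apply {x s : H} (hs : s ∈ Subgroup.zpowers x) (h1 : s * s = 1) (h2 : s ≠ 1) (h3 : s ≠ D.t) :
    D.F x = (Nat.card D.T : ℂ)⁻¹ *
      (∑ c : H, (if c⁻¹ * s * c = D.t2 then D.z (c⁻¹ * x * c) else 0) +
      ∑ c : H, (if D.R23 (c⁻¹ * s * c) then D.z1 (c⁻¹ * x * c) else 0)) := by
  have e2 : ∀ (P : H → Prop) (u v : H → ℂ), ∑ x : H, (if P x then (u x - v x) else 0) =
      ∑ x : H, (if P x then u x else 0) - ∑ x : H, (if P x then v x else 0) := by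
    intro P u v
    rw [← Finset.sum_sub_distrib]
    refine Finset.sum_congr rfl fun x _ => ?_
    split_ifs <;> ring
  simp only [z, z1]
  rw [e2 (fun c => c⁻¹ * s * c = D.t2) (fun c => ez D.Q D.lam (c⁻¹ * x * c)) (fun c => ez D.Q D.mu (c⁻¹ * x * c)),
    e2 (fun c => D.R23 (c⁻¹ * s * c)) (fun c => ez D.B D.lam1 (c⁻¹ * x * c))
      (fun c => ez D.B D.mu1 (c⁻¹ * x * c))]
  simp only [F, Pi.add_apply, Pi.sub_apply]
  rw [D.X_apply_Q D.lam hs h1 h2 h3, D.X_apply_Q D.mu hs h1 h2 h3, D.X_apply_B D.lam1 hs h1 h2 h3,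
    D.X_apply_B D.mu1 hs h1 h2 h3]
  ring

end CData

end Cfsg.Agent.GTwoOdd.GamC
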