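import Cfsg.Agent.GTwoOdd.GamW

/-!
# The arithmetical conclusion
-/

set_option autoImplicit false

open Cfsg

namespace Cfsg.Agent.GTwoOdd.GamC

universe u

namespace GData

variable {G : Type u} [Group G] [Finite G] (D : GData G)

/-- `p` divides `|G : C(t)|` -/
theorem dvd_index {p k : ℕ} (hp : p.Prime) (hB : Nat.card D.B = p ^ k * Nat.card D.T)
    (hC : 2 * Nat.card D.C < (p ^ k) ^ 4) : p ∣ D.C.index := by
  classical
  have := Fintype.ofFinite G
  have := Fintype.ofFinite D.C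
  have : Finite (IrrCharacter G) := Cfsg.Agent.Characters.Core.finite_irr
  have := Fintype.ofFinite (IrrCharacter G)
  obtain ⟨N, M, hN, hM, hM2, h⟩ := D.main
  by_contra hpn
  have hT : (0 : ℤ) < (Nat.card D.T : ℤ) := by exact_mod_cast Nat.card_pos
  have hCp : (0 : ℤ) < (Nat.card D.C : ℤ) := by exact_mod_cast Nat.card_pos
  have hG : (Nat.card G : ℤ) = (Nat.card D.C : ℤ) * (D.C.index : ℤ) := by
    exact_mod_cast D.C.card_mul_index.symm
  rw [hB, hG] at h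
  push_cast at h
  have h1 : (D.C.index : ℤ) * M = 2 * ((p : ℤ) ^ k) ^ 2 * N := by
    have h2 : ((Nat.card D.C : ℤ) * (Nat.card D.T : ℤ) ^ 2) * ((D.C.index : ℤ) * M) =
        ((Nat.card D.C : ℤ) * (Nat.card D.T : ℤ) ^ 2) * (2 * ((p : ℤ) ^ k) ^ 2 * N) := by
      linear_combination h
    exact mul_left_cancel₀ (by positivity) h2
  have hco : IsCoprime (((p : ℤ) ^ k) ^ 2) (D.C.index : ℤ) := by
    apply IsCoprime.pow_left
    apply IsCoprime.pow_left
    rw [Int.isCoprime_iff_gcd_eq_one, Int.gcd_natCast_natCast]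
    exact (Nat.Prime.coprime_iff_not_dvd hp).2 hpn
  have hdvd : ((p : ℤ) ^ k) ^ 2 ∣ M := by
    apply hco.dvd_of_dvd_mul_left
    rw [h1]
    exact ⟨2 * N, by ring⟩
  have hle : ((p : ℤ) ^ k) ^ 2 ≤ |M| := Int.le_of_dvd (abs_pos.2 hM) ((dvd_abs _ _).2 hdvd)
  have h5 : (((p : ℤ) ^ k) ^ 2) ^ 2 ≤ M ^ 2 := by
    rw [← sq_abs M]
    exact pow_le_pow_left₀ (by positivity) hle 2
  have h6 : (2 : ℤ) * (Nat.card D.C : ℤ) < ((p : ℤ) ^ k) ^ 4 := by exact_mod_cast hC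
  have h7 : (((p : ℤ) ^ k) ^ 2) ^ 2 = ((p : ℤ) ^ k) ^ 4 := by ring
  rw [h7] at h5
  linarith

end GData

end Cfsg.Agent.GTwoOdd.GamC
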