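import Cfsg.Agent.GTwoOdd.XFull

/-!
# Existence of `x ∈ T_2 ∩ T_2^ρ` if `|T_1| < |T_2|`; fields of different orders
-/

set_option autoImplicit false

namespace Cfsg.Agent.GTwoOdd

open Matrix ZIso

section field

variable {F : Type*} [Field F]

/-- the centraliser of `D` in `SL(2,F)` -/
def CS (D : M2 F) : Subgroup (SL2 F) where
  carrier := {x | (x : M2 F) * D = D * x}
  mul_mem' := by
    intro a b h1 h2
    change ((a * b : SL2 F) : M2 F) * D = D * ((a * b : SL2 F) : M2 F)
    change (a : M2 F) * D = D * a at h1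
    change (b : M2 F) * D = D * b at h2
    rw [Matrix.SpecialLinearGroup.coe_mul, mul_assoc, h2, ← mul_assoc, h1, mul_assoc]
  one_mem' := by
    change ((1 : SL2 F) : M2 F) * D = D * ((1 : SL2 F) : M2 F)
    simp
  inv_mem' := by
    intro a h
    change ((a⁻¹ : SL2 F) : M2 F) * D = D * ((a⁻¹ : SL2 F) : M2 F)
    change (a : M2 F) * D = D * a at h
    rw [sl_inv_coe, adjugate_eq, sub_mul, mul_sub, h]; simp

theorem mem_CS {D : M2 F} {x : SL2 F} : x ∈ CS D ↔ (x : M2 F) * D = D * x := Iff.rfl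

/-- `diag (a, a⁻¹)` -/
def dgn (a : Fˣ) : SL2 F := ⟨!![(a : F), 0; 0, ((a⁻¹ : Fˣ) : F)], by rw [Matrix.det_fin_two]; simp⟩

theorem dgn_coe (a : Fˣ) : (dgn a : M2 F) = !![(a : F), 0; 0, ((a⁻¹ : Fˣ) : F)] := rfl

theorem card_CS_dg [Finite F] (h2 : (2 : F) ≠ 0) : Nat.card (CS (dg F)) = Nat.card F - 1 := by
  rw [← Nat.card_units]
  have hmem : ∀ a : Fˣ, dgn a ∈ CS (dg F) := by
    intro a
    rw [mem_CS, comm_dg_iff h2, dgn_coe]
    simp
  refine (Nat.card_congr (Equiv.ofBijective (fun a : Fˣ => (⟨dgn a, hmem a⟩ : CS (dg F))) ⟨?_, ?_⟩)).symm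
  · intro a b h
    have h1 := congrArg (fun z : CS (dg F) => (z.1 : M2 F) 0 0) h
    exact Units.ext h1
  · rintro ⟨y, hy⟩
    rw [mem_CS, comm_dg_iff h2] at hy
    obtain ⟨h01, h10⟩ := hy
    have hd := LocalSL.diag_entries h01
    have h0 : (y : M2 F) 0 0 ≠ 0 := by intro h; rw [h, zero_mul] at hd; exact zero_ne_one hd
    refine ⟨Units.mk0 _ h0, Subtype.ext (Subtype.ext ?_)⟩
    rw [dgn_coe, m2_eq_iff]
    simp only [Units.val_inv_eq_inv_val, Units.val_mk0]
    refine ⟨by simp, by simp [h01], by simp [h10], ?_⟩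
    simp
    exact inv_eq_of_mul_eq_one_right hd

/-- the nonsplit torus has at least `|F| + 1` elements -/
theorem card_CS_nonsplit [Finite F] (h2 : (2 : F) ≠ 0) {D : M2 F} (hD : D.det ≠ 0) (ht : D.trace = 0)
    (hns : ¬ IsSquare (-D.det)) : Nat.card F + 1 ≤ Nat.card (CS D) := by
  have hdet : ∀ m : F, ((1 : M2 F) + m • D).det = 1 + D.det * (m * m) := by
    intro m
    have := cent_det ht (1 : F) m
    rwa [one_smul, one_mul] at this
  have hdet0 : ∀ m : F, (1 : F) + D.det * (m * m) ≠ 0 := by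
    intro m h
    apply hns
    have hm : m ≠ 0 := by rintro rfl; simp at h
    refine ⟨m⁻¹, ?_⟩
    field_simp
    linear_combination -h
  have key : ∀ m : F, ∃ y : SL2 F, (y : M2 F) * (1 - m • D) = 1 + m • D := by
    intro m
    apply exists_sl_mul_eq
    · rw [sub_eq_add_neg, ← neg_smul, hdet, hdet]; ring
    · rw [sub_eq_add_neg, ← neg_smul, hdet]
      exact hdet0 (-m)
  choose f hf using key
  have hdn : ∀ m : F, ((1 : M2 F) - m • D).det ≠ 0 := by
    intro m
    rw [sub_eq_add_neg, ← neg_smul, hdet]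
    exact hdet0 (-m)
  have hmem : ∀ m, f m ∈ CS D := by
    intro m
    rw [mem_CS]
    apply cancel_right (hdn m)
    have h1 : D * (1 - m • D) = (1 - m • D) * D := by
      rw [mul_sub, sub_mul, mul_one, one_mul, Matrix.mul_smul, Matrix.smul_mul]
    have h2 : D * (1 + m • D) = (1 + m • D) * D := by
      rw [mul_add, add_mul, mul_one, one_mul, Matrix.mul_smul, Matrix.smul_mul]
    calc (f m : M2 F) * D * (1 - m • D) = (f m : M2 F) * (D * (1 - m • D)) := by rw [mul_assoc]
      _ = (f m : M2 F) * (1 - m • D) * D := by rw [h1, ← mul_assoc]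
      _ = (1 + m • D) * D := by rw [hf]
      _ = D * ((f m : M2 F) * (1 - m • D)) := by rw [hf, h2]
      _ = _ := by rw [mul_assoc]
  have hneg : (-1 : SL2 F) ∈ CS D := by
    rw [mem_CS]; simp
  let φ : Option F → CS D := fun o => match o with
    | none => ⟨-1, hneg⟩
    | some m => ⟨f m, hmem m⟩
  have hinj : Function.Injective φ := by
    have hne : ∀ m, f m ≠ -1 := by
      intro m h
      have h1 := hf m
      rw [h] at h1
      have h3 : (2 : F) • (1 : M2 F) = 0 := by
        have h4 : -(1 - m • D) = 1 + m • D := by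
          rw [← h1]; simp
        have h5 : (1 : M2 F) + 1 = 0 := by
          have : (1 : M2 F) + 1 = (1 + m • D) + (1 - m • D) := by abel
          rw [this, ← h4]; abel
        rw [two_smul]; exact h5
      have h6 := congrArg (fun z : M2 F => z 0 0) h3
      simp at h6
      exact h2 h6
    have hff : ∀ m m', f m = f m' → m = m' := by
      intro m m' h
      have h1 := hf m
      have h3 := hf m'
      rw [← h] at h3
      have h4 : ((1 : M2 F) + m • D) * (1 - m' • D) = (1 + m' • D) * (1 - m • D) := by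
        rw [← h1, ← h3]
        have h5 : ((1 : M2 F) - m • D) * (1 - m' • D) = (1 - m' • D) * (1 - m • D) := by
          simp only [mul_sub, sub_mul, mul_one, one_mul, Matrix.mul_smul, Matrix.smul_mul, smul_smul]
          rw [mul_comm m m']
          abel
        rw [mul_assoc, h5, ← mul_assoc]
      have h5 : (2 * (m - m')) • D = 0 := by
        simp only [mul_sub, add_mul, mul_one, one_mul, Matrix.mul_smul, Matrix.smul_mul, smul_smul] at h4
        rw [mul_comm m m'] at h4
        have h6 : (1 : M2 F) + m • D - (m' • D + (m' * m) • (D * D)) - (1 + m' • D - (m • D + (m' * m) • (D * D))) = 0 := by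
          rw [sub_eq_zero]
          exact h4
        rw [← h6]
        module
      have h6 : 2 * (m - m') = 0 := by
        by_contra h7
        have h8 : D = 0 := by
          have := congrArg (fun z => (2 * (m - m'))⁻¹ • z) h5
          simp only [smul_smul, inv_mul_cancel₀ h7, one_smul, smul_zero] at this
          exact this
        apply hD
        rw [h8]; simp
      exact sub_eq_zero.1 ((mul_eq_zero.1 h6).resolve_left h2)
    intro o o' h
    match o, o' with
    | none, none => rfl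
    | none, some m => exact absurd (congrArg Subtype.val h).symm (hne m)
    | some m, none => exact absurd (congrArg Subtype.val h) (hne m)
    | some m, some m' => rw [hff m m' (congrArg Subtype.val h)]
  have h3 := Nat.card_le_card_of_injective φ hinj
  rwa [Finite.card_option] at h3

end field

namespace LocalSL

variable {G : Type*} [Group G] {t : G} {F1 F2 : Type*} [Field F1] [Field F2]
variable [Finite F1] [Finite F2] {L : LocalSL t F1 F2} {s g : G} {D1 : M2 F1} {D2 : M2 F2} {n1 : SL2 F1} {n2 : SL2 F2}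

omit [Finite F1] [Finite F2] in
theorem card_tor1 (L : LocalSL t F1 F2) (D1 : M2 F1) : Nat.card (L.tor1 D1) = Nat.card (CS D1) := by
  have h : L.tor1 D1 = (CS D1).map L.e1 := by
    ext c
    rw [mem_tor1, Subgroup.mem_map]
    constructor
    · rintro ⟨x, h1, h2⟩; exact ⟨x, h1, h2.symm⟩
    · rintro ⟨x, h1, h2⟩; exact ⟨x, h1, h2.symm⟩
  rw [h]
  exact Subgroup.card_map_of_injective L.inj1

omit [Finite F1] [Finite F2] in
theorem card_tor2 (L : LocalSL t F1 F2) (D2 : M2 F2) : Nat.card (L.tor2 D2) = Nat.card (CS D2) := by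
  have h : L.tor2 D2 = (CS D2).map L.e2 := by
    ext c
    rw [mem_tor2, Subgroup.mem_map]
    constructor
    · rintro ⟨x, h1, h2⟩; exact ⟨x, h1, h2.symm⟩
    · rintro ⟨x, h1, h2⟩; exact ⟨x, h1, h2.symm⟩
  rw [h]
  exact Subgroup.card_map_of_injective L.inj2

/-- `|T : T_2| ≤ |T_1|` -/
theorem Frame.relIndex_le [Finite G] (F : L.Frame s D1 D2 n1 n2) :
    (L.tor2 D2).relIndex (L.tor D1 D2) ≤ Nat.card (L.tor1 D1) := by
  have hmem : ∀ c : L.tor D1 D2, c.1 * L.e1 n1 * c.1⁻¹ * (L.e1 n1)⁻¹ ∈ L.tor1 D1 := by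
    intro c
    obtain ⟨x, hx, h⟩ := F.refl1 c.2
    have : c.1 * L.e1 n1 * c.1⁻¹ * (L.e1 n1)⁻¹ = x := by rw [h]; group
    rw [this]; exact hx
  let f : (L.tor D1 D2) ⧸ ((L.tor2 D2).subgroupOf (L.tor D1 D2)) → L.tor1 D1 := fun q => ⟨_, hmem q.out⟩
  have hf : Function.Injective f := by
    intro q q' h
    have h1 : (q.out : G) * L.e1 n1 * (q.out : G)⁻¹ * (L.e1 n1)⁻¹ = (q'.out : G) * L.e1 n1 * (q'.out : G)⁻¹ * (L.e1 n1)⁻¹ :=
      congrArg Subtype.val h
    have h2 := mul_right_cancel h1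
    rw [← q.out_eq, ← q'.out_eq]
    apply QuotientGroup.eq.2
    rw [Subgroup.mem_subgroupOf, ← F.mem_tor2_iff (q.out⁻¹ * q'.out).2]
    change (q.out : G)⁻¹ * (q'.out : G) * L.e1 n1 = L.e1 n1 * ((q.out : G)⁻¹ * (q'.out : G))
    calc (q.out : G)⁻¹ * (q'.out : G) * L.e1 n1
        = (q.out : G)⁻¹ * ((q'.out : G) * L.e1 n1 * (q'.out : G)⁻¹) * (q'.out : G) := by group
      _ = (q.out : G)⁻¹ * ((q.out : G) * L.e1 n1 * (q.out : G)⁻¹) * (q'.out : G) := by rw [h2]
      _ = _ := by group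
  exact Nat.card_le_card_of_injective f hf

/-- `|T_1| < |T_2|` -/
theorem Swap.exists_XIn [Finite G] (S : L.Swap s D1 D2 n1 n2 g)
    (hlt : Nat.card (L.tor1 D1) < Nat.card (L.tor2 D2)) : ∃ x, XIn L s D1 D2 n1 n2 g x := by
  by_contra hcon
  push Not at hcon
  set T := L.tor D1 D2 with hT
  set T2 := L.tor2 D2 with hT2
  set U := cjS (rho L n1 g) T2 with hU
  have hUT : U ≤ T := by
    intro x hx
    rw [hU, mem_cjS] at hx
    have := S.rho_tor (Frame.tor2_le L D1 D2 hx)
    have e : rho L n1 g * ((rho L n1 g)⁻¹ * x * rho L n1 g) * (rho L n1 g)⁻¹ = x := by group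
    rwa [e] at this
  have hinf : T2 ⊓ U = ⊥ := by
    rw [eq_bot_iff]
    rintro x ⟨h1, h2⟩
    rw [Subgroup.mem_bot]
    by_contra hx
    exact hcon x ⟨S, h1, mem_cjS.1 h2, hx⟩
  have h1 := Subgroup.relIndex_inf_le (H := T2) (K := U) (L := T)
  rw [hinf, Subgroup.relIndex_bot_left] at h1
  have hT2T : T2 ≤ T := Frame.tor2_le L D1 D2
  have h2 : Nat.card T2 * T2.relIndex T = Nat.card T := by
    have := Subgroup.card_mul_index (T2.subgroupOf T)
    rw [Nat.card_congr (Subgroup.subgroupOfEquivOfLe hT2T).toEquiv] at this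
    exact this
  have h3 : Nat.card U * U.relIndex T = Nat.card T := by
    have := Subgroup.card_mul_index (U.subgroupOf T)
    rw [Nat.card_congr (Subgroup.subgroupOfEquivOfLe hUT).toEquiv] at this
    exact this
  have h4 : Nat.card U = Nat.card T2 := card_cjS _ _
  rw [h4] at h3
  have h5 : T2.relIndex T = U.relIndex T := by
    have : Nat.card T2 * T2.relIndex T = Nat.card T2 * U.relIndex T := by rw [h2, h3]
    exact Nat.eq_of_mul_eq_mul_left Nat.card_pos this
  rw [← h5, ← h2] at h1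
  have h6 : 0 < T2.relIndex T := by
    rcases Nat.eq_zero_or_pos (T2.relIndex T) with h | h
    · rw [h, mul_zero] at h2
      have : 0 < Nat.card T := Nat.card_pos
      omega
    · exact h
  have h7 : Nat.card T2 ≤ T2.relIndex T := Nat.le_of_mul_le_mul_right h1 h6
  have h8 := S.toFrame.relIndex_le
  exact absurd (h7.trans h8) (not_le.2 hlt)

/-- frames with first torus split and second torus nonsplit -/
theorem Hyp.exists_cross (H : L.Hyp) (h : ¬ (IsSquare (-1 : F1) ↔ IsSquare (-1 : F2)))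
    (hcl : ∀ x : G, x * x = 1 → x ≠ 1 → ∃ g, g * t = x * g) :
    ∃ s D2 n2 g, L.Swap s (dg F1) D2 (wn F1) n2 g ∧ ¬ IsSquare (-D2.det) := by
  have key : ∃ d : F2, d ≠ 0 ∧ ¬ IsSquare (-d) ∧ (IsSquare (-1 : F1) ↔ IsSquare d) := by
    by_cases h1 : IsSquare (-1 : F1)
    · have h2 : ¬ IsSquare (-1 : F2) := fun k => h (iff_of_true h1 k)
      exact ⟨1, one_ne_zero, h2, iff_of_true h1 ⟨1, by simp⟩⟩
    · have h2 : IsSquare (-1 : F2) := by
        by_contra k
        exact h (iff_of_false h1 k)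
      obtain ⟨g, A, B, h3, -, h4, -⟩ := H.outer
      refine ⟨B.det, h3.det2, ?_, iff_of_false h1 h4⟩
      rintro ⟨a, ha⟩
      obtain ⟨i, hi⟩ := h2
      apply h4
      exact ⟨i * a, by linear_combination -ha + a * a * hi⟩
  obtain ⟨d, hd0, hns, hsq⟩ := key
  have hdet : (!![0, 1; -d, 0] : M2 F2).det = d := by rw [Matrix.det_fin_two]; simp
  have htr : (!![0, 1; -d, 0] : M2 F2).trace = 0 := by rw [Matrix.trace_fin_two]; simp
  obtain ⟨s, hs⟩ := H.exists_rep (A := dg F1) (B := !![0, 1; -d, 0]) (by rw [dg_det]; simp) (by rw [hdet]; exact hd0)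
    (by rw [dg_det, hdet]; exact hsq)
  obtain ⟨n2, hn2⟩ := exists_anti H.two_ne2 hs.det2 htr
  have F : L.Frame s (dg F1) !![0, 1; -d, 0] (wn F1) n2 := ⟨H, hs, dg_trace, htr, wn_anti, hn2⟩
  obtain ⟨g, h1, h2⟩ := F.exists_swap (hcl s F.ss F.s_ne_one)
  exact ⟨s, _, n2, g, ⟨F, h1, h2⟩, by rw [hdet]; exact hns⟩

variable [Finite G]

/-- different quadratic characters of `-1`, `|F1| < |F2| + 2` -/
theorem Hyp.no_cross (H : L.Hyp) (h : ¬ (IsSquare (-1 : F1) ↔ IsSquare (-1 : F2)))
    (hcl : ∀ x : G, x * x = 1 → x ≠ 1 → ∃ g, g * t = x * g) (hM : MCl G F1)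
    (hlt : Nat.card F1 < Nat.card F2 + 2) : False := by
  obtain ⟨s, D2, n2, g, S, hns⟩ := H.exists_cross h hcl
  have h1 := card_CS_nonsplit S.toFrame.two2 S.toFrame.det2 S.toFrame.tr2 hns
  have h2 := card_CS_dg S.toFrame.two1
  obtain ⟨x, X⟩ := S.exists_XIn (by
    rw [card_tor1, card_tor2, h2]
    omega)
  exact X.nonsplit hM hns

/-- both split, `|F1| < |F2|` -/
theorem Hyp.full_of_lt (H : L.Hyp) (h : IsSquare (-1 : F1) ↔ IsSquare (-1 : F2))
    (hcl : ∀ x : G, x * x = 1 → x ≠ 1 → ∃ g, g * t = x * g) (hM : MCl G F1)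
    (hlt : Nat.card F1 < Nat.card F2) : FullF L := by
  obtain ⟨s, g, S⟩ := H.exists_split h hcl
  obtain ⟨x, X⟩ := S.exists_XIn (by
    rw [card_tor1, card_tor2, card_CS_dg S.toFrame.two1, card_CS_dg S.toFrame.two2]
    have : 0 < Nat.card F1 := Nat.card_pos
    omega)
  exact X.full hM

/-- (X3): fields of different orders, or `-1` of different quadratic character -/
theorem Hyp.full_of_ne (H : L.Hyp) (hcl : ∀ x : G, x * x = 1 → x ≠ 1 → ∃ g, g * t = x * g) (hM1 : MCl G F1)
    (hM2 : MCl G F2) (hne : Nat.card F1 ≠ Nat.card F2) : FullF L ∨ FullF L.sw := by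
  by_cases h : IsSquare (-1 : F1) ↔ IsSquare (-1 : F2)
  · rcases Nat.lt_or_gt_of_ne hne with hlt | hlt
    · exact Or.inl (H.full_of_lt h hcl hM1 hlt)
    · exact Or.inr (H.sw.full_of_lt h.symm hcl hM2 hlt)
  · exfalso
    by_cases hlt : Nat.card F1 < Nat.card F2 + 2
    · exact H.no_cross h hcl hM1 hlt
    · exact H.sw.no_cross (fun k => h k.symm) hcl hM2 (by omega)

end LocalSL

end Cfsg.Agent.GTwoOdd
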