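import Cfsg.Agent.GTwoOdd.GamChar
import Cfsg.Agent.GTwoOdd.GamNum
import Cfsg.Agent.GTwoOdd.XCard

/-!
# The character argument: `p` divides `|G : C(t)|`

The stabilisers of the characters are hypotheses here.
-/

set_option autoImplicit false

namespace Cfsg.Agent.GTwoOdd

open Matrix

namespace LocalSL

universe u

variable {G : Type u} [Group G] {t : G} {F1 F2 : Type*} [Field F1] [Field F2]

/-- the stabiliser of the character `(ratio)^k` of the torus in its normaliser is `T ⟨n1⟩` -/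
def Stab (L : LocalSL t F1 F2) (n1 : SL2 F1) (k : ℕ) : Prop :=
  ∀ n : G, (∀ τ ∈ L.T0, n * τ * n⁻¹ ∈ L.T0) →
    (∀ τ ∈ L.T0, ∀ (A : M2 F1) (B : M2 F2) (A' : M2 F1) (B' : M2 F2), L.Rep τ A B → L.Rep (n * τ * n⁻¹) A' B' →
      (B' 0 0 / B' 1 1) ^ k = (B 0 0 / B 1 1) ^ k) →
    n ∈ L.T0 ∨ n * (L.e1 n1)⁻¹ ∈ L.T0

variable [Finite G] [Finite F1] [Finite F2] {L : LocalSL t F1 F2} {s : G} {n1 : SL2 F1} {n2 : SL2 F2}
  (F : L.Frame s (dg F1) (dg F2) n1 n2)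
include F

/-- `|T| ≤ (q1 - 1) (q2 - 1)` -/
theorem Frame.card_T0_le : Nat.card L.T0 ≤ (Nat.card F1 - 1) * (Nat.card F2 - 1) := by
  have h1 := F.relIndex_le
  have h2 : Nat.card (L.tor2 (dg F2)) * (L.tor2 (dg F2)).relIndex L.T0 = Nat.card L.T0 := by
    have := Subgroup.card_mul_index ((L.tor2 (dg F2)).subgroupOf L.T0)
    rw [Nat.card_congr (Subgroup.subgroupOfEquivOfLe (Frame.tor2_le L (dg F1) (dg F2))).toEquiv] at this
    exact this
  rw [card_tor1, card_CS_dg F.two1] at h1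
  rw [card_tor2, card_CS_dg F.two2] at h2
  rw [← h2, mul_comm]
  exact Nat.mul_le_mul_right _ h1

/-- `2 |C(t)| < q^8` -/
theorem Frame.card_cent_lt (hq : Nat.card F1 = Nat.card F2) :
    2 * Nat.card (Subgroup.centralizer {t} : Subgroup G) < (Nat.card F1 * Nat.card F1) ^ 4 := by
  have h1 := F.hyp.card_cent_lt
  have h2 : Nat.card L.zero = Nat.card F1 * Nat.card F2 * Nat.card L.T0 * ((1 + Nat.card F1) * (1 + Nat.card F2)) := by
    have := Fintype.ofFinite F1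
    have := Fintype.ofFinite F2
    have := Fintype.ofFinite G
    classical
    exact F.hyp.card_zero
  have h3 := F.card_T0_le
  rw [h2, ← hq] at h1
  rw [← hq] at h3
  have hpos : 0 < Nat.card F1 := Nat.card_pos
  obtain ⟨a, ha⟩ : ∃ a, Nat.card F1 = a + 1 := ⟨Nat.card F1 - 1, by omega⟩
  rw [ha, Nat.add_sub_cancel] at h3
  rw [ha] at h1 ⊢
  have h4 : (a + 1) * (a + 1) * ((a + 1) * (a + 1) * Nat.card L.T0 * ((1 + (a + 1)) * (1 + (a + 1)))) ≤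
      ((a + 1) * (a + 1)) ^ 4 := by
    have h5 : (a + 1) * (a + 1) * ((a + 1) * (a + 1) * Nat.card L.T0 * ((1 + (a + 1)) * (1 + (a + 1)))) ≤
        (a + 1) * (a + 1) * ((a + 1) * (a + 1) * (a * a) * ((1 + (a + 1)) * (1 + (a + 1)))) := by gcongr
    refine h5.trans ?_
    have h6 : (a * (1 + (a + 1))) * (a * (1 + (a + 1))) ≤ ((a + 1) * (a + 1)) * ((a + 1) * (a + 1)) := by
      have h7 : a * (1 + (a + 1)) ≤ (a + 1) * (a + 1) := by nlinarith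
      exact Nat.mul_le_mul h7 h7
    calc (a + 1) * (a + 1) * ((a + 1) * (a + 1) * (a * a) * ((1 + (a + 1)) * (1 + (a + 1))))
        = (a + 1) * (a + 1) * ((a + 1) * (a + 1)) * ((a * (1 + (a + 1))) * (a * (1 + (a + 1)))) := by ring
      _ ≤ (a + 1) * (a + 1) * ((a + 1) * (a + 1)) * (((a + 1) * (a + 1)) * ((a + 1) * (a + 1))) :=
        Nat.mul_le_mul_left _ h6
      _ = ((a + 1) * (a + 1)) ^ 4 := by ring
  exact lt_of_lt_of_le h1 h4

/-- **the character argument** -/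
theorem Frame.dvd_index_of_stab {ρ : G} (hρt : ρ * t * ρ⁻¹ = s) (hρs : ρ * s * ρ⁻¹ = t * s)
    (hcl : ∀ v : G, v * v = 1 → v ≠ 1 → ∃ g, g * t * g⁻¹ = v) (h2 : L.Stab n1 2)
    (hm : ∀ m, Odd m → (∀ x : F2ˣ, x ^ (2 + m) = 1 → x = 1) → L.Stab n1 (2 + m))
    (hq : Nat.card F1 = Nat.card F2) {p : ℕ} (hp : p.Prime) (hpF : p ∣ Nat.card F1) :
    p ∣ (Subgroup.centralizer {t} : Subgroup G).index := by
  obtain ⟨χ, hχ⟩ := GamChar.exists_char F2ˣ
  have hρT : ∀ τ ∈ L.T0, ρ * τ * ρ⁻¹ ∈ L.T0 := fun τ hτ => F.rho_norm hρt hρs hτ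
  have ht : t ∈ L.par := L.bor_le_par (F.hyp.T0_le_bor F.t_mem)
  let D : GamC.GData G := F.gdata ρ hρt hρs (L.lamk χ 2) (L.lamk χ (2 + GamChar.om F2ˣ)) (F.hyp.lamk1 χ 2 ρ hρT)
    (F.hyp.lamk1 χ (2 + GamChar.om F2ˣ) ρ hρT) (F.hyp.lamk1_eq χ _ ρ hρT) (F.hyp.lamk1_eq χ _ ρ hρT)
    (lam_odd L χ) (F.hyp.lam_odd1 χ ρ hρT) (lam_t L χ _ ht) (F.lam_s χ) (lam_t L χ _ ht) (F.mu_s χ hχ)
    (fun n hn h => h2 n hn (fun τ hτ A B A' B' hr hr' => F.ratio χ hχ _ hτ (hn τ hτ) (h τ hτ) hr hr'))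
    (fun n hn h => hm _ GamChar.om_odd (fun x hx => GamChar.eq_one_of_pow hx) n hn
      (fun τ hτ A B A' B' hr hr' => F.ratio χ hχ _ hτ (hn τ hτ) (h τ hτ) hr hr')) hcl
  have hcard : ∃ f : ℕ, Nat.card F1 = p ^ f := by
    let _ : Fintype F1 := Fintype.ofFinite F1
    obtain ⟨q, hq'⟩ := CharP.exists F1
    obtain ⟨n, hqp, hn⟩ := FiniteField.card F1 q
    rw [Nat.card_eq_fintype_card, hn] at hpF ⊢
    have h2 : p = q := (Nat.prime_dvd_prime_iff_eq hp hqp).1 (hp.dvd_of_dvd_pow hpF)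
    exact ⟨n, by rw [h2]⟩
  obtain ⟨f, hf⟩ := hcard
  have hB : Nat.card D.B = p ^ (f + f) * Nat.card D.T := by
    change Nat.card L.bor = p ^ (f + f) * Nat.card L.T0
    rw [F.hyp.card_bor, ← hq, hf, pow_add]
  have hC : 2 * Nat.card D.C < (p ^ (f + f)) ^ 4 := by
    have h := F.card_cent_lt hq
    rw [hf, ← pow_add] at h
    exact h
  exact D.dvd_index hp hB hC

end LocalSL

end Cfsg.Agent.GTwoOdd
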