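import Cfsg.Agent.GTwoOdd.GamI

/-!
# The data in `G` and the data on the centraliser
-/

set_option autoImplicit false

open Cfsg
open scoped ComplexConjugate

namespace Cfsg.Agent.GTwoOdd.GamC

open Cfsg.Agent.GTwoOdd.GamSum

universe u

/-- the data in `G` -/
structure GData (G : Type u) [Group G] where
  /-- the involution -/
  t : G
  /-- the second involution -/
  t2 : G
  /-- the element of order `3` modulo `T` -/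
  ρ : G
  /-- the first reflection -/
  n1 : G
  /-- the element inverting `T` -/
  w : G
  /-- the torus -/
  T : Subgroup G
  /-- the Borel subgroup -/
  B : Subgroup G
  /-- the parabolic subgroup -/
  Q : Subgroup G
  /-- the first character -/
  lam : Q →* ℂˣ
  /-- the second character -/
  mu : Q →* ℂˣ
  /-- the conjugate of the first character -/
  lam1 : B →* ℂˣ
  /-- the conjugate of the second character -/
  mu1 : B →* ℂˣ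
  tt : t * t = 1
  t1 : t ≠ 1
  t2t2 : t2 * t2 = 1
  t2_ne : t2 ≠ 1
  t2_ne_t : t2 ≠ t
  TB : T ≤ B
  BQ : B ≤ Q
  QC : ∀ c ∈ Q, c * t = t * c
  t_mem : t ∈ T
  t2_mem : t2 ∈ T
  comm : ∀ x ∈ T, ∀ y ∈ T, x * y = y * x
  Tinv : ∀ x ∈ T, x * x = 1 → x = 1 ∨ x = t ∨ x = t2 ∨ x = t * t2
  Qinv : ∀ s ∈ Q, s * s = 1 → s ≠ 1 → s ≠ t → ∃ q ∈ Q, q * t2 * q⁻¹ = s
  Qcent : ∀ q ∈ Q, q * t2 = t2 * q → q ∈ T
  Binv : ∀ s ∈ B, s * s = 1 → s ≠ 1 → s ≠ t →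
    (∃ b ∈ B, b * t2 * b⁻¹ = s) ∨ ∃ b ∈ B, b * (t * t2) * b⁻¹ = s
  Bne : ∀ b ∈ B, b * t2 * b⁻¹ ≠ t * t2
  dec : ∀ c : G, c * t = t * c → ∃ b ∈ B, ∃ n, (∀ τ ∈ T, n * τ * n⁻¹ ∈ T) ∧ ∃ b' ∈ B, c = b * n * b'
  ρt : ρ * t * ρ⁻¹ = t2
  ρt2 : ρ * t2 * ρ⁻¹ = t * t2
  ρT : ∀ τ ∈ T, ρ * τ * ρ⁻¹ ∈ T
  lam1_eq : ∀ τ ∈ T, ez B lam1 τ = ez Q lam (ρ * τ * ρ⁻¹)
  mu1_eq : ∀ τ ∈ T, ez B mu1 τ = ez Q mu (ρ * τ * ρ⁻¹)
  odd : ∀ x : G, (∀ s ∈ Subgroup.zpowers x, s * s = 1 → s = 1) → ez Q lam x = ez Q mu x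
  odd1 : ∀ x : G, (∀ s ∈ Subgroup.zpowers x, s * s = 1 → s = 1) → ez B lam1 x = ez B mu1 x
  lam_t : ez Q lam t = 1
  lam_t2 : ez Q lam t2 = 1
  mu_t : ez Q mu t = 1
  mu_t2 : ez Q mu t2 = -1
  n1Q : n1 ∈ Q
  n1t2 : n1 * t2 * n1⁻¹ = t * t2
  n1T : ∀ τ ∈ T, n1 * τ * n1⁻¹ ∈ T
  stab : ∀ n, (∀ τ ∈ T, n * τ * n⁻¹ ∈ T) → (∀ τ ∈ T, ez Q lam (n * τ * n⁻¹) = ez Q lam τ) →
    n ∈ T ∨ n * n1⁻¹ ∈ T
  stab' : ∀ n, (∀ τ ∈ T, n * τ * n⁻¹ ∈ T) → (∀ τ ∈ T, ez Q mu (n * τ * n⁻¹) = ez Q mu τ) →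
    n ∈ T ∨ n * n1⁻¹ ∈ T
  Kn : ∀ c, c * t = t * c → (c * t2 * c⁻¹ = t2 ∨ c * t2 * c⁻¹ = t * t2) → ∀ τ ∈ T, c * τ * c⁻¹ ∈ T
  ww : w * w = 1
  wt : w * t = t * w
  w_inv : ∀ τ ∈ T, w * τ * w⁻¹ = τ⁻¹
  w_nm : w ∉ T
  Kinv : ∀ i, i * t = t * i → i * t2 = t2 * i → i * i = 1 → i ∈ T ∨ i * w ∈ T
  cls : ∀ s, s * s = 1 → s ≠ 1 → ∃ g, g * t * g⁻¹ = s

namespace GData

variable {G : Type u} [Group G] (D : GData G)

/-- the centraliser of `t` -/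
abbrev C : Subgroup G := Subgroup.centralizer ({D.t} : Set G)

theorem mem_C {x : G} : x ∈ D.C ↔ x * D.t = D.t * x := by
  rw [Subgroup.mem_centralizer_singleton_iff]

/-- the third involution -/
def t3 : G := D.t * D.t2

theorem t_t2 : D.t2 * D.t = D.t * D.t2 := D.comm _ D.t2_mem _ D.t_mem

theorem TQ : D.T ≤ D.Q := D.TB.trans D.BQ

theorem QleC : D.Q ≤ D.C := fun _ hc => D.mem_C.2 (D.QC _ hc)

theorem BleC : D.B ≤ D.C := D.BQ.trans D.QleC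

theorem TleC : D.T ≤ D.C := D.TB.trans D.BleC

/-- the inclusion of subgroups of the centraliser -/
def incl (Q : Subgroup G) : ↥(Q.subgroupOf D.C) →* ↥Q where
  toFun x := ⟨(x : D.C), Subgroup.mem_subgroupOf.1 x.2⟩
  map_one' := rfl
  map_mul' _ _ := rfl

theorem ez_incl (Q : Subgroup G) (ξ : Q →* ℂˣ) (y : D.C) :
    ez (Q.subgroupOf D.C) (ξ.comp (D.incl Q)) y = ez Q ξ (y : G) := by
  by_cases h : (y : G) ∈ Q
  · rw [ez_mem Q ξ h, ez_mem _ _ (Subgroup.mem_subgroupOf.2 h)]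
    rfl
  · rw [ez_notMem Q ξ h, ez_notMem _ _ (fun k => h (Subgroup.mem_subgroupOf.1 k))]

theorem zp_coe {x s : D.C} : s ∈ Subgroup.zpowers x ↔ (s : G) ∈ Subgroup.zpowers (x : G) := by
  constructor
  · intro h
    obtain ⟨k, rfl⟩ := Subgroup.mem_zpowers_iff.1 h
    exact Subgroup.mem_zpowers_iff.2 ⟨k, by simp⟩
  · intro h
    obtain ⟨k, hk⟩ := Subgroup.mem_zpowers_iff.1 h
    refine Subgroup.mem_zpowers_iff.2 ⟨k, Subtype.ext ?_⟩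
    simpa using hk

theorem sub_conj {x y : D.C} : ((x * y * x⁻¹ : D.C) : G) = (x : G) * y * (x : G)⁻¹ := rfl

theorem lift_norm {n : D.C} (h : ∀ τ ∈ D.T.subgroupOf D.C, n * τ * n⁻¹ ∈ D.T.subgroupOf D.C) :
    ∀ τ ∈ D.T, (n : G) * τ * (n : G)⁻¹ ∈ D.T := by
  intro τ hτ
  exact h ⟨τ, D.TleC hτ⟩ (Subgroup.mem_subgroupOf.2 hτ)

theorem ρ_surj [Finite G] {τ : G} (hτ : τ ∈ D.T) : ∃ σ ∈ D.T, D.ρ * σ * D.ρ⁻¹ = τ := by
  have hle : D.T.map (MulAut.conj D.ρ).toMonoidHom ≤ D.T := by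
    rintro _ ⟨x, hx, rfl⟩
    exact D.ρT x hx
  have heq : D.T.map (MulAut.conj D.ρ).toMonoidHom = D.T := by
    apply Subgroup.eq_of_le_of_card_ge hle
    rw [Subgroup.card_map_of_injective (MulAut.conj D.ρ).injective]
  rw [← heq] at hτ
  obtain ⟨x, hx, rfl⟩ := hτ
  exact ⟨x, hx, rfl⟩

theorem norm_inv [Finite G] {n : G} (h : ∀ τ ∈ D.T, n * τ * n⁻¹ ∈ D.T) : ∀ τ ∈ D.T, n⁻¹ * τ * n ∈ D.T := by
  intro τ hτ
  have hle : D.T.map (MulAut.conj n).toMonoidHom ≤ D.T := by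
    rintro _ ⟨x, hx, rfl⟩
    exact h x hx
  have heq : D.T.map (MulAut.conj n).toMonoidHom = D.T := by
    apply Subgroup.eq_of_le_of_card_ge hle
    rw [Subgroup.card_map_of_injective (MulAut.conj n).injective]
  rw [← heq] at hτ
  obtain ⟨x, hx, rfl⟩ := hτ
  have : n⁻¹ * (MulAut.conj n).toMonoidHom x * n = x := by
    change n⁻¹ * (n * x * n⁻¹) * n = x
    group
  rw [this]
  exact hx

theorem t3_ne_t2 : D.t * D.t2 ≠ D.t2 := by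
  intro h
  apply D.t1
  exact mul_right_cancel (h.trans (one_mul _).symm)

theorem t3_ne_t : D.t * D.t2 ≠ D.t := by
  intro h
  apply D.t2_ne
  exact mul_left_cancel (h.trans (mul_one _).symm)

theorem t3_ne : D.t * D.t2 ≠ 1 := by
  intro h
  apply D.t2_ne_t
  have : D.t * (D.t * D.t2) = D.t := by rw [h, mul_one]
  rw [← mul_assoc, D.tt, one_mul] at this
  exact this

theorem t3t3 : D.t * D.t2 * (D.t * D.t2) = 1 := by
  calc D.t * D.t2 * (D.t * D.t2) = D.t * (D.t2 * D.t) * D.t2 := by group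
    _ = (D.t * D.t) * (D.t2 * D.t2) := by rw [D.t_t2]; group
    _ = 1 := by rw [D.tt, D.t2t2, one_mul]

theorem ρt3 : D.ρ * (D.t * D.t2) * D.ρ⁻¹ = D.t := by
  calc D.ρ * (D.t * D.t2) * D.ρ⁻¹ = (D.ρ * D.t * D.ρ⁻¹) * (D.ρ * D.t2 * D.ρ⁻¹) := by group
    _ = D.t2 * (D.t * D.t2) := by rw [D.ρt, D.ρt2]
    _ = (D.t2 * D.t) * D.t2 := by group
    _ = D.t * (D.t2 * D.t2) := by rw [D.t_t2]; group
    _ = D.t := by rw [D.t2t2, mul_one]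

theorem lam_t3 : ez D.Q D.lam (D.t * D.t2) = 1 := by
  rw [ez_mul _ _ (D.TQ D.t_mem) (D.TQ D.t2_mem), D.lam_t, D.lam_t2, one_mul]

theorem mu_t3 : ez D.Q D.mu (D.t * D.t2) = -1 := by
  rw [ez_mul _ _ (D.TQ D.t_mem) (D.TQ D.t2_mem), D.mu_t, D.mu_t2, one_mul]

/-- an element of `C(t)` which normalises `T` permutes `t2`, `t3` -/
theorem perm23 {n : G} (hn : n * D.t = D.t * n) (h : ∀ τ ∈ D.T, n * τ * n⁻¹ ∈ D.T) :
    n * D.t2 * n⁻¹ = D.t2 ∨ n * D.t2 * n⁻¹ = D.t * D.t2 := by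
  have h1 := D.Tinv _ (h _ D.t2_mem) (CData.conj_invol D.t2t2)
  rcases h1 with h1 | h1 | h1
  · exact absurd h1 (CData.conj_ne_one D.t2_ne)
  · exfalso
    apply D.t2_ne_t
    calc D.t2 = n⁻¹ * (n * D.t2 * n⁻¹) * n := by group
      _ = n⁻¹ * (D.t * n) := by rw [h1]; group
      _ = D.t := by rw [← hn]; group
  · exact h1

/-- stabilisers are in `C(t)` -/
theorem stab_C {n : G} (h : n ∈ D.T ∨ n * D.n1⁻¹ ∈ D.T) : n ∈ D.Q := by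
  rcases h with h | h
  · exact D.TQ h
  · have := D.Q.mul_mem (D.TQ h) D.n1Q
    rwa [inv_mul_cancel_right] at this

theorem ρ_not {n : G} (hn : n * D.t = D.t * n) (h : D.ρ * n ∈ D.Q) : False := by
  have h1 := D.QC _ h
  apply D.t2_ne_t
  calc D.t2 = D.ρ * D.t * D.ρ⁻¹ := D.ρt.symm
    _ = D.ρ * (D.t * n) * n⁻¹ * D.ρ⁻¹ := by group
    _ = (D.ρ * n * D.t) * n⁻¹ * D.ρ⁻¹ := by rw [← hn]; group
    _ = D.t := by rw [h1]; group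

/-- the stabiliser of a conjugate character -/
theorem stab1 [Finite G] {ξ : D.Q →* ℂˣ} {ξ1 : D.B →* ℂˣ} (heq : ∀ τ ∈ D.T, ez D.B ξ1 τ = ez D.Q ξ (D.ρ * τ * D.ρ⁻¹))
    (hst : ∀ n, (∀ τ ∈ D.T, n * τ * n⁻¹ ∈ D.T) → (∀ τ ∈ D.T, ez D.Q ξ (n * τ * n⁻¹) = ez D.Q ξ τ) →
      n ∈ D.T ∨ n * D.n1⁻¹ ∈ D.T) {n : G} (hnt : n * D.t = D.t * n) (hn : ∀ τ ∈ D.T, n * τ * n⁻¹ ∈ D.T)
    (h : ∀ τ ∈ D.T, ez D.B ξ1 τ = ez D.B ξ1 (n * τ * n⁻¹)) : n ∈ D.B := by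
  have hm : ∀ τ ∈ D.T, (D.ρ * n * D.ρ⁻¹) * τ * (D.ρ * n * D.ρ⁻¹)⁻¹ ∈ D.T := by
    intro τ hτ
    obtain ⟨σ, hσ, rfl⟩ := D.ρ_surj hτ
    have := D.ρT _ (hn _ hσ)
    have e : D.ρ * n * D.ρ⁻¹ * (D.ρ * σ * D.ρ⁻¹) * (D.ρ * n * D.ρ⁻¹)⁻¹ = D.ρ * (n * σ * n⁻¹) * D.ρ⁻¹ := by group
    rwa [e]
  have hs := hst _ hm (by
    intro τ hτ
    obtain ⟨σ, hσ, rfl⟩ := D.ρ_surj hτ
    have e : D.ρ * n * D.ρ⁻¹ * (D.ρ * σ * D.ρ⁻¹) * (D.ρ * n * D.ρ⁻¹)⁻¹ = D.ρ * (n * σ * n⁻¹) * D.ρ⁻¹ := by group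
    rw [e, ← heq _ (hn _ hσ), ← heq _ hσ, h σ hσ])
  rcases hs with hs | hs
  · have := D.norm_inv D.ρT _ hs
    have e : D.ρ⁻¹ * (D.ρ * n * D.ρ⁻¹) * D.ρ = n := by group
    rw [e] at this
    exact D.TB this
  · exfalso
    apply D.t3_ne_t2
    have h1 : D.ρ⁻¹ * D.t2 * D.ρ = D.t := by rw [← D.ρt]; group
    have h2 : (D.ρ * n * D.ρ⁻¹) * D.t2 * (D.ρ * n * D.ρ⁻¹)⁻¹ = D.t2 := by
      calc (D.ρ * n * D.ρ⁻¹) * D.t2 * (D.ρ * n * D.ρ⁻¹)⁻¹ = D.ρ * (n * (D.ρ⁻¹ * D.t2 * D.ρ)) * n⁻¹ * D.ρ⁻¹ := by group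
        _ = D.ρ * (D.t * n) * n⁻¹ * D.ρ⁻¹ := by rw [h1, hnt]
        _ = D.ρ * D.t * D.ρ⁻¹ := by group
        _ = D.t2 := D.ρt
    have h3 := D.comm _ hs _ (D.n1T _ D.t2_mem)
    calc D.t * D.t2 = D.n1 * D.t2 * D.n1⁻¹ := D.n1t2.symm
      _ = (D.ρ * n * D.ρ⁻¹ * D.n1⁻¹) * (D.n1 * D.t2 * D.n1⁻¹) * (D.ρ * n * D.ρ⁻¹ * D.n1⁻¹)⁻¹ := by
        rw [h3]; group
      _ = (D.ρ * n * D.ρ⁻¹) * D.t2 * (D.ρ * n * D.ρ⁻¹)⁻¹ := by group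
      _ = D.t2 := h2

/-- the data on the centraliser -/
noncomputable def toC [Finite G] : CData D.C where
  t := ⟨D.t, D.TleC D.t_mem⟩
  t2 := ⟨D.t2, D.TleC D.t2_mem⟩
  t3 := ⟨D.t, D.TleC D.t_mem⟩ * ⟨D.t2, D.TleC D.t2_mem⟩
  T := D.T.subgroupOf D.C
  B := D.B.subgroupOf D.C
  Q := D.Q.subgroupOf D.C
  lam := D.lam.comp (D.incl D.Q)
  mu := D.mu.comp (D.incl D.Q)
  lam1 := D.lam1.comp (D.incl D.B)
  mu1 := D.mu1.comp (D.incl D.B)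
  tt := Subtype.ext D.tt
  t1 := fun h => D.t1 (congrArg Subtype.val h)
  tc x := Subtype.ext (D.mem_C.1 x.2)
  t2t2 := Subtype.ext D.t2t2
  t2_ne := fun h => D.t2_ne (congrArg Subtype.val h)
  t2_ne_t := fun h => D.t2_ne_t (congrArg Subtype.val h)
  t3_eq := rfl
  TB := fun x hx => Subgroup.mem_subgroupOf.2 (D.TB (Subgroup.mem_subgroupOf.1 hx))
  BQ := fun x hx => Subgroup.mem_subgroupOf.2 (D.BQ (Subgroup.mem_subgroupOf.1 hx))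
  t_mem := Subgroup.mem_subgroupOf.2 D.t_mem
  t2_mem := Subgroup.mem_subgroupOf.2 D.t2_mem
  comm := fun x hx y hy => Subtype.ext (D.comm _ (Subgroup.mem_subgroupOf.1 hx) _ (Subgroup.mem_subgroupOf.1 hy))
  Qinv := by
    intro s hs h1 h2 h3
    obtain ⟨q, hq, h⟩ := D.Qinv _ (Subgroup.mem_subgroupOf.1 hs) (congrArg Subtype.val h1)
      (fun h => h2 (Subtype.ext h)) (fun h => h3 (Subtype.ext h))
    exact ⟨⟨q, D.QleC hq⟩, Subgroup.mem_subgroupOf.2 hq, Subtype.ext h⟩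
  Qcent := by
    intro q hq h
    exact Subgroup.mem_subgroupOf.2 (D.Qcent _ (Subgroup.mem_subgroupOf.1 hq) (congrArg Subtype.val h))
  Binv := by
    intro s hs h1 h2 h3
    rcases D.Binv _ (Subgroup.mem_subgroupOf.1 hs) (congrArg Subtype.val h1)
      (fun h => h2 (Subtype.ext h)) (fun h => h3 (Subtype.ext h)) with ⟨q, hq, h⟩ | ⟨q, hq, h⟩
    · exact Or.inl ⟨⟨q, D.BleC hq⟩, Subgroup.mem_subgroupOf.2 hq, Subtype.ext h⟩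
    · exact Or.inr ⟨⟨q, D.BleC hq⟩, Subgroup.mem_subgroupOf.2 hq, Subtype.ext h⟩
  Bne := fun b hb h => D.Bne _ (Subgroup.mem_subgroupOf.1 hb) (congrArg Subtype.val h)
  dec := by
    intro c
    obtain ⟨b, hb, n, hn, b', hb', h⟩ := D.dec c (D.mem_C.1 c.2)
    have hnC : n ∈ D.C := by
      have : n = b⁻¹ * (c : G) * b'⁻¹ := by rw [h]; group
      rw [this]
      exact D.C.mul_mem (D.C.mul_mem (D.C.inv_mem (D.BleC hb)) c.2) (D.C.inv_mem (D.BleC hb'))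
    refine ⟨⟨b, D.BleC hb⟩, Subgroup.mem_subgroupOf.2 hb, ⟨n, hnC⟩, fun τ hτ => ?_, ⟨b', D.BleC hb'⟩,
      Subgroup.mem_subgroupOf.2 hb', Subtype.ext h⟩
    exact Subgroup.mem_subgroupOf.2 (hn _ (Subgroup.mem_subgroupOf.1 hτ))
  odd := by
    intro x hx
    rw [ez_incl, ez_incl]
    apply D.odd
    intro s hs hss
    have hsC : s ∈ D.C := CData.zp_le x.2 hs
    exact congrArg Subtype.val (hx ⟨s, hsC⟩ (D.zp_coe.2 hs) (Subtype.ext hss))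
  odd1 := by
    intro x hx
    rw [ez_incl, ez_incl]
    apply D.odd1
    intro s hs hss
    have hsC : s ∈ D.C := CData.zp_le x.2 hs
    exact congrArg Subtype.val (hx ⟨s, hsC⟩ (D.zp_coe.2 hs) (Subtype.ext hss))
  lam_t := by rw [ez_incl]; exact D.lam_t
  lam_t2 := by rw [ez_incl]; exact D.lam_t2
  mu_t := by rw [ez_incl]; exact D.mu_t
  mu_t2 := by rw [ez_incl]; exact D.mu_t2
  lam1_t := by rw [ez_incl, D.lam1_eq _ D.t_mem, D.ρt, D.lam_t2]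
  lam1_t2 := by rw [ez_incl, D.lam1_eq _ D.t2_mem, D.ρt2, D.lam_t3]
  mu1_t := by rw [ez_incl, D.mu1_eq _ D.t_mem, D.ρt, D.mu_t2]
  mu1_t2 := by rw [ez_incl, D.mu1_eq _ D.t2_mem, D.ρt2, D.mu_t3]
  st := by
    intro n hn h
    apply Subgroup.mem_subgroupOf.2
    apply D.stab_C
    apply D.stab _ (D.lift_norm hn)
    intro τ hτ
    have := h ⟨τ, D.TleC hτ⟩ (Subgroup.mem_subgroupOf.2 hτ)
    rw [ez_incl, ez_incl] at this
    exact this.symm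
  st' := by
    intro n hn h
    apply Subgroup.mem_subgroupOf.2
    apply D.stab_C
    apply D.stab' _ (D.lift_norm hn)
    intro τ hτ
    have := h ⟨τ, D.TleC hτ⟩ (Subgroup.mem_subgroupOf.2 hτ)
    rw [ez_incl, ez_incl] at this
    exact this.symm
  st1 := by
    intro n hn h
    apply Subgroup.mem_subgroupOf.2
    apply D.stab1 D.lam1_eq D.stab (D.mem_C.1 n.2) (D.lift_norm hn)
    intro τ hτ
    have := h ⟨τ, D.TleC hτ⟩ (Subgroup.mem_subgroupOf.2 hτ)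
    rw [ez_incl, ez_incl] at this
    exact this
  st1' := by
    intro n hn h
    apply Subgroup.mem_subgroupOf.2
    apply D.stab1 D.mu1_eq D.stab' (D.mem_C.1 n.2) (D.lift_norm hn)
    intro τ hτ
    have := h ⟨τ, D.TleC hτ⟩ (Subgroup.mem_subgroupOf.2 hτ)
    rw [ez_incl, ez_incl] at this
    exact this
  ne1 := by
    intro n hn h
    have h1 := h ⟨D.t2, D.TleC D.t2_mem⟩ (Subgroup.mem_subgroupOf.2 D.t2_mem)
    rw [ez_incl, ez_incl, sub_conj] at h1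
    change ez D.Q D.lam D.t2 = ez D.Q D.mu ((n : G) * D.t2 * (n : G)⁻¹) at h1
    rcases D.perm23 (D.mem_C.1 n.2) (D.lift_norm hn) with h2 | h2
    · rw [h2, D.lam_t2, D.mu_t2] at h1
      norm_num at h1
    · rw [h2, D.lam_t2, D.mu_t3] at h1
      norm_num at h1
  ne2 := by
    intro n hn h
    have h1 := h ⟨D.t, D.TleC D.t_mem⟩ (Subgroup.mem_subgroupOf.2 D.t_mem)
    rw [ez_incl, ez_incl, sub_conj] at h1
    change ez D.B D.lam1 D.t = ez D.B D.mu1 ((n : G) * D.t * (n : G)⁻¹) at h1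
    rw [D.mem_C.1 n.2, mul_inv_cancel_right, D.lam1_eq _ D.t_mem, D.mu1_eq _ D.t_mem, D.ρt, D.lam_t2, D.mu_t2] at h1
    norm_num at h1
  ne3 := by
    intro n hn h
    have hnt := D.mem_C.1 n.2
    have hn' := D.lift_norm hn
    apply D.ρ_not hnt
    apply D.stab_C
    apply D.stab
    · intro τ hτ
      have e : D.ρ * n * τ * (D.ρ * n)⁻¹ = D.ρ * (n * τ * (n : G)⁻¹) * D.ρ⁻¹ := by group
      rw [e]
      exact D.ρT _ (hn' _ hτ)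
    · intro τ hτ
      have e : D.ρ * n * τ * (D.ρ * n)⁻¹ = D.ρ * (n * τ * (n : G)⁻¹) * D.ρ⁻¹ := by group
      rw [e, ← D.lam1_eq _ (hn' _ hτ)]
      have := h ⟨τ, D.TleC hτ⟩ (Subgroup.mem_subgroupOf.2 hτ)
      rw [ez_incl, ez_incl] at this
      exact this.symm
  ne4 := by
    intro n hn h
    have h1 := h ⟨D.t, D.TleC D.t_mem⟩ (Subgroup.mem_subgroupOf.2 D.t_mem)
    rw [ez_incl, ez_incl, sub_conj] at h1
    change ez D.Q D.lam D.t = ez D.B D.mu1 ((n : G) * D.t * (n : G)⁻¹) at h1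
    rw [D.mem_C.1 n.2, mul_inv_cancel_right, D.mu1_eq _ D.t_mem, D.ρt, D.lam_t, D.mu_t2] at h1
    norm_num at h1
  ne5 := by
    intro n hn h
    have h1 := h ⟨D.t2, D.TleC D.t2_mem⟩ (Subgroup.mem_subgroupOf.2 D.t2_mem)
    rw [ez_incl, ez_incl, sub_conj] at h1
    change ez D.Q D.mu D.t2 = ez D.B D.lam1 ((n : G) * D.t2 * (n : G)⁻¹) at h1
    rcases D.perm23 (D.mem_C.1 n.2) (D.lift_norm hn) with h2 | h2
    · rw [h2, D.lam1_eq _ D.t2_mem, D.ρt2, D.lam_t3, D.mu_t2] at h1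
      norm_num at h1
    · rw [h2, D.lam1_eq _ (D.T.mul_mem D.t_mem D.t2_mem), D.ρt3, D.lam_t, D.mu_t2] at h1
      norm_num at h1
  ne6 := by
    intro n hn h
    have h1 := h ⟨D.t, D.TleC D.t_mem⟩ (Subgroup.mem_subgroupOf.2 D.t_mem)
    rw [ez_incl, ez_incl, sub_conj] at h1
    change ez D.Q D.mu D.t = ez D.B D.mu1 ((n : G) * D.t * (n : G)⁻¹) at h1
    rw [D.mem_C.1 n.2, mul_inv_cancel_right, D.mu1_eq _ D.t_mem, D.ρt, D.mu_t, D.mu_t2] at h1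
    norm_num at h1

end GData

end Cfsg.Agent.GTwoOdd.GamC
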