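import Cfsg.Agent.GTwoOdd.GamCard
import Cfsg.Agent.GTwoOdd.GamG

/-!
# The data of the character argument, from a frame

`Frame.gdata`: the `GData` of a frame, all fields about the group proved; the characters, their fields and the
stabilisers are arguments.
-/

set_option autoImplicit false

namespace Cfsg.Agent.GTwoOdd

open Matrix

namespace LocalSL

universe u

variable {G : Type u} [Group G] {t : G} {F1 F2 : Type*} [Field F1] [Field F2]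

section hyp

variable [Finite F1] [Finite F2] {L : LocalSL t F1 F2} {s : G}

/-- elements which normalise `V0` and centralise `t` normalise `T` -/
theorem Frame.cent_norm {D1 : M2 F1} {D2 : M2 F2} {n1 : SL2 F1} {n2 : SL2 F2} (F : L.Frame s D1 D2 n1 n2) {c : G}
    (hc : c * t = t * c) (h : c * s * c⁻¹ = s ∨ c * s * c⁻¹ = t * s) {τ : G} (hτ : τ ∈ L.tor D1 D2) :
    c * τ * c⁻¹ ∈ L.tor D1 D2 := by
  rw [F.mem_iff_can] at hτ ⊢
  have h1 := hτ.conj c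
  have h2 : c * t * c⁻¹ = t := by rw [hc]; group
  rw [h2] at h1
  rcases h with h | h
  · rwa [h] at h1
  · rw [h, ← F.st] at h1
    exact (CanT.right_iff L.t_sq).1 h1

/-- `ρ` normalises `T` -/
theorem Frame.rho_norm {D1 : M2 F1} {D2 : M2 F2} {n1 : SL2 F1} {n2 : SL2 F2} (F : L.Frame s D1 D2 n1 n2) {ρ : G}
    (h1 : ρ * t * ρ⁻¹ = s) (h2 : ρ * s * ρ⁻¹ = t * s) {τ : G} (hτ : τ ∈ L.tor D1 D2) :
    ρ * τ * ρ⁻¹ ∈ L.tor D1 D2 := by
  rw [F.mem_iff_can] at hτ ⊢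
  have h3 := hτ.conj ρ
  rw [h1, h2] at h3
  exact (CanT.swap_iff F.st).1 ((CanT.right_iff F.ss).1 h3)

theorem Frame.n1_conj {D1 : M2 F1} {D2 : M2 F2} {n1 : SL2 F1} {n2 : SL2 F2} (F : L.Frame s D1 D2 n1 n2) :
    L.e1 n1 * s * (L.e1 n1)⁻¹ = t * s := by
  rw [F.n1_s, ← F.st]
  group

variable {n1 : SL2 F1} {n2 : SL2 F2} (F : L.Frame s (dg F1) (dg F2) n1 n2)
include F

/-- the involutions of `Q`, in the form of `GData` -/
theorem Frame.Qinv : ∀ v ∈ L.par, v * v = 1 → v ≠ 1 → v ≠ t → ∃ q ∈ L.par, q * s * q⁻¹ = v := by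
  intro v hv h h1 ht
  obtain ⟨g, hg, h2⟩ := F.par_invol hv h h1 ht
  exact ⟨g⁻¹, L.par.inv_mem hg, by rw [← h2]; group⟩

/-- the involutions of `B`, in the form of `GData` -/
theorem Frame.Binv : ∀ v ∈ L.bor, v * v = 1 → v ≠ 1 → v ≠ t →
    (∃ b ∈ L.bor, b * s * b⁻¹ = v) ∨ ∃ b ∈ L.bor, b * (t * s) * b⁻¹ = v := by
  intro v hv h h1 ht
  obtain ⟨g, hg, h2 | h2⟩ := F.bor_invol hv h h1 ht
  · exact Or.inl ⟨g⁻¹, L.bor.inv_mem (L.uni_le_bor hg), by rw [← h2]; group⟩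
  · exact Or.inr ⟨g⁻¹, L.bor.inv_mem (L.uni_le_bor hg), by rw [← F.st, ← h2]; group⟩

/-- the data of the character argument -/
noncomputable def Frame.gdata (ρ : G) (hρt : ρ * t * ρ⁻¹ = s) (hρs : ρ * s * ρ⁻¹ = t * s)
    (lam mu : L.par →* ℂˣ) (lam1 mu1 : L.bor →* ℂˣ)
    (lam1_eq : ∀ τ ∈ L.T0, GamC.ez L.bor lam1 τ = GamC.ez L.par lam (ρ * τ * ρ⁻¹))
    (mu1_eq : ∀ τ ∈ L.T0, GamC.ez L.bor mu1 τ = GamC.ez L.par mu (ρ * τ * ρ⁻¹))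
    (odd : ∀ x : G, (∀ s ∈ Subgroup.zpowers x, s * s = 1 → s = 1) → GamC.ez L.par lam x = GamC.ez L.par mu x)
    (odd1 : ∀ x : G, (∀ s ∈ Subgroup.zpowers x, s * s = 1 → s = 1) → GamC.ez L.bor lam1 x = GamC.ez L.bor mu1 x)
    (lam_t : GamC.ez L.par lam t = 1) (lam_t2 : GamC.ez L.par lam s = 1)
    (mu_t : GamC.ez L.par mu t = 1) (mu_t2 : GamC.ez L.par mu s = -1)
    (stab : ∀ n, (∀ τ ∈ L.T0, n * τ * n⁻¹ ∈ L.T0) →
      (∀ τ ∈ L.T0, GamC.ez L.par lam (n * τ * n⁻¹) = GamC.ez L.par lam τ) → n ∈ L.T0 ∨ n * (L.e1 n1)⁻¹ ∈ L.T0)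
    (stab' : ∀ n, (∀ τ ∈ L.T0, n * τ * n⁻¹ ∈ L.T0) →
      (∀ τ ∈ L.T0, GamC.ez L.par mu (n * τ * n⁻¹) = GamC.ez L.par mu τ) → n ∈ L.T0 ∨ n * (L.e1 n1)⁻¹ ∈ L.T0)
    (cls : ∀ v : G, v * v = 1 → v ≠ 1 → ∃ g, g * t * g⁻¹ = v) : GamC.GData G where
  t := t
  t2 := s
  ρ := ρ
  n1 := L.e1 n1
  w := L.e1 n1 * L.e2 n2
  T := L.T0
  B := L.bor
  Q := L.par
  lam := lam
  mu := mu
  lam1 := lam1
  mu1 := mu1
  tt := L.t_sq
  t1 := F.t_ne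
  t2t2 := F.ss
  t2_ne := F.s_ne_one
  t2_ne_t := F.s_ne_t
  TB := F.hyp.T0_le_bor
  BQ := L.bor_le_par
  QC := fun _ hc => zero_t (L.par_le_zero hc)
  t_mem := F.t_mem
  t2_mem := F.s_mem
  comm := fun _ hx _ hy => F.tor_comm hx hy
  Tinv := fun x hx h => by
    rw [← F.st]
    exact F.tor_invol hx h
  Qinv := F.Qinv
  Qcent := fun _ hq h => F.par_cent hq h
  Binv := F.Binv
  Bne := fun b hb => by
    rw [← F.st]
    exact F.bor_not_conj hb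
  dec := fun c hc => by
    obtain ⟨b, hb, n, -, hn, b', hb', h⟩ := F.hyp.weak_bruhat' hc
    exact ⟨b, hb, n, hn, b', hb', h⟩
  ρt := hρt
  ρt2 := hρs
  ρT := fun _ hτ => F.rho_norm hρt hρs hτ
  lam1_eq := lam1_eq
  mu1_eq := mu1_eq
  odd := odd
  odd1 := odd1
  lam_t := lam_t
  lam_t2 := lam_t2
  mu_t := mu_t
  mu_t2 := mu_t2
  n1Q := L.e1_mem_par n1
  n1t2 := F.n1_conj
  n1T := fun _ hτ => F.cent_norm (e1_t n1) (Or.inr F.n1_conj) hτ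
  stab := stab
  stab' := stab'
  Kn := fun _ hc h _ hτ => F.cent_norm hc h hτ
  ww := F.ww
  wt := F.w_t
  w_inv := fun τ hτ => by
    rw [F.w_inv hτ]
    group
  w_nm := F.w_not_mem
  Kinv := fun _ h1 h2 h3 => F.invol_mem h1 h2 h3
  cls := cls

end hyp

end LocalSL

end Cfsg.Agent.GTwoOdd
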