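import Cfsg.Agent.GTwoOdd.SymmL

/-!
# `T_i ∩ T_i^ρ` in an arbitrary frame
-/

set_option autoImplicit false

namespace Cfsg.Agent.GTwoOdd

open Matrix

namespace LocalSL

variable {G : Type*} [Group G] {t : G} {F1 F2 : Type*} [Field F1] [Field F2]
variable [Finite F1] [Finite F2] {L : LocalSL t F1 F2} {s g : G} {D1 : M2 F1} {D2 : M2 F2} {n1 : SL2 F1} {n2 : SL2 F2}

namespace Swap

variable (S : L.Swap s D1 D2 n1 n2 g)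
include S

theorem ng_rho : NormT (L.tor D1 D2) (rho L n1 g) := ⟨fun _ hc => S.rho_tor hc, fun _ hc => S.rho_tor' hc⟩
theorem ng_r1 : NormT (L.tor D1 D2) (L.e1 n1) := ⟨fun _ hc => S.r1_tor hc, fun _ hc => S.r1_tor' hc⟩
theorem ng_r2 : NormT (L.tor D1 D2) (L.e2 n2) := ⟨fun _ hc => S.r2_tor hc, fun _ hc => S.r2_tor' hc⟩
theorem ng_g : NormT (L.tor D1 D2) g := ⟨fun _ hc => S.g_tor hc, fun _ hc => S.g_tor' hc⟩
theorem ng_rp : NormT (L.tor D1 D2) (rp L n1 g) := ⟨fun _ hc => S.rp_tor hc, fun _ hc => S.rp_tor' hc⟩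

theorem gr1_sq : EqT (L.tor D1 D2) (L.e1 n1 * L.e1 n1) 1 := by
  apply EqT.one_of_mem; rw [S.r1_sq]; exact S.toFrame.t_mem

theorem gr2_sq : EqT (L.tor D1 D2) (L.e2 n2 * L.e2 n2) 1 := by
  apply EqT.one_of_mem; rw [S.r2_sq]; exact S.toFrame.t_mem

/-- `r1 ρ r1⁻¹ = ρ⁻¹` modulo `T` -/
theorem gr1_rho : EqT (L.tor D1 D2) (L.e1 n1 * rho L n1 g * (L.e1 n1)⁻¹) (rho L n1 g)⁻¹ := by
  unfold EqT
  rw [inv_inv]
  have := S.r1_rho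
  rw [this]
  exact mul_mem S.toFrame.t_mem S.toFrame.s_mem

/-- `r2 ρ r2⁻¹ = ρ⁻¹` modulo `T` -/
theorem gr2_rho : EqT (L.tor D1 D2) (L.e2 n2 * rho L n1 g * (L.e2 n2)⁻¹) (rho L n1 g)⁻¹ := by
  obtain ⟨τ, hτ, hw⟩ := S.w_g
  have nr1 := S.ng_r1
  have nr2 := S.ng_r2
  have nro := S.ng_rho
  have nrp := S.ng_rp
  have ng := S.ng_g
  have cm : L.e1 n1 * L.e2 n2 = L.e2 n2 * L.e1 n1 := L.comm _ _
  have h1 : EqT (L.tor D1 D2) (L.e1 n1 * L.e2 n2 * rp L n1 g * (L.e1 n1 * L.e2 n2)⁻¹) (rp L n1 g) := by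
    have hwg : (L.e1 n1 * L.e2 n2) * g = τ⁻¹ * (g * (L.e1 n1 * L.e2 n2)) := by
      calc (L.e1 n1 * L.e2 n2) * g = τ⁻¹ * (τ * (L.e1 n1 * L.e2 n2)) * g := by group
        _ = τ⁻¹ * (g * (L.e1 n1 * L.e2 n2) * g⁻¹) * g := by rw [hw]
        _ = _ := by group
    have hwr : (L.e1 n1 * L.e2 n2) * L.e1 n1 * (L.e1 n1 * L.e2 n2)⁻¹ = L.e1 n1 := by
      calc (L.e1 n1 * L.e2 n2) * L.e1 n1 * (L.e1 n1 * L.e2 n2)⁻¹
          = L.e1 n1 * (L.e2 n2 * L.e1 n1) * (L.e1 n1 * L.e2 n2)⁻¹ := by group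
        _ = _ := by rw [← cm]; group
    have e : L.e1 n1 * L.e2 n2 * rp L n1 g * (L.e1 n1 * L.e2 n2)⁻¹ =
        τ⁻¹ * rp L n1 g * τ := by
      unfold rp
      calc L.e1 n1 * L.e2 n2 * (g * L.e1 n1 * g⁻¹) * (L.e1 n1 * L.e2 n2)⁻¹
          = ((L.e1 n1 * L.e2 n2) * g) * L.e1 n1 * ((L.e1 n1 * L.e2 n2) * g)⁻¹ := by group
        _ = τ⁻¹ * g * ((L.e1 n1 * L.e2 n2) * L.e1 n1 * (L.e1 n1 * L.e2 n2)⁻¹) * g⁻¹ * τ := by
          rw [hwg]; group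
        _ = _ := by rw [hwr]; group
    rw [e]
    unfold EqT
    have e2 : τ⁻¹ * rp L n1 g * τ * (rp L n1 g)⁻¹ = τ⁻¹ * (rp L n1 g * τ * (rp L n1 g)⁻¹) := by
      group
    rw [e2]
    exact mul_mem (inv_mem hτ) (nrp.1 _ hτ)
  have h2 : EqT (L.tor D1 D2) (L.e1 n1 * L.e2 n2 * rho L n1 g * (L.e1 n1 * L.e2 n2)⁻¹) (rho L n1 g) := by
    have e : L.e1 n1 * L.e2 n2 * rho L n1 g * (L.e1 n1 * L.e2 n2)⁻¹ =
        L.e1 n1 * (L.e1 n1 * L.e2 n2 * rp L n1 g * (L.e1 n1 * L.e2 n2)⁻¹) := by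
      unfold rho
      calc L.e1 n1 * L.e2 n2 * (L.e1 n1 * rp L n1 g) * (L.e1 n1 * L.e2 n2)⁻¹
          = L.e1 n1 * (L.e2 n2 * L.e1 n1) * rp L n1 g * (L.e1 n1 * L.e2 n2)⁻¹ := by group
        _ = _ := by rw [← cm]; group
    rw [e]
    exact EqT.mul nr1 (EqT.refl _) h1
  have e : L.e2 n2 * rho L n1 g * (L.e2 n2)⁻¹ = (L.e1 n1)⁻¹ *
      (L.e1 n1 * L.e2 n2 * rho L n1 g * (L.e1 n1 * L.e2 n2)⁻¹) * L.e1 n1 := by group
  rw [e]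
  have h3 : EqT (L.tor D1 D2) ((L.e1 n1)⁻¹ *
      (L.e1 n1 * L.e2 n2 * rho L n1 g * (L.e1 n1 * L.e2 n2)⁻¹) * L.e1 n1)
      ((L.e1 n1)⁻¹ * rho L n1 g * L.e1 n1) :=
    EqT.mul (nr1.inv.mul nro) (EqT.mul nr1.inv (EqT.refl _) h2) (EqT.refl _)
  refine h3.trans ?_
  have h4 := EqT.inv nro.inv S.gr1_rho
  rw [inv_inv] at h4
  have h5 : EqT (L.tor D1 D2) ((L.e1 n1)⁻¹ * (L.e1 n1 * rho L n1 g * (L.e1 n1)⁻¹)⁻¹ * L.e1 n1)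
      ((L.e1 n1)⁻¹ * rho L n1 g * L.e1 n1) :=
    EqT.mul (nr1.inv.mul nro) (EqT.mul nr1.inv (EqT.refl _) h4) (EqT.refl _)
  refine h5.symm.trans (EqT.of_eq ?_)
  group

/-- `ρ` of the exchanged datum is `ρ` modulo `T` -/
theorem gsw_rho : EqT (L.tor D1 D2) (rho L.sw n2 g) (rho L n1 g) := by
  obtain ⟨τ, hτ, hw⟩ := S.w_g
  have nr1 := S.ng_r1
  have nr2 := S.ng_r2
  have nrp := S.ng_rp
  have h1 : g * L.e2 n2 * g⁻¹ = (rp L n1 g)⁻¹ * τ * (L.e1 n1 * L.e2 n2) := by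
    unfold rp
    calc g * L.e2 n2 * g⁻¹ = (g * L.e1 n1 * g⁻¹)⁻¹ * (g * (L.e1 n1 * L.e2 n2) * g⁻¹) := by group
      _ = _ := by rw [hw]; group
  have h2 : rho L.sw n2 g = L.e2 n2 * ((rp L n1 g)⁻¹ * τ * (L.e1 n1 * L.e2 n2)) := by
    change L.e2 n2 * (g * L.e2 n2 * g⁻¹) = _
    rw [h1]
  have h3 : EqT (L.tor D1 D2) (rho L.sw n2 g) (L.e2 n2 * ((rp L n1 g)⁻¹ * (L.e1 n1 * L.e2 n2))) := by
    rw [h2]
    apply EqT.mul nr2 (EqT.refl _)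
    have e : (rp L n1 g)⁻¹ * τ * (L.e1 n1 * L.e2 n2) =
        ((rp L n1 g)⁻¹ * τ * rp L n1 g) * ((rp L n1 g)⁻¹ * (L.e1 n1 * L.e2 n2)) := by group
    rw [e]
    unfold EqT
    have e2 : (rp L n1 g)⁻¹ * τ * rp L n1 g * ((rp L n1 g)⁻¹ * (L.e1 n1 * L.e2 n2)) *
        ((rp L n1 g)⁻¹ * (L.e1 n1 * L.e2 n2))⁻¹ = (rp L n1 g)⁻¹ * τ * rp L n1 g := by group
    rw [e2]
    exact nrp.2 _ hτ
  refine h3.trans ?_
  have h4 : L.e2 n2 * ((rp L n1 g)⁻¹ * (L.e1 n1 * L.e2 n2)) =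
      L.e2 n2 * (rho L n1 g)⁻¹ * (L.e1 n1 * L.e1 n1) * L.e2 n2 := by
    unfold rho
    group
  rw [h4]
  have nro := S.ng_rho
  have h5 : EqT (L.tor D1 D2) (L.e2 n2 * (rho L n1 g)⁻¹ * (L.e1 n1 * L.e1 n1) * L.e2 n2)
      (L.e2 n2 * (rho L n1 g)⁻¹ * 1 * L.e2 n2) :=
    EqT.mul ((nr2.mul nro.inv).mul NormT.one) (EqT.mul (nr2.mul nro.inv) (EqT.refl _) S.gr1_sq) (EqT.refl _)
  refine h5.trans ?_
  rw [mul_one]
  have h6 : L.e2 n2 * (rho L n1 g)⁻¹ * L.e2 n2 =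
      (L.e2 n2 * rho L n1 g * (L.e2 n2)⁻¹)⁻¹ * (L.e2 n2 * L.e2 n2) := by group
  rw [h6]
  have h7 := EqT.inv nro.inv S.gr2_rho
  rw [inv_inv] at h7
  have h8 := EqT.mul nro h7 S.gr2_sq
  rwa [mul_one] at h8

/-- conjugation of elements of `T` by elements equal modulo `T` -/
theorem cj_tor {a b x : G} (h : EqT (L.tor D1 D2) a b) (hx : x ∈ L.tor D1 D2) : a⁻¹ * x * a = b⁻¹ * x * b := by
  have h1 : (a * b⁻¹) * x = x * (a * b⁻¹) := S.toFrame.tor_comm h hx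
  have h2 : (a * b⁻¹)⁻¹ * x * (a * b⁻¹) = x := by
    rw [mul_assoc, ← h1]; group
  calc a⁻¹ * x * a = b⁻¹ * ((a * b⁻¹)⁻¹ * x * (a * b⁻¹)) * b := by group
    _ = _ := by rw [h2]

end Swap

/-- `x ∈ T_2 ∩ T_2^ρ`, `x ≠ 1` -/
structure XIn (L : LocalSL t F1 F2) (s : G) (D1 : M2 F1) (D2 : M2 F2) (n1 : SL2 F1) (n2 : SL2 F2) (g x : G) : Prop where
  sw : L.Swap s D1 D2 n1 n2 g
  mem : x ∈ L.tor2 D2
  mem' : (rho L n1 g)⁻¹ * x * rho L n1 g ∈ L.tor2 D2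
  ne : x ≠ 1

/-- `x ∈ T_1 ∩ T_1^ρ` gives `XIn` for the exchanged datum -/
theorem XIn.of_sw (S : L.Swap s D1 D2 n1 n2 g) {x : G} (h1 : x ∈ L.tor1 D1)
    (h2 : (rho L n1 g)⁻¹ * x * rho L n1 g ∈ L.tor1 D1) (hne : x ≠ 1) : XIn L.sw s D2 D1 n2 n1 g x := by
  refine ⟨S.sw, h1, ?_, hne⟩
  have := S.cj_tor S.gsw_rho (Frame.tor1_le L D1 D2 h1)
  rw [this]
  exact h2

namespace XIn

variable {x : G} (X : XIn L s D1 D2 n1 n2 g x)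
include X

theorem e1 (y : SL2 F1) : L.e1 y * x = x * L.e1 y := Frame.tor2_e1 X.mem y

/-- `x` centralises `ρ L1 ρ⁻¹` -/
theorem re1 (y : SL2 F1) : rho L n1 g * L.e1 y * (rho L n1 g)⁻¹ * x = x * (rho L n1 g * L.e1 y * (rho L n1 g)⁻¹) := by
  have h1 := Frame.tor2_e1 X.mem' y
  calc rho L n1 g * L.e1 y * (rho L n1 g)⁻¹ * x
      = rho L n1 g * (L.e1 y * ((rho L n1 g)⁻¹ * x * rho L n1 g)) * (rho L n1 g)⁻¹ := by group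
    _ = _ := by rw [h1]; group

/-- the matrix of `x` -/
theorem exists_x0 : ∃ x0 : SL2 F2, x = L.e2 x0 ∧ (x0 : M2 F2) * D2 = D2 * x0 ∧ x0 ≠ 1 ∧ x0 ≠ -1 := by
  obtain ⟨x0, h1, h2⟩ := mem_tor2.1 X.mem
  refine ⟨x0, h2, h1, ?_, ?_⟩
  · rintro rfl
    apply X.ne
    rw [h2, map_one]
  · rintro rfl
    rw [L.neg2] at h2
    -- `x = t`, `ρ⁻¹ t ρ ∈ T2` is an involution, hence `t`; but `ρ t = s ρ`
    have h3 := X.mem'
    rw [h2] at h3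
    obtain ⟨y, -, h5⟩ := mem_tor2.1 h3
    -- `y² = 1`
    have hρ : rho L n1 g * (s * t) * (rho L n1 g)⁻¹ = t := by
      have e1 := X.sw.rho_t
      have e2 := X.sw.rho_s
      have hst := X.sw.toFrame.rep.comm
      calc rho L n1 g * (s * t) * (rho L n1 g)⁻¹ = (rho L n1 g * s) * t * (rho L n1 g)⁻¹ := by group
        _ = s * t * (rho L n1 g * t) * (rho L n1 g)⁻¹ := by rw [e2]; group
        _ = s * t * s := by rw [e1]; group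
        _ = t * (s * s) := by rw [hst, mul_assoc]
        _ = t := by rw [X.sw.toFrame.ss, mul_one]
    have h6 : (rho L n1 g)⁻¹ * t * rho L n1 g = s * t := by
      nth_rw 2 [← hρ]; group
    rw [h6] at h5
    -- `e2 y = s t`
    have h7 : L.Rep (s * t) D1 D2 := by
      have := X.sw.toFrame.mul_t
      exact this.rep
    have h8 := Rep.e2 L y
    rw [← h5] at h8
    obtain ⟨⟨a, ha, h9⟩, -⟩ := h8.prop h7
    have htr := X.sw.toFrame.tr1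
    rw [h9, Matrix.trace_smul, Matrix.trace_fin_two] at htr
    simp at htr
    rcases htr with h | h
    · exact ha h
    · exact X.sw.toFrame.two1 (by linear_combination h)

end XIn

end LocalSL

end Cfsg.Agent.GTwoOdd
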