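import Cfsg.Agent.GTwoOdd.GamMove
import Cfsg.Agent.GTwoOdd.XRho

/-!
# The character argument for a split frame

`Swap.gam_of_stab`: `p` divides `|G : C(t)|`, the stabilisers being a hypothesis.
-/

set_option autoImplicit false

namespace Cfsg.Agent.GTwoOdd

open Matrix

namespace GamMain

variable {F : Type*} [Field F]

/-- `φ x = ± x` for all `x` gives `φ = 1` -/
theorem aut_two (h2 : (2 : F) ≠ 0) (φ : F ≃+* F) (h : ∀ x, x ≠ 0 → φ x ^ 2 = x ^ 2) : φ = RingEquiv.refl F := by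
  have h1 : ∀ x, φ x = x ∨ φ x = -x := by
    intro x
    by_cases hx : x = 0
    · left; rw [hx, map_zero]
    · exact sq_eq_sq_iff_eq_or_eq_neg.1 (h x hx)
  ext x
  change φ x = x
  rcases h1 x with hx | hx
  · exact hx
  · rcases h1 (1 + x) with hy | hy
    · rw [map_add, map_one, hx] at hy
      have h3 : (2 : F) * x = 0 := by linear_combination -hy
      have h4 : x = 0 := (mul_eq_zero.1 h3).resolve_left h2
      rw [hx, h4, neg_zero]
    · exfalso
      rw [map_add, map_one, hx] at hy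
      apply h2
      linear_combination hy

/-- `φ x ^ k = x ^ k` for all `x`, `k` prime to the order of `Fˣ`, gives `φ = 1` -/
theorem aut_of_inj {k : ℕ} (hk : ∀ x : Fˣ, x ^ k = 1 → x = 1) (φ : F ≃+* F) (h : ∀ x, x ≠ 0 → φ x ^ k = x ^ k) :
    φ = RingEquiv.refl F := by
  ext x
  change φ x = x
  by_cases hx : x = 0
  · rw [hx, map_zero]
  · have h1 : φ x ≠ 0 := by simpa using hx
    have h2 : (φ x / x) ^ k = 1 := by rw [div_pow, h x hx, div_self (pow_ne_zero _ hx)]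
    have h3 := hk (Units.mk0 _ (div_ne_zero h1 hx)) (Units.ext h2)
    have h4 : φ x / x = 1 := congrArg Units.val h3
    exact (div_eq_one_iff_eq hx).1 h4

theorem exists_pow_ne [Finite F] {m : ℕ} (hm : 0 < m) (hF : m + 1 < Nat.card F) : ∃ x : F, x ≠ 0 ∧ x ^ m ≠ 1 := by
  obtain ⟨g, hg⟩ := IsCyclic.exists_generator (α := Fˣ)
  have ho : orderOf g = Nat.card Fˣ := orderOf_eq_card_of_forall_mem_zpowers hg
  rw [Nat.card_units] at ho
  refine ⟨g, g.ne_zero, fun h => ?_⟩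
  have h1 : g ^ m = 1 := Units.ext (by rw [Units.val_pow_eq_pow_val]; exact h)
  have h2 := Nat.le_of_dvd hm (orderOf_dvd_of_pow_eq_one h1)
  omega

end GamMain

namespace LocalSL

universe u

variable {G : Type u} [Group G] [Finite G] {t : G} {F1 F2 : Type*} [Field F1] [Field F2] [Finite F1] [Finite F2]
variable {L : LocalSL t F1 F2} {s g : G}

/-- **the character argument**, the stabilisers being a hypothesis -/
theorem Swap.gam_of_stab (S : L.Split s g) (hcl : ∀ x : G, x * x = 1 → x ≠ 1 → ∃ g, g * t = x * g)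
    (hq : Nat.card F1 = Nat.card F2) (h5 : 5 < Nat.card F1)
    (hx2 : ∀ x, ¬ XIn L s (dg F1) (dg F2) (wn F1) (wn F2) g x)
    (hx1 : ∀ x, ¬ XIn L.sw s (dg F2) (dg F1) (wn F2) (wn F1) g x)
    (hstab : ∀ {ρ : G}, ρ * t * ρ⁻¹ = s → ρ * s * ρ⁻¹ = t * s →
      (∀ c ∈ L.tor1 (dg F1), ρ * c * ρ⁻¹ ∈ L.tor1 (dg F1) → c = 1) →
      (∀ c ∈ L.tor2 (dg F2), ρ * c * ρ⁻¹ ∈ L.tor2 (dg F2) → c = 1) →
      ∀ k : ℕ, (∀ φ : F2 ≃+* F2, (∀ x, x ≠ 0 → φ x ^ k = x ^ k) → φ = RingEquiv.refl F2) →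
        (∃ x : F2, x ≠ 0 ∧ x ^ (2 * k) ≠ 1) → L.Stab (wn F1) k)
    {p : ℕ} (hp : p.Prime) (hpF : p ∣ Nat.card F1) : p ∣ (Subgroup.centralizer ({t} : Set G)).index := by
  have hρt : rho L (wn F1) g * t * (rho L (wn F1) g)⁻¹ = s := by rw [S.rho_t]; group
  have hρs : rho L (wn F1) g * s * (rho L (wn F1) g)⁻¹ = t * s := by rw [S.rho_s, ← S.toFrame.st]; group
  have x1 : ∀ c ∈ L.tor1 (dg F1), rho L (wn F1) g * c * (rho L (wn F1) g)⁻¹ ∈ L.tor1 (dg F1) → c = 1 := by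
    intro c hc hc'
    by_contra hne
    refine hx1 _ (XIn.of_sw S hc' ?_ ?_)
    · have e : (rho L (wn F1) g)⁻¹ * (rho L (wn F1) g * c * (rho L (wn F1) g)⁻¹) * rho L (wn F1) g = c := by group
      rwa [e]
    · intro h
      apply hne
      calc c = (rho L (wn F1) g)⁻¹ * (rho L (wn F1) g * c * (rho L (wn F1) g)⁻¹) * rho L (wn F1) g := by group
        _ = 1 := by rw [h]; group
  have x2 : ∀ c ∈ L.tor2 (dg F2), rho L (wn F1) g * c * (rho L (wn F1) g)⁻¹ ∈ L.tor2 (dg F2) → c = 1 := by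
    intro c hc hc'
    by_contra hne
    refine hx2 _ ⟨S, hc', ?_, ?_⟩
    · have e : (rho L (wn F1) g)⁻¹ * (rho L (wn F1) g * c * (rho L (wn F1) g)⁻¹) * rho L (wn F1) g = c := by group
      rwa [e]
    · intro h
      apply hne
      calc c = (rho L (wn F1) g)⁻¹ * (rho L (wn F1) g * c * (rho L (wn F1) g)⁻¹) * rho L (wn F1) g := by group
        _ = 1 := by rw [h]; group
  have h5' : 5 < Nat.card F2 := hq ▸ h5
  refine S.toFrame.dvd_index_of_stab hρt hρs ?_ ?_ ?_ hq hp hpF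
  · intro v hv hv1
    obtain ⟨c, hc⟩ := hcl v hv hv1
    exact ⟨c, by rw [hc]; group⟩
  · exact hstab hρt hρs x1 x2 2 (GamMain.aut_two S.toFrame.two2) (GamMain.exists_pow_ne (by norm_num) (by omega))
  · intro m hm hinj
    refine hstab hρt hρs x1 x2 (2 + m) (GamMain.aut_of_inj hinj) ?_
    obtain ⟨x, hx, hx2⟩ := GamMain.exists_pow_ne (F := F2) (m := 2) (by norm_num) (by omega)
    refine ⟨x, hx, fun h => hx2 ?_⟩
    rw [pow_mul] at h
    have h1 := hinj (Units.mk0 _ (pow_ne_zero 2 hx)) (Units.ext h)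
    exact congrArg Units.val h1

end LocalSL

end Cfsg.Agent.GTwoOdd
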