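import Cfsg.Agent.GTwoOdd.GamStab
import Cfsg.Agent.GTwoOdd.GamMain

/-!
# The stabilisers of the characters of the split torus
-/

set_option autoImplicit false

namespace Cfsg.Agent.GTwoOdd

open Matrix

namespace LocalSL

universe u

variable {G : Type u} [Group G] {t : G} {F1 F2 : Type*} [Field F1] [Field F2] [Finite F1] [Finite F2]
  {L : LocalSL t F1 F2} {s : G}

/-- elements of `C(t)` normalising `T` normalise `T2` -/
theorem Hyp.norm_tor2 (H : L.Hyp) {D1 : M2 F1} {D2 : M2 F2} {c : G} (hc : c * t = t * c)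
    (hn : ∀ τ ∈ L.tor D1 D2, c * τ * c⁻¹ ∈ L.tor D1 D2) {x : G} (hx : x ∈ L.tor2 D2) : c * x * c⁻¹ ∈ L.tor2 D2 :=
  H.sw.norm_tor1 hc (fun τ hτ => by
    rw [sw_tor] at hτ ⊢
    exact hn τ hτ) hx

variable {n1 : SL2 F1} {n2 : SL2 F2} (F : L.Frame s (dg F1) (dg F2) n1 n2)
include F

/-- conjugation by the products of `n1`, `n2` -/
theorem Frame.conj_w (i j : Bool) {y : G} (hy : y ∈ L.T0) :
    (L.e1 (if i then n1 else 1) * L.e2 (if j then n2 else 1)) * y *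
        (L.e1 (if i then n1 else 1) * L.e2 (if j then n2 else 1))⁻¹ ∈ L.T0 ∧
      L.al ((L.e1 (if i then n1 else 1) * L.e2 (if j then n2 else 1)) * y *
        (L.e1 (if i then n1 else 1) * L.e2 (if j then n2 else 1))⁻¹) = (if i then (L.al y)⁻¹ else L.al y) ∧
      L.be ((L.e1 (if i then n1 else 1) * L.e2 (if j then n2 else 1)) * y *
        (L.e1 (if i then n1 else 1) * L.e2 (if j then n2 else 1))⁻¹) = (if j then (L.be y)⁻¹ else L.be y) := by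
  have h1 : L.e2 (if j then n2 else 1) * y * (L.e2 (if j then n2 else 1))⁻¹ ∈ L.T0 ∧
      L.al (L.e2 (if j then n2 else 1) * y * (L.e2 (if j then n2 else 1))⁻¹) = L.al y ∧
      L.be (L.e2 (if j then n2 else 1) * y * (L.e2 (if j then n2 else 1))⁻¹) = (if j then (L.be y)⁻¹ else L.be y) := by
    rcases j with _ | _
    · simp [hy]
    · exact ⟨F.n2_T0 hy, F.al_n2 hy, F.be_n2 hy⟩
  obtain ⟨h2, h3, h4⟩ := h1
  have e : (L.e1 (if i then n1 else 1) * L.e2 (if j then n2 else 1)) * y *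
        (L.e1 (if i then n1 else 1) * L.e2 (if j then n2 else 1))⁻¹ =
      L.e1 (if i then n1 else 1) * (L.e2 (if j then n2 else 1) * y * (L.e2 (if j then n2 else 1))⁻¹) *
        (L.e1 (if i then n1 else 1))⁻¹ := by group
  rw [e]
  generalize L.e2 (if j then n2 else 1) * y * (L.e2 (if j then n2 else 1))⁻¹ = z at *
  rw [← h3, ← h4]
  rcases i with _ | _
  · simp [h2]
  · exact ⟨F.n1_T0 h2, F.al_n1 h2, F.be_n1 h2⟩

/-- `T1 ∩ ρ T2 ρ⁻¹ = 1` -/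
theorem Frame.inf12 {ρ : G} (hρt : ρ * t * ρ⁻¹ = s) (hρs : ρ * s * ρ⁻¹ = t * s) {y : G} (h1 : y ∈ L.tor1 (dg F1))
    (h2 : ρ⁻¹ * y * ρ ∈ L.tor2 (dg F2)) : y = 1 := by
  obtain ⟨g, hg1, hg2⟩ := F.exists_swap ⟨ρ, by rw [← hρt]; group⟩
  have S : L.Swap s (dg F1) (dg F2) n1 n2 g := ⟨F, hg1, hg2⟩
  apply S.inf12 h1
  have a1 := S.rho_t
  have a2 := S.rho_s
  set ρ' := rho L n1 g with hρ'
  have c1 : ρ'⁻¹ * ρ * t = t * (ρ'⁻¹ * ρ) := by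
    calc ρ'⁻¹ * ρ * t = ρ'⁻¹ * (ρ * t * ρ⁻¹) * ρ := by group
      _ = ρ'⁻¹ * (s * ρ') * ρ'⁻¹ * ρ := by rw [hρt]; group
      _ = _ := by rw [← a1]; group
  have hn : ∀ τ ∈ L.tor (dg F1) (dg F2), ρ'⁻¹ * ρ * τ * (ρ'⁻¹ * ρ)⁻¹ ∈ L.tor (dg F1) (dg F2) := by
    intro τ hτ
    have k1 := F.rho_norm hρt hρs hτ
    have k2 := S.rho_tor' k1
    have e : ρ'⁻¹ * ρ * τ * (ρ'⁻¹ * ρ)⁻¹ = ρ'⁻¹ * (ρ * τ * ρ⁻¹) * ρ' := by group
    rw [e]
    exact k2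
  have h3 := F.hyp.norm_tor2 c1 hn h2
  have e : ρ'⁻¹ * ρ * (ρ⁻¹ * y * ρ) * (ρ'⁻¹ * ρ)⁻¹ = ρ'⁻¹ * y * ρ' := by group
  rwa [e] at h3

variable [Finite G]

omit F [Finite F1] [Finite F2] [Finite G] in
theorem aut_case {F : Type*} [Field F] {φ : F ≃+* F} {j : Bool} (h : ∀ x, x ≠ 0 → φ (if j then x⁻¹ else x) = x) {l : ℕ}
    (hl : Odd l) (hφ : ∀ x, φ^[l] x = x) (hF : ∃ x : F, x ≠ 0 ∧ x ^ 2 ≠ 1) : j = false ∧ φ = RingEquiv.refl F := by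
  rcases j with _ | _
  · refine ⟨rfl, RingEquiv.ext fun x => ?_⟩
    by_cases hx : x = 0
    · rw [hx, map_zero, map_zero]
    · exact h x hx
  · exfalso
    have h1 : ∀ x, x ≠ 0 → φ x = x⁻¹ := by
      intro x hx
      have := h x⁻¹ (inv_ne_zero hx)
      simpa using this
    have h2 : ∀ x, φ (φ x) = x := by
      intro x
      by_cases hx : x = 0
      · rw [hx, map_zero, map_zero]
      · rw [h1 x hx, h1 _ (inv_ne_zero hx), inv_inv]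
    have h4 := aut_eq_one hl hφ h2
    obtain ⟨x, hx, hx2⟩ := hF
    apply hx2
    have h5 := h1 x hx
    rw [h4 x] at h5
    rw [pow_two]
    nth_rw 1 [h5]
    exact inv_mul_cancel₀ hx

/-- elements of `C(t)` which fix the character -/
theorem Frame.stab_cent {ρ : G} (hρt : ρ * t * ρ⁻¹ = s) (hρs : ρ * s * ρ⁻¹ = t * s)
    (x2 : ∀ c ∈ L.tor2 (dg F2), ρ * c * ρ⁻¹ ∈ L.tor2 (dg F2) → c = 1) (hq : Nat.card F1 = Nat.card F2)
    (h3 : 2 + 1 < Nat.card F1) {k : ℕ} (E1 : ∀ φ : F2 ≃+* F2, (∀ x, x ≠ 0 → φ x ^ k = x ^ k) → φ = RingEquiv.refl F2)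
    (E2 : ∃ x : F2, x ≠ 0 ∧ x ^ (2 * k) ≠ 1) {n : G} (hnt : n * t = t * n)
    (hn : ∀ τ ∈ L.T0, n * τ * n⁻¹ ∈ L.T0) (hβ : ∀ τ ∈ L.T0, L.be (n * τ * n⁻¹) ^ k = L.be τ ^ k) :
    n ∈ L.T0 ∨ n * (L.e1 n1)⁻¹ ∈ L.T0 := by
  -- normalising the four-group
  have key : ∀ {m : G}, m * t = t * m → (∀ τ ∈ L.T0, m * τ * m⁻¹ ∈ L.T0) → m * s * m⁻¹ = s ∨ m * s * m⁻¹ = s * t := by
    intro m hmt hm
    have h1 := F.tor_invol (hm s F.s_mem) (by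
      calc m * s * m⁻¹ * (m * s * m⁻¹) = m * (s * s) * m⁻¹ := by group
        _ = 1 := by rw [F.ss]; group)
    rcases h1 with h1 | h1 | h1 | h1
    · exfalso
      apply F.s_ne_one
      calc s = m⁻¹ * (m * s * m⁻¹) * m := by group
        _ = 1 := by rw [h1]; group
    · exfalso
      apply F.s_ne_t
      calc s = m⁻¹ * (m * s * m⁻¹) * m := by group
        _ = m⁻¹ * (t * m) := by rw [h1]; group
        _ = t := by rw [← hmt]; group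
    · exact Or.inl h1
    · exact Or.inr h1
  have hF2 : ∃ x : F2, x ≠ 0 ∧ x ^ 2 ≠ 1 := GamMain.exists_pow_ne (by norm_num) (by omega)
  have hF1 : ∃ x : F1, x ≠ 0 ∧ x ^ 2 ≠ 1 := GamMain.exists_pow_ne (by norm_num) h3
  obtain ⟨i, j, σ, τ, hSD⟩ := F.exists_sd hnt (key hnt hn)
  set w := L.e1 (if i then n1 else 1) * L.e2 (if j then n2 else 1) with hw
  have e1 : ∀ y, n * y * n⁻¹ = (n * w⁻¹) * (w * y * w⁻¹) * (n * w⁻¹)⁻¹ := fun y => by group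
  have h1 : ∀ x : F2, x ≠ 0 → (τ (if j then x⁻¹ else x)) ^ k = x ^ k := by
    intro x hx
    obtain ⟨y, hy, rfl⟩ := F.be_surj hx
    obtain ⟨w1, w2, w3⟩ := F.conj_w i j hy
    rw [← hw] at w1 w2 w3
    have h2 := hβ y hy
    rw [e1, F.hyp.sd_be hSD w1, w3] at h2
    exact h2
  obtain ⟨l, hl, -, -, hτ⟩ := F.sd_odd hSD
  rcases j with _ | _
  swap
  · exfalso
    simp only [if_true] at h1
    have h2 : ∀ x : F2, x ≠ 0 → (τ x) ^ k = (x ^ k)⁻¹ := by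
      intro x hx
      have := h1 x⁻¹ (inv_ne_zero hx)
      rwa [inv_inv, inv_pow] at this
    have h3 : τ.trans τ = RingEquiv.refl F2 := by
      apply E1
      intro x hx
      change τ (τ x) ^ k = x ^ k
      have hx' : τ x ≠ 0 := by simpa using hx
      rw [h2 _ hx', h2 _ hx, inv_inv]
    have h4 : ∀ x, τ (τ x) = x := fun x => by
      have := congrArg (fun f : F2 ≃+* F2 => f x) h3
      exact this
    have h5 := aut_eq_one hl hτ h4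
    obtain ⟨x, hx, hx2⟩ := E2
    apply hx2
    have h6 := h2 x hx
    rw [h5 x] at h6
    rw [two_mul, pow_add]
    nth_rw 1 [h6]
    exact inv_mul_cancel₀ (pow_ne_zero k hx)
  simp only [Bool.false_eq_true, if_false] at h1 hSD hw
  have hτ1 : τ = RingEquiv.refl F2 := E1 τ h1
  rw [hτ1] at hSD
  have hgoal : n * w⁻¹ ∈ L.T0 → n ∈ L.T0 ∨ n * (L.e1 n1)⁻¹ ∈ L.T0 := by
    intro h
    rcases i with _ | _
    · left
      simpa [hw] using h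
    · right
      simpa [hw] using h
  apply hgoal
  -- `c` centralises `T2`
  obtain ⟨B, hB, b1, b2⟩ := hSD.ex2
  have hB' := acts_of_refl hB
  have ct := hSD.comm
  have cs := F.sd_s hSD
  have cN : ∀ y ∈ L.T0, (n * w⁻¹) * y * (n * w⁻¹)⁻¹ ∈ L.T0 := fun y hy => F.hyp.sd_T0 hSD hy
  clear hgoal
  generalize n * w⁻¹ = c at *
  have hcent : ∀ z ∈ L.tor2 (dg F2), c * z = z * c := by
    rintro _ ⟨x, hx, rfl⟩
    obtain ⟨c1, c2⟩ := comm_dg F.two2 hx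
    apply hB'.2
    rw [m2_eq_iff]
    simp only [m2_mul_00, m2_mul_01, m2_mul_10, m2_mul_11]
    simp [b1, b2, c1, c2, mul_comm]
  have hts : ρ * (s * t) * ρ⁻¹ = t := by
    calc ρ * (s * t) * ρ⁻¹ = (ρ * s * ρ⁻¹) * (ρ * t * ρ⁻¹) := by group
      _ = t * (s * s) := by rw [hρt, hρs, mul_assoc]
      _ = t := by rw [F.ss, mul_one]
  have dt : ρ * c * ρ⁻¹ * t = t * (ρ * c * ρ⁻¹) := by
    calc ρ * c * ρ⁻¹ * t = ρ * c * ρ⁻¹ * (ρ * (s * t) * ρ⁻¹) := by rw [hts]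
      _ = ρ * (c * s) * t * ρ⁻¹ := by group
      _ = ρ * s * (c * t) * ρ⁻¹ := by rw [cs]; group
      _ = ρ * (s * t) * ρ⁻¹ * (ρ * c * ρ⁻¹) := by rw [ct]; group
      _ = t * (ρ * c * ρ⁻¹) := by rw [hts]
  have dN : ∀ y ∈ L.T0, (ρ * c * ρ⁻¹) * y * (ρ * c * ρ⁻¹)⁻¹ ∈ L.T0 := by
    intro y hy
    have e : (ρ * c * ρ⁻¹) * y * (ρ * c * ρ⁻¹)⁻¹ = ρ * (c * (ρ⁻¹ * y * ρ) * c⁻¹) * ρ⁻¹ := by group
    rw [e]
    exact F.rho_norm hρt hρs (cN _ (F.rho_norm' hρt hρs hy))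
  obtain ⟨i', j', σ', τ', hSD'⟩ := F.exists_sd dt (key dt dN)
  obtain ⟨l', hl', -, hσ'', hτ''⟩ := F.sd_odd hSD'
  -- the group `K = ρ T2 ρ⁻¹`
  have hKT : cjS ρ (L.tor2 (dg F2)) ≤ L.T0 := by
    intro x hx
    rw [mem_cjS] at hx
    have h4 := F.rho_norm hρt hρs (Frame.tor2_le L (dg F1) (dg F2) hx)
    have e : ρ * (ρ⁻¹ * x * ρ) * ρ⁻¹ = x := by group
    rwa [e] at h4
  have hKc : Nat.card (cjS ρ (L.tor2 (dg F2))) = Nat.card F2 - 1 := by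
    unfold cjS
    rw [Subgroup.card_map_of_injective (MulAut.conj ρ).injective, card_tor2, card_CS_dg F.two2]
  have hKb : ∀ c ∈ cjS ρ (L.tor2 (dg F2)), L.be c = 1 → c = 1 := by
    intro y hy hy1
    exact F.inf12 hρt hρs ((F.hyp.mem_tor1_be (hKT hy)).2 hy1) (mem_cjS.1 hy)
  have hKa : ∀ c ∈ cjS ρ (L.tor2 (dg F2)), L.al c = 1 → c = 1 := by
    intro y hy hy1
    have h4 := (F.hyp.mem_tor2_al (hKT hy)).2 hy1
    have h5 := x2 _ (mem_cjS.1 hy) (by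
      have e : ρ * (ρ⁻¹ * y * ρ) * ρ⁻¹ = y := by group
      rwa [e])
    calc y = ρ * (ρ⁻¹ * y * ρ) * ρ⁻¹ := by group
      _ = 1 := by rw [h5]; group
  have hKd : ∀ y ∈ cjS ρ (L.tor2 (dg F2)), (ρ * c * ρ⁻¹) * y * (ρ * c * ρ⁻¹)⁻¹ = y := by
    intro y hy
    have h4 := hcent _ (mem_cjS.1 hy)
    calc (ρ * c * ρ⁻¹) * y * (ρ * c * ρ⁻¹)⁻¹ = ρ * (c * (ρ⁻¹ * y * ρ)) * c⁻¹ * ρ⁻¹ := by group
      _ = y := by rw [h4]; group
  have e2 : ∀ y, (ρ * c * ρ⁻¹) * y * (ρ * c * ρ⁻¹)⁻¹ =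
      ((ρ * c * ρ⁻¹) * (L.e1 (if i' then n1 else 1) * L.e2 (if j' then n2 else 1))⁻¹) *
        ((L.e1 (if i' then n1 else 1) * L.e2 (if j' then n2 else 1)) * y *
          (L.e1 (if i' then n1 else 1) * L.e2 (if j' then n2 else 1))⁻¹) *
      ((ρ * c * ρ⁻¹) * (L.e1 (if i' then n1 else 1) * L.e2 (if j' then n2 else 1))⁻¹)⁻¹ := fun y => by group
  have hj : j' = false ∧ τ' = RingEquiv.refl F2 := by
    refine aut_case (fun x hx => ?_) hl' hτ'' hF2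
    obtain ⟨y, hy, rfl⟩ := F.hyp.be_onto hKT hKc hKb hx
    obtain ⟨w1, w2, w3⟩ := F.conj_w i' j' (hKT hy)
    have h4 := hKd y hy
    rw [e2] at h4
    have h5 := F.hyp.sd_be hSD' w1
    rw [h4, w3] at h5
    exact h5.symm
  have hi : i' = false ∧ σ' = RingEquiv.refl F1 := by
    refine aut_case (fun x hx => ?_) hl' hσ'' hF1
    obtain ⟨y, hy, rfl⟩ := F.hyp.al_onto hKT (hKc.trans (by rw [hq])) hKa hx
    obtain ⟨w1, w2, w3⟩ := F.conj_w i' j' (hKT hy)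
    have h4 := hKd y hy
    rw [e2] at h4
    have h5 := F.hyp.sd_al hSD' w1
    rw [h4, w2] at h5
    exact h5.symm
  obtain ⟨rfl, rfl⟩ := hj
  obtain ⟨rfl, rfl⟩ := hi
  simp only [Bool.false_eq_true, if_false, map_one, mul_one, inv_one] at hSD'
  obtain ⟨A', hA', a1', a2'⟩ := hSD'.ex1
  obtain ⟨B', hB'', b1', b2'⟩ := hSD'.ex2
  have hd : ρ * c * ρ⁻¹ ∈ L.T0 :=
    ⟨A', B', ⟨dt, acts_of_refl hA', acts_of_refl hB''⟩, dg_comm_of a1' a2', dg_comm_of b1' b2'⟩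
  have h4 := F.rho_norm' hρt hρs hd
  have e : ρ⁻¹ * (ρ * c * ρ⁻¹) * ρ = c := by group
  rwa [e] at h4

/-- **the stabiliser of the character** -/
theorem Frame.stab {ρ : G} (hρt : ρ * t * ρ⁻¹ = s) (hρs : ρ * s * ρ⁻¹ = t * s)
    (x1 : ∀ c ∈ L.tor1 (dg F1), ρ * c * ρ⁻¹ ∈ L.tor1 (dg F1) → c = 1)
    (x2 : ∀ c ∈ L.tor2 (dg F2), ρ * c * ρ⁻¹ ∈ L.tor2 (dg F2) → c = 1) (hq : Nat.card F1 = Nat.card F2)
    (h3 : 2 + 1 < Nat.card F1) {k : ℕ} (E1 : ∀ φ : F2 ≃+* F2, (∀ x, x ≠ 0 → φ x ^ k = x ^ k) → φ = RingEquiv.refl F2)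
    (E2 : ∃ x : F2, x ≠ 0 ∧ x ^ (2 * k) ≠ 1) : L.Stab n1 k := by
  intro n hn h
  have hk : ∃ x : F2, x ≠ 0 ∧ x ^ k ≠ 1 := by
    obtain ⟨x, hx, h1⟩ := E2
    exact ⟨x, hx, fun h2 => h1 (by rw [mul_comm, pow_mul, h2, one_pow])⟩
  have hnt := F.move hρt hρs x1 hq hk hn h
  refine F.stab_cent hρt hρs x2 hq h3 E1 E2 hnt hn fun τ hτ => ?_
  have h1 := h τ hτ _ _ _ _ (F.hyp.rep_T0 hτ) (F.hyp.rep_T0 (hn τ hτ))
  simpa using h1

omit F in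
/-- **the character argument**: `p` divides the index of `C(t)` -/
theorem Swap.gam {g : G} (S : L.Split s g) (hcl : ∀ x : G, x * x = 1 → x ≠ 1 → ∃ g, g * t = x * g)
    (hq : Nat.card F1 = Nat.card F2) (h5 : 5 < Nat.card F1)
    (hx2 : ∀ x, ¬ XIn L s (dg F1) (dg F2) (wn F1) (wn F2) g x)
    (hx1 : ∀ x, ¬ XIn L.sw s (dg F2) (dg F1) (wn F2) (wn F1) g x) {p : ℕ} (hp : p.Prime) (hpF : p ∣ Nat.card F1) :
    p ∣ (Subgroup.centralizer ({t} : Set G)).index :=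
  S.gam_of_stab hcl hq h5 hx2 hx1
    (fun hρt hρs x1 x2 _ E1 E2 => S.toFrame.stab hρt hρs x1 x2 hq (by omega) E1 E2) hp hpF

end LocalSL

end Cfsg.Agent.GTwoOdd
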