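import Cfsg.Agent.GTwoOdd.GamE

/-!
# Sums over pairs of involutions of the centraliser
-/

set_option autoImplicit false

open Cfsg
open scoped ComplexConjugate

namespace Cfsg.Agent.GTwoOdd.GamC

open Cfsg.Agent.GTwoOdd.GamSum

universe u
variable {H : Type u} [Group H]

open scoped Classical in
/-- indicator of the involutions -/
noncomputable def ai (x : H) : ℂ := if x * x = 1 ∧ x ≠ 1 then 1 else 0

theorem ai_conj (x g : H) : ai (g * x * g⁻¹) = ai x := by
  unfold ai
  have h1 : g * x * g⁻¹ * (g * x * g⁻¹) = 1 ↔ x * x = 1 := by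
    constructor
    · intro h
      calc x * x = g⁻¹ * (g * x * g⁻¹ * (g * x * g⁻¹)) * g := by group
        _ = 1 := by rw [h]; group
    · intro h
      calc g * x * g⁻¹ * (g * x * g⁻¹) = g * (x * x) * g⁻¹ := by group
        _ = 1 := by rw [h]; group
  have h2 : g * x * g⁻¹ ≠ 1 ↔ x ≠ 1 := by
    rw [not_iff_not]
    constructor
    · intro h
      calc x = g⁻¹ * (g * x * g⁻¹) * g := by group
        _ = 1 := by rw [h]; group
    · rintro rfl
      group
  by_cases h : x * x = 1 ∧ x ≠ 1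
  · rw [if_pos h, if_pos ⟨h1.2 h.1, h2.2 h.2⟩]
  · rw [if_neg h, if_neg (fun k => h ⟨h1.1 k.1, h2.1 k.2⟩)]

theorem zp_of_sq {x s : H} (hx : x * x = 1) (hs : s ∈ Subgroup.zpowers x) : s = 1 ∨ s = x := by
  obtain ⟨k, hk⟩ := Subgroup.mem_zpowers_iff.1 hs
  have h2 : x ^ (2 : ℤ) = 1 := by rw [zpow_two]; exact hx
  rcases Int.even_or_odd' k with ⟨m, rfl | rfl⟩
  · left
    rw [← hk, zpow_mul, h2, one_zpow]
  · right
    rw [← hk, zpow_add, zpow_mul, h2, one_zpow, one_mul, zpow_one]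

namespace CData

variable (D : CData H) [Fintype H]

/-- class sums of involutions in `Q` -/
theorem sum_inv_Q (ξ : D.Q →* ℂˣ) : ∑ x : H, ez D.Q ξ x * ai x =
    ez D.Q ξ D.t + (Nat.card D.Q : ℂ) / (Nat.card D.T : ℂ) * ez D.Q ξ D.t2 := by
  classical
  have h2 := sum_conj D.Q D.T D.TQ D.t2 D.t2t2 D.t2_ne D.Qcent_iff (fun x => ez D.Q ξ x * ai x) (by
    intro q hq x
    simp only [ai_conj, ez_conj D.Q ξ hq])
  have e1 : ∑ x : H, ez D.Q ξ x * ai x = ∑ x : H, (if x = D.t then ez D.Q ξ x else 0) +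
      ∑ x : H, (if ∃ q ∈ D.Q, q * D.t2 * q⁻¹ ∈ Subgroup.zpowers x then ez D.Q ξ x * ai x else 0) := by
    rw [← Finset.sum_add_distrib]
    refine Finset.sum_congr rfl fun x _ => ?_
    by_cases hx : x ∈ D.Q
    · by_cases hai : x * x = 1 ∧ x ≠ 1
      · have ha : ai x = 1 := by unfold ai; rw [if_pos hai]
        by_cases hxt : x = D.t
        · have hn : ¬ ∃ q ∈ D.Q, q * D.t2 * q⁻¹ ∈ Subgroup.zpowers x := by
            rintro ⟨q, hq, h⟩
            rcases zp_of_sq hai.1 h with h | h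
            · exact conj_ne_one D.t2_ne h
            · exact D.conj_ne_t D.t2_ne_t (h.trans hxt)
          rw [if_pos hxt, if_neg hn, ha, mul_one, add_zero]
        · obtain ⟨q, hq, hq'⟩ := D.Qinv x hx hai.1 hai.2 hxt
          have hp : ∃ q ∈ D.Q, q * D.t2 * q⁻¹ ∈ Subgroup.zpowers x :=
            ⟨q, hq, by rw [hq']; exact Subgroup.mem_zpowers x⟩
          rw [if_neg hxt, if_pos hp, zero_add]
      · have ha : ai x = 0 := by unfold ai; rw [if_neg hai]
        have hxt : x ≠ D.t := by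
          rintro rfl
          exact hai ⟨D.tt, D.t1⟩
        rw [ha, mul_zero, if_neg hxt]
        simp
    · have hxt : x ≠ D.t := by
        rintro rfl
        exact hx (D.TQ D.t_mem)
      rw [ez_notMem D.Q ξ hx, zero_mul, if_neg hxt]
      simp
  have e2 : ∑ x : H, (if D.t2 ∈ Subgroup.zpowers x then ez D.Q ξ x * ai x else 0) = ez D.Q ξ D.t2 := by
    rw [Finset.sum_eq_single D.t2]
    · rw [if_pos (Subgroup.mem_zpowers _)]
      unfold ai
      rw [if_pos ⟨D.t2t2, D.t2_ne⟩, mul_one]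
    · intro x _ hx
      split_ifs with h
      · have : ai x = 0 := by
          unfold ai
          rw [if_neg]
          rintro ⟨h1, h2⟩
          rcases zp_of_sq h1 h with h3 | h3
          · exact D.t2_ne h3
          · exact hx h3.symm
        rw [this, mul_zero]
      · rfl
    · intro h
      exact absurd (Finset.mem_univ _) h
  rw [e1, h2, e2]
  simp

/-- class sums of involutions in `B` -/
theorem sum_inv_B (ξ : D.B →* ℂˣ) : ∑ x : H, ez D.B ξ x * ai x =
    ez D.B ξ D.t + (Nat.card D.B : ℂ) / (Nat.card D.T : ℂ) * (ez D.B ξ D.t2 + ez D.B ξ D.t3) := by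
  classical
  have h2 := sum_conj D.B D.T D.TB D.t2 D.t2t2 D.t2_ne D.Bcent_iff (fun x => ez D.B ξ x * ai x) (by
    intro q hq x
    simp only [ai_conj, ez_conj D.B ξ hq])
  have h3 := sum_conj D.B D.T D.TB D.t3 D.t3t3 D.t3_ne D.Bcent_iff3 (fun x => ez D.B ξ x * ai x) (by
    intro q hq x
    simp only [ai_conj, ez_conj D.B ξ hq])
  have e1 : ∑ x : H, ez D.B ξ x * ai x = ∑ x : H, (if x = D.t then ez D.B ξ x else 0) +
      (∑ x : H, (if ∃ q ∈ D.B, q * D.t2 * q⁻¹ ∈ Subgroup.zpowers x then ez D.B ξ x * ai x else 0) +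
      ∑ x : H, (if ∃ q ∈ D.B, q * D.t3 * q⁻¹ ∈ Subgroup.zpowers x then ez D.B ξ x * ai x else 0)) := by
    rw [← Finset.sum_add_distrib, ← Finset.sum_add_distrib]
    refine Finset.sum_congr rfl fun x _ => ?_
    by_cases hx : x ∈ D.B
    · by_cases hai : x * x = 1 ∧ x ≠ 1
      · have ha : ai x = 1 := by unfold ai; rw [if_pos hai]
        by_cases hxt : x = D.t
        · have hn : ¬ ∃ q ∈ D.B, q * D.t2 * q⁻¹ ∈ Subgroup.zpowers x := by
            rintro ⟨q, hq, h⟩
            rcases zp_of_sq hai.1 h with h | h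
            · exact conj_ne_one D.t2_ne h
            · exact D.conj_ne_t D.t2_ne_t (h.trans hxt)
          have hn' : ¬ ∃ q ∈ D.B, q * D.t3 * q⁻¹ ∈ Subgroup.zpowers x := by
            rintro ⟨q, hq, h⟩
            rcases zp_of_sq hai.1 h with h | h
            · exact conj_ne_one D.t3_ne h
            · exact D.conj_ne_t D.t3_ne_t (h.trans hxt)
          rw [if_pos hxt, if_neg hn, if_neg hn', ha, mul_one, add_zero, add_zero]
        · rcases D.Binv x hx hai.1 hai.2 hxt with ⟨q, hq, hq'⟩ | ⟨q, hq, hq'⟩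
          · have hp : ∃ q ∈ D.B, q * D.t2 * q⁻¹ ∈ Subgroup.zpowers x :=
              ⟨q, hq, by rw [hq']; exact Subgroup.mem_zpowers x⟩
            rw [if_neg hxt, if_pos hp, if_neg (fun h => D.not_both hp h), zero_add, add_zero]
          · have hp : ∃ q ∈ D.B, q * D.t3 * q⁻¹ ∈ Subgroup.zpowers x :=
              ⟨q, hq, by rw [hq']; exact Subgroup.mem_zpowers x⟩
            rw [if_neg hxt, if_pos hp, if_neg (fun h => D.not_both h hp), zero_add, zero_add]
      · have ha : ai x = 0 := by unfold ai; rw [if_neg hai]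
        have hxt : x ≠ D.t := by
          rintro rfl
          exact hai ⟨D.tt, D.t1⟩
        rw [ha, mul_zero, if_neg hxt]
        simp
    · have hxt : x ≠ D.t := by
        rintro rfl
        exact hx (D.TB D.t_mem)
      rw [ez_notMem D.B ξ hx, zero_mul, if_neg hxt]
      simp
  have e2 : ∀ s : H, s * s = 1 → s ≠ 1 →
      ∑ x : H, (if s ∈ Subgroup.zpowers x then ez D.B ξ x * ai x else 0) = ez D.B ξ s := by
    intro s ss s1
    rw [Finset.sum_eq_single s]
    · rw [if_pos (Subgroup.mem_zpowers _)]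
      unfold ai
      rw [if_pos ⟨ss, s1⟩, mul_one]
    · intro x _ hx
      split_ifs with h
      · have : ai x = 0 := by
          unfold ai
          rw [if_neg]
          rintro ⟨h1, h2⟩
          rcases zp_of_sq h1 h with h3 | h3
          · exact s1 h3
          · exact hx h3.symm
        rw [this, mul_zero]
      · rfl
    · intro h
      exact absurd (Finset.mem_univ _) h
  rw [e1, h2, h3, e2 _ D.t2t2 D.t2_ne, e2 _ D.t3t3 D.t3_ne]
  simp only [Finset.sum_ite_eq', Finset.mem_univ, if_true]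
  ring

omit D in
theorem X_one (Q : Subgroup H) (ξ : Q →* ℂˣ) : X Q ξ 1 = (Nat.card H : ℂ) / (Nat.card Q : ℂ) := by
  have hQ0 : (Nat.card Q : ℂ) ≠ 0 := by exact_mod_cast Nat.card_pos.ne'
  have h := Cfsg.Agent.OddOrderCharacters.PF9.Mackey.indFun_lin_apply_one Q ξ
  have e : X Q ξ 1 = (Q.index : ℂ) := h
  rw [e, eq_div_iff hQ0]
  exact_mod_cast Q.index_mul_card

omit D in
theorem X_central (Q : Subgroup H) (ξ : Q →* ℂˣ) {t : H} (ht : ∀ x, x * t = t * x) :
    X Q ξ t = (Nat.card H : ℂ) / (Nat.card Q : ℂ) * ez Q ξ t := by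
  rw [X_def]
  have : ∀ g : H, ez Q ξ (g⁻¹ * t * g) = ez Q ξ t := by
    intro g
    have : g⁻¹ * t * g = t := by
      rw [mul_assoc, ← ht g]; group
    rw [this]
  rw [Finset.sum_congr rfl fun g _ => this g, Finset.sum_const, Finset.card_univ, nsmul_eq_mul,
    Nat.card_eq_fintype_card (α := H)]
  ring

/-- `F(t)` -/
theorem F_t : D.F D.t = 2 * ((Nat.card H : ℂ) / (Nat.card D.B : ℂ)) := by
  simp only [F, Pi.add_apply, Pi.sub_apply]
  rw [X_central _ _ D.tc, X_central _ _ D.tc, X_central _ _ D.tc, X_central _ _ D.tc, D.lam_t, D.mu_t,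
    D.lam1_t, D.mu1_t]
  ring

omit D in
theorem pair_sum (Q : Subgroup H) (ξ : Q →* ℂˣ) (hirr : IsIrrCharacter H (X Q ξ)) :
    ∑ i : H, ∑ j : H, ai i * ai j * X Q ξ (i * j) =
      (Nat.card H : ℂ) / (Nat.card Q : ℂ) * (∑ x : H, ez Q ξ x * ai x) ^ 2 := by
  have hH0 : (Nat.card H : ℂ) ≠ 0 := by exact_mod_cast Nat.card_pos.ne'
  have hQ0 : (Nat.card Q : ℂ) ≠ 0 := by exact_mod_cast Nat.card_pos.ne'
  rw [sum_sum_mul hirr ai ai_conj, X_one]
  have h1 : ∑ i : H, ai i * X Q ξ i = (Nat.card H : ℂ) / (Nat.card Q : ℂ) * ∑ x : H, ez Q ξ x * ai x := by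
    have h := sum_indFun_mul Q (fun x => (ξ x : ℂ)) ai (fun g x => ai_conj x g)
    have e : ∑ i : H, ai i * X Q ξ i = ∑ x : H, indFun Q (fun x => (ξ x : ℂ)) x * ai x := by
      refine Finset.sum_congr rfl fun x _ => ?_
      rw [mul_comm]; rfl
    rw [e, h]
    rfl
  rw [h1]
  field_simp

/-- sum of `F` over the products of two involutions -/
theorem pair_F : ∑ i : H, ∑ j : H, ai i * ai j * D.F (i * j) =
    (Nat.card H : ℂ) / (Nat.card D.T : ℂ) * (8 + 4 * ((Nat.card D.B : ℂ) / (Nat.card D.T : ℂ))) := by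
  have hH0 : (Nat.card H : ℂ) ≠ 0 := by exact_mod_cast Nat.card_pos.ne'
  have hQ0 : (Nat.card D.Q : ℂ) ≠ 0 := by exact_mod_cast Nat.card_pos.ne'
  have hB0 : (Nat.card D.B : ℂ) ≠ 0 := by exact_mod_cast Nat.card_pos.ne'
  have hT0 : (Nat.card D.T : ℂ) ≠ 0 := by exact_mod_cast Nat.card_pos.ne'
  have e1 : ∑ i : H, ∑ j : H, ai i * ai j * D.F (i * j) =
      ∑ i : H, ∑ j : H, ai i * ai j * X D.Q D.lam (i * j) - ∑ i : H, ∑ j : H, ai i * ai j * X D.Q D.mu (i * j) +
      (∑ i : H, ∑ j : H, ai i * ai j * X D.B D.lam1 (i * j) -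
        ∑ i : H, ∑ j : H, ai i * ai j * X D.B D.mu1 (i * j)) := by
    simp only [← Finset.sum_sub_distrib, ← Finset.sum_add_distrib]
    refine Finset.sum_congr rfl fun i _ => Finset.sum_congr rfl fun j _ => ?_
    simp only [F, Pi.add_apply, Pi.sub_apply]
    ring
  rw [e1, pair_sum _ _ D.irr_lam, pair_sum _ _ D.irr_mu, pair_sum _ _ D.irr_lam1, pair_sum _ _ D.irr_mu1,
    D.sum_inv_Q, D.sum_inv_Q, D.sum_inv_B, D.sum_inv_B, D.lam_t, D.lam_t2, D.mu_t, D.mu_t2, D.lam1_t,
    D.lam1_t2, D.lam1_t3, D.mu1_t, D.mu1_t2, D.mu1_t3]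
  field_simp
  ring

/-- number of pairs of involutions with a given product -/
noncomputable def be (x : H) : ℂ := ∑ i : H, ai i * ai (i⁻¹ * x)

theorem be_conj (g x : H) : be (g * x * g⁻¹) = be x := by
  unfold be
  rw [← Equiv.sum_comp (MulAut.conj g).toEquiv]
  refine Finset.sum_congr rfl fun i _ => ?_
  have e3 : (MulAut.conj g).toEquiv i = g * i * g⁻¹ := rfl
  rw [e3, ai_conj]
  have : (g * i * g⁻¹)⁻¹ * (g * x * g⁻¹) = g * (i⁻¹ * x) * g⁻¹ := by group
  rw [this, ai_conj]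

theorem sum_F_be : ∑ x : H, D.F x * be x = ∑ i : H, ∑ j : H, ai i * ai j * D.F (i * j) := by
  unfold be
  simp only [Finset.mul_sum]
  rw [Finset.sum_comm]
  refine Finset.sum_congr rfl fun i _ => ?_
  rw [← Equiv.sum_comp (Equiv.mulLeft i)]
  refine Finset.sum_congr rfl fun j _ => ?_
  simp only [Equiv.coe_mulLeft]
  rw [inv_mul_cancel_left]
  ring

end CData

end Cfsg.Agent.GTwoOdd.GamC
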