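import Cfsg.Agent.GTwoOdd.Braid
import Cfsg.Agent.GTwoOdd.BavCount

/-!
# The twelve root groups

`L.Split s g`: a frame with an element swapping `t` and `s` and with both matrices equal to `diag(1,-1)`.
Root groups `X : ZMod 12 → Subgroup G`: `X 3 = e1 (upper)`, `X 9 = e1 (lower)`, `X 0 = e2 (upper)`,
`X 6 = e2 (lower)`, `X (s + 4) = ρ (X s) ρ⁻¹`.
-/

set_option autoImplicit false

namespace Cfsg.Agent.GTwoOdd

open Matrix

section matrices

variable {F : Type*} [Field F]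

/-- `(0 1; -1 0)` -/
def wn (F : Type*) [Field F] : SL2 F := ⟨!![0, 1; -1, 0], by simp [Matrix.det_fin_two]⟩

theorem wn_coe : (wn F : M2 F) = !![0, 1; -1, 0] := rfl

theorem wn_anti : (wn F : M2 F) * dg F = -(dg F * wn F) := by
  rw [wn_coe, m2_eq_iff]
  simp [dg]

/-- a matrix commutes with `diag(1,-1)` iff it is diagonal -/
theorem comm_dg_iff (h2 : (2 : F) ≠ 0) {A : M2 F} : A * dg F = dg F * A ↔ A 0 1 = 0 ∧ A 1 0 = 0 := by
  rw [m2_eq_iff]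
  simp only [m2_mul_00, m2_mul_01, m2_mul_10, m2_mul_11]
  simp only [dg, Matrix.of_apply, Matrix.cons_val', Matrix.cons_val_zero, Matrix.cons_val_one, Matrix.cons_val_fin_one]
  constructor
  · rintro ⟨-, h1, h3, -⟩
    constructor
    · have : 2 * A 0 1 = 0 := by linear_combination -h1
      exact (mul_eq_zero.1 this).resolve_left h2
    · have : 2 * A 1 0 = 0 := by linear_combination h3
      exact (mul_eq_zero.1 this).resolve_left h2
  · rintro ⟨h1, h3⟩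
    rw [h1, h3]
    refine ⟨by ring, by ring, by ring, by ring⟩

/-- upper unipotent matrices -/
def upU (F : Type*) [Field F] : Subgroup (SL2 F) where
  carrier := {x | ∃ a : F, x = up a}
  mul_mem' := by
    rintro _ _ ⟨a, rfl⟩ ⟨b, rfl⟩
    exact ⟨a + b, up_mul a b⟩
  one_mem' := ⟨0, up_zero.symm⟩
  inv_mem' := by
    rintro _ ⟨a, rfl⟩
    refine ⟨-a, ?_⟩
    rw [inv_eq_iff_mul_eq_one, up_mul]
    simp [up_zero]

/-- lower unipotent matrices -/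
def loU (F : Type*) [Field F] : Subgroup (SL2 F) where
  carrier := {x | ∃ a : F, x = lo a}
  mul_mem' := by
    rintro _ _ ⟨a, rfl⟩ ⟨b, rfl⟩
    exact ⟨a + b, lo_mul a b⟩
  one_mem' := ⟨0, lo_zero.symm⟩
  inv_mem' := by
    rintro _ ⟨a, rfl⟩
    refine ⟨-a, ?_⟩
    rw [inv_eq_iff_mul_eq_one, lo_mul]
    simp [lo_zero]

theorem mem_upU {x : SL2 F} : x ∈ upU F ↔ ∃ a : F, x = up a := Iff.rfl
theorem mem_loU {x : SL2 F} : x ∈ loU F ↔ ∃ a : F, x = lo a := Iff.rfl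

theorem up_mem (a : F) : up a ∈ upU F := ⟨a, rfl⟩
theorem lo_mem (a : F) : lo a ∈ loU F := ⟨a, rfl⟩

theorem up_inv (a : F) : (up a)⁻¹ = up (-a) := by
  rw [inv_eq_iff_mul_eq_one, up_mul]; simp [up_zero]

theorem lo_inv (a : F) : (lo a)⁻¹ = lo (-a) := by
  rw [inv_eq_iff_mul_eq_one, lo_mul]; simp [lo_zero]

theorem wn_up (a : F) : wn F * up a = lo (-a) * wn F := by
  apply Subtype.ext
  change (wn F : M2 F) * (up a : M2 F) = (lo (-a) : M2 F) * (wn F : M2 F)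
  rw [wn_coe, up_coe, lo_coe, m2_eq_iff]
  simp

theorem wn_lo (a : F) : wn F * lo a = up (-a) * wn F := by
  apply Subtype.ext
  change (wn F : M2 F) * (lo a : M2 F) = (up (-a) : M2 F) * (wn F : M2 F)
  rw [wn_coe, up_coe, lo_coe, m2_eq_iff]
  simp

theorem dg_up (a : F) : (up (-a) : M2 F) * dg F = dg F * up a := by
  rw [up_coe, up_coe, m2_eq_iff]
  simp [dg]

theorem dg_lo (a : F) : (lo (-a) : M2 F) * dg F = dg F * lo a := by
  rw [lo_coe, lo_coe, m2_eq_iff]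
  simp [dg]

/-- diagonal matrices normalise the unipotents -/
theorem diag_up {A : M2 F} (h01 : A 0 1 = 0) (h10 : A 1 0 = 0) (h : A 1 1 ≠ 0) (a : F) :
    (up (A 0 0 * a / A 1 1) : M2 F) * A = A * up a := by
  rw [up_coe, up_coe, m2_eq_iff]
  simp only [m2_mul_00, m2_mul_01, m2_mul_10, m2_mul_11]
  simp [h01, h10]
  field_simp

theorem diag_lo {A : M2 F} (h01 : A 0 1 = 0) (h10 : A 1 0 = 0) (h : A 0 0 ≠ 0) (a : F) :
    (lo (A 1 1 * a / A 0 0) : M2 F) * A = A * lo a := by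
  rw [lo_coe, lo_coe, m2_eq_iff]
  simp only [m2_mul_00, m2_mul_01, m2_mul_10, m2_mul_11]
  simp [h01, h10]
  field_simp

end matrices

section conjsub

variable {G : Type*} [Group G]

/-- the conjugate `g H g⁻¹` -/
def cjS (g : G) (H : Subgroup G) : Subgroup G := H.map (MulAut.conj g).toMonoidHom

theorem mem_cjS {g : G} {H : Subgroup G} {x : G} : x ∈ cjS g H ↔ g⁻¹ * x * g ∈ H := by
  unfold cjS
  constructor
  · rintro ⟨y, hy, rfl⟩
    have : g⁻¹ * (MulAut.conj g).toMonoidHom y * g = y := by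
      change g⁻¹ * (g * y * g⁻¹) * g = y
      group
    rw [this]; exact hy
  · intro h
    refine ⟨_, h, ?_⟩
    change g * (g⁻¹ * x * g) * g⁻¹ = x
    group

theorem conj_mem_cjS {g : G} {H : Subgroup G} {x : G} (h : x ∈ H) : g * x * g⁻¹ ∈ cjS g H := by
  rw [mem_cjS]
  have : g⁻¹ * (g * x * g⁻¹) * g = x := by group
  rwa [this]

theorem cjS_mul (g h : G) (H : Subgroup G) : cjS (g * h) H = cjS g (cjS h H) := by
  ext x
  rw [mem_cjS, mem_cjS, mem_cjS]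
  have : (g * h)⁻¹ * x * (g * h) = h⁻¹ * (g⁻¹ * x * g) * h := by group
  rw [this]

theorem cjS_one (H : Subgroup G) : cjS 1 H = H := by
  ext x
  rw [mem_cjS]; simp

theorem cjS_eq_of_norm {g : G} {H : Subgroup G} (h1 : ∀ x ∈ H, g * x * g⁻¹ ∈ H) (h2 : ∀ x ∈ H, g⁻¹ * x * g ∈ H) :
    cjS g H = H := by
  ext x
  rw [mem_cjS]
  constructor
  · intro h
    have := h1 _ h
    have e : g * (g⁻¹ * x * g) * g⁻¹ = x := by group
    rwa [e] at this
  · exact h2 x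

theorem cjS_mono {g : G} {H K : Subgroup G} (h : H ≤ K) : cjS g H ≤ cjS g K := by
  intro x hx
  rw [mem_cjS] at *
  exact h hx

theorem cjS_inv_of {g : G} {H K : Subgroup G} (h : cjS g H = K) : cjS g⁻¹ K = H := by
  rw [← h, ← cjS_mul, inv_mul_cancel, cjS_one]

end conjsub

namespace LocalSL

variable {G : Type*} [Group G] {t : G} {F1 F2 : Type*} [Field F1] [Field F2]

/-- both matrices are `diag(1,-1)` -/
abbrev Split (L : LocalSL t F1 F2) (s g : G) : Prop := L.Swap s (dg F1) (dg F2) (wn F1) (wn F2) g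

/-- the four root groups of `C(t)` -/
def baseX (L : LocalSL t F1 F2) (j : ℕ) : Subgroup G :=
  if j % 4 = 0 then (upU F2).map L.e2 else if j % 4 = 1 then (loU F1).map L.e1
  else if j % 4 = 2 then (loU F2).map L.e2 else (upU F1).map L.e1

/-- the root groups indexed by natural numbers -/
def XN (L : LocalSL t F1 F2) (g : G) (m : ℕ) : Subgroup G := cjS (rho L (wn F1) g ^ m) (L.baseX m)

/-- the root groups -/
def X (L : LocalSL t F1 F2) (g : G) (s : ZMod 12) : Subgroup G := L.XN g s.val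

/-- the reflections -/
def nN (L : LocalSL t F1 F2) (g : G) (m : ℕ) : G :=
  rho L (wn F1) g ^ m * (if m % 2 = 0 then L.e2 (wn F2) else L.e1 (wn F1)) * (rho L (wn F1) g ^ m)⁻¹

/-- the reflections -/
def n (L : LocalSL t F1 F2) (g : G) (s : ZMod 12) : G := L.nN g s.val

/-- the involutions -/
def tN (t : G) (L : LocalSL t F1 F2) (g : G) (m : ℕ) : G := rho L (wn F1) g ^ m * t * (rho L (wn F1) g ^ m)⁻¹

theorem baseX_mod (L : LocalSL t F1 F2) {i j : ℕ} (h : i % 4 = j % 4) : L.baseX i = L.baseX j := by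
  unfold baseX; rw [h]

theorem baseX_0 (L : LocalSL t F1 F2) {j : ℕ} (h : j % 4 = 0) : L.baseX j = (upU F2).map L.e2 := by
  unfold baseX; rw [if_pos h]

theorem baseX_1 (L : LocalSL t F1 F2) {j : ℕ} (h : j % 4 = 1) : L.baseX j = (loU F1).map L.e1 := by
  unfold baseX; rw [if_neg (by omega), if_pos h]

theorem baseX_2 (L : LocalSL t F1 F2) {j : ℕ} (h : j % 4 = 2) : L.baseX j = (loU F2).map L.e2 := by
  unfold baseX; rw [if_neg (by omega), if_neg (by omega), if_pos h]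

theorem baseX_3 (L : LocalSL t F1 F2) {j : ℕ} (h : j % 4 = 3) : L.baseX j = (upU F1).map L.e1 := by
  unfold baseX; rw [if_neg (by omega), if_neg (by omega), if_neg (by omega)]

/-- `r1` acts on the four root groups -/
theorem r1_base (L : LocalSL t F1 F2) {i j : ℕ} (h : (i + j) % 4 = 0) {x : G} (hx : x ∈ L.baseX i) :
    L.e1 (wn F1) * x * (L.e1 (wn F1))⁻¹ ∈ L.baseX j := by
  have h4 : i % 4 < 4 := Nat.mod_lt _ (by norm_num)
  interval_cases hi : i % 4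
  · rw [L.baseX_0 hi] at hx
    rw [L.baseX_0 (by omega)]
    obtain ⟨_, ⟨a, rfl⟩, rfl⟩ := hx
    refine ⟨up a, ⟨a, rfl⟩, ?_⟩
    rw [L.comm]; group
  · rw [L.baseX_1 hi] at hx
    rw [L.baseX_3 (by omega)]
    obtain ⟨_, ⟨a, rfl⟩, rfl⟩ := hx
    refine ⟨up (-a), ⟨_, rfl⟩, ?_⟩
    rw [← map_mul, wn_lo, map_mul]; group
  · rw [L.baseX_2 hi] at hx
    rw [L.baseX_2 (by omega)]
    obtain ⟨_, ⟨a, rfl⟩, rfl⟩ := hx
    refine ⟨lo a, ⟨a, rfl⟩, ?_⟩
    rw [L.comm]; group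
  · rw [L.baseX_3 hi] at hx
    rw [L.baseX_1 (by omega)]
    obtain ⟨_, ⟨a, rfl⟩, rfl⟩ := hx
    refine ⟨lo (-a), ⟨_, rfl⟩, ?_⟩
    rw [← map_mul, wn_up, map_mul]; group

/-- `r2` acts on the four root groups -/
theorem r2_base (L : LocalSL t F1 F2) {i j : ℕ} (h : (i + j) % 4 = 2) {x : G} (hx : x ∈ L.baseX i) :
    L.e2 (wn F2) * x * (L.e2 (wn F2))⁻¹ ∈ L.baseX j := by
  have h4 : i % 4 < 4 := Nat.mod_lt _ (by norm_num)
  interval_cases hi : i % 4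
  · rw [L.baseX_0 hi] at hx
    rw [L.baseX_2 (by omega)]
    obtain ⟨_, ⟨a, rfl⟩, rfl⟩ := hx
    refine ⟨lo (-a), ⟨_, rfl⟩, ?_⟩
    rw [← map_mul, wn_up, map_mul]; group
  · rw [L.baseX_1 hi] at hx
    rw [L.baseX_1 (by omega)]
    obtain ⟨_, ⟨a, rfl⟩, rfl⟩ := hx
    refine ⟨lo a, ⟨a, rfl⟩, ?_⟩
    rw [← L.comm]; group
  · rw [L.baseX_2 hi] at hx
    rw [L.baseX_0 (by omega)]
    obtain ⟨_, ⟨a, rfl⟩, rfl⟩ := hx
    refine ⟨up (-a), ⟨_, rfl⟩, ?_⟩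
    rw [← map_mul, wn_lo, map_mul]; group
  · rw [L.baseX_3 hi] at hx
    rw [L.baseX_3 (by omega)]
    obtain ⟨_, ⟨a, rfl⟩, rfl⟩ := hx
    refine ⟨up a, ⟨a, rfl⟩, ?_⟩
    rw [← L.comm]; group

variable [Finite F1] [Finite F2] {L : LocalSL t F1 F2} {s g : G}

/-- a diagonal pair acts on the four root groups -/
theorem diag_base {c : G} {A : M2 F1} {B : M2 F2} (hr : L.Rep c A B) (hA : A 0 1 = 0 ∧ A 1 0 = 0)
    (hB : B 0 1 = 0 ∧ B 1 0 = 0) (i : ℕ) {x : G} (hx : x ∈ L.baseX i) : c * x * c⁻¹ ∈ L.baseX i := by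
  have hA1 : A 0 0 ≠ 0 := by
    intro h; apply hr.det1; rw [Matrix.det_fin_two, h, hA.1]; ring
  have hA2 : A 1 1 ≠ 0 := by
    intro h; apply hr.det1; rw [Matrix.det_fin_two, h, hA.1]; ring
  have hB1 : B 0 0 ≠ 0 := by
    intro h; apply hr.det2; rw [Matrix.det_fin_two, h, hB.1]; ring
  have hB2 : B 1 1 ≠ 0 := by
    intro h; apply hr.det2; rw [Matrix.det_fin_two, h, hB.1]; ring
  have h4 : i % 4 < 4 := Nat.mod_lt _ (by norm_num)
  interval_cases hi : i % 4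
  · rw [L.baseX_0 hi] at hx ⊢
    obtain ⟨_, ⟨a, rfl⟩, rfl⟩ := hx
    refine ⟨_, up_mem (B 0 0 * a / B 1 1), ?_⟩
    rw [hr.acts2.2 _ _ (diag_up hB.1 hB.2 hB2 a)]; group
  · rw [L.baseX_1 hi] at hx ⊢
    obtain ⟨_, ⟨a, rfl⟩, rfl⟩ := hx
    refine ⟨_, lo_mem (A 1 1 * a / A 0 0), ?_⟩
    rw [hr.acts1.2 _ _ (diag_lo hA.1 hA.2 hA1 a)]; group
  · rw [L.baseX_2 hi] at hx ⊢
    obtain ⟨_, ⟨a, rfl⟩, rfl⟩ := hx
    refine ⟨_, lo_mem (B 1 1 * a / B 0 0), ?_⟩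
    rw [hr.acts2.2 _ _ (diag_lo hB.1 hB.2 hB1 a)]; group
  · rw [L.baseX_3 hi] at hx ⊢
    obtain ⟨_, ⟨a, rfl⟩, rfl⟩ := hx
    refine ⟨_, up_mem (A 0 0 * a / A 1 1), ?_⟩
    rw [hr.acts1.2 _ _ (diag_up hA.1 hA.2 hA2 a)]; group

namespace Swap

variable (S : L.Split s g)
include S

theorem tor_base {c : G} (hc : c ∈ L.tor (dg F1) (dg F2)) (i : ℕ) {x : G} (hx : x ∈ L.baseX i) :
    c * x * c⁻¹ ∈ L.baseX i := by
  obtain ⟨A, B, hr, hA, hB⟩ := hc
  exact diag_base hr ((comm_dg_iff S.toFrame.two1).1 hA) ((comm_dg_iff S.toFrame.two2).1 hB) i hx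

theorem cjS_base {c : G} (hc : c ∈ L.tor (dg F1) (dg F2)) (i : ℕ) : cjS c (L.baseX i) = L.baseX i :=
  cjS_eq_of_norm (fun x hx => S.tor_base hc i hx) (fun x hx => by
    have := S.tor_base (inv_mem hc) i hx
    rwa [inv_inv] at this)

/-- `T` is transitive on `B_i ∖ 1` -/
theorem tor_trans (i : ℕ) {x y : G} (hx : x ∈ L.baseX i) (hy : y ∈ L.baseX i) (hx1 : x ≠ 1) (hy1 : y ≠ 1) :
    ∃ c ∈ L.tor (dg F1) (dg F2), c * x * c⁻¹ = y := by
  have key1 : ∀ {a b : F1}, a ≠ 0 → b ≠ 0 → ∃ c ∈ L.tor (dg F1) (dg F2), ∃ A : M2 F1, ∃ B : M2 F2,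
      L.Rep c A B ∧ A = !![b / a, 0; 0, 1] := by
    intro a b ha hb
    have hdet : (!![b / a, 0; 0, 1] : M2 F1).det ≠ 0 := by
      rw [Matrix.det_fin_two]; simp; exact ⟨hb, ha⟩
    have hcm : (!![b / a, 0; 0, 1] : M2 F1) * dg F1 = dg F1 * !![b / a, 0; 0, 1] := by
      rw [comm_dg_iff S.toFrame.two1]; simp
    obtain ⟨B, c, hc, hB⟩ := S.toFrame.exists_tor1 hcm hdet
    exact ⟨c, ⟨_, _, hc, hcm, hB⟩, _, B, hc, rfl⟩
  have key2 : ∀ {a b : F2}, a ≠ 0 → b ≠ 0 → ∃ c ∈ L.tor (dg F1) (dg F2), ∃ A : M2 F1, ∃ B : M2 F2,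
      L.Rep c A B ∧ B = !![b / a, 0; 0, 1] := by
    intro a b ha hb
    have hdet : (!![b / a, 0; 0, 1] : M2 F2).det ≠ 0 := by
      rw [Matrix.det_fin_two]; simp; exact ⟨hb, ha⟩
    have hcm : (!![b / a, 0; 0, 1] : M2 F2) * dg F2 = dg F2 * !![b / a, 0; 0, 1] := by
      rw [comm_dg_iff S.toFrame.two2]; simp
    obtain ⟨A, c, hc, hA⟩ := S.toFrame.exists_tor2 hcm hdet
    exact ⟨c, ⟨_, _, hc, hA, hcm⟩, A, _, hc, rfl⟩
  have h4 : i % 4 < 4 := Nat.mod_lt _ (by norm_num)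
  interval_cases hi : i % 4
  · rw [L.baseX_0 hi] at hx hy
    obtain ⟨_, ⟨a, rfl⟩, rfl⟩ := hx
    obtain ⟨_, ⟨b, rfl⟩, rfl⟩ := hy
    have ha : a ≠ 0 := by rintro rfl; apply hx1; rw [up_zero, map_one]
    have hb : b ≠ 0 := by rintro rfl; apply hy1; rw [up_zero, map_one]
    obtain ⟨c, hc, A, B, hr, hB⟩ := key2 ha hb
    refine ⟨c, hc, ?_⟩
    have h := hr.acts2.2 (up a) (up b) (by
      have := diag_up (A := B) (by rw [hB]; simp) (by rw [hB]; simp) (by rw [hB]; simp) a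
      have e : B 0 0 * a / B 1 1 = b := by rw [hB]; simp; field_simp
      rwa [e] at this)
    rw [h]; group
  · rw [L.baseX_1 hi] at hx hy
    obtain ⟨_, ⟨a, rfl⟩, rfl⟩ := hx
    obtain ⟨_, ⟨b, rfl⟩, rfl⟩ := hy
    have ha : a ≠ 0 := by rintro rfl; apply hx1; rw [lo_zero, map_one]
    have hb : b ≠ 0 := by rintro rfl; apply hy1; rw [lo_zero, map_one]
    obtain ⟨c, hc, A, B, hr, hA⟩ := key1 hb ha
    refine ⟨c, hc, ?_⟩
    have h := hr.acts1.2 (lo a) (lo b) (by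
      have := diag_lo (A := A) (by rw [hA]; simp) (by rw [hA]; simp) (by rw [hA]; simp; exact ⟨ha, hb⟩) a
      have e : A 1 1 * a / A 0 0 = b := by rw [hA]; simp; field_simp
      rwa [e] at this)
    rw [h]; group
  · rw [L.baseX_2 hi] at hx hy
    obtain ⟨_, ⟨a, rfl⟩, rfl⟩ := hx
    obtain ⟨_, ⟨b, rfl⟩, rfl⟩ := hy
    have ha : a ≠ 0 := by rintro rfl; apply hx1; rw [lo_zero, map_one]
    have hb : b ≠ 0 := by rintro rfl; apply hy1; rw [lo_zero, map_one]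
    obtain ⟨c, hc, A, B, hr, hB⟩ := key2 hb ha
    refine ⟨c, hc, ?_⟩
    have h := hr.acts2.2 (lo a) (lo b) (by
      have := diag_lo (A := B) (by rw [hB]; simp) (by rw [hB]; simp) (by rw [hB]; simp; exact ⟨ha, hb⟩) a
      have e : B 1 1 * a / B 0 0 = b := by rw [hB]; simp; field_simp
      rwa [e] at this)
    rw [h]; group
  · rw [L.baseX_3 hi] at hx hy
    obtain ⟨_, ⟨a, rfl⟩, rfl⟩ := hx
    obtain ⟨_, ⟨b, rfl⟩, rfl⟩ := hy
    have ha : a ≠ 0 := by rintro rfl; apply hx1; rw [up_zero, map_one]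
    have hb : b ≠ 0 := by rintro rfl; apply hy1; rw [up_zero, map_one]
    obtain ⟨c, hc, A, B, hr, hA⟩ := key1 ha hb
    refine ⟨c, hc, ?_⟩
    have h := hr.acts1.2 (up a) (up b) (by
      have := diag_up (A := A) (by rw [hA]; simp) (by rw [hA]; simp) (by rw [hA]; simp) a
      have e : A 0 0 * a / A 1 1 = b := by rw [hA]; simp; field_simp
      rwa [e] at this)
    rw [h]; group

/-- `s` inverts the four root groups -/
theorem s_base (i : ℕ) {x : G} (hx : x ∈ L.baseX i) : s * x * s⁻¹ = x⁻¹ := by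
  have hr := S.toFrame.rep
  have h4 : i % 4 < 4 := Nat.mod_lt _ (by norm_num)
  interval_cases hi : i % 4
  · rw [L.baseX_0 hi] at hx
    obtain ⟨_, ⟨a, rfl⟩, rfl⟩ := hx
    rw [hr.acts2.2 _ _ (dg_up a), ← map_inv, up_inv]; group
  · rw [L.baseX_1 hi] at hx
    obtain ⟨_, ⟨a, rfl⟩, rfl⟩ := hx
    rw [hr.acts1.2 _ _ (dg_lo a), ← map_inv, lo_inv]; group
  · rw [L.baseX_2 hi] at hx
    obtain ⟨_, ⟨a, rfl⟩, rfl⟩ := hx
    rw [hr.acts2.2 _ _ (dg_lo a), ← map_inv, lo_inv]; group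
  · rw [L.baseX_3 hi] at hx
    obtain ⟨_, ⟨a, rfl⟩, rfl⟩ := hx
    rw [hr.acts1.2 _ _ (dg_up a), ← map_inv, up_inv]; group

omit [Finite F1] [Finite F2] S in
/-- `t` centralises the four root groups -/
theorem t_base (i : ℕ) {x : G} (hx : x ∈ L.baseX i) : t * x * t⁻¹ = x := by
  have h4 : i % 4 < 4 := Nat.mod_lt _ (by norm_num)
  interval_cases hi : i % 4
  · rw [L.baseX_0 hi] at hx
    obtain ⟨_, ⟨a, rfl⟩, rfl⟩ := hx
    rw [← e2_t]; group
  · rw [L.baseX_1 hi] at hx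
    obtain ⟨_, ⟨a, rfl⟩, rfl⟩ := hx
    rw [← e1_t]; group
  · rw [L.baseX_2 hi] at hx
    obtain ⟨_, ⟨a, rfl⟩, rfl⟩ := hx
    rw [← e2_t]; group
  · rw [L.baseX_3 hi] at hx
    obtain ⟨_, ⟨a, rfl⟩, rfl⟩ := hx
    rw [← e1_t]; group

end Swap

end LocalSL

end Cfsg.Agent.GTwoOdd
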