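import Cfsg.Agent.GTwoOdd.Mack
import Cfsg.Agent.GTwoOdd.Hexa

/-!
# Group theoretic inputs for the character theory of `C(t)`: the parabolic subgroup

`L.par = L1 T A2`: the elements of `C0` whose second matrix is upper triangular.
-/

set_option autoImplicit false

namespace Cfsg.Agent.GTwoOdd

open Matrix

namespace LocalSL

variable {G : Type*} [Group G] {t : G} {F1 F2 : Type*} [Field F1] [Field F2]

/-- the parabolic subgroup `L1 T A2` of `C0` -/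
def par (L : LocalSL t F1 F2) : Subgroup G where
  carrier := {c | ∃ A B, L.Rep c A B ∧ B 1 0 = 0}
  mul_mem' := by
    rintro a b ⟨A, B, h, h1⟩ ⟨A', B', h', h1'⟩
    refine ⟨_, _, h.mul h', ?_⟩
    rw [m2_mul_10, h1, h1']; ring
  one_mem' := ⟨1, 1, Rep.one L, by simp⟩
  inv_mem' := by
    rintro a ⟨A, B, h, h1⟩
    refine ⟨_, _, h.inv, ?_⟩
    rw [Matrix.adjugate_fin_two]; simp [h1]

theorem Rep.mem_par {L : LocalSL t F1 F2} {c : G} {A : M2 F1} {B : M2 F2} (h : L.Rep c A B) :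
    c ∈ L.par ↔ B 1 0 = 0 := by
  constructor
  · rintro ⟨A', B', h', h1⟩
    obtain ⟨-, ⟨b, hb, rfl⟩⟩ := h'.prop h
    simp [h1]
  · intro h1
    exact ⟨A, B, h, h1⟩

theorem bor_le_par (L : LocalSL t F1 F2) : L.bor ≤ L.par := fun _ ⟨A, B, h, _, h2⟩ => ⟨A, B, h, h2⟩

theorem par_le_zero (L : LocalSL t F1 F2) : L.par ≤ L.zero := fun _ ⟨A, B, h, _⟩ => ⟨A, B, h⟩

theorem zero_t {L : LocalSL t F1 F2} {c : G} (h : c ∈ L.zero) : c * t = t * c := by
  obtain ⟨A, B, h⟩ := h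
  exact h.comm

theorem e1_mem_par (L : LocalSL t F1 F2) (x : SL2 F1) : L.e1 x ∈ L.par :=
  ⟨_, _, Rep.e1 L x, by simp⟩

theorem e2_up_mem_par (L : LocalSL t F1 F2) (b : F2) : L.e2 (up b) ∈ L.par :=
  ⟨_, _, Rep.e2 L _, by simp [up_coe]⟩

theorem up2_mem_bor (L : LocalSL t F1 F2) (p : F1 × F2) : L.up2 p ∈ L.bor := L.uni_le_bor (L.up2_mem p)

/-- upper triangular matrices of trace `0` are conjugate to multiples of `diag(1,-1)` -/
theorem upper_trace_zero {F : Type*} [Field F] (h2 : (2 : F) ≠ 0) {B : M2 F} (h : B.trace = 0) (hd : B.det ≠ 0) (h10 : B 1 0 = 0) :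
    B 0 0 ≠ 0 ∧ ((up (B 0 1 / (2 * B 0 0)) : SL2 F) : M2 F) * B = ((B 0 0) • dg F) * ((up (B 0 1 / (2 * B 0 0)) : SL2 F) : M2 F) := by
  have h1 := trace_zero_iff.1 h
  have h0 : B 0 0 ≠ 0 := by
    intro k
    apply hd
    rw [Matrix.det_fin_two, h10, k]; ring
  refine ⟨h0, ?_⟩
  rw [up_coe, m2_eq_iff]
  simp only [m2_mul_00, m2_mul_01, m2_mul_10, m2_mul_11]
  simp [dg, h10, h1]
  field_simp
  ring

/-- a matrix which anticommutes with `diag(1,-1)` has zero diagonal -/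
theorem anti_dg {F : Type*} [Field F] (h2 : (2 : F) ≠ 0) {B : M2 F} (h : B * dg F = -(dg F * B)) : B 0 0 = 0 ∧ B 1 1 = 0 := by
  have h00 := congrFun (congrFun h 0) 0
  have h11 := congrFun (congrFun h 1) 1
  rw [Matrix.neg_apply, m2_mul_00, m2_mul_00] at h00
  rw [Matrix.neg_apply, m2_mul_11, m2_mul_11] at h11
  simp only [dg, Matrix.of_apply, Matrix.cons_val', Matrix.cons_val_zero, Matrix.cons_val_one,
    Matrix.cons_val_fin_one] at h00 h11
  constructor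
  · have : 2 * B 0 0 = 0 := by linear_combination h00
    exact (mul_eq_zero.1 this).resolve_left h2
  · have : 2 * B 1 1 = 0 := by linear_combination -h11
    exact (mul_eq_zero.1 this).resolve_left h2

section hyp

variable [Finite F1] [Finite F2] {L : LocalSL t F1 F2} {s : G} {n1 : SL2 F1} {n2 : SL2 F2}
  (F : L.Frame s (dg F1) (dg F2) n1 n2)
include F

/-- `C_Q(t2) = T` -/
theorem Frame.par_cent {c : G} (hc : c ∈ L.par) (hs : c * s = s * c) : c ∈ L.T0 := by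
  obtain ⟨A, B, h, h10⟩ := hc
  rcases F.of_comm_s h hs with ⟨h1, h2⟩ | ⟨h1, h2⟩
  · exact ⟨A, B, h, h1, h2⟩
  · exfalso
    obtain ⟨h3, h4⟩ := anti_dg F.two2 h2
    apply h.det2
    rw [Matrix.det_fin_two, h3, h10]; ring

/-- two elements of `C0` with the matrices of `s` -/
theorem Frame.eq_or_of_rep {v : G} {a : F1} {b : F2} (h : L.Rep v (a • dg F1) (b • dg F2)) :
    v = s ∨ v = s * t := F.rep.unique h rfl rfl

/-- the involutions of `Q` -/
theorem Frame.par_invol {v : G} (hv : v ∈ L.par) (h : v * v = 1) (h1 : v ≠ 1) (ht : v ≠ t) :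
    ∃ g ∈ L.par, g * v * g⁻¹ = s := by
  obtain ⟨A, B, hr, hA, hB⟩ := F.hyp.rep_of_invol (zero_t (L.par_le_zero hv)) h h1 ht
  have h10 := hr.mem_par.1 hv
  obtain ⟨hb0, hb⟩ := upper_trace_zero F.two2 hB hr.det2 h10
  -- conjugate the first matrix
  have hsq : IsSquare ((dg F1).det * A.det) := by
    have k1 := F.hyp.square_iff _ _ _ hr
    have k2 := F.hyp.square_iff _ _ _ F.rep
    have hBd : B.det = B 0 0 * B 0 0 * (dg F2).det := by
      rw [Matrix.det_fin_two, dg_det, h10, trace_zero_iff.1 hB]; ring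
    have k3 : IsSquare B.det ↔ IsSquare (dg F2).det := by
      rw [hBd, isSquare_mul_iff (mul_ne_zero hb0 hb0) F.det2]
      simp
    rw [isSquare_mul_iff F.det1 hr.det1]
    tauto
  obtain ⟨P, a, ha, hP⟩ := exists_sl_conj_smul F.two1 (D := dg F1) (E := A) F.det1 hr.det1 F.tr1 hA hsq
  have key : ∃ g ∈ L.par, g * v * g⁻¹ = s ∨ g * v * g⁻¹ = s * t := by
    refine ⟨L.e1 P * L.e2 (up (B 0 1 / (2 * B 0 0))), L.par.mul_mem (L.e1_mem_par _) (L.e2_up_mem_par _), ?_⟩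
    have hR := ((Rep.e12 L P (up (B 0 1 / (2 * B 0 0)))).mul hr).mul (Rep.e12 L P (up (B 0 1 / (2 * B 0 0)))).inv
    have e1 : (P : M2 F1) * A * (P : M2 F1).adjugate = a • dg F1 := by
      rw [hP, Matrix.smul_mul, mul_assoc, Matrix.mul_adjugate, sl_coe_det, one_smul, mul_one]
    have e2 : ((up (B 0 1 / (2 * B 0 0)) : SL2 F2) : M2 F2) * B * ((up (B 0 1 / (2 * B 0 0)) : SL2 F2) : M2 F2).adjugate =
        B 0 0 • dg F2 := by
      rw [hb, mul_assoc, Matrix.mul_adjugate, sl_coe_det, one_smul, mul_one]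
    rw [e1, e2] at hR
    exact F.eq_or_of_rep hR
  obtain ⟨g, hg, h3 | h3⟩ := key
  · exact ⟨g, hg, h3⟩
  · refine ⟨L.e1 n1 * g, L.par.mul_mem (L.e1_mem_par _) hg, ?_⟩
    have h4 := F.n1_s
    have h5 : L.e1 n1 * t = t * L.e1 n1 := e1_t n1
    calc L.e1 n1 * g * v * (L.e1 n1 * g)⁻¹ = L.e1 n1 * (g * v * g⁻¹) * (L.e1 n1)⁻¹ := by group
      _ = L.e1 n1 * s * t * (L.e1 n1)⁻¹ := by rw [h3]; group
      _ = s * t * (L.e1 n1 * t) * (L.e1 n1)⁻¹ := by rw [h4]; group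
      _ = s * (t * t) := by rw [h5]; group
      _ = s := by rw [L.t_sq, mul_one]

/-- the involutions of `B` -/
theorem Frame.bor_invol {v : G} (hv : v ∈ L.bor) (h : v * v = 1) (h1 : v ≠ 1) (ht : v ≠ t) :
    ∃ g ∈ L.uni, g * v * g⁻¹ = s ∨ g * v * g⁻¹ = s * t := by
  obtain ⟨A, B, hr, hA, hB⟩ := F.hyp.rep_of_invol (zero_t (L.bor_le_zero hv)) h h1 ht
  obtain ⟨h10, h10'⟩ := hr.mem_bor.1 hv
  obtain ⟨ha0, ha⟩ := upper_trace_zero F.two1 hA hr.det1 h10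
  obtain ⟨hb0, hb⟩ := upper_trace_zero F.two2 hB hr.det2 h10'
  refine ⟨L.up2 (A 0 1 / (2 * A 0 0), B 0 1 / (2 * B 0 0)), L.up2_mem _, ?_⟩
  have hR := ((L.up2_rep (A 0 1 / (2 * A 0 0), B 0 1 / (2 * B 0 0))).mul hr).mul
    (L.up2_rep (A 0 1 / (2 * A 0 0), B 0 1 / (2 * B 0 0))).inv
  have e1 : ((up (A 0 1 / (2 * A 0 0)) : SL2 F1) : M2 F1) * A * ((up (A 0 1 / (2 * A 0 0)) : SL2 F1) : M2 F1).adjugate =
      A 0 0 • dg F1 := by
    rw [ha, mul_assoc, Matrix.mul_adjugate, sl_coe_det, one_smul, mul_one]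
  have e2 : ((up (B 0 1 / (2 * B 0 0)) : SL2 F2) : M2 F2) * B * ((up (B 0 1 / (2 * B 0 0)) : SL2 F2) : M2 F2).adjugate =
      B 0 0 • dg F2 := by
    rw [hb, mul_assoc, Matrix.mul_adjugate, sl_coe_det, one_smul, mul_one]
  simp only at hR
  rw [e1, e2] at hR
  exact F.eq_or_of_rep hR

/-- `t2` and `t3` are not conjugate in `B` -/
theorem Frame.bor_not_conj {g : G} (hg : g ∈ L.bor) : g * s * g⁻¹ ≠ s * t := by
  intro h
  have h1 := F.hyp.tp_conj (L.bor.inv_mem hg) (F.hyp.T0_le_bor F.s_mem)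
  rw [inv_inv, h] at h1
  have h2 := F.hyp.tp_eq (L.T0.mul_mem F.s_mem F.t_mem) L.uni.one_mem
  have h3 := F.hyp.tp_eq F.s_mem L.uni.one_mem
  rw [mul_one] at h2 h3
  rw [h2, h3] at h1
  exact F.t_ne (mul_left_cancel (h1.trans (mul_one s).symm))

/-- `N_B(V0) = T` -/
theorem Frame.bor_norm {g : G} (hg : g ∈ L.bor) (h : g * s * g⁻¹ = s ∨ g * s * g⁻¹ = s * t) : g ∈ L.T0 := by
  rcases h with h | h
  · refine F.par_cent (L.bor_le_par hg) ?_
    calc g * s = g * s * g⁻¹ * g := by group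
      _ = s * g := by rw [h]
  · exact absurd h (F.bor_not_conj hg)

/-- `N_Q(V0) = T ⟨n1⟩` -/
theorem Frame.par_norm {g : G} (hg : g ∈ L.par) (h : g * s * g⁻¹ = s ∨ g * s * g⁻¹ = s * t) :
    g ∈ L.T0 ∨ (L.e1 n1)⁻¹ * g ∈ L.T0 := by
  rcases h with h | h
  · left
    refine F.par_cent hg ?_
    calc g * s = g * s * g⁻¹ * g := by group
      _ = s * g := by rw [h]
  · right
    refine F.par_cent (L.par.mul_mem (L.par.inv_mem (L.e1_mem_par _)) hg) ?_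
    have h4 := F.n1_s
    have h5 : (L.e1 n1)⁻¹ * (s * t) = s * (L.e1 n1)⁻¹ := by
      rw [inv_mul_eq_iff_eq_mul, ← mul_assoc, h4]
      group
    calc (L.e1 n1)⁻¹ * g * s = (L.e1 n1)⁻¹ * (g * s * g⁻¹) * g := by group
      _ = (L.e1 n1)⁻¹ * (s * t) * g := by rw [h]
      _ = s * ((L.e1 n1)⁻¹ * g) := by rw [h5]; group

end hyp

end LocalSL

end Cfsg.Agent.GTwoOdd
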