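import Cfsg.Agent.GTwoOdd.GamEnd

/-!
# The stabiliser of the character fixes `t`
-/

set_option autoImplicit false

namespace Cfsg.Agent.GTwoOdd

open Matrix

namespace LocalSL

universe u

variable {G : Type u} [Group G] {t : G} {F1 F2 : Type*} [Field F1] [Field F2]

/-- elements of `T ∩ L1` are in `T1` -/
theorem tor1_of_tor {L : LocalSL t F1 F2} {y : SL2 F1} {D1 : M2 F1} {D2 : M2 F2} (h : L.e1 y ∈ L.tor D1 D2) :
    L.e1 y ∈ L.tor1 D1 := by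
  obtain ⟨A, B, hr, h1, -⟩ := h
  obtain ⟨⟨a, ha, hA⟩, -⟩ := (Rep.e1 L y).prop hr
  refine ⟨y, ?_, rfl⟩
  rw [hA, Matrix.smul_mul, Matrix.mul_smul] at h1
  exact smul_cancel ha h1

variable [Finite F1] [Finite F2] {L : LocalSL t F1 F2} {s : G}

/-- elements of `C(t)` normalising `T` normalise `T1` -/
theorem Hyp.norm_tor1 (H : L.Hyp) {D1 : M2 F1} {D2 : M2 F2} {c : G} (hc : c * t = t * c)
    (hn : ∀ τ ∈ L.tor D1 D2, c * τ * c⁻¹ ∈ L.tor D1 D2) {x : G} (hx : x ∈ L.tor1 D1) : c * x * c⁻¹ ∈ L.tor1 D1 := by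
  have h1 := hn x (Frame.tor1_le L D1 D2 hx)
  obtain ⟨y, -, rfl⟩ := hx
  obtain ⟨z, hz⟩ := H.norm1 c hc y
  have h2 : c * L.e1 y * c⁻¹ = L.e1 z := by rw [hz]; group
  rw [h2] at h1 ⊢
  exact tor1_of_tor h1

omit [Finite F1] [Finite F2] in
theorem Hyp.exists_nonsquare (H : L.Hyp) : ∃ d : F1, d ≠ 0 ∧ ¬ IsSquare d := by
  obtain ⟨g, A, B, hr, h1, -, -⟩ := H.outer
  exact ⟨A.det, hr.det1, h1⟩

/-- the ratio is onto -/
theorem Hyp.exists_betf (H : L.Hyp) {x : F2} (hx : x ≠ 0) : ∃ τ ∈ L.T0, L.betf τ = x := by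
  have key : ∃ d : F1, d ≠ 0 ∧ (IsSquare d ↔ IsSquare x) := by
    by_cases h : IsSquare x
    · exact ⟨1, one_ne_zero, iff_of_true (IsSquare.one) h⟩
    · obtain ⟨d, hd, hd'⟩ := H.exists_nonsquare
      exact ⟨d, hd, iff_of_false hd' h⟩
  obtain ⟨d, hd, hsq⟩ := key
  have d1 : (!![d, 0; 0, 1] : M2 F1).det = d := by rw [Matrix.det_fin_two]; simp
  have d2 : (!![x, 0; 0, 1] : M2 F2).det = x := by rw [Matrix.det_fin_two]; simp
  obtain ⟨τ, hτ, hr⟩ := H.exists_T0 (D := !![d, 0; 0, 1]) (E := !![x, 0; 0, 1]) (by simp) (by simp) (by simp) (by simp)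
    (by rw [d1]; exact hd) (by rw [d2]; exact hx) (by rw [d1, d2]; exact hsq)
  refine ⟨τ, hτ, ?_⟩
  rw [hr.betf_eq (by simp)]
  simp

omit [Finite F1] [Finite F2] in
theorem betf_tor1 {D1 : M2 F1} {c : G} (hc : c ∈ L.tor1 D1) : L.betf c = 1 := by
  obtain ⟨x, -, rfl⟩ := hc
  rw [(Rep.e1 L x).betf_eq (by simp)]
  simp

variable {n1 : SL2 F1} {n2 : SL2 F2} (F : L.Frame s (dg F1) (dg F2) n1 n2)
include F

/-- `ρ⁻¹` normalises `T` -/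
theorem Frame.rho_norm' {ρ : G} (h1 : ρ * t * ρ⁻¹ = s) (h2 : ρ * s * ρ⁻¹ = t * s) {τ : G} (hτ : τ ∈ L.T0) :
    ρ⁻¹ * τ * ρ ∈ L.T0 := by
  have e1 : ρ⁻¹ * s * ρ⁻¹⁻¹ = t := by rw [← h1]; group
  have e2 : ρ⁻¹ * t * ρ⁻¹⁻¹ = t * s := by
    have h3 : t = ρ * (s * t) * ρ⁻¹ := by
      calc t = (t * s) * s := by rw [mul_assoc, F.ss, mul_one]
        _ = (ρ * s * ρ⁻¹) * (ρ * t * ρ⁻¹) := by rw [h1, h2]
        _ = _ := by group
    calc ρ⁻¹ * t * ρ⁻¹⁻¹ = ρ⁻¹ * (ρ * (s * t) * ρ⁻¹) * ρ := by rw [← h3, inv_inv]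
      _ = s * t := by group
      _ = t * s := F.st
  have h3 := hτ
  rw [F.mem_iff_can] at h3 ⊢
  have h4 := h3.conj ρ⁻¹
  rw [e1, e2] at h4
  have h5 : CanT t (s * t) (ρ⁻¹ * τ * ρ⁻¹⁻¹) := by
    rw [F.st]
    refine (CanT.swap_iff ?_).1 h4
    rw [← mul_assoc, L.t_sq, one_mul, mul_assoc, F.st, ← mul_assoc, L.t_sq, one_mul]
  have h6 := (CanT.right_iff L.t_sq).1 h5
  rwa [inv_inv] at h6

/-- **an element of `N(T)` which fixes the character `ratio ^ k` fixes `t`** -/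
theorem Frame.move [Finite G] {ρ : G} (hρt : ρ * t * ρ⁻¹ = s) (hρs : ρ * s * ρ⁻¹ = t * s)
    (x1 : ∀ c ∈ L.tor1 (dg F1), ρ * c * ρ⁻¹ ∈ L.tor1 (dg F1) → c = 1) (hq : Nat.card F1 = Nat.card F2) {k : ℕ}
    (hk : ∃ x : F2, x ≠ 0 ∧ x ^ k ≠ 1) {n : G} (hn : ∀ τ ∈ L.T0, n * τ * n⁻¹ ∈ L.T0)
    (h : ∀ τ ∈ L.T0, ∀ (A : M2 F1) (B : M2 F2) (A' : M2 F1) (B' : M2 F2), L.Rep τ A B → L.Rep (n * τ * n⁻¹) A' B' →
      (B' 0 0 / B' 1 1) ^ k = (B 0 0 / B 1 1) ^ k) : n * t = t * n := by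
  by_contra hnt
  -- `T1 ∩ n T1 n⁻¹ = 1`
  have key : ∀ c ∈ L.tor1 (dg F1), n * c * n⁻¹ ∈ L.tor1 (dg F1) → c = 1 := by
    have h1 := F.tor_invol (hn t F.t_mem) (by
      calc n * t * n⁻¹ * (n * t * n⁻¹) = n * (t * t) * n⁻¹ := by group
        _ = 1 := by rw [L.t_sq]; group)
    rcases h1 with h1 | h1 | h1 | h1
    · exfalso
      apply F.t_ne
      calc t = n⁻¹ * (n * t * n⁻¹) * n := by group
        _ = 1 := by rw [h1]; group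
    · exfalso
      apply hnt
      calc n * t = n * t * n⁻¹ * n := by group
        _ = t * n := by rw [h1]
    · -- `n = ρ e`
      have he : ρ⁻¹ * n * t = t * (ρ⁻¹ * n) := by
        calc ρ⁻¹ * n * t = ρ⁻¹ * (n * t * n⁻¹) * n := by group
          _ = ρ⁻¹ * (ρ * t * ρ⁻¹) * n := by rw [h1, hρt]
          _ = _ := by group
      have hen : ∀ τ ∈ L.T0, ρ⁻¹ * n * τ * (ρ⁻¹ * n)⁻¹ ∈ L.T0 := by
        intro τ hτ
        have := F.rho_norm' hρt hρs (hn τ hτ)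
        have e : ρ⁻¹ * n * τ * (ρ⁻¹ * n)⁻¹ = ρ⁻¹ * (n * τ * n⁻¹) * ρ := by group
        rwa [e]
      intro c hc hc'
      have h2 := F.hyp.norm_tor1 he hen hc
      have h3 := x1 _ h2 (by
        have e : ρ * (ρ⁻¹ * n * c * (ρ⁻¹ * n)⁻¹) * ρ⁻¹ = n * c * n⁻¹ := by group
        rwa [e])
      calc c = (ρ⁻¹ * n)⁻¹ * (ρ⁻¹ * n * c * (ρ⁻¹ * n)⁻¹) * (ρ⁻¹ * n) := by group
        _ = 1 := by rw [h3]; group
    · -- `n = ρ⁻¹ e`
      have hst : ρ * (s * t) * ρ⁻¹ = t := by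
        calc ρ * (s * t) * ρ⁻¹ = (ρ * s * ρ⁻¹) * (ρ * t * ρ⁻¹) := by group
          _ = t * s * s := by rw [hρt, hρs]
          _ = t := by rw [mul_assoc, F.ss, mul_one]
      have he : ρ * n * t = t * (ρ * n) := by
        calc ρ * n * t = ρ * (n * t * n⁻¹) * ρ⁻¹ * (ρ * n) := by group
          _ = _ := by rw [h1, hst]
      have hen : ∀ τ ∈ L.T0, ρ * n * τ * (ρ * n)⁻¹ ∈ L.T0 := by
        intro τ hτ
        have := F.rho_norm hρt hρs (hn τ hτ)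
        have e : ρ * n * τ * (ρ * n)⁻¹ = ρ * (n * τ * n⁻¹) * ρ⁻¹ := by group
        rwa [e]
      intro c hc hc'
      have h2 := F.hyp.norm_tor1 he hen hc
      have h3 := x1 _ hc' (by
        have e : ρ * (n * c * n⁻¹) * ρ⁻¹ = ρ * n * c * (ρ * n)⁻¹ := by group
        rwa [e])
      calc c = n⁻¹ * (n * c * n⁻¹) * n := by group
        _ = 1 := by rw [h3]; group
  -- `T = T1 · n T1 n⁻¹`
  have hT1 : L.tor1 (dg F1) ≤ L.T0 := Frame.tor1_le L (dg F1) (dg F2)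
  have hc1 : Nat.card (L.tor1 (dg F1)) = Nat.card F1 - 1 := by rw [card_tor1, card_CS_dg F.two1]
  let f : L.tor1 (dg F1) × L.tor1 (dg F1) → L.T0 := fun p => ⟨p.1 * (n * p.2 * n⁻¹), L.T0.mul_mem (hT1 p.1.2) (hn _ (hT1 p.2.2))⟩
  have hinj : Function.Injective f := by
    rintro ⟨a, b⟩ ⟨a', b'⟩ hab
    have h1 : (a : G) * (n * b * n⁻¹) = a' * (n * b' * n⁻¹) := congrArg Subtype.val hab
    have h2 : n * ((b : G) * (b' : G)⁻¹) * n⁻¹ = (a : G)⁻¹ * a' := by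
      calc n * ((b : G) * (b' : G)⁻¹) * n⁻¹ = (a : G)⁻¹ * (a * (n * b * n⁻¹)) * (n * b' * n⁻¹)⁻¹ := by group
        _ = _ := by rw [h1]; group
    have h3 := key _ ((L.tor1 (dg F1)).mul_mem b.2 ((L.tor1 (dg F1)).inv_mem b'.2))
      (h2 ▸ (L.tor1 (dg F1)).mul_mem ((L.tor1 (dg F1)).inv_mem a.2) a'.2)
    have h4 : (b : G) = b' := mul_inv_eq_one.1 h3
    rw [h4] at h1
    exact Prod.ext (Subtype.ext (mul_right_cancel h1)) (Subtype.ext h4)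
  have hcard : Nat.card L.T0 ≤ Nat.card (L.tor1 (dg F1) × L.tor1 (dg F1)) := by
    rw [Nat.card_prod, hc1]
    have := F.card_T0_le
    rwa [← hq] at this
  have hsurj : Function.Surjective f := by
    exact ((Nat.bijective_iff_injective_and_card f).2 ⟨hinj, le_antisymm (Nat.card_le_card_of_injective f hinj) hcard⟩).2
  obtain ⟨x, hx0, hxk⟩ := hk
  obtain ⟨τ, hτ, hτx⟩ := F.hyp.exists_betf hx0
  obtain ⟨⟨a, b⟩, hab⟩ := hsurj ⟨τ, hτ⟩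
  have h1 : (a : G) * (n * b * n⁻¹) = τ := congrArg Subtype.val hab
  apply hxk
  have hle : L.T0 ≤ L.par := F.hyp.T0_le_bor.trans L.bor_le_par
  rw [← hτx, ← h1, betf_mul (hle (hT1 a.2)) (hle (hn _ (hT1 b.2))), betf_tor1 a.2, one_mul]
  obtain ⟨D, E, hr, -, -, -, d4⟩ := F.hyp.T0_rep (hT1 b.2)
  obtain ⟨D', E', hr', -, -, -, d4'⟩ := F.hyp.T0_rep (hn _ (hT1 b.2))
  rw [hr'.betf_eq d4', h _ (hT1 b.2) _ _ _ _ hr hr', ← hr.betf_eq d4, betf_tor1 b.2, one_pow]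

end LocalSL

end Cfsg.Agent.GTwoOdd
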