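import Cfsg.Agent.GTwoOdd.GamO

/-!
# The norm on the torus
-/

set_option autoImplicit false

open Cfsg
open scoped ComplexConjugate

namespace Cfsg.Agent.GTwoOdd.GamC

open Cfsg.Agent.GTwoOdd.GamSum

universe u

namespace GData

variable {G : Type u} [Group G] (D : GData G)

/-- the restriction to `T` -/
def rT (ξ : D.Q →* ℂˣ) : D.T →* ℂˣ where
  toFun x := ξ ⟨x, D.TQ x.2⟩
  map_one' := by
    have : (⟨((1 : D.T) : G), D.TQ (1 : D.T).2⟩ : D.Q) = 1 := rfl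
    rw [this, map_one]
  map_mul' x y := by rw [← map_mul]; rfl

theorem rT_coe (ξ : D.Q →* ℂˣ) (x : D.T) : (D.rT ξ x : ℂ) = ez D.Q ξ x := by
  rw [ez_mem _ _ (D.TQ x.2)]
  rfl

variable [Fintype G]

/-- conjugation by an element of the normaliser -/
def cj {n : G} (hn : D.Nn n) : D.T →* D.T where
  toFun x := ⟨n⁻¹ * x * n, D.norm_inv hn x x.2⟩
  map_one' := Subtype.ext (by simp)
  map_mul' x y := Subtype.ext (by
    change n⁻¹ * ((x : G) * y) * n = n⁻¹ * x * n * (n⁻¹ * y * n)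
    group)

theorem cj_coe {n : G} (hn : D.Nn n) (x : D.T) : (D.cj hn x : G) = n⁻¹ * x * n := rfl

theorem lam_V {x : G} (hx : x ∈ D.T) (hxx : x * x = 1) : ez D.Q D.lam x = 1 := by
  rcases D.Tinv x hx hxx with rfl | rfl | rfl | rfl
  · exact ez_one _ _
  · exact D.lam_t
  · exact D.lam_t2
  · exact D.lam_t3

theorem lam_ne_mu {n : G} (hn : D.Nn n) : D.rT D.lam ≠ (D.rT D.mu).comp (D.cj hn) := by
  intro h
  -- `x = n t2 n⁻¹`
  have hx := hn _ D.t2_mem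
  have h1 := congrArg (fun f => ((f ⟨_, hx⟩ : ℂˣ) : ℂ)) h
  simp only [MonoidHom.comp_apply] at h1
  rw [rT_coe, rT_coe, cj_coe, D.lam_V hx (CData.conj_invol D.t2t2)] at h1
  have h2 : n⁻¹ * (n * D.t2 * n⁻¹) * n = D.t2 := by group
  rw [h2, D.mu_t2] at h1
  norm_num at h1

theorem mu_ne_lam {n : G} (hn : D.Nn n) : D.rT D.mu ≠ (D.rT D.lam).comp (D.cj hn) := by
  intro h
  have h1 := congrArg (fun f => ((f ⟨_, D.t2_mem⟩ : ℂˣ) : ℂ)) h
  simp only [MonoidHom.comp_apply] at h1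
  rw [rT_coe, rT_coe, cj_coe, D.lam_V (D.norm_inv hn _ D.t2_mem)
    (by have := CData.conj_invol (g := n⁻¹) D.t2t2; rwa [inv_inv] at this), D.mu_t2] at h1
  norm_num at h1

/-- the stabiliser -/
def St (n : G) : Prop := n⁻¹ ∈ D.T ∨ n⁻¹ * D.n1⁻¹ ∈ D.T

theorem St_Nn {n : G} (h : D.St n) : D.Nn n := by
  have hT : ∀ τ ∈ D.T, D.Nn τ := fun τ hτ σ hσ => D.T.mul_mem (D.T.mul_mem hτ hσ) (D.T.inv_mem hτ)
  rcases h with h | h
  · exact hT _ (by simpa using D.T.inv_mem h)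
  · have h1 := D.Nn_inv (D.Nn_mul (hT _ h) D.Nn_n1)
    rwa [inv_mul_cancel_right, inv_inv] at h1

theorem eq_iff_St {ξ : D.Q →* ℂˣ} (hst : ∀ n, (∀ τ ∈ D.T, n * τ * n⁻¹ ∈ D.T) →
      (∀ τ ∈ D.T, ez D.Q ξ (n * τ * n⁻¹) = ez D.Q ξ τ) → n ∈ D.T ∨ n * D.n1⁻¹ ∈ D.T) {n : G} (hn : D.Nn n) :
    D.rT ξ = (D.rT ξ).comp (D.cj hn) ↔ D.St n := by
  constructor
  · intro h
    apply hst _ (D.Nn_inv hn)
    intro τ hτ
    have h1 := congrArg (fun f => ((f ⟨_, hτ⟩ : ℂˣ) : ℂ)) h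
    simp only [MonoidHom.comp_apply] at h1
    rw [rT_coe, rT_coe, cj_coe] at h1
    rw [inv_inv]
    exact h1.symm
  · intro h
    have hQ : n⁻¹ ∈ D.Q := D.stab_C h
    ext x
    rw [MonoidHom.comp_apply, rT_coe, rT_coe, cj_coe]
    have := ez_conj D.Q ξ hQ x
    rw [inv_inv] at this
    exact this.symm

open scoped Classical in
theorem sum_T (f : G → ℂ) (hf : ∀ x, x ∉ D.T → f x = 0) : ∑ x : G, f x = ∑ x : D.T, f x := by
  rw [← Finset.sum_subset (Finset.subset_univ (Finset.univ.filter fun x : G => x ∈ D.T))]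
  · rw [Finset.sum_subtype (Finset.univ.filter fun x : G => x ∈ D.T) (p := fun x => x ∈ D.T)
      (fun x => by simp)]
  · intro x _ hx
    apply hf
    intro h
    exact hx (by simp [h])

open scoped Classical in
theorem inner_n {n : G} (hn : D.Nn n) : ∑ x : G, D.Z x * conj (D.Z (n⁻¹ * x * n)) =
    if D.St n then 2 * (Nat.card D.T : ℂ) else 0 := by
  rw [D.sum_T _ (fun x hx => by rw [D.Z_notMem hx, zero_mul])]
  have e1 : ∀ x : D.T, D.Z x * conj (D.Z (n⁻¹ * x * n)) =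
      (D.rT D.lam x : ℂ) * conj (((D.rT D.lam).comp (D.cj hn) x : ℂˣ) : ℂ) -
      (D.rT D.lam x : ℂ) * conj (((D.rT D.mu).comp (D.cj hn) x : ℂˣ) : ℂ) -
      (D.rT D.mu x : ℂ) * conj (((D.rT D.lam).comp (D.cj hn) x : ℂˣ) : ℂ) +
      (D.rT D.mu x : ℂ) * conj (((D.rT D.mu).comp (D.cj hn) x : ℂˣ) : ℂ) := by
    intro x
    rw [D.Z_mem x.2, D.Z_mem (D.norm_inv hn x x.2)]
    simp only [MonoidHom.comp_apply]
    rw [rT_coe, rT_coe, rT_coe, rT_coe, cj_coe, map_sub]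
    ring
  rw [Finset.sum_congr rfl fun x _ => e1 x, Finset.sum_add_distrib, Finset.sum_sub_distrib,
    Finset.sum_sub_distrib]
  rw [Cfsg.Agent.OddOrderCharacters.CyclicTI.sum_hom_mul_conj, Cfsg.Agent.OddOrderCharacters.CyclicTI.sum_hom_mul_conj,
    Cfsg.Agent.OddOrderCharacters.CyclicTI.sum_hom_mul_conj, Cfsg.Agent.OddOrderCharacters.CyclicTI.sum_hom_mul_conj]
  rw [if_neg (D.lam_ne_mu hn), if_neg (D.mu_ne_lam hn)]
  have h1 := D.eq_iff_St D.stab hn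
  have h2 := D.eq_iff_St D.stab' hn
  by_cases h : D.St n
  · rw [if_pos h, if_pos (h1.2 h), if_pos (h2.2 h)]
    ring
  · rw [if_neg h, if_neg (fun k => h (h1.1 k)), if_neg (fun k => h (h2.1 k))]
    ring

theorem n1_notMem : D.n1 ∉ D.T := by
  intro h
  apply D.t3_ne_t2
  rw [← D.n1t2, D.comm _ h _ D.t2_mem]
  group

open scoped Classical in
theorem card_St (c : ℂ) : ∑ n : G, (if D.St n then c else 0) = 2 * (Nat.card D.T : ℂ) * c := by
  have e1 : ∀ n, (if D.St n then c else 0) = (if n⁻¹ ∈ D.T then c else 0) + (if n⁻¹ * D.n1⁻¹ ∈ D.T then c else 0) := by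
    intro n
    unfold St
    by_cases h1 : n⁻¹ ∈ D.T
    · have h2 : ¬ (n⁻¹ * D.n1⁻¹ ∈ D.T) := by
        intro h2
        apply D.n1_notMem
        have := D.T.mul_mem (D.T.inv_mem h2) h1
        have e : (n⁻¹ * D.n1⁻¹)⁻¹ * n⁻¹ = D.n1 := by group
        rwa [e] at this
      rw [if_pos (Or.inl h1), if_pos h1, if_neg h2, add_zero]
    · by_cases h2 : n⁻¹ * D.n1⁻¹ ∈ D.T
      · rw [if_pos (Or.inr h2), if_neg h1, if_pos h2, zero_add]
      · rw [if_neg (not_or.2 ⟨h1, h2⟩), if_neg h1, if_neg h2, add_zero]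
  have e2 : ∑ n : G, (if n ∈ D.T then c else 0) = (Nat.card D.T : ℂ) * c := by
    rw [D.sum_T _ (fun x hx => if_neg hx)]
    rw [Finset.sum_congr rfl (fun x _ => if_pos x.2), Finset.sum_const, Finset.card_univ, nsmul_eq_mul,
      Nat.card_eq_fintype_card]
  have e3 : ∑ n : G, (if n⁻¹ ∈ D.T then c else 0) = (Nat.card D.T : ℂ) * c := by
    rw [← e2, ← Equiv.sum_comp (Equiv.inv G) (fun n => if n ∈ D.T then c else 0)]
    rfl
  have e4 : ∑ n : G, (if n⁻¹ * D.n1⁻¹ ∈ D.T then c else 0) = (Nat.card D.T : ℂ) * c := by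
    rw [← e3, ← Equiv.sum_comp (Equiv.mulLeft D.n1) (fun n => if n⁻¹ ∈ D.T then c else 0)]
    refine Finset.sum_congr rfl fun n _ => ?_
    have : ((Equiv.mulLeft D.n1) n)⁻¹ = n⁻¹ * D.n1⁻¹ := by
      change (D.n1 * n)⁻¹ = _
      group
    rw [this]
  rw [Finset.sum_congr rfl fun n _ => e1 n, Finset.sum_add_distrib, e3, e4]
  ring

/-- scalar product of `ζ` and `Ω` -/
theorem sum_Z_Om : ∑ x : G, D.Z x * conj (D.Om x) = 2 * (Nat.card D.T : ℂ) := by
  classical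
  have hT0 : (Nat.card D.T : ℂ) ≠ 0 := by exact_mod_cast Nat.card_pos.ne'
  have e1 : ∀ x, D.Z x * conj (D.Om x) = ∑ n : G, (2 * (Nat.card D.T : ℂ))⁻¹ *
      (if D.Nn n then D.Z x * conj (D.Z (n⁻¹ * x * n)) else 0) := by
    intro x
    unfold Om
    rw [map_mul, map_sum, map_inv₀, map_mul, Complex.conj_natCast]
    have : (conj (2 : ℂ)) = 2 := Complex.conj_ofNat 2
    rw [this, Finset.mul_sum, Finset.mul_sum]
    refine Finset.sum_congr rfl fun n _ => ?_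
    split_ifs
    · ring
    · simp
  rw [Finset.sum_congr rfl fun x _ => e1 x, Finset.sum_comm]
  have e2 : ∀ n : G, ∑ x : G, (2 * (Nat.card D.T : ℂ))⁻¹ *
      (if D.Nn n then D.Z x * conj (D.Z (n⁻¹ * x * n)) else 0) = if D.St n then 1 else 0 := by
    intro n
    rw [← Finset.mul_sum]
    by_cases hn : D.Nn n
    · simp only [if_pos hn]
      rw [D.inner_n hn]
      split_ifs
      · field_simp
      · rw [mul_zero]
    · simp only [if_neg hn]
      rw [if_neg (fun h => hn (D.St_Nn h))]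
      simp
  rw [Finset.sum_congr rfl fun n _ => e2 n, D.card_St, mul_one]

/-- `λ` is not trivial on `T` -/
theorem sum_Z : ∑ x : G, D.Z x = 0 := by
  classical
  rw [D.sum_T _ (fun x hx => D.Z_notMem hx)]
  have e1 : ∀ x : D.T, D.Z x = (D.rT D.lam x : ℂ) * conj (((1 : D.T →* ℂˣ) x : ℂˣ) : ℂ) -
      (D.rT D.mu x : ℂ) * conj (((1 : D.T →* ℂˣ) x : ℂˣ) : ℂ) := by
    intro x
    rw [D.Z_mem x.2, rT_coe, rT_coe]
    simp
  rw [Finset.sum_congr rfl fun x _ => e1 x, Finset.sum_sub_distrib]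
  rw [Cfsg.Agent.OddOrderCharacters.CyclicTI.sum_hom_mul_conj, Cfsg.Agent.OddOrderCharacters.CyclicTI.sum_hom_mul_conj]
  have h1 : D.rT D.lam ≠ 1 := by
    intro h
    have hl : ∀ x ∈ D.T, ez D.Q D.lam x = 1 := by
      intro x hx
      have := D.rT_coe D.lam ⟨x, hx⟩
      rw [h] at this
      simpa using this.symm
    apply D.ρ_not (n := 1) (by simp)
    rw [mul_one]
    apply D.stab_C
    apply D.stab _ D.ρT
    intro τ hτ
    rw [hl _ (D.ρT _ hτ), hl _ hτ]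
  have h2 : D.rT D.mu ≠ 1 := by
    intro h
    have := D.rT_coe D.mu ⟨D.t2, D.t2_mem⟩
    rw [h, D.mu_t2] at this
    norm_num at this
  rw [if_neg h1, if_neg h2, sub_zero]

end GData

end Cfsg.Agent.GTwoOdd.GamC
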