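import Cfsg.Agent.GTwoOdd.GamT

/-!
# The invariant function on the torus
-/

set_option autoImplicit false

open Cfsg
open scoped ComplexConjugate

namespace Cfsg.Agent.GTwoOdd.GamC

open Cfsg.Agent.GTwoOdd.GamSum

universe u

namespace GData

variable {G : Type u} [Group G] (D : GData G)

/-- `n` normalises `T` -/
def Nn (n : G) : Prop := ∀ τ ∈ D.T, n * τ * n⁻¹ ∈ D.T

theorem Nn_mul {n m : G} (hn : D.Nn n) (hm : D.Nn m) : D.Nn (n * m) := by
  intro τ hτ
  have := hn _ (hm τ hτ)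
  have e : n * m * τ * (n * m)⁻¹ = n * (m * τ * m⁻¹) * n⁻¹ := by group
  rwa [e]

theorem Nn_inv [Finite G] {n : G} (hn : D.Nn n) : D.Nn n⁻¹ := by
  intro τ hτ
  rw [inv_inv]
  exact D.norm_inv hn τ hτ

theorem Nn_conj [Finite G] {n : G} (hn : D.Nn n) {x : G} : n⁻¹ * x * n ∈ D.T ↔ x ∈ D.T := by
  constructor
  · intro h
    have := hn _ h
    have e : n * (n⁻¹ * x * n) * n⁻¹ = x := by group
    rwa [e] at this
  · exact D.norm_inv hn x

theorem Nn_n1 : D.Nn D.n1 := D.n1T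

theorem Nn_ρ : D.Nn D.ρ := D.ρT

theorem Nn_mul_iff [Finite G] {n m : G} (hm : D.Nn m) : D.Nn (n * m) ↔ D.Nn n := by
  constructor
  · intro h
    have := D.Nn_mul h (D.Nn_inv hm)
    rwa [mul_inv_cancel_right] at this
  · intro h
    exact D.Nn_mul h hm

theorem Nn_mul_iff' [Finite G] {n m : G} (hm : D.Nn m) : D.Nn (m * n) ↔ D.Nn n := by
  constructor
  · intro h
    have := D.Nn_mul (D.Nn_inv hm) h
    rwa [inv_mul_cancel_left] at this
  · intro h
    exact D.Nn_mul hm h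

theorem n1c : D.n1 * D.t = D.t * D.n1 := D.QC _ D.n1Q

theorem n1t3 : D.n1 * (D.t * D.t2) * D.n1⁻¹ = D.t2 := by
  calc D.n1 * (D.t * D.t2) * D.n1⁻¹ = (D.n1 * D.t) * D.t2 * D.n1⁻¹ := by group
    _ = D.t * (D.n1 * D.t2 * D.n1⁻¹) := by rw [D.n1c]; group
    _ = (D.t * D.t) * D.t2 := by rw [D.n1t2]; group
    _ = D.t2 := by rw [D.tt, one_mul]

variable [Fintype G]

open scoped Classical in
/-- the invariant function -/
noncomputable def Om (x : G) : ℂ :=
  (2 * (Nat.card D.T : ℂ))⁻¹ * ∑ n : G, (if D.Nn n then D.Z (n⁻¹ * x * n) else 0)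

theorem Om_ρ (x : G) : D.Om (D.ρ * x * D.ρ⁻¹) = D.Om x := by
  classical
  unfold Om
  congr 1
  rw [← Equiv.sum_comp (Equiv.mulLeft D.ρ)]
  refine Finset.sum_congr rfl fun n _ => ?_
  change (if D.Nn (D.ρ * n) then D.Z ((D.ρ * n)⁻¹ * (D.ρ * x * D.ρ⁻¹) * (D.ρ * n)) else 0) = _
  have e1 : (D.ρ * n)⁻¹ * (D.ρ * x * D.ρ⁻¹) * (D.ρ * n) = n⁻¹ * x * n := by group
  rw [e1]
  by_cases h : D.Nn n
  · rw [if_pos h, if_pos ((D.Nn_mul_iff' D.Nn_ρ).2 h)]
  · rw [if_neg h, if_neg (fun k => h ((D.Nn_mul_iff' D.Nn_ρ).1 k))]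

/-- right translation by `n1` -/
theorem sum_n1 (P P' : G → Prop) [DecidablePred P] [DecidablePred P'] (hP : ∀ n, D.Nn n → (P (n * D.n1) ↔ P' n))
    (hn : ∀ n, P n → D.Nn n) (hn' : ∀ n, P' n → D.Nn n) (x : G) :
    ∑ n : G, (if P n then D.Z (n⁻¹ * x * n) else 0) = ∑ n : G, (if P' n then D.Z (n⁻¹ * x * n) else 0) := by
  rw [← Equiv.sum_comp (Equiv.mulRight D.n1)]
  refine Finset.sum_congr rfl fun n _ => ?_
  change (if P (n * D.n1) then D.Z ((n * D.n1)⁻¹ * x * (n * D.n1)) else 0) = _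
  have e1 : (n * D.n1)⁻¹ * x * (n * D.n1) = D.n1⁻¹ * (n⁻¹ * x * n) * D.n1 := by group
  rw [e1, D.Z_n1]
  by_cases h : D.Nn n
  · by_cases h' : P' n
    · rw [if_pos h', if_pos ((hP n h).2 h')]
    · rw [if_neg h', if_neg (fun k => h' ((hP n h).1 k))]
  · rw [if_neg (fun k => h ((D.Nn_mul_iff D.Nn_n1).1 (hn _ k))), if_neg (fun k => h (hn' _ k))]

omit [Fintype G] in
theorem n1_swap {n s : G} : (n * D.n1)⁻¹ * s * (n * D.n1) = D.t2 ↔ n⁻¹ * s * n = D.t * D.t2 := by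
  have h := D.n1t2
  constructor
  · intro h1
    calc n⁻¹ * s * n = D.n1 * ((n * D.n1)⁻¹ * s * (n * D.n1)) * D.n1⁻¹ := by group
      _ = D.t * D.t2 := by rw [h1, h]
  · intro h1
    calc (n * D.n1)⁻¹ * s * (n * D.n1) = D.n1⁻¹ * (n⁻¹ * s * n) * D.n1 := by group
      _ = D.n1⁻¹ * (D.n1 * D.t2 * D.n1⁻¹) * D.n1 := by rw [h1, h]
      _ = D.t2 := by group

omit [Fintype G] in
theorem n1_swap' {n s : G} : (n * D.n1)⁻¹ * s * (n * D.n1) = D.t * D.t2 ↔ n⁻¹ * s * n = D.t2 := by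
  have h := D.n1t3
  constructor
  · intro h1
    calc n⁻¹ * s * n = D.n1 * ((n * D.n1)⁻¹ * s * (n * D.n1)) * D.n1⁻¹ := by group
      _ = D.t2 := by rw [h1, h]
  · intro h1
    calc (n * D.n1)⁻¹ * s * (n * D.n1) = D.n1⁻¹ * (n⁻¹ * s * n) * D.n1 := by group
      _ = D.n1⁻¹ * (D.n1 * (D.t * D.t2) * D.n1⁻¹) * D.n1 := by rw [h1, h]
      _ = D.t * D.t2 := by group

omit [Fintype G] in
theorem n1_fix {n : G} : (n * D.n1)⁻¹ * D.t * (n * D.n1) = D.t ↔ n⁻¹ * D.t * n = D.t := by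
  have h := D.n1c
  constructor
  · intro h1
    calc n⁻¹ * D.t * n = D.n1 * ((n * D.n1)⁻¹ * D.t * (n * D.n1)) * D.n1⁻¹ := by group
      _ = D.t := by rw [h1, h]; group
  · intro h1
    calc (n * D.n1)⁻¹ * D.t * (n * D.n1) = D.n1⁻¹ * (n⁻¹ * D.t * n) * D.n1 := by group
      _ = D.n1⁻¹ * (D.t * D.n1) := by rw [h1]; group
      _ = D.t := by rw [← h]; group

/-- involutions of `T` under the normaliser -/
theorem Nn_V {n s : G} (hn : D.Nn n) (hs : s ∈ D.T) (ss : s * s = 1) (s1 : s ≠ 1) :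
    n⁻¹ * s * n = D.t ∨ n⁻¹ * s * n = D.t2 ∨ n⁻¹ * s * n = D.t * D.t2 := by
  have h := D.Tinv _ (D.norm_inv hn s hs)
    (by have := CData.conj_invol (g := n⁻¹) ss; rwa [inv_inv] at this)
  rcases h with h | h
  · exact absurd h (by have := CData.conj_ne_one (g := n⁻¹) s1; rwa [inv_inv] at this)
  · exact h

omit [Fintype G] in
/-- normalises `T`, fixes `t`, and `s ↦ t2` -/
def N2 (s n : G) : Prop := D.Nn n ∧ n⁻¹ * D.t * n = D.t ∧ n⁻¹ * s * n = D.t2

omit [Fintype G] in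
/-- normalises `T`, fixes `t`, and `s ↦ t3` -/
def N3 (s n : G) : Prop := D.Nn n ∧ n⁻¹ * D.t * n = D.t ∧ n⁻¹ * s * n = D.t * D.t2

omit [Fintype G] in
/-- normalises `T`, and `t ↦ t2` -/
def M2 (n : G) : Prop := D.Nn n ∧ n⁻¹ * D.t * n = D.t2

omit [Fintype G] in
/-- normalises `T`, and `t ↦ t3` -/
def M3 (n : G) : Prop := D.Nn n ∧ n⁻¹ * D.t * n = D.t * D.t2

open scoped Classical in
/-- `Ω` in terms of the three cosets -/
theorem Om_eq (x s : G) (hs : s = D.t2 ∨ s = D.t * D.t2) :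
    (Nat.card D.T : ℂ) * D.Om x =
      ∑ n : G, (if D.N2 s n then D.Z (n⁻¹ * x * n) else 0) +
      ∑ n : G, (if D.M2 n then D.Z (n⁻¹ * x * n) else 0) := by
  have hT0 : (Nat.card D.T : ℂ) ≠ 0 := by exact_mod_cast Nat.card_pos.ne'
  have sT : s ∈ D.T := by
    rcases hs with rfl | rfl
    · exact D.t2_mem
    · exact D.T.mul_mem D.t_mem D.t2_mem
  have ss : s * s = 1 := by
    rcases hs with rfl | rfl
    · exact D.t2t2
    · exact D.t3t3
  have s1 : s ≠ 1 := by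
    rcases hs with rfl | rfl
    · exact D.t2_ne
    · exact D.t3_ne
  have st : s ≠ D.t := by
    rcases hs with rfl | rfl
    · exact D.t2_ne_t
    · exact D.t3_ne_t
  have a1 := D.sum_n1 (D.N2 s) (D.N3 s) (by
      intro n hn
      unfold N2 N3
      rw [D.n1_swap, D.n1_fix, D.Nn_mul_iff D.Nn_n1]) (fun n h => h.1) (fun n h => h.1) x
  have a2 := D.sum_n1 D.M2 D.M3 (by
      intro n hn
      unfold M2 M3
      rw [D.n1_swap, D.Nn_mul_iff D.Nn_n1]) (fun n h => h.1) (fun n h => h.1) x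
  have a3 : ∑ n : G, (if D.Nn n then D.Z (n⁻¹ * x * n) else 0) =
      (∑ n : G, (if D.N2 s n then D.Z (n⁻¹ * x * n) else 0) +
      ∑ n : G, (if D.N3 s n then D.Z (n⁻¹ * x * n) else 0)) +
      (∑ n : G, (if D.M2 n then D.Z (n⁻¹ * x * n) else 0) +
      ∑ n : G, (if D.M3 n then D.Z (n⁻¹ * x * n) else 0)) := by
    rw [← Finset.sum_add_distrib, ← Finset.sum_add_distrib, ← Finset.sum_add_distrib]
    refine Finset.sum_congr rfl fun n _ => ?_
    by_cases hn : D.Nn n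
    · rcases D.Nn_V hn D.t_mem D.tt D.t1 with h | h | h
      · have h' : n⁻¹ * s * n = D.t2 ∨ n⁻¹ * s * n = D.t * D.t2 := by
          rcases D.Nn_V hn sT ss s1 with k | k | k
          · exfalso
            apply st
            calc s = n * (n⁻¹ * s * n) * n⁻¹ := by group
              _ = n * (n⁻¹ * D.t * n) * n⁻¹ := by rw [k, h]
              _ = D.t := by group
          · exact Or.inl k
          · exact Or.inr k
        have n1 : ¬ (n⁻¹ * D.t * n = D.t2) := by rw [h]; exact fun k => D.t2_ne_t k.symm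
        have n2 : ¬ (n⁻¹ * D.t * n = D.t * D.t2) := by rw [h]; exact fun k => D.t3_ne_t k.symm
        rcases h' with h' | h'
        · have n3 : ¬ (n⁻¹ * s * n = D.t * D.t2) := by rw [h']; exact fun k => D.t3_ne_t2 k.symm
          rw [if_pos hn, if_pos (show D.N2 s n from ⟨hn, h, h'⟩), if_neg (show ¬ D.N3 s n from fun k => n3 k.2.2),
            if_neg (show ¬ D.M2 n from fun k => n1 k.2),
            if_neg (show ¬ D.M3 n from fun k => n2 k.2), add_zero, add_zero, add_zero]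
        · have n3 : ¬ (n⁻¹ * s * n = D.t2) := by rw [h']; exact D.t3_ne_t2
          rw [if_pos hn, if_neg (show ¬ D.N2 s n from fun k => n3 k.2.2), if_pos (show D.N3 s n from ⟨hn, h, h'⟩),
            if_neg (show ¬ D.M2 n from fun k => n1 k.2),
            if_neg (show ¬ D.M3 n from fun k => n2 k.2), zero_add, add_zero, add_zero]
      · have n1 : ¬ (n⁻¹ * D.t * n = D.t) := by rw [h]; exact D.t2_ne_t
        have n2 : ¬ (n⁻¹ * D.t * n = D.t * D.t2) := by rw [h]; exact fun k => D.t3_ne_t2 k.symm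
        rw [if_pos hn, if_neg (show ¬ D.N2 s n from fun k => n1 k.2.1),
          if_neg (show ¬ D.N3 s n from fun k => n1 k.2.1), if_pos (show D.M2 n from ⟨hn, h⟩),
          if_neg (show ¬ D.M3 n from fun k => n2 k.2), zero_add, zero_add, add_zero]
      · have n1 : ¬ (n⁻¹ * D.t * n = D.t) := by rw [h]; exact D.t3_ne_t
        have n2 : ¬ (n⁻¹ * D.t * n = D.t2) := by rw [h]; exact D.t3_ne_t2
        rw [if_pos hn, if_neg (show ¬ D.N2 s n from fun k => n1 k.2.1),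
          if_neg (show ¬ D.N3 s n from fun k => n1 k.2.1), if_neg (show ¬ D.M2 n from fun k => n2 k.2),
          if_pos (show D.M3 n from ⟨hn, h⟩), zero_add, zero_add, zero_add]
    · rw [if_neg hn, if_neg (show ¬ D.N2 s n from fun k => hn k.1), if_neg (show ¬ D.N3 s n from fun k => hn k.1),
        if_neg (show ¬ D.M2 n from fun k => hn k.1),
        if_neg (show ¬ D.M3 n from fun k => hn k.1)]
      simp
  have a4 : (Nat.card D.T : ℂ) * D.Om x = 2⁻¹ * ∑ n : G, (if D.Nn n then D.Z (n⁻¹ * x * n) else 0) := by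
    unfold Om
    rw [mul_inv]
    calc (Nat.card D.T : ℂ) * (2⁻¹ * (Nat.card D.T : ℂ)⁻¹ * ∑ n : G, (if D.Nn n then D.Z (n⁻¹ * x * n) else 0)) =
        2⁻¹ * ((Nat.card D.T : ℂ) * (Nat.card D.T : ℂ)⁻¹) * ∑ n : G, (if D.Nn n then D.Z (n⁻¹ * x * n) else 0) := by
          ring
      _ = _ := by rw [mul_inv_cancel₀ hT0, mul_one]
  rw [a4, a3, ← a1, ← a2]
  ring

/-- `F = Ω` on the elements of `T` with `t2` or `t3` among their powers -/
theorem F_eq_Om [Fintype D.C] {y : D.C} (hy : (y : G) ∈ D.T) {s : G} (hs : s = D.t2 ∨ s = D.t * D.t2)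
    (hsy : s ∈ Subgroup.zpowers (y : G)) : D.toC.F y = D.Om y := by
  classical
  have hT0 : (Nat.card D.T : ℂ) ≠ 0 := by exact_mod_cast Nat.card_pos.ne'
  have hcard : Nat.card (D.toC).T = Nat.card D.T := by
    change Nat.card (D.T.subgroupOf D.C) = Nat.card D.T
    exact Nat.card_congr (Subgroup.subgroupOfEquivOfLe D.TleC).toEquiv
  have sT : s ∈ D.T := by
    rcases hs with rfl | rfl
    · exact D.t2_mem
    · exact D.T.mul_mem D.t_mem D.t2_mem
  have ss : s * s = 1 := by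
    rcases hs with rfl | rfl
    · exact D.t2t2
    · exact D.t3t3
  have s1 : s ≠ 1 := by
    rcases hs with rfl | rfl
    · exact D.t2_ne
    · exact D.t3_ne
  have st : s ≠ D.t := by
    rcases hs with rfl | rfl
    · exact D.t2_ne_t
    · exact D.t3_ne_t
  have h0 := D.toC.F_apply (x := y) (s := ⟨s, D.TleC sT⟩) (D.zp_coe.2 hsy) (Subtype.ext ss)
    (fun h => s1 (congrArg Subtype.val h)) (fun h => st (congrArg Subtype.val h))
  rw [h0, hcard]
  have hOm := D.Om_eq y s hs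
  have e0 : D.Om y = (Nat.card D.T : ℂ)⁻¹ * ((Nat.card D.T : ℂ) * D.Om y) := by
    rw [← mul_assoc, inv_mul_cancel₀ hT0, one_mul]
  rw [e0, hOm]
  congr 1
  -- elements of `C` moving `s` to `t2` or `t3` normalise `T`
  have norm : ∀ c : G, c * D.t = D.t * c → (c⁻¹ * s * c = D.t2 ∨ c⁻¹ * s * c = D.t * D.t2) → D.Nn c := by
    intro c hc h
    apply D.Kn c hc
    have hct : c * D.t * c⁻¹ = D.t := by rw [hc]; group
    rcases h with h | h
    · have h1 : c * D.t2 * c⁻¹ = s := by rw [← h]; group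
      rw [h1]; exact hs
    · have h1 : c * (D.t * D.t2) * c⁻¹ = s := by rw [← h]; group
      have h2 : c * D.t2 * c⁻¹ = D.t * s := by
        rw [← h1]
        calc c * D.t2 * c⁻¹ = (D.t * D.t) * (c * D.t2 * c⁻¹) := by rw [D.tt, one_mul]
          _ = D.t * ((c * D.t * c⁻¹) * (c * D.t2 * c⁻¹)) := by rw [hct]; group
          _ = D.t * (c * (D.t * D.t2) * c⁻¹) := by group
      rw [h2]
      rcases hs with rfl | rfl
      · right; rfl
      · left; rw [← mul_assoc, D.tt, one_mul]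
  have ct : ∀ c : G, (c * D.t = D.t * c ↔ c⁻¹ * D.t * c = D.t) := by
    intro c
    constructor
    · intro h
      rw [mul_assoc, ← h]; group
    · intro h
      calc c * D.t = c * (c⁻¹ * D.t * c) := by rw [h]
        _ = D.t * c := by group
  congr 1
  · rw [← D.sum_coe (fun n => if D.N2 s n then D.Z (n⁻¹ * y * n) else 0)]
    · refine Finset.sum_congr rfl fun c _ => ?_
      have hc := D.mem_C.1 c.2
      by_cases h : (c : G)⁻¹ * s * c = D.t2
      · have hN := norm c hc (Or.inl h)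
        rw [if_pos (show c⁻¹ * ⟨s, D.TleC sT⟩ * c = (D.toC).t2 from Subtype.ext h),
          if_pos (show D.N2 s c from ⟨hN, (ct c).1 hc, h⟩)]
        exact D.z_eq' ((D.Nn_conj hN).2 hy)
      · rw [if_neg (fun k => h (congrArg Subtype.val k)), if_neg (fun k => h k.2.2)]
    · intro x hx
      rw [if_neg]
      intro k
      exact hx (D.mem_C.2 ((ct x).2 k.2.1))
  · have e1 : ∑ n : G, (if D.M2 n then D.Z (n⁻¹ * y * n) else 0) =
        ∑ c : G, (if D.Nn c ∧ c⁻¹ * D.t * c = D.t then D.Z (D.ρ * (c⁻¹ * y * c) * D.ρ⁻¹) else 0) := by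
      rw [← Equiv.sum_comp (Equiv.mulRight D.ρ⁻¹)]
      refine Finset.sum_congr rfl fun c _ => ?_
      change (if D.M2 (c * D.ρ⁻¹) then D.Z ((c * D.ρ⁻¹)⁻¹ * y * (c * D.ρ⁻¹)) else 0) = _
      have e2 : (c * D.ρ⁻¹)⁻¹ * (y : G) * (c * D.ρ⁻¹) = D.ρ * (c⁻¹ * y * c) * D.ρ⁻¹ := by group
      have e3 : D.M2 (c * D.ρ⁻¹) ↔ (D.Nn c ∧ c⁻¹ * D.t * c = D.t) := by
        unfold M2
        rw [D.Nn_mul_iff (D.Nn_inv D.Nn_ρ)]
        have e4 : (c * D.ρ⁻¹)⁻¹ * D.t * (c * D.ρ⁻¹) = D.ρ * (c⁻¹ * D.t * c) * D.ρ⁻¹ := by group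
        rw [e4]
        constructor
        · rintro ⟨h1, h2⟩
          refine ⟨h1, ?_⟩
          calc c⁻¹ * D.t * c = D.ρ⁻¹ * (D.ρ * (c⁻¹ * D.t * c) * D.ρ⁻¹) * D.ρ := by group
            _ = D.ρ⁻¹ * (D.ρ * D.t * D.ρ⁻¹) * D.ρ := by rw [h2, D.ρt]
            _ = D.t := by group
        · rintro ⟨h1, h2⟩
          exact ⟨h1, by rw [h2, D.ρt]⟩
      rw [e2]
      by_cases h : D.Nn c ∧ c⁻¹ * D.t * c = D.t
      · rw [if_pos h, if_pos (e3.2 h)]
      · rw [if_neg h, if_neg (fun k => h (e3.1 k))]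
    rw [e1, ← D.sum_coe]
    · refine Finset.sum_congr rfl fun c _ => ?_
      have hc := D.mem_C.1 c.2
      by_cases h : (c : G)⁻¹ * s * c = D.t2 ∨ (c : G)⁻¹ * s * c = D.t * D.t2
      · have hN := norm c hc h
        have hR : (D.toC).R23 (c⁻¹ * ⟨s, D.TleC sT⟩ * c) := by
          rcases h with h | h
          · exact Or.inl (Subtype.ext h)
          · exact Or.inr (Subtype.ext h)
        rw [if_pos hR, if_pos ⟨hN, (ct c).1 hc⟩]
        exact D.z1_eq' ((D.Nn_conj hN).2 hy)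
      · have hR : ¬ (D.toC).R23 (c⁻¹ * ⟨s, D.TleC sT⟩ * c) := by
          rintro (k | k)
          · exact h (Or.inl (congrArg Subtype.val k))
          · exact h (Or.inr (congrArg Subtype.val k))
        rw [if_neg hR, if_neg]
        rintro ⟨hN, hct⟩
        apply h
        rcases D.Nn_V hN sT ss s1 with k | k | k
        · exfalso
          apply st
          calc s = c * ((c : G)⁻¹ * s * c) * (c : G)⁻¹ := by group
            _ = c * ((c : G)⁻¹ * D.t * c) * (c : G)⁻¹ := by rw [k, hct]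
            _ = D.t := by group
        · exact Or.inl k
        · exact Or.inr k
    · intro x hx
      rw [if_neg]
      intro k
      exact hx (D.mem_C.2 ((ct x).2 k.2))

end GData

end Cfsg.Agent.GTwoOdd.GamC
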