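import Cfsg.Agent.GTwoOdd.GamInst
import Cfsg.Agent.Lib.AutSL2
import Cfsg.Agent.Lib.PSL2Field

/-!
# Field automorphisms in `C(t)`

`ActsS e c A σ`: `c` acts on the image of `e` as `x ↦ A σ(x) A⁻¹`.
`Hyp.weak_bruhat`: every `c` in `C(t)` is `u n u'` with `u, u'` in `A1 A2` and `n T n⁻¹ = T`.
`Hyp.index_zero_le`: the index of `C0` in `C(t)` is at most `|Aut F1| |Aut F2|`.
-/

set_option autoImplicit false

namespace Cfsg.Agent.GTwoOdd

open Matrix

section semi

variable {G : Type*} [Group G] {F : Type*} [Field F] {e : SL2 F →* G}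

/-- `c` acts on the image of `e` as `x ↦ A σ(x) A⁻¹` -/
def ActsS {G : Type*} [Group G] {F : Type*} [Field F] (e : SL2 F →* G) (c : G) (A : M2 F) (σ : F ≃+* F) : Prop :=
  A.det ≠ 0 ∧ ∀ x y : SL2 F, (y : M2 F) * A = A * (x : M2 F).map σ → c * e x = e y * c

theorem map_one_mat (σ : F ≃+* F) : (1 : M2 F).map σ = 1 := by
  ext i j
  rw [Matrix.map_apply, Matrix.one_apply]
  split_ifs <;> simp

theorem map_mul_mat (σ : F ≃+* F) (A B : M2 F) : (A * B).map σ = A.map σ * B.map σ := by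
  exact Matrix.map_mul (f := σ.toRingHom)

theorem map_det_mat (σ : F ≃+* F) (A : M2 F) : (A.map σ).det = σ A.det := by
  rw [Matrix.det_fin_two, Matrix.det_fin_two]
  simp

theorem map_det_ne (σ : F ≃+* F) {A : M2 F} (h : A.det ≠ 0) : (A.map σ).det ≠ 0 := by
  rw [map_det_mat]
  simpa using h

/-- the action of a field automorphism -/
def fsl (σ : F ≃+* F) (x : SL2 F) : SL2 F := ⟨(x : M2 F).map σ, by rw [map_det_mat, sl_coe_det, map_one]⟩

theorem fsl_coe (σ : F ≃+* F) (x : SL2 F) : (fsl σ x : M2 F) = (x : M2 F).map σ := rfl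

theorem fsl_symm (σ : F ≃+* F) (x : SL2 F) : fsl σ (fsl σ.symm x) = x := by
  apply Subtype.ext
  change ((x : M2 F).map σ.symm).map σ = x
  ext i j
  simp

theorem acts_of_refl {c : G} {A : M2 F} (h : ActsS e c A (RingEquiv.refl F)) : Acts e c A := by
  refine ⟨h.1, fun x y hxy => h.2 x y ?_⟩
  rw [hxy]
  congr 1

theorem Acts.toS {c : G} {A : M2 F} (h : Acts e c A) : ActsS e c A (RingEquiv.refl F) := by
  refine ⟨h.1, fun x y hxy => h.2 x y ?_⟩
  rw [hxy]
  congr 1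

theorem ActsS.mul_right {c d : G} {A B : M2 F} {σ : F ≃+* F} (h : ActsS e c A σ) (k : Acts e d B) :
    ActsS e (c * d) (A * B.map σ) σ := by
  refine ⟨by rw [Matrix.det_mul]; exact mul_ne_zero h.1 (map_det_ne σ k.1), fun x y hxy => ?_⟩
  obtain ⟨z, hz⟩ := exists_cj k.1 x
  have h1 := k.2 x z hz
  have h2 : (y : M2 F) * A = A * (z : M2 F).map σ := by
    apply cancel_right (map_det_ne σ k.1)
    rw [mul_assoc, hxy, mul_assoc A, mul_assoc A, ← map_mul_mat, ← map_mul_mat, hz]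
  have h3 := h.2 z y h2
  rw [mul_assoc, h1, ← mul_assoc, h3, mul_assoc]

theorem ActsS.mul_left {c d : G} {A B : M2 F} {σ : F ≃+* F} (k : Acts e d B) (h : ActsS e c A σ) :
    ActsS e (d * c) (B * A) σ := by
  refine ⟨by rw [Matrix.det_mul]; exact mul_ne_zero k.1 h.1, fun x y hxy => ?_⟩
  obtain ⟨z, hz⟩ := exists_cj h.1 (fsl σ x)
  have h1 := h.2 x z hz
  have h2 : (y : M2 F) * B = B * (z : M2 F) := by
    apply cancel_right h.1
    rw [mul_assoc, hxy, mul_assoc, mul_assoc, ← fsl_coe, hz]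
  have h3 := k.2 z y h2
  rw [mul_assoc, h1, ← mul_assoc, h3, mul_assoc]

/-- the quotient of two elements with the same field automorphism -/
theorem ActsS.mul_inv {c d : G} {A B : M2 F} {σ : F ≃+* F} (h : ActsS e c A σ) (k : ActsS e d B σ) :
    Acts e (c * d⁻¹) (A * B.adjugate) := by
  refine ⟨by rw [Matrix.det_mul, Matrix.det_adjugate]; exact mul_ne_zero h.1 (pow_ne_zero _ k.1), fun x y hxy => ?_⟩
  -- `x = B σ(w) B⁻¹`
  obtain ⟨v, hv⟩ := exists_cj' k.1 x
  have hw : (x : M2 F) * B = B * ((fsl σ.symm v : SL2 F) : M2 F).map σ := by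
    rw [← fsl_coe, fsl_symm, hv]
  have h1 := k.2 (fsl σ.symm v) x hw
  have h2 : (y : M2 F) * A = A * ((fsl σ.symm v : SL2 F) : M2 F).map σ := by
    rw [← fsl_coe, fsl_symm]
    have hB : (B.adjugate).det ≠ 0 := by rw [Matrix.det_adjugate]; exact pow_ne_zero _ k.1
    have e1 : B.adjugate * (x : M2 F) = (v : M2 F) * B.adjugate := by
      apply cancel_right k.1
      rw [mul_assoc, mul_assoc, hv, ← mul_assoc, Matrix.adjugate_mul, Matrix.smul_mul, one_mul, Matrix.mul_smul, mul_one]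
    apply cancel_right hB
    rw [mul_assoc, hxy, mul_assoc, e1, mul_assoc]
  have h3 := h.2 _ y h2
  calc c * d⁻¹ * e x = c * d⁻¹ * (e x * d) * d⁻¹ := by group
    _ = c * e (fsl σ.symm v) * d⁻¹ := by rw [← h1]; group
    _ = e y * (c * d⁻¹) := by rw [h3]; group

/-- conjugation of a linear element by a semilinear one -/
theorem ActsS.conj {c d : G} {A B : M2 F} {σ : F ≃+* F} (h : ActsS e c A σ) (k : Acts e d B) :
    Acts e (c * d * c⁻¹) (A * B.map σ * A.adjugate) := (h.mul_right k).mul_inv h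

end semi

namespace LocalSL

variable {G : Type*} [Group G] {t : G} {F1 F2 : Type*} [Field F1] [Field F2]

/-- automorphisms of `SL(2,F)` are semilinear -/
theorem exists_actsS {F : Type*} [Field F] [Finite F] {e : SL2 F →* G} (he : Function.Injective e) {c : G}
    (h : ∀ x, ∃ y, c * e x = e y * c) : ∃ (A : M2 F) (σ : F ≃+* F), ActsS e c A σ := by
  choose f hf using h
  have hmul : ∀ x y, f (x * y) = f x * f y := by
    intro x y
    apply he
    have h1 := hf (x * y)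
    rw [map_mul, ← mul_assoc, hf x, mul_assoc, hf y, ← mul_assoc, ← map_mul] at h1
    exact (mul_right_cancel h1).symm
  have hinj : Function.Injective f := by
    intro x y hxy
    apply he
    have h1 := hf x
    rw [hxy, ← hf y] at h1
    exact mul_left_cancel h1
  have hfin : Finite (SL2 F) := inferInstance
  let α : MulAut (SL2 F) := MulEquiv.ofBijective (MonoidHom.mk' f hmul) (Finite.injective_iff_bijective.1 hinj)
  obtain ⟨g, σ, hg⟩ := Cfsg.Agent.Lib.AutSL2.exists_gl_ringEquiv (MonoidHom.id (SL2 F)) Function.surjective_id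
    (by intro x hx; rw [MonoidHom.mem_ker, MonoidHom.id_apply] at hx; rw [hx]; exact one_mem _) α
  have hd : (g.1 : M2 F).det ≠ 0 := by
    have : IsUnit (g.1 : M2 F).det := (Matrix.isUnit_iff_isUnit_det _).1 g.isUnit
    exact this.ne_zero
  refine ⟨g.1, σ, hd, fun x y hxy => ?_⟩
  have h1 : f x = y := by
    have h2 := hg x
    simp only [MonoidHom.id_apply] at h2
    have h3 : f x = Cfsg.Agent.Lib.SL2Mat.conjGL g (Cfsg.Agent.Lib.SL2Mat.fieldAut σ x) := h2
    rw [h3]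
    apply Subtype.ext
    rw [Cfsg.Agent.Lib.SL2Mat.conjGL_val]
    apply cancel_right hd
    change g.1 * ((x : M2 F).map σ) * g⁻¹.1 * g.1 = (y : M2 F) * g.1
    rw [hxy, mul_assoc]
    change g.1 * ((x : M2 F).map σ) * ((g⁻¹ : GL (Fin 2) F).1 * g.1) = _
    rw [← Units.val_mul, inv_mul_cancel, Units.val_one, mul_one]
  rw [hf x, h1]

section hyp

variable [Finite F1] [Finite F2] {L : LocalSL t F1 F2} (H : L.Hyp)
include H

theorem Hyp.exists_semi {c : G} (hc : c * t = t * c) :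
    ∃ (A : M2 F1) (σ : F1 ≃+* F1) (B : M2 F2) (τ : F2 ≃+* F2), ActsS L.e1 c A σ ∧ ActsS L.e2 c B τ := by
  obtain ⟨A, σ, h⟩ := exists_actsS L.inj1 (H.norm1 c hc)
  obtain ⟨B, τ, k⟩ := exists_actsS L.inj2 (H.norm2 c hc)
  exact ⟨A, σ, B, τ, h, k⟩

omit [Finite F1] [Finite F2] H in
theorem map_up {F : Type*} [Field F] (σ : F ≃+* F) (a : F) : ((up a : SL2 F) : M2 F).map σ = ((up (σ a) : SL2 F) : M2 F) := by
  rw [up_coe, up_coe, m2_eq_iff]
  simp

omit [Finite F1] [Finite F2] H in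
theorem up_adj {F : Type*} [Field F] (a : F) : ((up a : SL2 F) : M2 F).adjugate = ((up (-a) : SL2 F) : M2 F) := by
  rw [up_coe, up_coe, Matrix.adjugate_fin_two_of, m2_eq_iff]
  simp

omit [Finite F1] [Finite F2] H in
theorem cell_reduce {F : Type*} [Field F] (σ : F ≃+* F) {x y : F} {A W : M2 F}
    (h : A = ((up x : SL2 F) : M2 F) * W * ((up y : SL2 F) : M2 F)) :
    ((up x : SL2 F) : M2 F).adjugate * A * (((up (σ.symm y) : SL2 F) : M2 F).adjugate).map σ = W := by
  rw [up_adj (σ.symm y), map_up, map_neg, σ.apply_symm_apply, h, ← up_adj, ← mul_assoc, ← mul_assoc, Matrix.adjugate_mul,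
    sl_coe_det, one_smul, one_mul, mul_assoc, Matrix.mul_adjugate, sl_coe_det, one_smul, mul_one]

omit [Finite F1] [Finite F2] H in
theorem diag_conj {F : Type*} [Field F] (i : Bool) {D D' : M2 F} (h1 : D 0 1 = 0) (h2 : D 1 0 = 0) (h3 : D' 0 1 = 0)
    (h4 : D' 1 0 = 0) :
    ((wi F i : M2 F) * D * D' * ((wi F i : M2 F) * D).adjugate) 0 1 = 0 ∧
      ((wi F i : M2 F) * D * D' * ((wi F i : M2 F) * D).adjugate) 1 0 = 0 := by
  rcases i with _ | _
  · rw [wi_false, Matrix.SpecialLinearGroup.coe_one, one_mul, Matrix.adjugate_fin_two]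
    simp only [m2_mul_00, m2_mul_01, m2_mul_10, m2_mul_11]
    simp [h1, h2, h3, h4]
  · rw [wi_true, ww_coe, Matrix.adjugate_fin_two]
    simp only [m2_mul_00, m2_mul_01, m2_mul_10, m2_mul_11]
    simp [h1, h2, h3, h4]

/-- the normal form of a semilinear element -/
theorem Hyp.weak_bruhat {c : G} (hc : c * t = t * c) :
    ∃ u ∈ L.uni, ∃ n : G, ∃ u' ∈ L.uni, c = u * n * u' ∧ n * t = t * n ∧ ∀ τ ∈ L.T0, n * τ * n⁻¹ ∈ L.T0 := by
  obtain ⟨A, σ, B, σ', h, k⟩ := H.exists_semi hc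
  obtain ⟨i, x, y, D, h1, h2, -, h4⟩ := exists_cell h.1
  obtain ⟨j, x', y', E, k1, k2, -, k4⟩ := exists_cell k.1
  have hn1 : ActsS L.e1 ((L.up2 (x, x'))⁻¹ * c * (L.up2 (σ.symm y, σ'.symm y'))⁻¹) ((wi F1 i : M2 F1) * D) σ := by
    have a1 := ((ActsS.mul_left (L.up2_rep (x, x')).inv.acts1 h).mul_right (L.up2_rep (σ.symm y, σ'.symm y')).inv.acts1)
    rwa [cell_reduce (W := (wi F1 i : M2 F1) * D) σ (by rw [h4, ← mul_assoc])] at a1
  have hn2 : ActsS L.e2 ((L.up2 (x, x'))⁻¹ * c * (L.up2 (σ.symm y, σ'.symm y'))⁻¹) ((wi F2 j : M2 F2) * E) σ' := by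
    have a1 := ((ActsS.mul_left (L.up2_rep (x, x')).inv.acts2 k).mul_right (L.up2_rep (σ.symm y, σ'.symm y')).inv.acts2)
    rwa [cell_reduce (W := (wi F2 j : M2 F2) * E) σ' (by rw [k4, ← mul_assoc])] at a1
  have hnt : (L.up2 (x, x'))⁻¹ * c * (L.up2 (σ.symm y, σ'.symm y'))⁻¹ * t =
      t * ((L.up2 (x, x'))⁻¹ * c * (L.up2 (σ.symm y, σ'.symm y'))⁻¹) := by
    have e1 : (L.up2 (x, x'))⁻¹ * t = t * (L.up2 (x, x'))⁻¹ := (L.up2_rep (x, x')).inv.comm
    have e2 : (L.up2 (σ.symm y, σ'.symm y'))⁻¹ * t = t * (L.up2 (σ.symm y, σ'.symm y'))⁻¹ := (L.up2_rep _).inv.comm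
    rw [mul_assoc, e2, ← mul_assoc, mul_assoc _ c t, hc, ← mul_assoc, e1]
    group
  refine ⟨_, L.up2_mem (x, x'), (L.up2 (x, x'))⁻¹ * c * (L.up2 (σ.symm y, σ'.symm y'))⁻¹, _, L.up2_mem (σ.symm y, σ'.symm y'),
    by group, hnt, ?_⟩
  intro τ hτ
  obtain ⟨D', E', hr, d1, d2, d3, d4⟩ := H.T0_rep hτ
  have m1 := hn1.conj hr.acts1
  have m2 := hn2.conj hr.acts2
  have m3 : (L.up2 (x, x'))⁻¹ * c * (L.up2 (σ.symm y, σ'.symm y'))⁻¹ * τ * ((L.up2 (x, x'))⁻¹ * c * (L.up2 (σ.symm y, σ'.symm y'))⁻¹)⁻¹ * t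
      = t * ((L.up2 (x, x'))⁻¹ * c * (L.up2 (σ.symm y, σ'.symm y'))⁻¹ * τ * ((L.up2 (x, x'))⁻¹ * c * (L.up2 (σ.symm y, σ'.symm y'))⁻¹)⁻¹) := by
    have a1 : Commute ((L.up2 (x, x'))⁻¹ * c * (L.up2 (σ.symm y, σ'.symm y'))⁻¹) t := hnt
    have a2 : Commute τ t := hr.comm
    exact (a1.mul_left a2).mul_left a1.inv_left
  have p1 := diag_conj i (D' := D'.map σ) h1 h2 (by rw [Matrix.map_apply, d1, map_zero]) (by rw [Matrix.map_apply, d2, map_zero])
  have p2 := diag_conj j (D' := E'.map σ') k1 k2 (by rw [Matrix.map_apply, d3, map_zero]) (by rw [Matrix.map_apply, d4, map_zero])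
  exact ⟨_, _, ⟨m3, m1, m2⟩, dg_comm_of p1.1 p1.2, dg_comm_of p2.1 p2.2⟩

omit [Finite F1] [Finite F2] H in
theorem odd_natCard {F : Type*} [Field F] [Finite F] (h : (2 : F) ≠ 0) : Odd (Nat.card F) := by
  let _ : Fintype F := Fintype.ofFinite F
  rw [Nat.card_eq_fintype_card]
  have h1 : ringChar F ≠ 2 := by
    intro k
    apply h
    have := (ringChar.spec F 2).2 (by rw [k])
    simpa using this
  exact Nat.odd_iff.2 (FiniteField.odd_card_of_char_ne_two h1)

omit [Finite F1] [Finite F2] H in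
theorem finite_aut (F : Type*) [Field F] [Finite F] : Finite (F ≃+* F) :=
  Finite.of_injective (fun σ : F ≃+* F => (σ : F → F)) (fun _ _ h => RingEquiv.ext (fun x => congrFun h x))

omit [Finite F1] [Finite F2] H in
theorem card_aut_lt (F : Type*) [Field F] [Finite F] (h : (2 : F) ≠ 0) : 2 * Nat.card (F ≃+* F) ≤ Nat.card F ∧
    Nat.card (F ≃+* F) < Nat.card F := by
  have h1 := Cfsg.Agent.Lib.PSL2Field.three_pow_card_le F (odd_natCard h)
  generalize Nat.card (F ≃+* F) = k at h1 ⊢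
  have h2 : 2 * k ≤ 3 ^ k ∧ k < 3 ^ k := by
    refine ⟨?_, Nat.lt_pow_self (by norm_num)⟩
    induction k with
    | zero => simp
    | succ n ih =>
      rcases Nat.eq_zero_or_pos n with rfl | hn
      · norm_num
      · have ih' := ih (le_trans (Nat.pow_le_pow_right (by norm_num) (Nat.le_succ n)) h1)
        rw [pow_succ]
        omega
  omega

/-- the index of `C0` in `C(t)` is at most the number of pairs of field automorphisms -/
theorem Hyp.index_zero_le : (L.zero.subgroupOf (Subgroup.centralizer {t})).index ≤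
    Nat.card (F1 ≃+* F1) * Nat.card (F2 ≃+* F2) := by
  have hf1 := finite_aut F1
  have hf2 := finite_aut F2
  have h : ∀ c : Subgroup.centralizer {t}, ∃ p : (F1 ≃+* F1) × (F2 ≃+* F2), ∃ A B,
      ActsS L.e1 (c : G) A p.1 ∧ ActsS L.e2 (c : G) B p.2 := by
    intro c
    obtain ⟨A, σ, B, τ, h, k⟩ := H.exists_semi (Subgroup.mem_centralizer_singleton_iff.1 c.2)
    exact ⟨(σ, τ), A, B, h, k⟩
  choose f A B hA hB using h
  rw [← Nat.card_prod]
  refine Nat.card_le_card_of_injective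
    (fun x : Subgroup.centralizer {t} ⧸ L.zero.subgroupOf (Subgroup.centralizer {t}) => f (x.out⁻¹)) ?_
  intro x y hxy
  simp only at hxy
  rw [← x.out_eq', ← y.out_eq']
  refine Quotient.sound' (QuotientGroup.leftRel_apply.2 ?_)
  rw [Subgroup.mem_subgroupOf, mem_zero]
  have e1 : f x.out⁻¹ = f y.out⁻¹ := hxy
  have a1 := hA x.out⁻¹
  have a2 := hA y.out⁻¹
  have b1 := hB x.out⁻¹
  have b2 := hB y.out⁻¹
  rw [← e1] at a2 b2
  have m1 := a1.mul_inv a2
  have m2 := b1.mul_inv b2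
  have e2 : ((x.out⁻¹ * y.out : Subgroup.centralizer {t}) : G) = ((x.out⁻¹ : Subgroup.centralizer {t}) : G) * ((y.out⁻¹ : Subgroup.centralizer {t}) : G)⁻¹ := by
    simp
  rw [e2]
  refine ⟨_, _, ?_, m1, m2⟩
  rw [← e2]
  exact Subgroup.mem_centralizer_singleton_iff.1 (x.out⁻¹ * y.out).2

theorem Hyp.index_zero_lt : 2 * (L.zero.subgroupOf (Subgroup.centralizer {t})).index < Nat.card F1 * Nat.card F2 := by
  have h1 := H.index_zero_le
  have h2 := card_aut_lt F1 H.two_ne1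
  have h3 := card_aut_lt F2 H.two_ne2
  have h4 : 0 < Nat.card F1 := Nat.card_pos
  calc 2 * (L.zero.subgroupOf (Subgroup.centralizer {t})).index ≤ 2 * (Nat.card (F1 ≃+* F1) * Nat.card (F2 ≃+* F2)) := by omega
    _ = (2 * Nat.card (F1 ≃+* F1)) * Nat.card (F2 ≃+* F2) := by ring
    _ ≤ Nat.card F1 * Nat.card (F2 ≃+* F2) := Nat.mul_le_mul_right _ h2.1
    _ < Nat.card F1 * Nat.card F2 := (Nat.mul_lt_mul_left h4).2 h3.2

/-- the order of `C(t)` is less than `q1 q2 |C0| / 2` -/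
theorem Hyp.card_cent_lt [Finite G] : 2 * Nat.card (Subgroup.centralizer {t} : Subgroup G) <
    Nat.card F1 * Nat.card F2 * Nat.card L.zero := by
  have h1 := H.index_zero_lt
  have hle : L.zero ≤ Subgroup.centralizer {t} := fun c hc => Subgroup.mem_centralizer_singleton_iff.2 (zero_t hc)
  have h2 : Nat.card (L.zero.subgroupOf (Subgroup.centralizer {t})) = Nat.card L.zero :=
    Nat.card_congr (Subgroup.subgroupOfEquivOfLe hle).toEquiv
  have h3 := Subgroup.card_mul_index (L.zero.subgroupOf (Subgroup.centralizer {t}))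
  rw [h2] at h3
  have h4 : 0 < Nat.card L.zero := Nat.card_pos
  rw [← h3]
  calc 2 * (Nat.card L.zero * (L.zero.subgroupOf (Subgroup.centralizer {t})).index)
      = (2 * (L.zero.subgroupOf (Subgroup.centralizer {t})).index) * Nat.card L.zero := by ring
    _ < _ := (Nat.mul_lt_mul_right h4).2 h1

end hyp

end LocalSL

end Cfsg.Agent.GTwoOdd
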