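import Cfsg.Agent.GTwoOdd.GamDia
import Cfsg.Agent.GTwoOdd.XRho

/-!
# The stabilisers of the characters of the split torus: elements of `C(t)`
-/

set_option autoImplicit false

namespace Cfsg.Agent.GTwoOdd

open Matrix

section semi

variable {G : Type*} [Group G] {F : Type*} [Field F] {e : SL2 F →* G}

/-- a semilinear element which preserves the image of `diag(1,-1)` up to scalars is diagonal or antidiagonal -/
theorem ActsS.diag_or (he : Function.Injective e) (h2 : (2 : F) ≠ 0) {c s s' : G} {A : M2 F} {σ : F ≃+* F}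
    (h : ActsS e c A σ) (hs : Acts e s (dg F)) (hs' : Acts e s' (dg F)) (hc : c * s * c⁻¹ = s') :
    (A 0 1 = 0 ∧ A 1 0 = 0) ∨ (A 0 0 = 0 ∧ A 1 1 = 0) := by
  have h1 := h.conj hs
  rw [hc] at h1
  obtain ⟨a, ha, h3⟩ := h1.proportional he hs'
  -- `dg = a • (A dg A⁻¹ det A)`
  have hm : (dg F).map σ = dg F := by
    rw [m2_eq_iff]; simp [dg]
  rw [hm] at h3
  have h4 : dg F * A = (a * A.det) • (A * dg F) := by
    conv_lhs => rw [h3]
    rw [Matrix.smul_mul, mul_assoc, Matrix.adjugate_mul, Matrix.mul_smul, mul_one, smul_smul]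
  have h5 := h.1
  have e00 := congrFun (congrFun h4 0) 0
  have e01 := congrFun (congrFun h4 0) 1
  have e10 := congrFun (congrFun h4 1) 0
  have e11 := congrFun (congrFun h4 1) 1
  rw [m2_mul_00, Matrix.smul_apply, m2_mul_00] at e00
  rw [m2_mul_01, Matrix.smul_apply, m2_mul_01] at e01
  rw [m2_mul_10, Matrix.smul_apply, m2_mul_10] at e10
  rw [m2_mul_11, Matrix.smul_apply, m2_mul_11] at e11
  simp only [dg, Matrix.of_apply, Matrix.cons_val', Matrix.cons_val_zero, Matrix.cons_val_one,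
    Matrix.cons_val_fin_one, smul_eq_mul] at e00 e01 e10 e11
  by_cases k : a * A.det = 1
  · rw [k] at e01 e10
    left
    constructor
    · have : 2 * A 0 1 = 0 := by linear_combination e01
      exact (mul_eq_zero.1 this).resolve_left h2
    · have : 2 * A 1 0 = 0 := by linear_combination -e10
      exact (mul_eq_zero.1 this).resolve_left h2
  · right
    constructor
    · have : (1 - a * A.det) * A 0 0 = 0 := by linear_combination e00
      exact (mul_eq_zero.1 this).resolve_left (sub_ne_zero.2 (Ne.symm k))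
    · have : (1 - a * A.det) * A 1 1 = 0 := by linear_combination -e11
      exact (mul_eq_zero.1 this).resolve_left (sub_ne_zero.2 (Ne.symm k))

/-- `c` normalises the two root groups -/
def NR (e : SL2 F →* G) (c : G) : Prop :=
  (∀ a : F, ∃ b : F, c * e (up a) = e (up b) * c) ∧ (∀ a : F, ∃ b : F, c * e (lo a) = e (lo b) * c)

theorem NR.one : NR e 1 := ⟨fun a => ⟨a, by simp⟩, fun a => ⟨a, by simp⟩⟩

theorem NR.mul {c d : G} (h : NR e c) (k : NR e d) : NR e (c * d) := by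
  constructor
  · intro a
    obtain ⟨b, hb⟩ := k.1 a
    obtain ⟨b', hb'⟩ := h.1 b
    exact ⟨b', by rw [mul_assoc, hb, ← mul_assoc, hb', mul_assoc]⟩
  · intro a
    obtain ⟨b, hb⟩ := k.2 a
    obtain ⟨b', hb'⟩ := h.2 b
    exact ⟨b', by rw [mul_assoc, hb, ← mul_assoc, hb', mul_assoc]⟩

theorem NR.pow {c : G} (h : NR e c) (n : ℕ) : NR e (c ^ n) := by
  induction n with
  | zero => rw [pow_zero]; exact NR.one
  | succ n ih => rw [pow_succ]; exact ih.mul h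

theorem ActsS.nr {c : G} {A : M2 F} {σ : F ≃+* F} (h : ActsS e c A σ) (h01 : A 0 1 = 0) (h10 : A 1 0 = 0) : NR e c := by
  obtain ⟨h0, h1⟩ := diag_ne h01 h.1
  constructor
  · intro a
    refine ⟨A 0 0 / A 1 1 * σ a, h.2 _ _ ?_⟩
    rw [LocalSL.map_up, up_coe, up_coe, m2_eq_iff]
    simp only [m2_mul_00, m2_mul_01, m2_mul_10, m2_mul_11]
    simp [h01, h10]
    field_simp
  · intro a
    refine ⟨A 1 1 / A 0 0 * σ a, h.2 _ _ ?_⟩
    rw [lo_coe, lo_coe, m2_eq_iff]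
    simp only [m2_mul_00, m2_mul_01, m2_mul_10, m2_mul_11]
    simp [h01, h10]
    field_simp

theorem Acts.diag_of_nr (he : Function.Injective e) {c : G} {A : M2 F} (h : Acts e c A) (k : NR e c) :
    A 0 1 = 0 ∧ A 1 0 = 0 := by
  obtain ⟨b, hb⟩ := k.1 1
  obtain ⟨z, hz⟩ := exists_cj h.1 (up 1)
  have h1 := h.2 _ z hz
  rw [hb] at h1
  have h2 := he (mul_right_cancel h1)
  rw [← h2, up_coe, up_coe] at hz
  obtain ⟨b', hb'⟩ := k.2 1
  obtain ⟨z', hz'⟩ := exists_cj h.1 (lo 1)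
  have h1' := h.2 _ z' hz'
  rw [hb'] at h1'
  have h2' := he (mul_right_cancel h1')
  rw [← h2', lo_coe, lo_coe] at hz'
  have e11 := congrFun (congrFun hz 1) 1
  have e00 := congrFun (congrFun hz' 0) 0
  rw [m2_mul_11, m2_mul_11] at e11
  rw [m2_mul_00, m2_mul_00] at e00
  simp only [Matrix.of_apply, Matrix.cons_val', Matrix.cons_val_zero, Matrix.cons_val_one,
    Matrix.cons_val_fin_one] at e11 e00
  constructor
  · linear_combination -e00
  · linear_combination -e11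

end semi

namespace LocalSL

variable {G : Type*} [Group G] {t : G} {F1 F2 : Type*} [Field F1] [Field F2]

/-- `c` acts diagonally on both factors, with field automorphisms -/
structure SD (L : LocalSL t F1 F2) (c : G) (σ : F1 ≃+* F1) (τ : F2 ≃+* F2) : Prop where
  comm : c * t = t * c
  ex1 : ∃ A : M2 F1, ActsS L.e1 c A σ ∧ A 0 1 = 0 ∧ A 1 0 = 0
  ex2 : ∃ B : M2 F2, ActsS L.e2 c B τ ∧ B 0 1 = 0 ∧ B 1 0 = 0

variable {L : LocalSL t F1 F2}

theorem _root_.Cfsg.Agent.GTwoOdd.Acts.unsmul {F : Type*} [Field F] {e : SL2 F →* G} {c : G} {A : M2 F} {a : F}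
    (ha : a ≠ 0) (h : Acts e c (a • A)) : Acts e c A := by
  have := h.smul (inv_ne_zero ha)
  rwa [smul_smul, inv_mul_cancel₀ ha, one_smul] at this

theorem SD.conj_rep {c : G} {σ : F1 ≃+* F1} {τ : F2 ≃+* F2} (h : L.SD c σ τ) {y : G} {a : F1} {b : F2}
    (hy : L.Rep y (dm a) (dm b)) : L.Rep (c * y * c⁻¹) (dm (σ a)) (dm (τ b)) := by
  obtain ⟨A, hA, a1, a2⟩ := h.ex1
  obtain ⟨B, hB, b1, b2⟩ := h.ex2
  have k1 := hA.conj hy.acts1
  have k2 := hB.conj hy.acts2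
  rw [dm_map, diag_conj_dm a1 a2] at k1
  rw [dm_map, diag_conj_dm b1 b2] at k2
  refine ⟨?_, k1.unsmul hA.1, k2.unsmul hB.1⟩
  have h1 : Commute c t := h.comm
  have h2 : Commute y t := hy.comm
  exact (h1.mul_left h2).mul_left h1.inv_left

section hyp

variable [Finite F1] [Finite F2] (H : L.Hyp)
include H

theorem Hyp.sd_T0 {c : G} {σ : F1 ≃+* F1} {τ : F2 ≃+* F2} (h : L.SD c σ τ) {y : G} (hy : y ∈ L.T0) :
    c * y * c⁻¹ ∈ L.T0 := mem_T0 (h.conj_rep (H.rep_T0 hy))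

theorem Hyp.sd_al {c : G} {σ : F1 ≃+* F1} {τ : F2 ≃+* F2} (h : L.SD c σ τ) {y : G} (hy : y ∈ L.T0) :
    L.al (c * y * c⁻¹) = σ (L.al y) := (h.conj_rep (H.rep_T0 hy)).al_eq

theorem Hyp.sd_be {c : G} {σ : F1 ≃+* F1} {τ : F2 ≃+* F2} (h : L.SD c σ τ) {y : G} (hy : y ∈ L.T0) :
    L.be (c * y * c⁻¹) = τ (L.be y) := (h.conj_rep (H.rep_T0 hy)).be_eq

/-- powers of a semilinear element on the torus -/
theorem Hyp.sd_pow {c : G} {σ : F1 ≃+* F1} {τ : F2 ≃+* F2} (h : L.SD c σ τ) {y : G} (hy : y ∈ L.T0) (n : ℕ) :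
    c ^ n * y * (c ^ n)⁻¹ ∈ L.T0 ∧ L.al (c ^ n * y * (c ^ n)⁻¹) = σ^[n] (L.al y) ∧
      L.be (c ^ n * y * (c ^ n)⁻¹) = τ^[n] (L.be y) := by
  induction n with
  | zero => simp [hy]
  | succ n ih =>
    obtain ⟨h1, h2, h3⟩ := ih
    have e : c ^ (n + 1) * y * (c ^ (n + 1))⁻¹ = c * (c ^ n * y * (c ^ n)⁻¹) * c⁻¹ := by
      rw [pow_succ']; group
    rw [e]
    refine ⟨H.sd_T0 h h1, ?_, ?_⟩
    · rw [H.sd_al h h1, h2, Function.iterate_succ_apply']
    · rw [H.sd_be h h1, h3, Function.iterate_succ_apply']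

omit [Finite F1] [Finite F2] in
/-- elements of `2`-power order of `C(t)` are in `C0` -/
theorem Hyp.two_mem_zero (n : ℕ) : ∀ c : G, c * t = t * c → c ^ (2 ^ n) = 1 → ∃ A B, L.Rep c A B := by
  induction n with
  | zero =>
    intro c _ h1
    rw [pow_zero, pow_one] at h1
    rw [h1]
    exact ⟨1, 1, Rep.one L⟩
  | succ n ih =>
    intro c hc h1
    apply H.sq_mem c hc
    apply ih (c * c)
    · have h : Commute c t := hc
      exact h.mul_left h
    · rw [← pow_two, ← pow_mul, ← pow_succ']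
      exact h1

omit [Finite F1] [Finite F2] in
theorem Hyp.odd_mem_zero [Finite G] {c : G} (hc : c * t = t * c) : ∃ k, Odd k ∧ ∃ A B, L.Rep (c ^ k) A B := by
  obtain ⟨n, k, hk, h⟩ := Nat.exists_eq_two_pow_mul_odd (orderOf_pos c).ne'
  refine ⟨k, hk, H.two_mem_zero n (c ^ k) ?_ ?_⟩
  · have h : Commute c t := hc
    exact h.pow_left k
  · rw [← pow_mul, mul_comm, ← h, pow_orderOf_eq_one]

end hyp

section frame

variable [Finite F1] [Finite F2] [Finite G] {s : G} {n1 : SL2 F1} {n2 : SL2 F2} (F : L.Frame s (dg F1) (dg F2) n1 n2)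
include F

/-- an odd power of a semilinear diagonal element is in the torus -/
theorem Frame.sd_odd {c : G} {σ : F1 ≃+* F1} {τ : F2 ≃+* F2} (h : L.SD c σ τ) :
    ∃ k, Odd k ∧ c ^ k ∈ L.T0 ∧ (∀ x, σ^[k] x = x) ∧ (∀ x, τ^[k] x = x) := by
  obtain ⟨k, hk, A, B, hr⟩ := F.hyp.odd_mem_zero h.comm
  obtain ⟨A', hA, a1, a2⟩ := h.ex1
  obtain ⟨B', hB, b1, b2⟩ := h.ex2
  have k1 := hr.acts1.diag_of_nr L.inj1 ((hA.nr a1 a2).pow k)
  have k2 := hr.acts2.diag_of_nr L.inj2 ((hB.nr b1 b2).pow k)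
  have hm : c ^ k ∈ L.T0 := ⟨A, B, hr, dg_comm_of k1.1 k1.2, dg_comm_of k2.1 k2.2⟩
  refine ⟨k, hk, hm, ?_, ?_⟩
  · intro x
    by_cases hx : x = 0
    · rw [hx]
      exact Function.iterate_fixed (map_zero σ) k
    obtain ⟨y, hy, hyx⟩ := F.al_surj hx
    have h1 := (F.hyp.sd_pow h hy k).2.1
    rw [F.hyp.T0_comm hm hy, hyx] at h1
    rw [← h1, mul_assoc, mul_inv_cancel, mul_one, hyx]
  · intro x
    by_cases hx : x = 0
    · rw [hx]
      exact Function.iterate_fixed (map_zero τ) k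
    obtain ⟨y, hy, hyx⟩ := F.be_surj hx
    have h1 := (F.hyp.sd_pow h hy k).2.2
    rw [F.hyp.T0_comm hm hy, hyx] at h1
    rw [← h1, mul_assoc, mul_inv_cancel, mul_one, hyx]

omit F [Finite F1] [Finite F2] [Finite G] in
/-- an automorphism of odd order whose square is trivial is trivial -/
theorem aut_eq_one {F : Type*} [Field F] {τ : F ≃+* F} {k : ℕ} (hk : Odd k) (h : ∀ x, τ^[k] x = x)
    (h2 : ∀ x, τ (τ x) = x) (x : F) : τ x = x := by
  have h3 : Function.Involutive τ := h2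
  have h4 := h3.iterate_odd hk
  have h5 := h x
  rwa [h4] at h5

/-- semilinear diagonal elements commute with `s` -/
theorem Frame.sd_s {c : G} {σ : F1 ≃+* F1} {τ : F2 ≃+* F2} (h : L.SD c σ τ) : c * s = s * c := by
  have h1 := h.conj_rep F.rep_s
  have e1 : σ (-1) = -1 := by rw [map_neg, map_one]
  have e2 : τ (-1) = -1 := by rw [map_neg, map_one]
  rw [e1, e2] at h1
  have h2 := F.rep_s.unique h1 (a := 1) (b := 1) (by simp) (by simp)
  rcases h2 with h2 | h2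
  · calc c * s = c * s * c⁻¹ * c := by group
      _ = s * c := by rw [h2]
  · exfalso
    obtain ⟨k, hk, hm, -, -⟩ := F.sd_odd h
    have ht : c * t * c⁻¹ = t := by rw [h.comm]; group
    have h3 : ∀ n : ℕ, c ^ n * s * (c ^ n)⁻¹ = s * t ^ n := by
      intro n
      induction n with
      | zero => simp
      | succ n ih =>
        calc c ^ (n + 1) * s * (c ^ (n + 1))⁻¹ = c * (c ^ n * s * (c ^ n)⁻¹) * c⁻¹ := by rw [pow_succ']; group
          _ = (c * s * c⁻¹) * (c * t ^ n * c⁻¹) := by rw [ih]; group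
          _ = s * t * t ^ n := by
            rw [h2]
            congr 1
            have hct : Commute c t := h.comm
            have := hct.pow_right n
            calc c * t ^ n * c⁻¹ = t ^ n * c * c⁻¹ := by rw [this.eq]
              _ = t ^ n := by group
          _ = s * t ^ (n + 1) := by rw [pow_succ', mul_assoc]
    have h4 := h3 k
    rw [F.hyp.T0_comm hm F.s_mem, mul_assoc, mul_inv_cancel, mul_one] at h4
    have h5 : t ^ k = 1 := by
      have : s * t ^ k = s * 1 := by rw [mul_one]; exact h4.symm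
      exact mul_left_cancel this
    obtain ⟨m, rfl⟩ := hk
    rw [pow_succ, pow_mul, pow_two, L.t_sq, one_pow, one_mul] at h5
    exact F.t_ne h5

omit [Finite G] in
/-- elements of `C(t)` which normalise the four-group are semilinear diagonal up to `n1`, `n2` -/
theorem Frame.exists_sd {n : G} (hn : n * t = t * n) (hs : n * s * n⁻¹ = s ∨ n * s * n⁻¹ = s * t) :
    ∃ (i j : Bool) (σ : F1 ≃+* F1) (τ : F2 ≃+* F2),
      L.SD (n * (L.e1 (if i then n1 else 1) * L.e2 (if j then n2 else 1))⁻¹) σ τ := by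
  obtain ⟨A, σ, B, τ, hA, hB⟩ := F.hyp.exists_semi hn
  have k1 : (A 0 1 = 0 ∧ A 1 0 = 0) ∨ (A 0 0 = 0 ∧ A 1 1 = 0) := by
    rcases hs with h | h
    · exact hA.diag_or L.inj1 F.two1 F.rep.acts1 F.rep.acts1 h
    · exact hA.diag_or L.inj1 F.two1 F.rep.acts1 F.mul_t.rep.acts1 h
  have k2 : (B 0 1 = 0 ∧ B 1 0 = 0) ∨ (B 0 0 = 0 ∧ B 1 1 = 0) := by
    rcases hs with h | h
    · exact hB.diag_or L.inj2 F.two2 F.rep.acts2 F.rep.acts2 h
    · exact hB.diag_or L.inj2 F.two2 F.rep.acts2 F.mul_t.rep.acts2 h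
  have key1 : ∃ i : Bool, ((A * ((if i then n1 else 1 : SL2 F1) : M2 F1).adjugate.map σ) 0 1 = 0 ∧
      (A * ((if i then n1 else 1 : SL2 F1) : M2 F1).adjugate.map σ) 1 0 = 0) := by
    rcases k1 with ⟨h1, h2⟩ | ⟨h1, h2⟩
    · refine ⟨false, ?_⟩
      rw [m2_mul_01, m2_mul_10]
      simp [h1, h2]
    · obtain ⟨h3, h4⟩ := anti_dg F.two1 F.anti1
      refine ⟨true, ?_⟩
      rw [m2_mul_01, m2_mul_10]
      simp [Matrix.adjugate_fin_two, h1, h2, h3, h4]
  have key2 : ∃ i : Bool, ((B * ((if i then n2 else 1 : SL2 F2) : M2 F2).adjugate.map τ) 0 1 = 0 ∧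
      (B * ((if i then n2 else 1 : SL2 F2) : M2 F2).adjugate.map τ) 1 0 = 0) := by
    rcases k2 with ⟨h1, h2⟩ | ⟨h1, h2⟩
    · refine ⟨false, ?_⟩
      rw [m2_mul_01, m2_mul_10]
      simp [h1, h2]
    · obtain ⟨h3, h4⟩ := anti_dg F.two2 F.anti2
      refine ⟨true, ?_⟩
      rw [m2_mul_01, m2_mul_10]
      simp [Matrix.adjugate_fin_two, h1, h2, h3, h4]
  obtain ⟨i, hi1, hi2⟩ := key1
  obtain ⟨j, hj1, hj2⟩ := key2
  have hw := (Rep.e12 L (if i then n1 else 1) (if j then n2 else 1)).inv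
  refine ⟨i, j, σ, τ, ?_, ⟨_, hA.mul_right hw.acts1, hi1, hi2⟩, ⟨_, hB.mul_right hw.acts2, hj1, hj2⟩⟩
  have h1 : Commute n t := hn
  have h2 : Commute (L.e1 (if i then n1 else 1) * L.e2 (if j then n2 else 1))⁻¹ t := hw.comm
  exact h1.mul_left h2

end frame

section onto

variable [Finite F1] [Finite F2] (H : L.Hyp)
include H

theorem Hyp.be_onto {K : Subgroup G} (hK : K ≤ L.T0) (hc : Nat.card K = Nat.card F2 - 1)
    (hi : ∀ c ∈ K, L.be c = 1 → c = 1) {x : F2} (hx : x ≠ 0) : ∃ c ∈ K, L.be c = x := by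
  have hinj : Function.Injective (H.beh.comp (Subgroup.inclusion hK)) := by
    rw [injective_iff_map_eq_one]
    intro c h
    have h1 : L.be (c : G) = 1 := congrArg (fun x : F2ˣ => (x : F2)) h
    exact Subtype.ext (hi c c.2 h1)
  have hb := (Nat.bijective_iff_injective_and_card (H.beh.comp (Subgroup.inclusion hK))).2
    ⟨hinj, by rw [hc, Nat.card_units]⟩
  obtain ⟨c, h⟩ := hb.2 (Units.mk0 x hx)
  exact ⟨c, c.2, congrArg (fun x : F2ˣ => (x : F2)) h⟩

theorem Hyp.al_onto {K : Subgroup G} (hK : K ≤ L.T0) (hc : Nat.card K = Nat.card F1 - 1)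
    (hi : ∀ c ∈ K, L.al c = 1 → c = 1) {x : F1} (hx : x ≠ 0) : ∃ c ∈ K, L.al c = x := by
  have hinj : Function.Injective (H.alh.comp (Subgroup.inclusion hK)) := by
    rw [injective_iff_map_eq_one]
    intro c h
    have h1 : L.al (c : G) = 1 := congrArg (fun x : F1ˣ => (x : F1)) h
    exact Subtype.ext (hi c c.2 h1)
  have hb := (Nat.bijective_iff_injective_and_card (H.alh.comp (Subgroup.inclusion hK))).2
    ⟨hinj, by rw [hc, Nat.card_units]⟩
  obtain ⟨c, h⟩ := hb.2 (Units.mk0 x hx)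
  exact ⟨c, c.2, congrArg (fun x : F1ˣ => (x : F1)) h⟩

end onto

section swap

variable [Finite F1] [Finite F2] {s g : G} {n1 : SL2 F1} {n2 : SL2 F2} (S : L.Swap s (dg F1) (dg F2) n1 n2 g)
include S

/-- `T1 ∩ ρ T2 ρ⁻¹ = 1` -/
theorem Swap.inf12 {y : G} (h1 : y ∈ L.tor1 (dg F1)) (h2 : (rho L n1 g)⁻¹ * y * rho L n1 g ∈ L.tor2 (dg F2)) : y = 1 := by
  set ρ := rho L n1 g with hρ
  have hyT : y ∈ L.T0 := Frame.tor1_le L _ _ h1
  have F := S.toFrame
  -- `ρ⁻¹ y ρ = ρ y⁻¹ ρ⁻¹`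
  have e1 : ρ⁻¹ * y * ρ = ρ * y⁻¹ * ρ⁻¹ := by
    have k1 := S.cj_tor S.gr1_rho (inv_mem hyT)
    rw [inv_inv, ← hρ] at k1
    rw [← k1]
    have k2 : L.e1 n1 * y = y⁻¹ * L.e1 n1 := F.tor1_inv h1
    have k3 : (L.e1 n1)⁻¹ * y⁻¹ * L.e1 n1 = y := by
      rw [mul_assoc, ← k2]; group
    have k4 : L.e1 n1 * (ρ⁻¹ * y * ρ) = ρ⁻¹ * y * ρ * L.e1 n1 := Frame.tor2_e1 h2 n1
    calc ρ⁻¹ * y * ρ = L.e1 n1 * (ρ⁻¹ * y * ρ) * (L.e1 n1)⁻¹ := by rw [k4]; group
      _ = L.e1 n1 * (ρ⁻¹ * ((L.e1 n1)⁻¹ * y⁻¹ * L.e1 n1) * ρ) * (L.e1 n1)⁻¹ := by rw [k3]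
      _ = _ := by group
  -- conjugation by `ρ²` inverts `y`
  have e1' : ρ⁻¹ * y⁻¹ * ρ = ρ * y * ρ⁻¹ := by
    have h4 : (ρ⁻¹ * y * ρ)⁻¹ = (ρ * y⁻¹ * ρ⁻¹)⁻¹ := by rw [e1]
    calc ρ⁻¹ * y⁻¹ * ρ = (ρ⁻¹ * y * ρ)⁻¹ := by group
      _ = _ := by rw [h4]; group
  have e2 : ρ * ρ * y * (ρ * ρ)⁻¹ = y⁻¹ := by
    calc ρ * ρ * y * (ρ * ρ)⁻¹ = ρ * (ρ * y * ρ⁻¹) * ρ⁻¹ := by group
      _ = y⁻¹ := by rw [← e1']; group
  have e2' : ρ * ρ * y⁻¹ * (ρ * ρ)⁻¹ = y := by
    calc ρ * ρ * y⁻¹ * (ρ * ρ)⁻¹ = ρ * (ρ * y⁻¹ * ρ⁻¹) * ρ⁻¹ := by group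
      _ = y := by rw [← e1]; group
  have hc : ρ * ρ * ρ ∈ L.T0 := S.rho_cube
  have e3 : (ρ * ρ * ρ) * y * (ρ * ρ * ρ)⁻¹ = y := by
    rw [F.hyp.T0_comm hc hyT]; group
  have e4 : y⁻¹ = y := by
    calc y⁻¹ = ρ * ρ * y * (ρ * ρ)⁻¹ := e2.symm
      _ = ρ * ρ * (ρ * ρ * y⁻¹ * (ρ * ρ)⁻¹) * (ρ * ρ)⁻¹ := by rw [e2']
      _ = ρ * ρ * (ρ * ρ * (ρ * ρ * y * (ρ * ρ)⁻¹) * (ρ * ρ)⁻¹) * (ρ * ρ)⁻¹ := by rw [e2]
      _ = (ρ * ρ * ρ) * ((ρ * ρ * ρ) * y * (ρ * ρ * ρ)⁻¹) * (ρ * ρ * ρ)⁻¹ := by group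
      _ = y := by rw [e3, e3]
  have e5 : y * y = 1 := by
    nth_rw 2 [← e4]; group
  rcases F.tor_invol hyT e5 with h | h | h | h
  · exact h
  · exfalso
    rw [h] at h2
    have k1 : ρ⁻¹ * t * ρ = s * t := by
      have a1 := S.rho_t
      have a2 := S.rho_s
      rw [← hρ] at a1 a2
      have hst := F.rep.comm
      have : ρ * (s * t) = t * ρ := by
        calc ρ * (s * t) = (ρ * s) * t := by group
          _ = s * t * (ρ * t) := by rw [a2]; group
          _ = (s * t) * s * ρ := by rw [a1]; group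
          _ = t * (s * s) * ρ := by rw [hst]; group
          _ = t * ρ := by rw [F.ss, mul_one]
      rw [mul_assoc, ← this]; group
    rw [k1] at h2
    have k2 := Frame.tor2_e1 h2 n1
    have k3 := F.n1_s
    have k4 : L.e1 n1 * t = t * L.e1 n1 := e1_t n1
    have k5 : L.e1 n1 * (s * t) = s * L.e1 n1 := by
      calc L.e1 n1 * (s * t) = (L.e1 n1 * s) * t := by group
        _ = s * t * (L.e1 n1 * t) := by rw [k3]; group
        _ = s * (t * t) * L.e1 n1 := by rw [k4]; group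
        _ = _ := by rw [L.t_sq, mul_one]
    rw [k5] at k2
    have k6 : s = s * t := mul_right_cancel k2
    exact F.t_ne (mul_left_cancel (k6.symm.trans (mul_one s).symm))
  · exfalso
    rw [h] at h1
    have := (F.hyp.mem_tor1_be F.s_mem).1 h1
    rw [F.be_s] at this
    exact F.two2 (by linear_combination -this)
  · exfalso
    rw [h] at h1
    have := (F.hyp.mem_tor1_be (mul_mem F.s_mem F.t_mem)).1 h1
    rw [F.hyp.be_mul F.s_mem F.t_mem, F.be_s, be_t] at this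
    exact F.two2 (by linear_combination -this)

end swap

end LocalSL

end Cfsg.Agent.GTwoOdd
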