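import Mathlib
import Cfsg.Agent.OddOrderCharacters.IndRes
import Cfsg.Agent.OddOrderCharacters.PF9.MackeyIrr
import Cfsg.Agent.Characters.ClassMul
import Cfsg.Agent.Characters.CentralCharacter

/-!
# Sums over elements with a given involution among their powers
-/

set_option autoImplicit false

open Cfsg
open scoped ComplexConjugate

namespace Cfsg.Agent.GTwoOdd.GamSum

universe u
variable {H : Type u} [Group H]

/-- a cyclic group has at most one involution -/
theorem inv_unique {x s s' : H} (hs : s ∈ Subgroup.zpowers x) (hs' : s' ∈ Subgroup.zpowers x)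
    (h : s * s = 1) (h' : s' * s' = 1) (h1 : s ≠ 1) (h1' : s' ≠ 1) : s = s' := by
  obtain ⟨a, rfl⟩ := Subgroup.mem_zpowers_iff.1 hs
  obtain ⟨b, rfl⟩ := Subgroup.mem_zpowers_iff.1 hs'
  rw [← zpow_add, ← two_mul] at h h'
  rw [← orderOf_dvd_iff_zpow_eq_one] at h h'
  rw [Ne, ← orderOf_dvd_iff_zpow_eq_one] at h1 h1'
  obtain ⟨k, hk⟩ := h
  obtain ⟨l, hl⟩ := h'
  have hk' : ¬ Even k := by
    rintro ⟨m, rfl⟩
    exact h1 ⟨m, by linarith⟩
  have hl' : ¬ Even l := by
    rintro ⟨m, rfl⟩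
    exact h1' ⟨m, by linarith⟩
  rw [Int.not_even_iff_odd] at hk' hl'
  obtain ⟨m, hm⟩ := hk'.sub_odd hl'
  have h3 : (orderOf x : ℤ) ∣ a - b := ⟨m, by
    have : (2 : ℤ) * (a - b) = 2 * ((orderOf x : ℤ) * m) := by
      have e : (orderOf x : ℤ) * (k - l) = orderOf x * (m + m) := by rw [hm]
      linarith
    linarith⟩
  have h4 : x ^ (a - b) = 1 := orderOf_dvd_iff_zpow_eq_one.1 h3
  rw [zpow_sub, mul_inv_eq_one] at h4
  exact h4

theorem zpowers_conj_mem {g x s : H} : s ∈ Subgroup.zpowers (g⁻¹ * x * g) ↔ g * s * g⁻¹ ∈ Subgroup.zpowers x := by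
  have key : ∀ k : ℤ, (g⁻¹ * x * g) ^ k = g⁻¹ * x ^ k * g := by
    intro k
    have := conj_zpow (a := g⁻¹) (b := x) (i := k)
    rwa [inv_inv] at this
  constructor
  · intro h
    obtain ⟨k, rfl⟩ := Subgroup.mem_zpowers_iff.1 h
    refine Subgroup.mem_zpowers_iff.2 ⟨k, ?_⟩
    rw [key]; group
  · intro h
    obtain ⟨k, hk⟩ := Subgroup.mem_zpowers_iff.1 h
    refine Subgroup.mem_zpowers_iff.2 ⟨k, ?_⟩
    rw [key, hk]; group

theorem zpowers_conj_mem' {g x s : H} : s ∈ Subgroup.zpowers (g * x * g⁻¹) ↔ g⁻¹ * s * g ∈ Subgroup.zpowers x := by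
  have := zpowers_conj_mem (g := g⁻¹) (x := x) (s := s)
  rwa [inv_inv] at this

theorem comm_of_mem_zpowers {x s : H} (h : s ∈ Subgroup.zpowers x) : x * s = s * x := by
  obtain ⟨k, rfl⟩ := Subgroup.mem_zpowers_iff.1 h
  exact (Commute.refl x).zpow_right k

open scoped Classical in
/-- conjugates of an involution `s` with known centraliser in `Q` -/
theorem sum_conj [Fintype H] (Q T : Subgroup H) (hTQ : T ≤ Q) (s : H) (ss : s * s = 1) (s1 : s ≠ 1)
    (hT : ∀ q ∈ Q, q * s = s * q ↔ q ∈ T) (f : H → ℂ)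
    (hf : ∀ q ∈ Q, ∀ x, f (q * x * q⁻¹) = f x) :
    ∑ x : H, (if ∃ q ∈ Q, q * s * q⁻¹ ∈ Subgroup.zpowers x then f x else 0) =
      (Nat.card Q : ℂ) / (Nat.card T : ℂ) * ∑ x : H, (if s ∈ Subgroup.zpowers x then f x else 0) := by
  have hTne : (Nat.card T : ℂ) ≠ 0 := by exact_mod_cast Nat.card_pos.ne'
  have e1 : ∑ g : Q, ∑ x : H, (if s ∈ Subgroup.zpowers x then f ((g : H) * x * (g : H)⁻¹) else 0) =
      (Nat.card Q : ℂ) * ∑ x : H, (if s ∈ Subgroup.zpowers x then f x else 0) := by
    have : ∀ g : Q, ∑ x : H, (if s ∈ Subgroup.zpowers x then f ((g : H) * x * (g : H)⁻¹) else 0) =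
        ∑ x : H, (if s ∈ Subgroup.zpowers x then f x else 0) := by
      intro g
      refine Finset.sum_congr rfl fun x _ => ?_
      rw [hf g g.2]
    rw [Finset.sum_congr rfl fun g _ => this g, Finset.sum_const, Finset.card_univ, nsmul_eq_mul,
      Nat.card_eq_fintype_card]
  have e2 : ∑ g : Q, ∑ x : H, (if s ∈ Subgroup.zpowers x then f ((g : H) * x * (g : H)⁻¹) else 0) =
      ∑ x : H, (if ∃ q ∈ Q, q * s * q⁻¹ ∈ Subgroup.zpowers x then (Nat.card T : ℂ) * f x else 0) := by
    have h1 : ∀ g : Q, ∑ x : H, (if s ∈ Subgroup.zpowers x then f ((g : H) * x * (g : H)⁻¹) else 0) =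
        ∑ y : H, (if (g : H) * s * (g : H)⁻¹ ∈ Subgroup.zpowers y then f y else 0) := by
      intro g
      rw [← Equiv.sum_comp (MulAut.conj (g : H)).toEquiv (fun y => if (g : H) * s * (g : H)⁻¹ ∈ Subgroup.zpowers y then f y else 0)]
      refine Finset.sum_congr rfl fun x _ => ?_
      have e3 : (MulAut.conj (g : H)).toEquiv x = (g : H) * x * (g : H)⁻¹ := rfl
      rw [e3]
      have e4 : ((g : H) * s * (g : H)⁻¹ ∈ Subgroup.zpowers ((g : H) * x * (g : H)⁻¹)) ↔ s ∈ Subgroup.zpowers x := by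
        rw [zpowers_conj_mem']
        have : (g : H)⁻¹ * ((g : H) * s * (g : H)⁻¹) * g = s := by group
        rw [this]
      simp only [e4]
    rw [Finset.sum_congr rfl fun g _ => h1 g, Finset.sum_comm]
    refine Finset.sum_congr rfl fun y _ => ?_
    split_ifs with hy
    · obtain ⟨q, hq, hqy⟩ := hy
      have hset : (Finset.univ.filter fun g : Q => (g : H) * s * (g : H)⁻¹ ∈ Subgroup.zpowers y) =
          Finset.univ.map ⟨fun τ : T => (⟨q * τ, Q.mul_mem hq (hTQ τ.2)⟩ : Q), by
            intro a b hab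
            have : q * (a : H) = q * b := congrArg Subtype.val hab
            exact Subtype.ext (mul_left_cancel this)⟩ := by
        ext g
        simp only [Finset.mem_filter, Finset.mem_univ, true_and, Finset.mem_map,
          Function.Embedding.coeFn_mk]
        constructor
        · intro hg
          have h2 : (g : H) * s * (g : H)⁻¹ = q * s * q⁻¹ := by
            apply inv_unique hg hqy
            · calc (g : H) * s * (g : H)⁻¹ * ((g : H) * s * (g : H)⁻¹) = (g : H) * (s * s) * (g : H)⁻¹ := by group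
                _ = 1 := by rw [ss]; group
            · calc q * s * q⁻¹ * (q * s * q⁻¹) = q * (s * s) * q⁻¹ := by group
                _ = 1 := by rw [ss]; group
            · intro h
              apply s1
              calc s = (g : H)⁻¹ * ((g : H) * s * (g : H)⁻¹) * g := by group
                _ = 1 := by rw [h]; group
            · intro h
              apply s1
              calc s = q⁻¹ * (q * s * q⁻¹) * q := by group
                _ = 1 := by rw [h]; group
          have h3 : q⁻¹ * g ∈ T := by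
            rw [← hT _ (Q.mul_mem (Q.inv_mem hq) g.2)]
            calc q⁻¹ * g * s = q⁻¹ * ((g : H) * s * (g : H)⁻¹) * g := by group
              _ = s * (q⁻¹ * g) := by rw [h2]; group
          refine ⟨⟨q⁻¹ * g, h3⟩, Subtype.ext ?_⟩
          change q * (q⁻¹ * (g : H)) = g
          group
        · rintro ⟨τ, rfl⟩
          have h2 : (τ : H) * s = s * τ := (hT τ (hTQ τ.2)).2 τ.2
          have : q * (τ : H) * s * (q * τ)⁻¹ = q * s * q⁻¹ := by
            rw [mul_assoc q, h2]; group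
          change q * (τ : H) * s * (q * τ)⁻¹ ∈ _
          rw [this]
          exact hqy
      rw [← Finset.sum_filter, Finset.sum_const, hset, Finset.card_map, Finset.card_univ, nsmul_eq_mul,
        Nat.card_eq_fintype_card]
    · apply Finset.sum_eq_zero
      intro g _
      rw [if_neg]
      intro h
      exact hy ⟨g, g.2, h⟩
  have e3 : ∑ x : H, (if ∃ q ∈ Q, q * s * q⁻¹ ∈ Subgroup.zpowers x then (Nat.card T : ℂ) * f x else 0) =
      (Nat.card T : ℂ) * ∑ x : H, (if ∃ q ∈ Q, q * s * q⁻¹ ∈ Subgroup.zpowers x then f x else 0) := by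
    rw [Finset.mul_sum]
    refine Finset.sum_congr rfl fun x _ => ?_
    split_ifs <;> simp
  rw [e1, e3] at e2
  rw [div_mul_eq_mul_div, e2, mul_div_cancel_left₀ _ hTne]

/-- Frobenius reciprocity as an identity of sums -/
theorem sum_indFun_mul [Fintype H] (Q : Subgroup H) (θ : Q → ℂ) (φ : H → ℂ)
    (hφ : ∀ g x, φ (g * x * g⁻¹) = φ x) :
    ∑ x : H, indFun Q θ x * φ x =
      (Nat.card H : ℂ) / (Nat.card Q : ℂ) * ∑ x : H, extendByZero Q θ x * φ x := by
  have h1 : ∀ x, indFun Q θ x * φ x =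
      ∑ g : H, (Nat.card Q : ℂ)⁻¹ * (extendByZero Q θ (g⁻¹ * x * g) * φ x) := by
    intro x
    rw [indFun, Finset.mul_sum, Finset.sum_mul]
    refine Finset.sum_congr rfl fun g _ => ?_
    ring
  rw [Finset.sum_congr rfl fun x _ => h1 x, Finset.sum_comm]
  have h2 : ∀ g : H, ∑ x : H, (Nat.card Q : ℂ)⁻¹ * (extendByZero Q θ (g⁻¹ * x * g) * φ x) =
      (Nat.card Q : ℂ)⁻¹ * ∑ x : H, extendByZero Q θ x * φ x := by
    intro g
    rw [Finset.mul_sum, ← Equiv.sum_comp (MulAut.conj g).toEquiv]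
    refine Finset.sum_congr rfl fun x _ => ?_
    have e3 : (MulAut.conj g).toEquiv x = g * x * g⁻¹ := rfl
    rw [e3, hφ]
    have e4 : g⁻¹ * (g * x * g⁻¹) * g = x := by group
    rw [e4]
  rw [Finset.sum_congr rfl fun g _ => h2 g, Finset.sum_const, Finset.card_univ, nsmul_eq_mul,
    Nat.card_eq_fintype_card (α := H)]
  ring

/-- sums of an irreducible character over products of two elements of a normal subset -/
theorem sum_sum_mul [Fintype H] {χ : H → ℂ} (hχ : IsIrrCharacter H χ) (a : H → ℂ)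
    (ha : ∀ x g, a (g * x * g⁻¹) = a x) :
    ∑ i : H, ∑ j : H, a i * a j * χ (i * j) = (∑ i : H, a i * χ i) ^ 2 / χ 1 := by
  obtain ⟨n, ρ, hρ, rfl⟩ := hχ
  have h1 := Cfsg.Agent.Characters.CentralCharacter.sum_classFunction_smul_eq ρ a ha
  set A : Module.End ℂ (Fin n → ℂ) := ∑ x, a x • (ρ x : Module.End ℂ (Fin n → ℂ)) with hA
  set c : ℂ := (∑ x, a x * ρ.character x) / (Module.finrank ℂ (Fin n → ℂ) : ℂ) with hc
  have h1' : A = c • (1 : Module.End ℂ (Fin n → ℂ)) := h1
  have h2 : A * A = ∑ i : H, ∑ j : H, (a i * a j) • (ρ (i * j) : Module.End ℂ (Fin n → ℂ)) := by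
    rw [hA, Finset.sum_mul_sum]
    refine Finset.sum_congr rfl fun i _ => Finset.sum_congr rfl fun j _ => ?_
    rw [map_mul, smul_mul_smul_comm]
  have h3 : LinearMap.trace ℂ (Fin n → ℂ) (A * A) = ∑ i : H, ∑ j : H, a i * a j * ρ.character (i * j) := by
    rw [h2]
    simp only [map_sum, map_smul, smul_eq_mul]
    rfl
  have hd : (Module.finrank ℂ (Fin n → ℂ) : ℂ) ≠ 0 := by
    exact_mod_cast (Cfsg.Agent.Characters.CentralCharacter.finrank_pos_of_irreducible ρ).ne'
  have h4 : ρ.character 1 = (Module.finrank ℂ (Fin n → ℂ) : ℂ) := by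
    rw [Representation.char_one]
  rw [← h3, h1', h4, smul_mul_smul_comm, map_smul, mul_one, LinearMap.trace_one, smul_eq_mul, hc]
  field_simp

end Cfsg.Agent.GTwoOdd.GamSum
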