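import Cfsg.Agent.GTwoOdd.GamG
import Cfsg.Agent.OddOrderCharacters.CyclicTI

/-!
# Sums over the torus
-/

set_option autoImplicit false

open Cfsg
open scoped ComplexConjugate

namespace Cfsg.Agent.GTwoOdd.GamC

open Cfsg.Agent.GTwoOdd.GamSum

universe u

namespace GData

variable {G : Type u} [Group G] (D : GData G)

open scoped Classical in
/-- `ζ` on `T`, extended by zero -/
noncomputable def Z (x : G) : ℂ := if x ∈ D.T then ez D.Q D.lam x - ez D.Q D.mu x else 0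

theorem Z_mem {x : G} (h : x ∈ D.T) : D.Z x = ez D.Q D.lam x - ez D.Q D.mu x := if_pos h

theorem Z_notMem {x : G} (h : x ∉ D.T) : D.Z x = 0 := if_neg h

theorem Z_odd {x : G} (h : ∀ s ∈ Subgroup.zpowers x, s * s = 1 → s = 1) : D.Z x = 0 := by
  by_cases hx : x ∈ D.T
  · rw [D.Z_mem hx, D.odd x h, sub_self]
  · exact D.Z_notMem hx

theorem Z_one : D.Z 1 = 0 := by
  rw [D.Z_mem D.T.one_mem, ez_one, ez_one, sub_self]

theorem Z_t : D.Z D.t = 0 := by
  rw [D.Z_mem D.t_mem, D.lam_t, D.mu_t, sub_self]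

theorem Z_t2 : D.Z D.t2 = 2 := by
  rw [D.Z_mem D.t2_mem, D.lam_t2, D.mu_t2]; norm_num

theorem Z_t3 : D.Z (D.t * D.t2) = 2 := by
  rw [D.Z_mem (D.T.mul_mem D.t_mem D.t2_mem), D.lam_t3, D.mu_t3]; norm_num

theorem ρT_iff [Finite G] {x : G} : D.ρ * x * D.ρ⁻¹ ∈ D.T ↔ x ∈ D.T := by
  constructor
  · intro h
    have := D.norm_inv D.ρT _ h
    have e : D.ρ⁻¹ * (D.ρ * x * D.ρ⁻¹) * D.ρ = x := by group
    rwa [e] at this
  · exact D.ρT x

theorem n1_inv_T [Finite G] {x : G} : D.n1⁻¹ * x * D.n1 ∈ D.T ↔ x ∈ D.T := by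
  constructor
  · intro h
    have := D.n1T _ h
    have e : D.n1 * (D.n1⁻¹ * x * D.n1) * D.n1⁻¹ = x := by group
    rwa [e] at this
  · exact D.norm_inv D.n1T x

theorem Z_n1 [Finite G] (x : G) : D.Z (D.n1⁻¹ * x * D.n1) = D.Z x := by
  by_cases hx : x ∈ D.T
  · rw [D.Z_mem hx, D.Z_mem (D.n1_inv_T.2 hx)]
    have h1 := ez_conj D.Q D.lam (D.Q.inv_mem D.n1Q) x
    have h2 := ez_conj D.Q D.mu (D.Q.inv_mem D.n1Q) x
    rw [inv_inv] at h1 h2
    rw [h1, h2]
  · rw [D.Z_notMem hx, D.Z_notMem (fun h => hx (D.n1_inv_T.1 h))]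

variable [Fintype G]

open scoped Classical in
/-- the sum on the torus -/
noncomputable def S (φ : G → ℂ) : ℂ :=
  ∑ x : G, (if D.t2 ∈ Subgroup.zpowers x then D.Z x * φ x else 0) +
    (∑ x : G, (if D.t2 ∈ Subgroup.zpowers x then D.Z (D.ρ * x * D.ρ⁻¹) * φ x else 0) +
    ∑ x : G, (if D.t * D.t2 ∈ Subgroup.zpowers x then D.Z (D.ρ * x * D.ρ⁻¹) * φ x else 0))

theorem sum_coe [Fintype D.C] (f : G → ℂ) (hf : ∀ x, x ∉ D.C → f x = 0) :
    ∑ y : D.C, f (y : G) = ∑ x : G, f x := by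
  classical
  rw [← Finset.sum_subset (Finset.subset_univ (Finset.univ.filter fun x : G => x ∈ D.C))]
  · rw [Finset.sum_subtype (Finset.univ.filter fun x : G => x ∈ D.C) (p := fun x => x ∈ D.C)
      (fun x => by simp)]
  · intro x _ hx
    apply hf
    intro h
    exact hx (by simp [h])

theorem zp_t2 {y : D.C} : (D.toC.t2 ∈ Subgroup.zpowers y) ↔ D.t2 ∈ Subgroup.zpowers (y : G) := D.zp_coe

theorem zp_t3 {y : D.C} : (D.toC.t3 ∈ Subgroup.zpowers y) ↔ D.t * D.t2 ∈ Subgroup.zpowers (y : G) := D.zp_coe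

theorem zp_t {y : D.C} : (D.toC.t ∈ Subgroup.zpowers y) ↔ D.t ∈ Subgroup.zpowers (y : G) := D.zp_coe

theorem z_eq {y : D.C} (h : D.t2 ∈ Subgroup.zpowers (y : G)) : D.toC.z y = D.Z y := by
  have e : D.toC.z y = ez D.Q D.lam y - ez D.Q D.mu y := by
    change ez (D.Q.subgroupOf D.C) (D.lam.comp (D.incl D.Q)) y - ez (D.Q.subgroupOf D.C) (D.mu.comp (D.incl D.Q)) y = _
    rw [ez_incl, ez_incl]
  rw [e]
  by_cases hy : (y : G) ∈ D.Q
  · rw [D.Z_mem (D.Qcent _ hy (comm_of_mem_zpowers h))]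
  · rw [D.Z_notMem (fun h => hy (D.TQ h)), ez_notMem _ _ hy, ez_notMem _ _ hy, sub_self]

theorem z_eq' {y : D.C} (h : (y : G) ∈ D.T) : D.toC.z y = D.Z y := by
  change ez (D.Q.subgroupOf D.C) (D.lam.comp (D.incl D.Q)) y - ez (D.Q.subgroupOf D.C) (D.mu.comp (D.incl D.Q)) y = _
  rw [ez_incl, ez_incl, D.Z_mem h]

theorem z1_eq' {y : D.C} (h : (y : G) ∈ D.T) : D.toC.z1 y = D.Z (D.ρ * y * D.ρ⁻¹) := by
  change ez (D.B.subgroupOf D.C) (D.lam1.comp (D.incl D.B)) y - ez (D.B.subgroupOf D.C) (D.mu1.comp (D.incl D.B)) y = _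
  rw [ez_incl, ez_incl, D.Z_mem (D.ρT _ h), D.lam1_eq _ h, D.mu1_eq _ h]

theorem z1_notMem {y : D.C} (h : (y : G) ∉ D.B) : D.toC.z1 y = D.Z (D.ρ * y * D.ρ⁻¹) := by
  change ez (D.B.subgroupOf D.C) (D.lam1.comp (D.incl D.B)) y - ez (D.B.subgroupOf D.C) (D.mu1.comp (D.incl D.B)) y = _
  rw [ez_incl, ez_incl, ez_notMem _ _ h, ez_notMem _ _ h, sub_self, D.Z_notMem]
  intro h'
  exact h (D.TB (D.ρT_iff.1 h'))

theorem mem_T_of_t2 {y : G} (hy : y ∈ D.B) (h : D.t2 ∈ Subgroup.zpowers y) : y ∈ D.T :=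
  D.Qcent _ (D.BQ hy) (comm_of_mem_zpowers h)

theorem mem_T_of_t3 {y : G} (hy : y ∈ D.B) (h : D.t * D.t2 ∈ Subgroup.zpowers y) : y ∈ D.T := by
  apply D.Qcent _ (D.BQ hy)
  have h1 := comm_of_mem_zpowers h
  have h2 := D.QC _ (D.BQ hy)
  have h3 : D.t * (y * D.t2) = D.t * (D.t2 * y) := by
    rw [← mul_assoc, ← h2, mul_assoc, h1, mul_assoc]
  exact mul_left_cancel h3

open scoped Classical in
/-- the `E` part of a scalar product with `F`, on the torus -/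
theorem sum_E_S [Fintype D.C] (ψ : D.C → ℂ) (hψ : ∀ g x, ψ (g * x * g⁻¹) = ψ x) (φ : G → ℂ)
    (hφ : ∀ y : D.C, (y : G) ∈ D.T →
      (D.t2 ∈ Subgroup.zpowers (y : G) ∨ D.t * D.t2 ∈ Subgroup.zpowers (y : G)) → ψ y = φ y) :
    ∑ y : D.C, (if D.toC.E y then D.toC.F y * ψ y else 0) =
      (Nat.card D.C : ℂ) / (Nat.card D.T : ℂ) * D.S φ := by
  have hcard : Nat.card (D.toC).T = Nat.card D.T := by
    change Nat.card (D.T.subgroupOf D.C) = Nat.card D.T
    exact Nat.card_congr (Subgroup.subgroupOfEquivOfLe D.TleC).toEquiv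
  rw [D.toC.sum_E ψ hψ, hcard]
  congr 1
  unfold S
  congr 1
  · rw [← D.sum_coe]
    · refine Finset.sum_congr rfl fun y _ => ?_
      by_cases h : D.t2 ∈ Subgroup.zpowers (y : G)
      · rw [if_pos (D.zp_t2.2 h), if_pos h, D.z_eq h]
        by_cases hT : (y : G) ∈ D.T
        · rw [hφ y hT (Or.inl h)]
        · rw [D.Z_notMem hT, zero_mul, zero_mul]
      · rw [if_neg (fun k => h (D.zp_t2.1 k)), if_neg h]
    · intro x hx
      rw [D.Z_notMem (fun h => hx (D.TleC h)), zero_mul, ite_self]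
  · congr 1
    · rw [← D.sum_coe]
      · refine Finset.sum_congr rfl fun y _ => ?_
        by_cases h : D.t2 ∈ Subgroup.zpowers (y : G)
        · rw [if_pos (D.zp_t2.2 h), if_pos h]
          by_cases hB : (y : G) ∈ D.B
          · have hT := D.mem_T_of_t2 hB h
            rw [D.z1_eq' hT, hφ y hT (Or.inl h)]
          · have h0 : D.Z (D.ρ * y * D.ρ⁻¹) = 0 := D.Z_notMem (fun h' => hB (D.TB (D.ρT_iff.1 h')))
            rw [D.z1_notMem hB, h0, zero_mul, zero_mul]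
        · rw [if_neg (fun k => h (D.zp_t2.1 k)), if_neg h]
      · intro x hx
        rw [D.Z_notMem (fun h => hx (D.TleC (D.ρT_iff.1 h))), zero_mul, ite_self]
    · rw [← D.sum_coe]
      · refine Finset.sum_congr rfl fun y _ => ?_
        by_cases h : D.t * D.t2 ∈ Subgroup.zpowers (y : G)
        · rw [if_pos (D.zp_t3.2 h), if_pos h]
          by_cases hB : (y : G) ∈ D.B
          · have hT := D.mem_T_of_t3 hB h
            rw [D.z1_eq' hT, hφ y hT (Or.inr h)]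
          · have h0 : D.Z (D.ρ * y * D.ρ⁻¹) = 0 := D.Z_notMem (fun h' => hB (D.TB (D.ρT_iff.1 h')))
            rw [D.z1_notMem hB, h0, zero_mul, zero_mul]
        · rw [if_neg (fun k => h (D.zp_t3.1 k)), if_neg h]
      · intro x hx
        rw [D.Z_notMem (fun h => hx (D.TleC (D.ρT_iff.1 h))), zero_mul, ite_self]

/-- the sum on the torus for a `ρ`-invariant function -/
theorem S_eq (φ : G → ℂ) (hφ : ∀ x ∈ D.T, φ (D.ρ * x * D.ρ⁻¹) = φ x) : D.S φ = ∑ x : G, D.Z x * φ x := by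
  classical
  have key : ∀ s s' : G, D.ρ * s * D.ρ⁻¹ = s' →
      ∑ x : G, (if s ∈ Subgroup.zpowers x then D.Z (D.ρ * x * D.ρ⁻¹) * φ x else 0) =
      ∑ x : G, (if s' ∈ Subgroup.zpowers x then D.Z x * φ x else 0) := by
    rintro s s' rfl
    rw [← Equiv.sum_comp (MulAut.conj D.ρ).toEquiv (fun x => if D.ρ * s * D.ρ⁻¹ ∈ Subgroup.zpowers x then D.Z x * φ x else 0)]
    refine Finset.sum_congr rfl fun x _ => ?_
    have e3 : (MulAut.conj D.ρ).toEquiv x = D.ρ * x * D.ρ⁻¹ := rfl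
    rw [e3]
    have e4 : (D.ρ * s * D.ρ⁻¹ ∈ Subgroup.zpowers (D.ρ * x * D.ρ⁻¹)) ↔ s ∈ Subgroup.zpowers x := by
      rw [zpowers_conj_mem']
      have : D.ρ⁻¹ * (D.ρ * s * D.ρ⁻¹) * D.ρ = s := by group
      rw [this]
    by_cases hs : s ∈ Subgroup.zpowers x
    · rw [if_pos hs, if_pos (e4.2 hs)]
      by_cases hx : x ∈ D.T
      · rw [hφ x hx]
      · rw [D.Z_notMem (fun h => hx (D.ρT_iff.1 h)), zero_mul, zero_mul]
    · rw [if_neg hs, if_neg (fun k => hs (e4.1 k))]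
  unfold S
  rw [key _ _ D.ρt2, key _ _ D.ρt3, ← Finset.sum_add_distrib, ← Finset.sum_add_distrib]
  refine Finset.sum_congr rfl fun x _ => ?_
  by_cases hx : x ∈ D.T
  · by_cases h0 : ∀ s ∈ Subgroup.zpowers x, s * s = 1 → s = 1
    · rw [D.Z_odd h0]; simp
    · push Not at h0
      obtain ⟨s, hs, hss, hs1⟩ := h0
      have hsT : s ∈ D.T := CData.zp_le hx hs
      have u2 : D.t2 ∈ Subgroup.zpowers x ↔ s = D.t2 :=
        ⟨fun h => inv_unique hs h hss D.t2t2 hs1 D.t2_ne, fun h => h ▸ hs⟩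
      have u3 : D.t * D.t2 ∈ Subgroup.zpowers x ↔ s = D.t * D.t2 :=
        ⟨fun h => inv_unique hs h hss D.t3t3 hs1 D.t3_ne, fun h => h ▸ hs⟩
      have u1 : D.t ∈ Subgroup.zpowers x ↔ s = D.t :=
        ⟨fun h => inv_unique hs h hss D.tt hs1 D.t1, fun h => h ▸ hs⟩
      have n12 := D.t2_ne_t
      have n13 := D.t3_ne_t
      have n23 := D.t3_ne_t2
      simp only [u1, u2, u3]
      rcases D.Tinv s hsT hss with h | h | h | h
      · exact absurd h hs1
      · rw [if_neg (by rw [h]; exact fun k => n12 k.symm), if_neg (by rw [h]; exact fun k => n13 k.symm),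
          if_pos h, zero_add, zero_add]
      · rw [if_pos h, if_neg (by rw [h]; exact fun k => n23 k.symm), if_neg (by rw [h]; exact n12), add_zero, add_zero]
      · rw [if_neg (by rw [h]; exact n23), if_pos h, if_neg (by rw [h]; exact n13), zero_add, add_zero]
  · rw [D.Z_notMem hx]; simp

/-- the sum on the torus only depends on the values on the torus -/
theorem S_congr {φ φ' : G → ℂ} (h : ∀ x ∈ D.T, (D.t2 ∈ Subgroup.zpowers x ∨ D.t * D.t2 ∈ Subgroup.zpowers x) →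
    φ x = φ' x) : D.S φ = D.S φ' := by
  classical
  unfold S
  congr 1
  · refine Finset.sum_congr rfl fun x _ => ?_
    by_cases hx : x ∈ D.T
    · by_cases h2 : D.t2 ∈ Subgroup.zpowers x
      · rw [if_pos h2, if_pos h2, h x hx (Or.inl h2)]
      · rw [if_neg h2, if_neg h2]
    · rw [D.Z_notMem hx]; simp
  · congr 1
    · refine Finset.sum_congr rfl fun x _ => ?_
      by_cases hx : x ∈ D.T
      · by_cases h2 : D.t2 ∈ Subgroup.zpowers x
        · rw [if_pos h2, if_pos h2, h x hx (Or.inl h2)]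
        · rw [if_neg h2, if_neg h2]
      · rw [D.Z_notMem (fun k => hx (D.ρT_iff.1 k))]; simp
    · refine Finset.sum_congr rfl fun x _ => ?_
      by_cases hx : x ∈ D.T
      · by_cases h2 : D.t * D.t2 ∈ Subgroup.zpowers x
        · rw [if_pos h2, if_pos h2, h x hx (Or.inr h2)]
        · rw [if_neg h2, if_neg h2]
      · rw [D.Z_notMem (fun k => hx (D.ρT_iff.1 k))]; simp

end GData

end Cfsg.Agent.GTwoOdd.GamC
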