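import Cfsg.Agent.GTwoOdd.GamN
import Cfsg.Agent.Ree.VecDef
import Cfsg.Agent.S0944

/-!
# The vector on `Irr(G)` and the final equation
-/

set_option autoImplicit false

open Cfsg
open scoped ComplexConjugate

namespace Cfsg.Agent.GTwoOdd.GamC

open Cfsg.Agent.GTwoOdd.GamSum

universe u

namespace GData

variable {G : Type u} [Group G] (D : GData G)

theorem ai_coe (y : D.C) : ai y = ai (y : G) := by
  unfold ai
  by_cases h : (y : G) * y = 1 ∧ (y : G) ≠ 1
  · rw [if_pos h, if_pos ⟨Subtype.ext h.1, fun k => h.2 (congrArg Subtype.val k)⟩]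
  · rw [if_neg h, if_neg]
    rintro ⟨h1, h2⟩
    exact h ⟨congrArg Subtype.val h1, fun k => h2 (Subtype.ext k)⟩

theorem ai_eq_one {x : G} (h : x * x = 1) (h1 : x ≠ 1) : ai x = 1 := by
  unfold ai; rw [if_pos ⟨h, h1⟩]

theorem ai_ne {x : G} (h : ai x ≠ 0) : x * x = 1 ∧ x ≠ 1 := by
  unfold ai at h
  by_contra k
  rw [if_neg k] at h
  exact h rfl

theorem mul_w_sq {i : G} (h : i * D.w ∈ D.T) : i * i = 1 := by
  have h1 := D.w_inv _ h
  have h2 : D.w⁻¹ = D.w := inv_eq_of_mul_eq_one_left D.ww
  have h3 : D.w * i = D.w⁻¹ * i⁻¹ := by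
    calc D.w * i = D.w * (i * D.w) * D.w⁻¹ := by group
      _ = D.w⁻¹ * i⁻¹ := by rw [h1]; group
  rw [h2] at h3
  have h4 : i = i⁻¹ := mul_left_cancel h3
  calc i * i = i * i⁻¹ := by rw [← h4]
    _ = 1 := mul_inv_cancel i

theorem mul_w_ne {i : G} (h : i * D.w ∈ D.T) : i ≠ 1 := by
  rintro rfl
  rw [one_mul] at h
  exact D.w_nm h

/-- an involution whose product with `x` is an involution inverts the powers of `x` -/
theorem inv_comm {i x s : G} (hi : i * i = 1) (hix : i⁻¹ * x * (i⁻¹ * x) = 1) (hs : s ∈ Subgroup.zpowers x)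
    (ss : s * s = 1) : i * s = s * i := by
  have h0 : i⁻¹ = i := inv_eq_of_mul_eq_one_left hi
  have h1 : i * x * i⁻¹ = x⁻¹ := by
    rw [h0] at hix
    rw [eq_inv_iff_mul_eq_one, h0]
    calc i * x * i * x = i * x * (i * x) := by group
      _ = 1 := hix
  obtain ⟨k, rfl⟩ := Subgroup.mem_zpowers_iff.1 hs
  have h2 : i * x ^ k * i⁻¹ = x ^ k := by
    rw [← conj_zpow, h1, inv_zpow]
    exact inv_eq_of_mul_eq_one_left ss
  calc i * x ^ k = i * x ^ k * i⁻¹ * i := by group
    _ = x ^ k * i := by rw [h2]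

variable [Fintype G]

open scoped Classical in
/-- number of pairs of involutions with product `y` for `y` in the torus -/
theorem be_T [Fintype D.C] {y : D.C} (hy : (y : G) ∈ D.T)
    (hs : D.t2 ∈ Subgroup.zpowers (y : G) ∨ D.t * D.t2 ∈ Subgroup.zpowers (y : G)) :
    CData.be y = (Nat.card D.T : ℂ) + (if (y : G) * y = 1 then 2 else 0) := by
  obtain ⟨s, hs2, hsy⟩ : ∃ s, (s = D.t2 ∨ s = D.t * D.t2) ∧ s ∈ Subgroup.zpowers (y : G) := by
    rcases hs with h | h
    · exact ⟨_, Or.inl rfl, h⟩
    · exact ⟨_, Or.inr rfl, h⟩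
  have ss : s * s = 1 := by
    rcases hs2 with rfl | rfl
    · exact D.t2t2
    · exact D.t3t3
  have s1 : s ≠ 1 := by
    rcases hs2 with rfl | rfl
    · exact D.t2_ne
    · exact D.t3_ne
  have n12 := D.t2_ne_t
  have n13 := D.t3_ne_t
  have n23 := D.t3_ne_t2
  have term : ∀ i : D.C, ai i * ai (i⁻¹ * y) = (if (i : G) * D.w ∈ D.T then 1 else 0) +
      (if (y : G) * y = 1 ∧ ((i : G) = D.t ∨ (i : G) = D.t2 ∨ (i : G) = D.t * D.t2) ∧ (i : G) ≠ y then 1 else 0) := by
    intro i
    rw [D.ai_coe, D.ai_coe]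
    change ai (i : G) * ai ((i : G)⁻¹ * y) = _
    have hVT : ((i : G) = D.t ∨ (i : G) = D.t2 ∨ (i : G) = D.t * D.t2) → (i : G) ∈ D.T := by
      rintro (h | h | h)
      · rw [h]; exact D.t_mem
      · rw [h]; exact D.t2_mem
      · rw [h]; exact D.T.mul_mem D.t_mem D.t2_mem
    have hVi : ((i : G) = D.t ∨ (i : G) = D.t2 ∨ (i : G) = D.t * D.t2) → (i : G) * i = 1 ∧ (i : G) ≠ 1 := by
      rintro (h | h | h)
      · rw [h]; exact ⟨D.tt, D.t1⟩
      · rw [h]; exact ⟨D.t2t2, D.t2_ne⟩
      · rw [h]; exact ⟨D.t3t3, D.t3_ne⟩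
    by_cases hw : (i : G) * D.w ∈ D.T
    · have hiT : (i : G) ∉ D.T := by
        intro h
        apply D.w_nm
        have := D.T.mul_mem (D.T.inv_mem h) hw
        rwa [inv_mul_cancel_left] at this
      rw [if_pos hw, if_neg (fun k => hiT (hVT k.2.1)), add_zero, ai_eq_one (D.mul_w_sq hw) (D.mul_w_ne hw), one_mul]
      have h2 : (i : G)⁻¹ * y * D.w ∈ D.T := by
        have h0 : (i : G)⁻¹ = i := inv_eq_of_mul_eq_one_left (D.mul_w_sq hw)
        have h3 := D.w_inv _ hy
        have h4 : D.w⁻¹ * (y : G) * D.w = (y : G)⁻¹ := by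
          have h5 := D.w_inv _ (D.T.inv_mem hy)
          calc D.w⁻¹ * (y : G) * D.w = D.w⁻¹ * (y : G)⁻¹⁻¹ * D.w := by rw [inv_inv]
            _ = D.w⁻¹ * (D.w * (y : G)⁻¹ * D.w⁻¹) * D.w := by rw [h5]
            _ = (y : G)⁻¹ := by group
        have e : (i : G)⁻¹ * y * D.w = ((i : G) * D.w) * (D.w⁻¹ * (y : G) * D.w) := by
          rw [h0]; group
        rw [e, h4]
        exact D.T.mul_mem hw (D.T.inv_mem hy)
      rw [ai_eq_one (D.mul_w_sq h2) (D.mul_w_ne h2)]
    · rw [if_neg hw, zero_add]
      by_cases hne : ai (i : G) * ai ((i : G)⁻¹ * y) = 0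
      · rw [hne, if_neg]
        rintro ⟨h1, h2, h3⟩
        obtain ⟨k1, k2⟩ := hVi h2
        rw [ai_eq_one k1 k2, one_mul] at hne
        have k3 : (i : G)⁻¹ * y * ((i : G)⁻¹ * y) = 1 := by
          have h0 : (i : G)⁻¹ = i := inv_eq_of_mul_eq_one_left k1
          have hc := D.comm _ (hVT h2) _ hy
          rw [h0]
          calc (i : G) * y * (i * y) = (i : G) * (y * i) * y := by group
            _ = (i : G) * (i * y) * y := by rw [hc]
            _ = (i * i) * ((y : G) * y) := by group
            _ = 1 := by rw [k1, h1, one_mul]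
        have k4 : (i : G)⁻¹ * y ≠ 1 := by
          intro k
          exact h3 (inv_mul_eq_one.1 k)
        rw [ai_eq_one k3 k4] at hne
        exact one_ne_zero hne
      · have a1 := ai_ne (x := (i : G)) (fun k => hne (by rw [k, zero_mul]))
        have a2 := ai_ne (x := (i : G)⁻¹ * y) (fun k => hne (by rw [k, mul_zero]))
        have hcs := inv_comm a1.1 a2.1 hsy ss
        have hct := D.mem_C.1 i.2
        have hct2 : (i : G) * D.t2 = D.t2 * i := by
          rcases hs2 with rfl | rfl
          · exact hcs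
          · have : D.t * ((i : G) * D.t2) = D.t * (D.t2 * i) := by
              rw [← mul_assoc, ← hct, mul_assoc, hcs, mul_assoc]
            exact mul_left_cancel this
        have hiT : (i : G) ∈ D.T := (D.Kinv _ hct hct2 a1.1).resolve_right hw
        have hV : ((i : G) = D.t ∨ (i : G) = D.t2 ∨ (i : G) = D.t * D.t2) :=
          (D.Tinv _ hiT a1.1).resolve_left a1.2
        have hyy : (y : G) * y = 1 := by
          have h0 : (i : G)⁻¹ = i := inv_eq_of_mul_eq_one_left a1.1
          have hc := D.comm _ hiT _ hy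
          have := a2.1
          rw [h0] at this
          calc (y : G) * y = (i * i) * ((y : G) * y) := by rw [a1.1, one_mul]
            _ = (i : G) * (i * y) * y := by group
            _ = (i : G) * (y * i) * y := by rw [hc]
            _ = (i : G) * y * (i * y) := by group
            _ = 1 := this
        have hiy : (i : G) ≠ y := by
          intro k
          apply a2.2
          rw [k]; group
        rw [ai_eq_one a1.1 a1.2, ai_eq_one a2.1 a2.2, if_pos ⟨hyy, hV, hiy⟩, mul_one]
  unfold CData.be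
  rw [Finset.sum_congr rfl fun i _ => term i, Finset.sum_add_distrib]
  congr 1
  · rw [D.sum_coe (fun i : G => if i * D.w ∈ D.T then (1 : ℂ) else 0)]
    · have e2 : ∑ n : G, (if n ∈ D.T then (1 : ℂ) else 0) = (Nat.card D.T : ℂ) := by
        rw [D.sum_T _ (fun x hx => if_neg hx)]
        rw [Finset.sum_congr rfl (fun x _ => if_pos x.2), Finset.sum_const, Finset.card_univ, nsmul_eq_mul,
          Nat.card_eq_fintype_card, mul_one]
      rw [← e2, ← Equiv.sum_comp (Equiv.mulRight D.w) (fun n => if n ∈ D.T then (1 : ℂ) else 0)]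
      rfl
    · intro x hx
      rw [if_neg]
      intro k
      apply hx
      have h1 : x = x * D.w * D.w⁻¹ := by group
      rw [h1]
      exact D.C.mul_mem (D.TleC k) (D.C.inv_mem (D.mem_C.2 D.wt))
  · rw [D.sum_coe (fun i : G => if (y : G) * y = 1 ∧ (i = D.t ∨ i = D.t2 ∨ i = D.t * D.t2) ∧ i ≠ y then (1 : ℂ) else 0)]
    · by_cases hyy : (y : G) * y = 1
      · rw [if_pos hyy]
        have hys : s = y := by
          rcases zp_of_sq hyy hsy with h | h
          · exact absurd h s1
          · exact h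
        rw [← Finset.sum_filter, Finset.sum_const, nsmul_eq_mul, mul_one]
        have : (Finset.univ.filter fun i : G => (y : G) * y = 1 ∧ (i = D.t ∨ i = D.t2 ∨ i = D.t * D.t2) ∧ i ≠ y).card = 2 := by
          rcases hs2 with h | h
          · have : (Finset.univ.filter fun i : G => (y : G) * y = 1 ∧ (i = D.t ∨ i = D.t2 ∨ i = D.t * D.t2) ∧ i ≠ y) =
                {D.t, D.t * D.t2} := by
              ext i
              simp only [Finset.mem_filter, Finset.mem_univ, true_and, Finset.mem_insert, Finset.mem_singleton]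
              constructor
              · rintro ⟨-, h1 | h1 | h1, h2⟩
                · exact Or.inl h1
                · exact absurd (h1.trans (h.symm.trans hys)) h2
                · exact Or.inr h1
              · rintro (rfl | rfl)
                · exact ⟨hyy, Or.inl rfl, fun k => n12 ((h.symm.trans hys).trans k.symm)⟩
                · exact ⟨hyy, Or.inr (Or.inr rfl), fun k => n23 (k.trans (hys.symm.trans h))⟩
            rw [this, Finset.card_pair n13.symm]
          · have : (Finset.univ.filter fun i : G => (y : G) * y = 1 ∧ (i = D.t ∨ i = D.t2 ∨ i = D.t * D.t2) ∧ i ≠ y) =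
                {D.t, D.t2} := by
              ext i
              simp only [Finset.mem_filter, Finset.mem_univ, true_and, Finset.mem_insert, Finset.mem_singleton]
              constructor
              · rintro ⟨-, h1 | h1 | h1, h2⟩
                · exact Or.inl h1
                · exact Or.inr h1
                · exact absurd (h1.trans (h.symm.trans hys)) h2
              · rintro (rfl | rfl)
                · exact ⟨hyy, Or.inl rfl, fun k => n13 ((h.symm.trans hys).trans k.symm)⟩
                · exact ⟨hyy, Or.inr (Or.inl rfl), fun k => n23 ((h.symm.trans hys).trans k.symm)⟩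
            rw [this, Finset.card_pair n12.symm]
        rw [this]
        norm_num
      · rw [if_neg hyy]
        apply Finset.sum_eq_zero
        intro i _
        rw [if_neg (fun k => hyy k.1)]
    · intro x hx
      rw [if_neg]
      rintro ⟨-, h | h | h, -⟩
      · exact hx (by rw [h]; exact D.TleC D.t_mem)
      · exact hx (by rw [h]; exact D.TleC D.t2_mem)
      · exact hx (by rw [h]; exact D.TleC (D.T.mul_mem D.t_mem D.t2_mem))

open scoped Classical in
theorem S_const : D.S (fun x => (Nat.card D.T : ℂ) + (if x * x = 1 then 2 else 0)) = 8 := by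
  rw [D.S_eq]
  · have e1 : ∀ x, D.Z x * ((Nat.card D.T : ℂ) + (if x * x = 1 then 2 else 0)) =
        D.Z x * (Nat.card D.T : ℂ) + (if x = D.t2 then 4 else 0) + (if x = D.t * D.t2 then 4 else 0) := by
      intro x
      by_cases hx : x ∈ D.T
      · by_cases hxx : x * x = 1
        · rw [if_pos hxx]
          rcases D.Tinv x hx hxx with rfl | rfl | rfl | rfl
          · rw [D.Z_one, if_neg D.t2_ne.symm, if_neg D.t3_ne.symm]; ring
          · rw [D.Z_t, if_neg D.t2_ne_t.symm, if_neg D.t3_ne_t.symm]; ring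
          · rw [D.Z_t2, if_pos rfl, if_neg D.t3_ne_t2.symm]; ring
          · rw [D.Z_t3, if_neg D.t3_ne_t2, if_pos rfl]; ring
        · rw [if_neg hxx, if_neg (fun h => hxx (by rw [h]; exact D.t2t2)),
            if_neg (fun h => hxx (by rw [h]; exact D.t3t3))]
          ring
      · have h2 : ¬ x = D.t2 := fun h => hx (by rw [h]; exact D.t2_mem)
        have h3 : ¬ x = D.t * D.t2 := fun h => hx (by rw [h]; exact D.T.mul_mem D.t_mem D.t2_mem)
        rw [D.Z_notMem hx, if_neg h2, if_neg h3]
        ring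
    rw [Finset.sum_congr rfl fun x _ => e1 x, Finset.sum_add_distrib, Finset.sum_add_distrib, ← Finset.sum_mul,
      D.sum_Z]
    simp only [Finset.sum_ite_eq', Finset.mem_univ, if_true]
    norm_num
  · intro x _
    congr 1
    have : D.ρ * x * D.ρ⁻¹ * (D.ρ * x * D.ρ⁻¹) = 1 ↔ x * x = 1 := by
      constructor
      · intro h
        calc x * x = D.ρ⁻¹ * (D.ρ * x * D.ρ⁻¹ * (D.ρ * x * D.ρ⁻¹)) * D.ρ := by group
          _ = 1 := by rw [h]; group
      · intro h
        calc D.ρ * x * D.ρ⁻¹ * (D.ρ * x * D.ρ⁻¹) = D.ρ * (x * x) * D.ρ⁻¹ := by group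
          _ = 1 := by rw [h]; group
    by_cases h : x * x = 1
    · rw [if_pos h, if_pos (this.2 h)]
    · rw [if_neg h, if_neg (fun k => h (this.1 k))]

open scoped Classical in
/-- splitting off the elements with `t` among their powers -/
theorem split_sum [Fintype D.C] (ψ : D.C → ℂ) :
    ∑ y : D.C, (if D.t ∈ Subgroup.zpowers (y : G) then D.toC.F y * ψ y else 0) =
      ∑ y : D.C, D.toC.F y * ψ y - ∑ y : D.C, (if D.toC.E y then D.toC.F y * ψ y else 0) := by
  rw [← Finset.sum_sub_distrib]
  refine Finset.sum_congr rfl fun y _ => ?_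
  by_cases ht : D.t ∈ Subgroup.zpowers (y : G)
  · have hE : ¬ D.toC.E y := by
      rintro ⟨s, hs, h1, h2, h3⟩
      exact h3 (inv_unique hs (D.zp_t.2 ht) h1 D.toC.tt h2 D.toC.t1)
    rw [if_pos ht, if_neg hE, sub_zero]
  · rw [if_neg ht]
    by_cases hE : D.toC.E y
    · rw [if_pos hE, sub_self]
    · rw [if_neg hE, sub_zero]
      have hF : D.toC.F y = 0 := by
        apply D.toC.F_odd
        intro s hs hss
        by_contra h1
        apply hE
        refine ⟨s, hs, hss, h1, ?_⟩
        rintro rfl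
        exact ht (D.zp_t.1 hs)
      rw [hF, zero_mul]

open scoped Classical in
/-- the norm of the `t`-part of `F` -/
theorem norm_D [Fintype D.C] : ∑ y : D.C, (if D.t ∈ Subgroup.zpowers (y : G) then D.toC.F y * conj (D.toC.F y) else 0) =
    2 * (Nat.card D.C : ℂ) := by
  have hC0 : (Nat.card D.C : ℂ) ≠ 0 := by exact_mod_cast Nat.card_pos.ne'
  have hT0 : (Nat.card D.T : ℂ) ≠ 0 := by exact_mod_cast Nat.card_pos.ne'
  have h1 := D.toC.norm_F
  rw [Cfsg.Agent.Characters.Core.classInner_def] at h1
  have h2 : ∑ y : D.C, D.toC.F y * conj (D.toC.F y) = 4 * (Nat.card D.C : ℂ) := by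
    rw [← h1]
    field_simp
  rw [D.split_sum (fun y => conj (D.toC.F y)), h2, D.sum_E_S (fun y => conj (D.toC.F y)) _ (fun x => conj (D.Om x))]
  · rw [D.S_eq, D.sum_Z_Om]
    · field_simp
      ring
    · intro x _
      rw [D.Om_ρ]
  · intro y hy h
    rcases h with h | h
    · rw [D.F_eq_Om hy (Or.inl rfl) h]
    · rw [D.F_eq_Om hy (Or.inr rfl) h]
  · intro g x
    rw [D.toC.F_class]

open scoped Classical in
/-- the class sum of the `t`-part of `F` -/
theorem be_D [Fintype D.C] : ∑ y : D.C, (if D.t ∈ Subgroup.zpowers (y : G) then D.toC.F y * CData.be y else 0) =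
    4 * ((Nat.card D.C : ℂ) / (Nat.card D.T : ℂ)) * ((Nat.card D.B : ℂ) / (Nat.card D.T : ℂ)) := by
  have hcard : Nat.card (D.toC).T = Nat.card D.T := by
    change Nat.card (D.T.subgroupOf D.C) = Nat.card D.T
    exact Nat.card_congr (Subgroup.subgroupOfEquivOfLe D.TleC).toEquiv
  have hcardB : Nat.card (D.toC).B = Nat.card D.B := by
    change Nat.card (D.B.subgroupOf D.C) = Nat.card D.B
    exact Nat.card_congr (Subgroup.subgroupOfEquivOfLe D.BleC).toEquiv
  rw [D.split_sum CData.be, CData.sum_F_be, CData.pair_F, hcard, hcardB,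
    D.sum_E_S CData.be (fun g x => CData.be_conj g x) (fun x => (Nat.card D.T : ℂ) + (if x * x = 1 then 2 else 0)),
    D.S_const]
  · ring
  · intro y hy h
    exact D.be_T hy h

end GData

end Cfsg.Agent.GTwoOdd.GamC
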