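import Cfsg.Agent.GTwoOdd.GamV

/-!
# The final equation
-/

set_option autoImplicit false

open Cfsg
open scoped ComplexConjugate

namespace Cfsg.Agent.GTwoOdd.GamC

open Cfsg.Agent.GTwoOdd.GamSum

universe u

/-- two opposite entries -/
theorem pair_of_norm_two {ι : Type*} [Fintype ι] (n : ι → ℤ) (hn : ∑ i, n i ^ 2 = 2) (d : ι → ℤ)
    (hd : ∀ i, 0 < d i) (h0 : ∑ i, n i * d i = 0) :
    ∃ i j, i ≠ j ∧ n i = 1 ∧ n j = -1 ∧ ∀ k, k ≠ i → k ≠ j → n k = 0 := by
  classical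
  have hex : ∃ i, n i ≠ 0 := by
    by_contra h
    push Not at h
    rw [Finset.sum_eq_zero (fun i _ => by rw [h i]; norm_num)] at hn
    norm_num at hn
  obtain ⟨i, hi⟩ := hex
  have h1 := Finset.add_sum_erase Finset.univ (fun i => n i ^ 2) (Finset.mem_univ i)
  have hi2 : n i ^ 2 = 1 := by
    have h2 : 0 ≤ ∑ x ∈ Finset.univ.erase i, n x ^ 2 := Finset.sum_nonneg fun x _ => sq_nonneg _
    have h3 : n i ^ 2 ≤ 2 := by
      rw [← hn, ← h1]; linarith
    have h4 : 0 < n i ^ 2 := by positivity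
    have h5 : n i < 2 := by nlinarith
    have h6 : -2 < n i := by nlinarith
    have : n i = 1 ∨ n i = -1 := by omega
    rcases this with h | h <;> rw [h] <;> norm_num
  have hex2 : ∃ j ∈ Finset.univ.erase i, n j ≠ 0 := by
    by_contra h
    push Not at h
    rw [Finset.sum_eq_zero (fun j hj => by rw [h j hj]; norm_num)] at h1
    rw [hn, hi2] at h1
    norm_num at h1
  obtain ⟨j, hj, hj0⟩ := hex2
  have h2 := Finset.add_sum_erase (Finset.univ.erase i) (fun i => n i ^ 2) hj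
  have hrest : n j ^ 2 = 1 ∧ ∑ x ∈ (Finset.univ.erase i).erase j, n x ^ 2 = 0 := by
    have h3 : 0 ≤ ∑ x ∈ (Finset.univ.erase i).erase j, n x ^ 2 := Finset.sum_nonneg fun x _ => sq_nonneg _
    have h4 : 0 < n j ^ 2 := by positivity
    constructor <;> linarith
  have hk : ∀ k, k ≠ i → k ≠ j → n k = 0 := by
    intro k hki hkj
    have h3 := (Finset.sum_eq_zero_iff_of_nonneg (fun x _ => sq_nonneg (n x))).1 hrest.2 k
      (Finset.mem_erase.2 ⟨hkj, Finset.mem_erase.2 ⟨hki, Finset.mem_univ k⟩⟩)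
    exact pow_eq_zero_iff (two_ne_zero) |>.1 h3
  have hji : j ≠ i := (Finset.mem_erase.1 hj).1
  have hsum : n i * d i + n j * d j = 0 := by
    rw [← h0]
    rw [Finset.sum_eq_add i j hji.symm (fun k _ hk' => by rw [hk k hk'.1 hk'.2, zero_mul])
      (fun h => absurd (Finset.mem_univ _) h) (fun h => absurd (Finset.mem_univ _) h)]
  have hsq : ∀ m : ℤ, m ^ 2 = 1 → m = 1 ∨ m = -1 := by
    intro m hm
    have h3 : (m - 1) * (m + 1) = 0 := by linarith
    rcases mul_eq_zero.1 h3 with h4 | h4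
    · left; linarith
    · right; linarith
  have hi1 : n i = 1 ∨ n i = -1 := hsq _ hi2
  have hj1 : n j = 1 ∨ n j = -1 := hsq _ hrest.1
  have hdi := hd i
  have hdj := hd j
  rcases hi1 with hi1 | hi1 <;> rcases hj1 with hj1 | hj1
  · rw [hi1, hj1] at hsum; linarith
  · exact ⟨i, j, hji.symm, hi1, hj1, hk⟩
  · exact ⟨j, i, hji, hj1, hi1, fun k h1 h2 => hk k h2 h1⟩
  · rw [hi1, hj1] at hsum; linarith

namespace GData

variable {G : Type u} [Group G] (D : GData G) [Fintype G] [Fintype D.C]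

open scoped Classical in
/-- the coefficients of the vector -/
noncomputable def cf (y : D.C) : ℂ :=
  (Nat.card D.C : ℂ)⁻¹ * (if D.t ∈ Subgroup.zpowers (y : G) then D.toC.F y else 0)

theorem cf_zero {y : D.C} (h : D.t ∉ Subgroup.zpowers (y : G)) : D.cf y = 0 := by
  unfold cf; rw [if_neg h, mul_zero]

theorem cf_pos {y : D.C} (h : D.t ∈ Subgroup.zpowers (y : G)) : D.cf y = (Nat.card D.C : ℂ)⁻¹ * D.toC.F y := by
  unfold cf; rw [if_pos h]

theorem zp_t_conj (g y : D.C) : D.t ∈ Subgroup.zpowers ((g⁻¹ * y * g : D.C) : G) ↔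
    D.t ∈ Subgroup.zpowers (y : G) := by
  change D.t ∈ Subgroup.zpowers ((g : G)⁻¹ * y * g) ↔ _
  rw [zpowers_conj_mem]
  have : (g : G) * D.t * (g : G)⁻¹ = D.t := by
    rw [D.mem_C.1 g.2]; group
  rw [this]

theorem cf_conj (g y : D.C) : D.cf (g⁻¹ * y * g) = D.cf y := by
  by_cases h : D.t ∈ Subgroup.zpowers (y : G)
  · rw [D.cf_pos h, D.cf_pos ((D.zp_t_conj g y).2 h)]
    have := D.toC.F_class g⁻¹ y
    rw [inv_inv] at this
    rw [this]
  · rw [D.cf_zero h, D.cf_zero (fun k => h ((D.zp_t_conj g y).1 k))]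

/-- the vector -/
noncomputable def v (χ : G → ℂ) : ℂ := ∑ y : D.C, D.cf y * conj (χ (y : G))

/-- elements conjugating two elements with `t` among their powers are in `C(t)` -/
theorem conj_mem_C {g y y' : G} (h : D.t ∈ Subgroup.zpowers y) (h' : D.t ∈ Subgroup.zpowers y')
    (hg : g * y' * g⁻¹ = y) : g ∈ D.C := by
  have h1 : g * D.t * g⁻¹ ∈ Subgroup.zpowers y := by
    rw [← hg, zpowers_conj_mem']
    have : g⁻¹ * (g * D.t * g⁻¹) * g = D.t := by group
    rwa [this]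
  have h2 := inv_unique h1 h (CData.conj_invol D.tt) D.tt (CData.conj_ne_one D.t1) D.t1
  rw [D.mem_C]
  calc g * D.t = g * D.t * g⁻¹ * g := by group
    _ = D.t * g := by rw [h2]

open scoped Classical in
theorem card_eq_sum {α : Type*} [Fintype α] (P : α → Prop) :
    (Nat.card {g : α // P g} : ℂ) = ∑ g : α, (if P g then (1 : ℂ) else 0) := by
  rw [Nat.card_eq_fintype_card, Fintype.card_subtype, Finset.card_filter]
  push_cast
  rfl

variable [Fintype (IrrCharacter G)]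

/-- the norm of the vector -/
theorem v_norm : ∑ χ : IrrCharacter G, D.v χ * conj (D.v χ) = 2 := by
  classical
  have hC0 : (Nat.card D.C : ℂ) ≠ 0 := by exact_mod_cast Nat.card_pos.ne'
  have h0 := Cfsg.Agent.Ree.VecDef.sum_vec_mul (G := G) D.cf (fun y : D.C => (y : G)) D.cf (fun y : D.C => (y : G))
  unfold v
  rw [h0]
  have key : ∀ y : D.C, ∑ y' : D.C, D.cf y * conj (D.cf y') * (Nat.card {g : G // g * (y' : G) * g⁻¹ = y} : ℂ) =
      (Nat.card D.C : ℂ) * (D.cf y * conj (D.cf y)) := by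
    intro y
    by_cases hy : D.t ∈ Subgroup.zpowers (y : G)
    · have e1 : ∀ y' : D.C, D.cf y * conj (D.cf y') * (Nat.card {g : G // g * (y' : G) * g⁻¹ = y} : ℂ) =
          ∑ g : D.C, (if (g⁻¹ * y * g : D.C) = y' then D.cf y * conj (D.cf y') else 0) := by
        intro y'
        by_cases hy' : D.t ∈ Subgroup.zpowers (y' : G)
        · rw [card_eq_sum, Finset.mul_sum]
          rw [← D.sum_coe (fun g : G => D.cf y * conj (D.cf y') * (if g * (y' : G) * g⁻¹ = y then (1 : ℂ) else 0))]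
          · refine Finset.sum_congr rfl fun g _ => ?_
            have h1 : (g : G) * y' * (g : G)⁻¹ = y ↔ (g⁻¹ * y * g : D.C) = y' := by
              constructor
              · intro h
                apply Subtype.ext
                change (g : G)⁻¹ * y * g = y'
                rw [← h]; group
              · intro h
                have : (g : G)⁻¹ * y * g = y' := congrArg Subtype.val h
                rw [← this]; group
            by_cases h2 : (g⁻¹ * y * g : D.C) = y'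
            · rw [if_pos h2, if_pos (h1.2 h2), mul_one]
            · rw [if_neg h2, if_neg (fun k => h2 (h1.1 k)), mul_zero]
          · intro g hg
            rw [if_neg, mul_zero]
            intro k
            exact hg (D.conj_mem_C hy hy' k)
        · rw [D.cf_zero hy', map_zero, mul_zero, zero_mul]
          simp
      rw [Finset.sum_congr rfl fun y' _ => e1 y', Finset.sum_comm]
      have e2 : ∀ g : D.C, ∑ y' : D.C, (if (g⁻¹ * y * g : D.C) = y' then D.cf y * conj (D.cf y') else 0) =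
          D.cf y * conj (D.cf y) := by
        intro g
        rw [Finset.sum_ite_eq, if_pos (Finset.mem_univ _), D.cf_conj]
      rw [Finset.sum_congr rfl fun g _ => e2 g, Finset.sum_const, Finset.card_univ, nsmul_eq_mul,
        Nat.card_eq_fintype_card]
    · rw [D.cf_zero hy]
      simp
  rw [Finset.sum_congr rfl fun y _ => key y, ← Finset.mul_sum]
  have e3 : ∑ y : D.C, D.cf y * conj (D.cf y) = (Nat.card D.C : ℂ)⁻¹ * (Nat.card D.C : ℂ)⁻¹ *
      ∑ y : D.C, (if D.t ∈ Subgroup.zpowers (y : G) then D.toC.F y * conj (D.toC.F y) else 0) := by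
    rw [Finset.mul_sum]
    refine Finset.sum_congr rfl fun y _ => ?_
    by_cases hy : D.t ∈ Subgroup.zpowers (y : G)
    · rw [D.cf_pos hy, if_pos hy, map_mul, map_inv₀, Complex.conj_natCast]
      ring
    · rw [D.cf_zero hy, if_neg hy]; ring
  rw [e3, D.norm_D]
  field_simp

/-- the vector is integral -/
theorem v_int (χ : IrrCharacter G) : ∃ n : ℤ, D.v χ = n := by
  classical
  have hC0 : (Nat.card D.C : ℂ) ≠ 0 := by exact_mod_cast Nat.card_pos.ne'
  have hT0 : (Nat.card D.T : ℂ) ≠ 0 := by exact_mod_cast Nat.card_pos.ne'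
  have hcl := Cfsg.Agent.Characters.Core.isIrr_isClassFunction χ.2
  obtain ⟨a, ha⟩ := Cfsg.Agent.Ree.VecDef.exists_int D.C D.toC.gen_F χ
  obtain ⟨b, hb⟩ := Cfsg.Agent.Ree.VecDef.exists_int D.T (θ := fun x : D.T => (D.rT D.lam x : ℂ) - (D.rT D.mu x : ℂ))
    ⟨fun x : D.T => (D.rT D.lam x : ℂ), fun x : D.T => (D.rT D.mu x : ℂ),
      Cfsg.Agent.Characters.Linear.isCharacter_hom _, Cfsg.Agent.Characters.Linear.isCharacter_hom _, rfl⟩ χ
  refine ⟨a - b, ?_⟩
  have e1 : D.v χ = (Nat.card D.C : ℂ)⁻¹ *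
      ∑ y : D.C, (if D.t ∈ Subgroup.zpowers (y : G) then D.toC.F y * conj ((χ : G → ℂ) y) else 0) := by
    unfold v
    rw [Finset.mul_sum]
    refine Finset.sum_congr rfl fun y _ => ?_
    by_cases hy : D.t ∈ Subgroup.zpowers (y : G)
    · rw [D.cf_pos hy, if_pos hy]; ring
    · rw [D.cf_zero hy, if_neg hy]; ring
  rw [e1, D.split_sum (fun y => conj ((χ : G → ℂ) y)), D.sum_E_S (fun y => conj ((χ : G → ℂ) y)) _
    (fun x => conj ((χ : G → ℂ) x)) (fun y _ _ => rfl), D.S_eq]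
  · have e2 : ∑ x : G, D.Z x * conj ((χ : G → ℂ) x) =
        ∑ x : D.T, ((D.rT D.lam x : ℂ) - (D.rT D.mu x : ℂ)) * conj ((χ : G → ℂ) x) := by
      rw [D.sum_T _ (fun x hx => by rw [D.Z_notMem hx, zero_mul])]
      refine Finset.sum_congr rfl fun x _ => ?_
      rw [D.Z_mem x.2, rT_coe, rT_coe]
    rw [e2]
    have e3 : ∑ x : D.T, ((D.rT D.lam x : ℂ) - (D.rT D.mu x : ℂ)) * conj ((χ : G → ℂ) x) = (Nat.card D.T : ℂ) * b := by
      rw [← hb, ← mul_assoc, mul_inv_cancel₀ hT0, one_mul]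
    have e4 : ∑ h : D.C, D.toC.F h * conj ((χ : G → ℂ) h) = (Nat.card D.C : ℂ) * a := by
      rw [← ha, ← mul_assoc, mul_inv_cancel₀ hC0, one_mul]
    rw [e3, e4]
    push_cast
    field_simp
  · intro x _
    rw [hcl]
  · intro g x
    have := hcl (x : G) (g : G)
    change conj ((χ : G → ℂ) ((g : G) * x * (g : G)⁻¹)) = _
    rw [this]

/-- the degrees -/
theorem v_one : ∑ χ : IrrCharacter G, D.v χ * (χ : G → ℂ) 1 = 0 := by
  classical
  have h0 := Cfsg.Agent.Ree.VecDef.sum_vec_mul (G := G) D.cf (fun y : D.C => (y : G)) (fun _ : Unit => (1 : ℂ)) (fun _ => (1 : G))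
  have e1 : ∑ χ : IrrCharacter G, D.v χ * (χ : G → ℂ) 1 =
      ∑ χ : IrrCharacter G, (∑ i, D.cf i * conj ((χ : G → ℂ) (i : G))) *
        conj (∑ j : Unit, (1 : ℂ) * conj ((χ : G → ℂ) ((fun _ => (1 : G)) j))) := by
    refine Finset.sum_congr rfl fun χ _ => ?_
    unfold v
    simp
  rw [e1, h0]
  apply Finset.sum_eq_zero
  intro y _
  apply Finset.sum_eq_zero
  intro _ _
  by_cases hy : D.t ∈ Subgroup.zpowers (y : G)
  · have : Nat.card {g : G // g * 1 * g⁻¹ = (y : G)} = 0 := by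
      rw [Nat.card_eq_zero]
      left
      constructor
      rintro ⟨g, hg⟩
      have h1 : (y : G) = 1 := by rw [← hg]; group
      rw [h1] at hy
      have h2 : D.t = 1 := by simpa using hy
      exact D.t1 h2
    simp only [this]
    simp
  · rw [D.cf_zero hy]; simp

/-- the values at `t` -/
theorem v_t : ∑ χ : IrrCharacter G, D.v χ * (χ : G → ℂ) D.t =
    2 * ((Nat.card D.C : ℂ) / (Nat.card D.B : ℂ)) := by
  classical
  have hC0 : (Nat.card D.C : ℂ) ≠ 0 := by exact_mod_cast Nat.card_pos.ne'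
  have hcardB : Nat.card (D.toC).B = Nat.card D.B := by
    change Nat.card (D.B.subgroupOf D.C) = Nat.card D.B
    exact Nat.card_congr (Subgroup.subgroupOfEquivOfLe D.BleC).toEquiv
  have h0 := Cfsg.Agent.Ree.VecDef.sum_vec_mul (G := G) D.cf (fun y : D.C => (y : G)) (fun _ : Unit => (1 : ℂ)) (fun _ => D.t)
  have e1 : ∑ χ : IrrCharacter G, D.v χ * (χ : G → ℂ) D.t =
      ∑ χ : IrrCharacter G, (∑ i, D.cf i * conj ((χ : G → ℂ) (i : G))) *
        conj (∑ j : Unit, (1 : ℂ) * conj ((χ : G → ℂ) ((fun _ => D.t) j))) := by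
    refine Finset.sum_congr rfl fun χ _ => ?_
    unfold v
    simp
  rw [e1, h0, Finset.sum_eq_single (⟨D.t, D.TleC D.t_mem⟩ : D.C)]
  · have e2 : Nat.card {g : G // g * D.t * g⁻¹ = D.t} = Nat.card D.C := by
      apply Nat.card_congr
      refine Equiv.subtypeEquivRight fun g => ?_
      rw [D.mem_C]
      constructor
      · intro h
        calc g * D.t = g * D.t * g⁻¹ * g := by group
          _ = D.t * g := by rw [h]
      · intro h
        rw [h]; group
    simp only [Finset.univ_unique, Finset.sum_singleton, e2]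
    rw [D.cf_pos (Subgroup.mem_zpowers D.t)]
    have e3 : D.toC.F ⟨D.t, D.TleC D.t_mem⟩ = 2 * ((Nat.card D.C : ℂ) / (Nat.card D.B : ℂ)) := by
      have := D.toC.F_t
      rw [hcardB] at this
      exact this
    rw [e3]
    simp only [map_one, mul_one]
    field_simp
  · intro y _ hy
    apply Finset.sum_eq_zero
    intro _ _
    by_cases hyt : D.t ∈ Subgroup.zpowers (y : G)
    · have : Nat.card {g : G // g * D.t * g⁻¹ = (y : G)} = 0 := by
        rw [Nat.card_eq_zero]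
        left
        constructor
        rintro ⟨g, hg⟩
        apply hy
        apply Subtype.ext
        have h1 : (y : G) * y = 1 := by
          rw [← hg]; exact CData.conj_invol D.tt
        rcases zp_of_sq h1 hyt with h2 | h2
        · exact absurd h2 D.t1
        · exact h2.symm
      simp only [this]
      simp
    · rw [D.cf_zero hyt]; simp
  · intro h
    exact absurd (Finset.mem_univ _) h

/-- number of pairs of involutions with product `y`, `t` among the powers of `y` -/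
theorem card_pairs {y : D.C} (hy : D.t ∈ Subgroup.zpowers (y : G)) :
    (Nat.card {p : G × G // IsConj D.t p.1 ∧ IsConj D.t p.2 ∧ p.1 * p.2 = (y : G)} : ℂ) = CData.be y := by
  classical
  have hcl : ∀ i : G, IsConj D.t i ↔ i * i = 1 ∧ i ≠ 1 := by
    intro i
    constructor
    · intro h
      obtain ⟨c, rfl⟩ := isConj_iff.1 h
      exact ⟨CData.conj_invol D.tt, CData.conj_ne_one D.t1⟩
    · rintro ⟨h1, h2⟩
      obtain ⟨g, hg⟩ := D.cls i h1 h2
      exact isConj_iff.2 ⟨g, hg⟩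
  have e1 : Nat.card {p : G × G // IsConj D.t p.1 ∧ IsConj D.t p.2 ∧ p.1 * p.2 = (y : G)} =
      Nat.card {i : G // (i * i = 1 ∧ i ≠ 1) ∧ (i⁻¹ * y * (i⁻¹ * y) = 1 ∧ i⁻¹ * y ≠ 1)} := by
    apply Nat.card_congr
    refine ⟨fun p => ⟨p.1.1, ?_⟩, fun i => ⟨(i.1, i.1⁻¹ * y), ?_⟩, fun p => ?_, fun i => ?_⟩
    · have h := p.2
      rw [hcl, hcl] at h
      have h2 : p.1.2 = p.1.1⁻¹ * y := eq_inv_mul_of_mul_eq h.2.2
      rw [← h2]
      exact ⟨h.1, h.2.1⟩
    · rw [hcl, hcl]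
      exact ⟨i.2.1, i.2.2, by simp⟩
    · apply Subtype.ext
      have h := p.2.2.2
      apply Prod.ext
      · rfl
      · exact inv_mul_eq_of_eq_mul h.symm
    · rfl
  rw [e1, card_eq_sum]
  unfold CData.be
  have e2 : ∀ i : D.C, ai i * ai (i⁻¹ * y) = ai (i : G) * ai ((i : G)⁻¹ * y) := by
    intro i
    rw [D.ai_coe, D.ai_coe]
    rfl
  rw [Finset.sum_congr rfl fun i _ => e2 i, D.sum_coe (fun i : G => ai i * ai (i⁻¹ * (y : G)))]
  · refine Finset.sum_congr rfl fun i _ => ?_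
    unfold ai
    by_cases h1 : i * i = 1 ∧ i ≠ 1
    · by_cases h2 : i⁻¹ * (y : G) * (i⁻¹ * y) = 1 ∧ i⁻¹ * (y : G) ≠ 1
      · rw [if_pos ⟨h1, h2⟩, if_pos h1, if_pos h2, mul_one]
      · rw [if_neg (fun k => h2 k.2), if_neg h2, mul_zero]
    · rw [if_neg (fun k => h1 k.1), if_neg h1, zero_mul]
  · intro i hi
    by_contra hne
    have a1 := ai_ne (x := i) (fun k => hne (by rw [k, zero_mul]))
    have a2 := ai_ne (x := i⁻¹ * (y : G)) (fun k => hne (by rw [k, mul_zero]))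
    exact hi (D.mem_C.2 (inv_comm a1.1 a2.1 hy D.tt))

/-- the class sum equation -/
theorem v_class : ∑ χ : IrrCharacter G, D.v χ * ((χ : G → ℂ) D.t ^ 2 / (χ : G → ℂ) 1) =
    (Nat.card D.C : ℂ) / (Nat.card G : ℂ) *
      (4 * ((Nat.card D.C : ℂ) / (Nat.card D.T : ℂ)) * ((Nat.card D.B : ℂ) / (Nat.card D.T : ℂ))) := by
  classical
  have hC0 : (Nat.card D.C : ℂ) ≠ 0 := by exact_mod_cast Nat.card_pos.ne'
  have h0 := Cfsg.Agent.Ree.VecDef.sum_vec_class (G := G) D.t D.cf (fun y : D.C => (y : G))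
  unfold v
  rw [h0]
  have e1 : ∑ i : D.C, D.cf i * (Nat.card {p : G × G // IsConj D.t p.1 ∧ IsConj D.t p.2 ∧ p.1 * p.2 = (i : G)} : ℂ) =
      (Nat.card D.C : ℂ)⁻¹ *
        ∑ y : D.C, (if D.t ∈ Subgroup.zpowers (y : G) then D.toC.F y * CData.be y else 0) := by
    rw [Finset.mul_sum]
    refine Finset.sum_congr rfl fun y _ => ?_
    by_cases hy : D.t ∈ Subgroup.zpowers (y : G)
    · rw [D.cf_pos hy, if_pos hy, D.card_pairs hy]; ring
    · rw [D.cf_zero hy, if_neg hy]; ring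
  rw [e1, D.be_D]
  field_simp

/-- the final equation -/
theorem main : ∃ (N M : ℤ), 0 < N ∧ M ≠ 0 ∧ M ^ 2 ≤ 2 * (Nat.card D.C : ℤ) ∧
    (Nat.card G : ℤ) * M * (Nat.card D.T : ℤ) ^ 2 = 2 * (Nat.card D.B : ℤ) ^ 2 * (Nat.card D.C : ℤ) * N := by
  classical
  have hC0 : (Nat.card D.C : ℂ) ≠ 0 := by exact_mod_cast Nat.card_pos.ne'
  have hG0 : (Nat.card G : ℂ) ≠ 0 := by exact_mod_cast Nat.card_pos.ne'
  have hB0 : (Nat.card D.B : ℂ) ≠ 0 := by exact_mod_cast Nat.card_pos.ne'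
  have hT0 : (Nat.card D.T : ℂ) ≠ 0 := by exact_mod_cast Nat.card_pos.ne'
  choose n hn using D.v_int
  have hord : orderOf D.t = 2 := by
    have h2 : orderOf D.t ∣ 2 := orderOf_dvd_of_pow_eq_one (by rw [pow_two]; exact D.tt)
    rcases (Nat.dvd_prime Nat.prime_two).1 h2 with h3 | h3
    · exact absurd (orderOf_eq_one_iff.1 h3) D.t1
    · exact h3
  choose z hz using fun χ : IrrCharacter G => Cfsg.Agent.S0944.result χ D.t hord
  choose d hd using fun χ : IrrCharacter G => Cfsg.Agent.Characters.Core.isIrr_apply_one χ.2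
  have h1 : ∑ χ : IrrCharacter G, n χ ^ 2 = 2 := by
    have := D.v_norm
    simp only [hn] at this
    have e : ∀ χ : IrrCharacter G, ((n χ : ℤ) : ℂ) * conj ((n χ : ℤ) : ℂ) = ((n χ ^ 2 : ℤ) : ℂ) := by
      intro χ
      rw [map_intCast]
      push_cast; ring
    rw [Finset.sum_congr rfl fun χ _ => e χ, ← Int.cast_sum] at this
    exact_mod_cast this
  have h2 : ∑ χ : IrrCharacter G, n χ * (d χ : ℤ) = 0 := by
    have := D.v_one
    simp only [hn] at this
    have e : ∀ χ : IrrCharacter G, ((n χ : ℤ) : ℂ) * (χ : G → ℂ) 1 = ((n χ * (d χ : ℤ) : ℤ) : ℂ) := by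
      intro χ
      rw [(hd χ).2]
      push_cast; ring
    rw [Finset.sum_congr rfl fun χ _ => e χ, ← Int.cast_sum] at this
    exact_mod_cast this
  obtain ⟨χ, χ', hne, hχ, hχ', hrest⟩ := pair_of_norm_two n h1 (fun χ => (d χ : ℤ))
    (fun χ => by exact_mod_cast (hd χ).1) h2
  have hsum : ∀ f : IrrCharacter G → ℂ, ∑ ψ : IrrCharacter G, D.v ψ * f ψ = f χ - f χ' := by
    intro f
    rw [Finset.sum_eq_add χ χ' hne (fun k _ hk' => by rw [hn, hrest k hk'.1 hk'.2, Int.cast_zero, zero_mul])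
      (fun h => absurd (Finset.mem_univ _) h) (fun h => absurd (Finset.mem_univ _) h), hn, hn, hχ, hχ']
    push_cast; ring
  have e1 := D.v_one
  rw [hsum (fun χ => (χ : G → ℂ) 1), (hd χ).2, (hd χ').2, sub_eq_zero] at e1
  have e2 := D.v_t
  rw [hsum (fun χ => (χ : G → ℂ) D.t), (hz χ).1, (hz χ').1] at e2
  have e3 := D.v_class
  rw [hsum (fun χ => (χ : G → ℂ) D.t ^ 2 / (χ : G → ℂ) 1), (hz χ).1, (hz χ').1, (hd χ).2, (hd χ').2, ← e1] at e3
  have hd0 : (d χ : ℂ) ≠ 0 := by exact_mod_cast (hd χ).1.ne'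
  have hK0 : (Nat.card D.C : ℂ) / (Nat.card D.B : ℂ) ≠ 0 := div_ne_zero hC0 hB0
  -- the equation in `ℂ`
  have e4 : (Nat.card G : ℂ) * ((z χ : ℂ) + (z χ' : ℂ)) * (Nat.card D.T : ℂ) ^ 2 =
      2 * (Nat.card D.B : ℂ) ^ 2 * (Nat.card D.C : ℂ) * (d χ : ℂ) := by
    have e5 : ((z χ : ℂ) - (z χ' : ℂ)) * ((z χ : ℂ) + (z χ' : ℂ)) = (d χ : ℂ) *
        ((z χ : ℂ) ^ 2 / (d χ : ℂ) - (z χ' : ℂ) ^ 2 / (d χ : ℂ)) := by
      field_simp
      ring
    rw [e3, e2] at e5
    have e6 : 2 * ((Nat.card D.C : ℂ) / (Nat.card D.B : ℂ)) *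
        ((Nat.card G : ℂ) * ((z χ : ℂ) + (z χ' : ℂ)) * (Nat.card D.T : ℂ) ^ 2) =
        2 * ((Nat.card D.C : ℂ) / (Nat.card D.B : ℂ)) *
        (2 * (Nat.card D.B : ℂ) ^ 2 * (Nat.card D.C : ℂ) * (d χ : ℂ)) := by
      calc 2 * ((Nat.card D.C : ℂ) / (Nat.card D.B : ℂ)) *
          ((Nat.card G : ℂ) * ((z χ : ℂ) + (z χ' : ℂ)) * (Nat.card D.T : ℂ) ^ 2)
          = (2 * ((Nat.card D.C : ℂ) / (Nat.card D.B : ℂ)) * ((z χ : ℂ) + (z χ' : ℂ))) *
            ((Nat.card G : ℂ) * (Nat.card D.T : ℂ) ^ 2) := by ring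
        _ = _ := by rw [e5]; field_simp; ring
    exact mul_left_cancel₀ (mul_ne_zero two_ne_zero hK0) e6
  have e7 : (Nat.card G : ℤ) * (z χ + z χ') * (Nat.card D.T : ℤ) ^ 2 =
      2 * (Nat.card D.B : ℤ) ^ 2 * (Nat.card D.C : ℤ) * (d χ : ℤ) := by
    exact_mod_cast e4
  have hdp : (0 : ℤ) < d χ := by exact_mod_cast (hd χ).1
  refine ⟨d χ, z χ + z χ', hdp, ?_, ?_, e7⟩
  · intro h0
    rw [h0] at e7
    have hB : (0 : ℤ) < Nat.card D.B := by exact_mod_cast Nat.card_pos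
    have hC : (0 : ℤ) < Nat.card D.C := by exact_mod_cast Nat.card_pos
    have : (0 : ℤ) < 2 * (Nat.card D.B : ℤ) ^ 2 * (Nat.card D.C : ℤ) * (d χ : ℤ) := by positivity
    rw [← e7] at this
    simp at this
  · -- second orthogonality
    have h3 := Cfsg.Agent.S0876.sum_irr_mul_conj (G := G) D.t D.t
    have h4 : Nat.card {x : G // x * D.t * x⁻¹ = D.t} = Nat.card D.C := by
      apply Nat.card_congr
      refine Equiv.subtypeEquivRight fun g => ?_
      rw [D.mem_C]
      constructor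
      · intro h
        calc g * D.t = g * D.t * g⁻¹ * g := by group
          _ = D.t * g := by rw [h]
      · intro h
        rw [h]; group
    have h5 : ∑ ψ : IrrCharacter G, z ψ ^ 2 = (Nat.card D.C : ℤ) := by
      have e : ∀ ψ : IrrCharacter G, (ψ : G → ℂ) D.t * conj ((ψ : G → ℂ) D.t) = ((z ψ ^ 2 : ℤ) : ℂ) := by
        intro ψ
        rw [(hz ψ).1, map_intCast]
        push_cast; ring
      rw [Finset.sum_congr rfl fun χ _ => e χ, ← Int.cast_sum, h4] at h3
      exact_mod_cast h3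
    have h6 : z χ ^ 2 + z χ' ^ 2 ≤ (Nat.card D.C : ℤ) := by
      rw [← h5, ← Finset.sum_pair (f := fun ψ => z ψ ^ 2) hne]
      exact Finset.sum_le_sum_of_subset_of_nonneg (Finset.subset_univ _) (fun _ _ _ => sq_nonneg _)
    nlinarith [sq_nonneg (z χ - z χ')]

end GData

end Cfsg.Agent.GTwoOdd.GamC
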