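import Cfsg.Agent.GTwoOdd.HexRel

/-!
# The cubic structure
-/

set_option autoImplicit false
set_option linter.unusedSimpArgs false

namespace Cfsg.Agent.GTwoOdd.Hex

namespace HexDat

open HexPre

variable {G : Type*} [Group G] {F K : Type*} [Field F] [Field K] (D : HexDat G F K)

theorem conj_x1_x6 (a : K) (u : F) :
    MulAut.conj (D.x1 a) (D.x6 u) = D.nf (D.N a * u) (D.sh a * D.β u) (D.M6 a u) (-(D.β u * a)) u := by
  rw [D.x6_eq_nf, D.conj_x1_nf, D.T_zero_right, (D.five_zero a).1, (D.five_zero a).2.1, (D.five_zero a).2.2,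
    D.T_zero_left, D.A6_eq, D.S6_eq, D.R6_eq]
  congr 1 <;> ring

theorem conj_x1_x5 (a b : K) :
    MulAut.conj (D.x1 a) (D.x5 b) = D.nf (D.P5 a b) (D.Q5 a b) (D.M5 a b) b 0 := by
  rw [D.x5_eq_nf, D.conj_x1_nf, D.T_zero_right, (D.six_zero a).1, (D.six_zero a).2.1, (D.six_zero a).2.2.1,
    (D.six_zero a).2.2.2, D.T_zero_right]
  congr 1 <;> ring

theorem conj_x1_x3 (a b : K) :
    MulAut.conj (D.x1 a) (D.x3 b) = D.nf (D.T a b) b 0 0 0 := by
  rw [D.x3_eq_nf, D.conj_x1_nf, (D.six_zero a).1, (D.six_zero a).2.1, (D.six_zero a).2.2.1,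
    (D.six_zero a).2.2.2, D.T_zero_left, (D.five_zero a).1, (D.five_zero a).2.1, (D.five_zero a).2.2]
  congr 1 <;> ring

theorem T_add_right (a b b' : K) : D.T a (b + b') = D.T a b + D.T a b' := by
  have h := D.conj_x1_x3 a (b + b')
  rw [D.x3_add, map_mul, D.conj_x1_x3, D.conj_x1_x3, D.nf_mul] at h
  exact (D.nf_inj h).1.symm

theorem T_add_left (a a' b : K) : D.T (a + a') b = D.T a b + D.T a' b := by
  have h := D.conj_x1_x3 (a + a') b
  rw [D.x1_add, conj_mul_apply, D.conj_x1_x3, D.conj_x1_nf] at h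
  have h1 := (D.nf_inj h).1
  rw [(D.six_zero a).1, (D.five_zero a).1] at h1
  linear_combination -h1

theorem T_neg_right (a b : K) : D.T a (-b) = -D.T a b := by
  have h := D.T_add_right a b (-b)
  rw [add_neg_cancel, D.T_zero_right] at h
  linear_combination -h

theorem T_neg_left (a b : K) : D.T (-a) b = -D.T a b := by
  have h := D.T_add_left a (-a) b
  rw [add_neg_cancel, D.T_zero_left] at h
  linear_combination -h

theorem T_symm (a b : K) : D.T a b = D.T b a := by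
  have h := congrArg (MulAut.conj D.nI) (D.x5_x3 a b)
  rw [map_mul, map_mul, map_mul, D.nI_x5, D.nI_x3, D.nI_x4] at h
  have h1 := D.x5_x3 (-b) a
  have h2 : D.x4 (D.T (-b) a) * D.x4 (D.T a b) = D.x4 0 := by
    have h3 : D.x4 (D.T (-b) a) * (D.x4 (D.T a b) * D.x5 (-b) * D.x3 a) = D.x5 (-b) * D.x3 a := by
      rw [← h, h1, mul_assoc]
    have h4 : D.x4 (D.T (-b) a) * D.x4 (D.T a b) * (D.x5 (-b) * D.x3 a) = D.x4 0 * (D.x5 (-b) * D.x3 a) := by
      rw [D.x4_zero, one_mul, mul_assoc, ← mul_assoc (D.x4 (D.T a b)), h3]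
    exact mul_right_cancel h4
  rw [← D.x4_add] at h2
  have h3 := D.x4_inj h2
  rw [D.T_neg_left] at h3
  linear_combination h3

/-- additivity of the maps in `b` -/
theorem five_add_right (a b b' : K) : D.P5 a (b + b') = D.P5 a b + D.P5 a b' ∧ D.Q5 a (b + b') = D.Q5 a b + D.Q5 a b' ∧
    D.M5 a (b + b') = D.M5 a b + D.M5 a b' + D.T b (D.Q5 a b') := by
  have h := D.conj_x1_x5 a (b + b')
  rw [D.x5_add, map_mul, D.conj_x1_x5, D.conj_x1_x5, D.nf_mul] at h
  obtain ⟨h1, h2, h3, -, -⟩ := D.nf_inj h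
  refine ⟨h1.symm, h2.symm, ?_⟩
  rw [← h3]
  ring

theorem five_add_left (a a' b : K) : D.P5 (a + a') b = D.P5 a b + D.P5 a' b + D.T a (D.Q5 a' b) ∧
    D.Q5 (a + a') b = D.Q5 a b + D.Q5 a' b ∧ D.M5 (a + a') b = D.M5 a b + D.M5 a' b := by
  have h := D.conj_x1_x5 (a + a') b
  rw [D.x1_add, conj_mul_apply, D.conj_x1_x5, D.conj_x1_nf, (D.six_zero a).1, (D.six_zero a).2.1, (D.six_zero a).2.2.1,
    (D.six_zero a).2.2.2, D.T_zero_right] at h
  obtain ⟨h1, h2, h3, -, -⟩ := D.nf_inj h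
  refine ⟨by linear_combination -h1, by linear_combination -h2, by linear_combination -h3⟩

/-- parity with respect to `nI ^ 2` -/
theorem tI_x1 (a : K) : MulAut.conj (D.hI (-1)) (D.x1 a) = D.x1 a := by
  rw [D.hI_x1 neg_one_ne]; congr 1; ring

theorem tI_nf (b : F) (c : K) (d : F) (e : K) (f : F) :
    MulAut.conj (D.hI (-1)) (D.nf b c d e f) = D.nf (-b) (-c) d (-e) (-f) := by
  have h : D.hI (-1) = D.nI * D.nI := D.I.nn.symm
  rw [h]
  simp only [nf, map_mul, MulAut.mul_apply, D.nI_x2, D.nI_x3, D.nI_x4, D.nI_x5, D.nI_x6]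

theorem tJ_x1 (a : K) : MulAut.conj (D.hJ (-1)) (D.x1 a) = D.x1 (-a) := by
  rw [D.hJ_x1 (neg_ne_zero.2 one_ne_zero), D.β_neg_one, inv_neg_one', neg_one_mul]

theorem tJ_nf (b : F) (c : K) (d : F) (e : K) (f : F) :
    MulAut.conj (D.hJ (-1)) (D.nf b c d e f) = D.nf (-b) c (-d) (-e) f := by
  have h : D.hJ (-1) = D.nJ * D.nJ := D.J.nn.symm
  rw [h]
  simp only [nf, map_mul, MulAut.mul_apply, D.nJ_x2, D.nJ_x3, D.nJ_x4, D.nJ_x5, D.nJ_x6, D.nJ_x1, D.nJ_y6, neg_neg]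

theorem tI_conj (a : K) (z : G) :
    MulAut.conj (D.hI (-1)) (MulAut.conj (D.x1 a) z) = MulAut.conj (D.x1 a) (MulAut.conj (D.hI (-1)) z) := by
  rw [conj_conj, D.tI_x1]

theorem tJ_conj (a : K) (z : G) :
    MulAut.conj (D.hJ (-1)) (MulAut.conj (D.x1 a) z) = MulAut.conj (D.x1 (-a)) (MulAut.conj (D.hJ (-1)) z) := by
  rw [conj_conj, D.tJ_x1]

theorem five_neg_left (a b : K) : D.P5 (-a) b = D.P5 a b ∧ D.Q5 (-a) b = -D.Q5 a b ∧ D.M5 (-a) b = -D.M5 a b := by
  have h := congrArg (MulAut.conj (D.hI (-1))) (congrArg (MulAut.conj (D.hJ (-1))) (D.conj_x1_x5 a b))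
  rw [D.tJ_conj, D.tI_conj, D.x5_eq_nf, D.tJ_nf, D.tI_nf, D.tJ_nf, D.tI_nf] at h
  have e1 : D.nf (- -0) (-0) (-0) (- -b) (-0) = D.x5 b := by
    rw [D.x5_eq_nf]; congr 1 <;> ring
  rw [e1, D.conj_x1_x5] at h
  obtain ⟨h1, h2, h3, -, -⟩ := D.nf_inj h
  exact ⟨by linear_combination h1, by linear_combination h2, by linear_combination h3⟩

theorem five_neg_right (a b : K) : D.P5 a (-b) = -D.P5 a b ∧ D.Q5 a (-b) = -D.Q5 a b ∧ D.M5 a (-b) = D.M5 a b := by
  have h := congrArg (MulAut.conj (D.hI (-1))) (D.conj_x1_x5 a b)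
  rw [D.tI_conj, D.x5_eq_nf, D.tI_nf, D.tI_nf] at h
  have e1 : D.nf (-0) (-0) 0 (-b) (-0) = D.x5 (-b) := by
    rw [D.x5_eq_nf]; congr 1 <;> ring
  rw [e1, D.conj_x1_x5] at h
  obtain ⟨h1, h2, h3, -, -⟩ := D.nf_inj h
  exact ⟨h1, h2, h3⟩

theorem P5_eq (a b : K) : 2 * D.P5 a b = D.T a (D.Q5 a b) := by
  have h := (D.five_add_left a (-a) b).1
  have h0 : D.P5 0 b = 0 := by
    have h1 := (D.five_add_left 0 0 b).1
    rw [D.T_zero_left, add_zero, add_zero] at h1
    linear_combination -h1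
  rw [add_neg_cancel, h0, (D.five_neg_left a b).1, (D.five_neg_left a b).2.1, D.T_neg_right] at h
  linear_combination -h

theorem M5_eq (a b : K) : 2 * D.M5 a b = D.T b (D.Q5 a b) := by
  have h := (D.five_add_right a b (-b)).2.2
  rw [add_neg_cancel, (D.five_zero a).2.2, (D.five_neg_right a b).2.2, (D.five_neg_right a b).2.1, D.T_neg_right] at h
  linear_combination -h

/-! ### the field embedding and the cubic norm structure -/

theorem six_add_right (a : K) (u v : F) : D.sh a * D.β (u + v) = D.sh a * D.β u + D.sh a * D.β v ∧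
    D.β (u + v) * a = D.β u * a + D.β v * a ∧
    D.M6 a (u + v) = D.M6 a u + D.M6 a v + u * (D.N a * v) + D.T (-(D.β u * a)) (D.sh a * D.β v) := by
  have h := D.conj_x1_x6 a (u + v)
  rw [D.x6_add, map_mul, D.conj_x1_x6, D.conj_x1_x6, D.nf_mul] at h
  obtain ⟨-, h2, h3, h4, -⟩ := D.nf_inj h
  exact ⟨h2.symm, by linear_combination h4, h3.symm⟩

theorem β_add (u v : F) : D.β (u + v) = D.β u + D.β v := by
  have h := (D.six_add_right 1 u v).2.1
  rwa [mul_one, mul_one, mul_one] at h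

/-- `F → K` -/
def βh : F →+* K where
  toFun := D.β
  map_one' := D.β_one
  map_mul' := D.β_mul
  map_zero' := D.β_zero
  map_add' := D.β_add

theorem βh_apply (u : F) : D.βh u = D.β u := rfl

theorem six_add_left (a b : K) (u : F) : D.N (a + b) * u = D.N b * u + D.T a (D.sh b * D.β u) +
      D.P5 a (-(D.β u * b)) + D.N a * u ∧
    D.sh (a + b) * D.β u = D.sh b * D.β u + D.Q5 a (-(D.β u * b)) + D.sh a * D.β u ∧
    D.M6 (a + b) u = D.M6 b u + D.M5 a (-(D.β u * b)) + D.T (-(D.β u * b)) (D.S6 a u) + D.M6 a u := by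
  have h := D.conj_x1_x6 (a + b) u
  rw [D.x1_add, conj_mul_apply, D.conj_x1_x6, D.conj_x1_nf, D.A6_eq, D.S6_eq] at h
  obtain ⟨h1, h2, h3, -, -⟩ := D.nf_inj h
  rw [D.S6_eq]
  exact ⟨h1.symm, h2.symm, h3.symm⟩

/-- the polarisation of `sh` -/
noncomputable def cr (a b : K) : K := D.sh (a + b) - D.sh a - D.sh b

theorem cr_comm (a b : K) : D.cr a b = D.cr b a := by
  rw [cr, cr, add_comm a b]; ring

theorem Q5_eq (a b : K) : D.Q5 a b = -D.cr a b := by
  have h := (D.six_add_left a b 1).2.1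
  rw [D.β_one, mul_one, mul_one, mul_one, one_mul, (D.five_neg_right a b).2.1] at h
  rw [cr]
  linear_combination h

theorem N_add' (a b : K) : D.N (a + b) = D.N a + D.N b + D.T a (D.sh b) - D.P5 a b := by
  have h := (D.six_add_left a b 1).1
  rw [D.β_one, mul_one, mul_one, mul_one, mul_one, one_mul, (D.five_neg_right a b).1] at h
  linear_combination h

theorem N_neg (a : K) : D.N (-a) = -D.N a := by
  have h := D.N_mul (-1) a
  rw [neg_one_mul, D.N_neg_one, neg_one_mul] at h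
  exact h

theorem β_neg (u : F) : D.β (-u) = -D.β u := by
  have h := D.β_mul (-1) u
  rw [neg_one_mul, D.β_neg_one, neg_one_mul] at h
  exact h

theorem sh_neg (a : K) : D.sh (-a) = D.sh a := by
  rw [sh, sh, D.N_neg, D.β_neg, inv_neg]
  ring

theorem cr_neg_left (a b : K) : D.cr (-a) b = -D.cr a b := by
  have h := (D.five_neg_left a b).2.1
  rw [D.Q5_eq, D.Q5_eq] at h
  linear_combination -h

theorem P5_sum (a b : K) : D.P5 a b = -D.T b (D.sh a) ∧ D.M5 a b = -D.T a (D.sh b) := by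
  have h1 := D.N_add' a b
  have h2 := D.N_add' b a
  have h3 := D.N_add' (-a) b
  have h4 := D.N_add' b (-a)
  rw [add_comm b a] at h2
  rw [add_comm b (-a)] at h4
  have e1 := D.P5_eq a b
  have e2 := D.P5_eq b a
  have e5 := D.M5_eq a b
  rw [D.Q5_eq b a, D.cr_comm b a, ← D.Q5_eq a b] at e2
  rw [D.T_neg_left, (D.five_neg_left a b).1] at h3
  rw [D.sh_neg, (D.five_neg_right b a).1] at h4
  have f1 : D.P5 a b = -D.T b (D.sh a) := by
    have : 2 * D.P5 a b = 2 * (-D.T b (D.sh a)) := by linear_combination h1 - h2 + (h3 - h4)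
    exact mul_left_cancel₀ D.two this
  have f2 : D.P5 b a = -D.T a (D.sh b) := by
    have : 2 * D.P5 b a = 2 * (-D.T a (D.sh b)) := by linear_combination -h1 + h2 + (h3 - h4)
    exact mul_left_cancel₀ D.two this
  refine ⟨f1, ?_⟩
  have : 2 * D.M5 a b = 2 * (-D.T a (D.sh b)) := by
    rw [← f2, e5, ← e2]
  exact mul_left_cancel₀ D.two this

theorem N_add (a b : K) : D.N (a + b) = D.N a + D.N b + D.T a (D.sh b) + D.T b (D.sh a) := by
  rw [D.N_add', (D.P5_sum a b).1]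
  ring

theorem hJ_x3 (u : F) (hu : u ≠ 0) (a : K) : MulAut.conj (D.hJ u) (D.x3 a) = D.x3 a := by
  have h1 : D.x6 u * D.y6 (-u⁻¹) * D.x6 u = D.hJ u * D.nJ := D.J.xyx u hu
  have h2 := congrArg (fun g => MulAut.conj g (D.x3 a)) h1
  simp only [conj_mul_apply] at h2
  rw [D.nJ_x3, conj_of_commute (D.c36 a u).symm, conj_of_commute (D.cy36 a _).symm,
    conj_of_commute (D.c36 a u).symm] at h2
  exact h2.symm

theorem T_smul_left (u : F) (a b : K) : D.T (D.β u * a) b = u * D.T a b := by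
  by_cases hu : u = 0
  · rw [hu, D.β_zero, zero_mul, D.T_zero_left, zero_mul]
  have h := congrArg (MulAut.conj (D.hJ u)) (D.conj_x1_x3 (D.β u * a) b)
  rw [conj_conj, D.hJ_x1 hu, D.hJ_x3 u hu] at h
  have e : D.nf (D.T (D.β u * a) b) b 0 0 0 = D.x2 (D.T (D.β u * a) b) * D.x3 b := by
    rw [nf, D.x4_zero, D.x5_zero, D.x6_zero, mul_one, mul_one, mul_one]
  rw [e, map_mul, D.hJ_x2' hu, D.hJ_x3 u hu, D.conj_x1_x3, ← mul_assoc, inv_mul_cancel₀ (D.β_ne u hu), one_mul] at h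
  have e2 : D.x2 (u⁻¹ * D.T (D.β u * a) b) * D.x3 b = D.nf (u⁻¹ * D.T (D.β u * a) b) b 0 0 0 := by
    rw [nf, D.x4_zero, D.x5_zero, D.x6_zero, mul_one, mul_one, mul_one]
  rw [e2] at h
  have h1 := (D.nf_inj h).1
  rw [h1, ← mul_assoc, mul_inv_cancel₀ hu, one_mul]

theorem T_smul_right (u : F) (a b : K) : D.T a (D.β u * b) = u * D.T a b := by
  rw [D.T_symm, D.T_smul_left, D.T_symm]

theorem β_two : D.β 2 = 2 := by
  have h := D.β_add 1 1
  rw [D.β_one, one_add_one_eq_two, one_add_one_eq_two] at h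
  exact h

theorem T_sh (a : K) : D.T a (D.sh a) = 3 * D.N a := by
  have h := D.N_add a a
  have h1 : a + a = D.β 2 * a := by rw [D.β_two]; ring
  rw [h1, D.N_mul, D.N_β] at h
  have : 2 * D.T a (D.sh a) = 2 * (3 * D.N a) := by linear_combination -h
  exact mul_left_cancel₀ D.two this

theorem M6_even (a : K) (u : F) : D.M6 a (-u) = D.M6 a u := by
  have h := congrArg (MulAut.conj (D.hI (-1))) (D.conj_x1_x6 a u)
  rw [D.tI_conj, D.x6_eq_nf, D.tI_nf, D.tI_nf] at h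
  have e1 : D.nf (-0) (-0) 0 (-0) (-u) = D.x6 (-u) := by
    rw [D.x6_eq_nf]; congr 1 <;> ring
  rw [e1, D.conj_x1_x6] at h
  exact (D.nf_inj h).2.2.1

theorem M6_eq (a : K) (u : F) : D.M6 a u = -(u * u * D.N a) := by
  have h := (D.six_add_right a u (-u)).2.2
  rw [add_neg_cancel, (D.six_zero a).2.2.1, D.M6_even, D.T_neg_left, D.T_smul_left, mul_comm (D.sh a), D.T_smul_right,
    D.T_sh] at h
  have : 2 * D.M6 a u = 2 * (-(u * u * D.N a)) := by linear_combination -h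
  exact mul_left_cancel₀ D.two this

theorem sh_smul (u : F) (a : K) : D.sh (D.β u * a) = D.β (u * u) * D.sh a := by
  by_cases hu : u = 0
  · rw [hu, D.β_zero, zero_mul, D.sh_zero, zero_mul, D.β_zero, zero_mul]
  have hb := D.β_ne u hu
  by_cases ha : a = 0
  · rw [ha, mul_zero, D.sh_zero, mul_zero]
  simp only [sh, D.N_mul, D.N_β, D.β_mul]
  field_simp

/-- the values of `cr` in terms of commutators: biadditivity -/
theorem cr_add_right (a b c : K) : D.cr a (b + c) = D.cr a b + D.cr a c := by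
  have h := (D.five_add_right a b c).2.1
  rw [D.Q5_eq, D.Q5_eq, D.Q5_eq] at h
  linear_combination -h

theorem cr_add_left (a b c : K) : D.cr (a + b) c = D.cr a c + D.cr b c := by
  rw [D.cr_comm, D.cr_add_right, D.cr_comm c a, D.cr_comm c b]

theorem cr_smul_left (u : F) (a b : K) : D.cr (D.β u * a) b = D.β u * D.cr a b := by
  by_cases hu : u = 0
  · rw [hu, D.β_zero, zero_mul, zero_mul]
    have := D.cr_add_left 0 0 b
    rw [add_zero] at this
    linear_combination -this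
  have h := (D.six_add_left b a u).2.1
  rw [(D.five_neg_right b _).2.1, D.Q5_eq, D.cr_comm b] at h
  have h2 : D.sh (b + a) = D.cr a b + D.sh a + D.sh b := by rw [cr, add_comm b a]; ring
  rw [h2] at h
  linear_combination -h

theorem cr_self (a : K) : D.cr a a = 2 * D.sh a := by
  have h1 : a + a = D.β 2 * a := by rw [D.β_two]; ring
  rw [cr, h1, D.sh_smul, D.β_mul, D.β_two]
  ring

/-! ### the relations, as commutators -/

open scoped commutatorElement

theorem comm_of {x y z : G} (h : x * y = z * y * x) : ⁅x, y⁆ = z := by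
  rw [commutatorElement_def, h]
  group

theorem rel13 (a b : K) : ⁅D.x1 a, D.x3 b⁆ = D.x2 (D.T a b) := comm_of (D.x1_x3 a b)

theorem rel35 (b c : K) : ⁅D.x3 b, D.x5 c⁆ = D.x4 (-D.T b c) := by
  apply comm_of
  rw [mul_assoc, D.x5_x3, ← mul_assoc, ← mul_assoc, ← D.x4_add, D.T_symm b c, neg_add_cancel, D.x4_zero, one_mul]

theorem rel26 (u v : F) : ⁅D.x2 u, D.x6 v⁆ = D.x4 (-(u * v)) := by
  apply comm_of
  rw [mul_assoc, D.x6_x2, ← mul_assoc, ← mul_assoc, ← D.x4_add, mul_comm u v, neg_add_cancel, D.x4_zero, one_mul]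

theorem rel15 (a b : K) : ⁅D.x1 a, D.x5 b⁆ =
    D.x2 (-D.T b (D.sh a)) * D.x3 (-D.cr a b) * D.x4 (-D.T a (D.sh b)) := by
  apply comm_of
  rw [D.x1_x5', (D.P5_sum a b).1, (D.P5_sum a b).2, D.Q5_eq]

theorem rel16 (a : K) (u : F) : ⁅D.x1 a, D.x6 u⁆ =
    D.x2 (u * D.N a) * D.x3 (D.sh a * D.β u) * D.x4 (-(u * u * D.N a)) * D.x5 (-(D.β u * a)) := by
  apply comm_of
  rw [D.x1_x6', D.A6_eq, D.S6_eq, D.M6_eq, D.R6_eq, mul_comm (D.N a) u]

end HexDat

end Cfsg.Agent.GTwoOdd.Hex
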