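import Mathlib

/-!
# Rank two root data of type `G₂`, `³D₄` from two rank one groups

`One G E`: a rank one group inside `G` parametrised by the field `E`.
`HexDat G F K`: two rank one groups (`I` over `K`, root groups `X 1`; `J` over `F`, root group `X 6`) whose
tori act on each other, with the commutation table of a hexagonal root system.
-/

set_option autoImplicit false

namespace Cfsg.Agent.GTwoOdd.Hex

/-- a group of type `SL₂` (or `PSL₂`) over `E` in `G` -/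
structure One (G : Type*) [Group G] (E : Type*) [Field E] where
  x : E → G
  y : E → G
  n : G
  h : E → G
  x_add : ∀ a b, x (a + b) = x a * x b
  y_add : ∀ a b, y (a + b) = y a * y b
  nx : ∀ a, n * x a * n⁻¹ = y (-a)
  ny : ∀ a, n * y a * n⁻¹ = x (-a)
  nn : n * n = h (-1)
  nh : ∀ a, a ≠ 0 → n * h a * n⁻¹ = (h a)⁻¹
  h_mul : ∀ a b, a ≠ 0 → b ≠ 0 → h (a * b) = h a * h b
  hx : ∀ a b, a ≠ 0 → h a * x b * (h a)⁻¹ = x (a * a * b)
  xyx : ∀ a, a ≠ 0 → x a * y (-a⁻¹) * x a = h a * n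

namespace One

variable {G : Type*} [Group G] {E : Type*} [Field E] (O : One G E)

theorem x_zero : O.x 0 = 1 := by
  have h := O.x_add 0 0
  rw [add_zero] at h
  exact (left_eq_mul.mp h)

theorem y_zero : O.y 0 = 1 := by
  have h := O.y_add 0 0
  rw [add_zero] at h
  exact (left_eq_mul.mp h)

theorem x_neg (a : E) : O.x (-a) = (O.x a)⁻¹ := by
  apply eq_inv_of_mul_eq_one_left
  rw [← O.x_add, neg_add_cancel, O.x_zero]

theorem y_neg (a : E) : O.y (-a) = (O.y a)⁻¹ := by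
  apply eq_inv_of_mul_eq_one_left
  rw [← O.y_add, neg_add_cancel, O.y_zero]

theorem h_one : O.h 1 = 1 := by
  have h := O.h_mul 1 1 one_ne_zero one_ne_zero
  rw [mul_one] at h
  exact (left_eq_mul.mp h)

theorem n_eq : O.n = O.x 1 * O.y (-1) * O.x 1 := by
  have h := O.xyx 1 one_ne_zero
  rw [inv_one, O.h_one, one_mul] at h
  exact h.symm

theorem nx' (a : E) : MulAut.conj O.n (O.x a) = O.y (-a) := O.nx a

theorem ny' (a : E) : MulAut.conj O.n (O.y a) = O.x (-a) := O.ny a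

theorem hx' {a : E} (ha : a ≠ 0) (b : E) : MulAut.conj (O.h a) (O.x b) = O.x (a * a * b) := O.hx a b ha

theorem nh' {a : E} (ha : a ≠ 0) : MulAut.conj O.n (O.h a) = (O.h a)⁻¹ := O.nh a ha

theorem h_inv {a : E} (ha : a ≠ 0) : O.h a⁻¹ = (O.h a)⁻¹ := by
  apply eq_inv_of_mul_eq_one_left
  rw [← O.h_mul _ _ (inv_ne_zero ha) ha, inv_mul_cancel₀ ha, O.h_one]

theorem h_comm {a b : E} (ha : a ≠ 0) (hb : b ≠ 0) : O.h a * O.h b = O.h b * O.h a := by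
  rw [← O.h_mul a b ha hb, ← O.h_mul b a hb ha, mul_comm]

/-- `h a⁻¹ * n = n * h a` -/
theorem hn {a : E} (ha : a ≠ 0) : (O.h a)⁻¹ * O.n = O.n * O.h a := by
  have h := O.nh a ha
  rw [← h]
  group

end One

/-- The data: `I` over `K` (short roots), `J` over `F` (long roots). -/
structure HexPre (G : Type*) [Group G] (F K : Type*) [Field F] [Field K] where
  I : One G K
  J : One G F
  /-- `I.h a` acts on `J.x` as multiplication by `(N a)⁻¹` -/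
  N : K → F
  /-- `J.h u` acts on `I.x` as multiplication by `(β u)⁻¹` -/
  β : F → K
  N_zero : N 0 = 0
  β_zero : β 0 = 0
  N_ne : ∀ a, a ≠ 0 → N a ≠ 0
  β_ne : ∀ u, u ≠ 0 → β u ≠ 0
  N_neg_one : N (-1) = -1
  β_neg_one : β (-1) = -1
  IJx : ∀ a u, a ≠ 0 → I.h a * J.x u * (I.h a)⁻¹ = J.x ((N a)⁻¹ * u)
  IJy : ∀ a u, a ≠ 0 → I.h a * J.y u * (I.h a)⁻¹ = J.y (N a * u)
  JIx : ∀ u a, u ≠ 0 → J.h u * I.x a * (J.h u)⁻¹ = I.x ((β u)⁻¹ * a)
  JIy : ∀ u a, u ≠ 0 → J.h u * I.y a * (J.h u)⁻¹ = I.y (β u * a)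

namespace HexPre

variable {G : Type*} [Group G] {F K : Type*} [Field F] [Field K] (D : HexPre G F K)

/-- root elements -/
def x1 (a : K) : G := D.I.x a
def y1 (a : K) : G := D.I.y a
def x6 (u : F) : G := D.J.x u
def y6 (u : F) : G := D.J.y u
def x2 (u : F) : G := MulAut.conj D.I.n (D.x6 u)
def x4 (u : F) : G := MulAut.conj D.J.n (D.x2 u)
def x5 (a : K) : G := MulAut.conj D.J.n (D.x1 a)
def x3 (a : K) : G := MulAut.conj D.I.n (D.x5 a)

theorem x1_add (a b : K) : D.x1 (a + b) = D.x1 a * D.x1 b := D.I.x_add a b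
theorem y1_add (a b : K) : D.y1 (a + b) = D.y1 a * D.y1 b := D.I.y_add a b
theorem x6_add (a b : F) : D.x6 (a + b) = D.x6 a * D.x6 b := D.J.x_add a b
theorem y6_add (a b : F) : D.y6 (a + b) = D.y6 a * D.y6 b := D.J.y_add a b
theorem x2_add (a b : F) : D.x2 (a + b) = D.x2 a * D.x2 b := by
  simp only [x2, x6_add, map_mul]
theorem x4_add (a b : F) : D.x4 (a + b) = D.x4 a * D.x4 b := by
  simp only [x4, x2_add, map_mul]
theorem x5_add (a b : K) : D.x5 (a + b) = D.x5 a * D.x5 b := by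
  simp only [x5, x1_add, map_mul]
theorem x3_add (a b : K) : D.x3 (a + b) = D.x3 a * D.x3 b := by
  simp only [x3, x5_add, map_mul]

theorem x1_zero : D.x1 0 = 1 := D.I.x_zero
theorem y1_zero : D.y1 0 = 1 := D.I.y_zero
theorem x6_zero : D.x6 0 = 1 := D.J.x_zero
theorem y6_zero : D.y6 0 = 1 := D.J.y_zero
theorem x2_zero : D.x2 0 = 1 := by simp only [x2, x6_zero, map_one]
theorem x4_zero : D.x4 0 = 1 := by simp only [x4, x2_zero, map_one]
theorem x5_zero : D.x5 0 = 1 := by simp only [x5, x1_zero, map_one]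
theorem x3_zero : D.x3 0 = 1 := by simp only [x3, x5_zero, map_one]

theorem x1_neg (a : K) : D.x1 (-a) = (D.x1 a)⁻¹ := D.I.x_neg a
theorem y1_neg (a : K) : D.y1 (-a) = (D.y1 a)⁻¹ := D.I.y_neg a
theorem x6_neg (a : F) : D.x6 (-a) = (D.x6 a)⁻¹ := D.J.x_neg a
theorem y6_neg (a : F) : D.y6 (-a) = (D.y6 a)⁻¹ := D.J.y_neg a
theorem x2_neg (a : F) : D.x2 (-a) = (D.x2 a)⁻¹ := by simp only [x2, x6_neg, map_inv]
theorem x4_neg (a : F) : D.x4 (-a) = (D.x4 a)⁻¹ := by simp only [x4, x2_neg, map_inv]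
theorem x5_neg (a : K) : D.x5 (-a) = (D.x5 a)⁻¹ := by simp only [x5, x1_neg, map_inv]
theorem x3_neg (a : K) : D.x3 (-a) = (D.x3 a)⁻¹ := by simp only [x3, x5_neg, map_inv]

/-- the elements -/
abbrev nI : G := D.I.n
abbrev nJ : G := D.J.n
abbrev hI (a : K) : G := D.I.h a
abbrev hJ (u : F) : G := D.J.h u

theorem conj_mul_apply (g h x : G) : MulAut.conj (g * h) x = MulAut.conj g (MulAut.conj h x) := by
  rw [map_mul]; rfl

theorem hI_x1 {a : K} (ha : a ≠ 0) (b : K) : MulAut.conj (D.hI a) (D.x1 b) = D.x1 (a * a * b) := D.I.hx a b ha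
theorem hI_x6 {a : K} (ha : a ≠ 0) (u : F) : MulAut.conj (D.hI a) (D.x6 u) = D.x6 ((D.N a)⁻¹ * u) := D.IJx a u ha
theorem hI_y6 {a : K} (ha : a ≠ 0) (u : F) : MulAut.conj (D.hI a) (D.y6 u) = D.y6 (D.N a * u) := D.IJy a u ha
theorem hJ_x6 {u : F} (hu : u ≠ 0) (v : F) : MulAut.conj (D.hJ u) (D.x6 v) = D.x6 (u * u * v) := D.J.hx u v hu
theorem hJ_x1 {u : F} (hu : u ≠ 0) (a : K) : MulAut.conj (D.hJ u) (D.x1 a) = D.x1 ((D.β u)⁻¹ * a) := D.JIx u a hu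
theorem hJ_y1 {u : F} (hu : u ≠ 0) (a : K) : MulAut.conj (D.hJ u) (D.y1 a) = D.y1 (D.β u * a) := D.JIy u a hu

theorem conj_inv_of {g x y : G} (h : MulAut.conj g x = y) : MulAut.conj g⁻¹ y = x := by
  rw [← h, map_inv, MulAut.inv_apply_self]

theorem hI_inv_x6 {a : K} (ha : a ≠ 0) (u : F) : MulAut.conj (D.hI a)⁻¹ (D.x6 u) = D.x6 (D.N a * u) := by
  apply conj_inv_of
  rw [D.hI_x6 ha, ← mul_assoc, inv_mul_cancel₀ (D.N_ne a ha), one_mul]

theorem hJ_inv_x1 {u : F} (hu : u ≠ 0) (a : K) : MulAut.conj (D.hJ u)⁻¹ (D.x1 a) = D.x1 (D.β u * a) := by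
  apply conj_inv_of
  rw [D.hJ_x1 hu, ← mul_assoc, inv_mul_cancel₀ (D.β_ne u hu), one_mul]

/-- `hI a` on `nJ` -/
theorem hI_nJ {a : K} (ha : a ≠ 0) : MulAut.conj (D.hI a) D.nJ = D.hJ (D.N a)⁻¹ * D.nJ := by
  have h0 : (D.N a)⁻¹ ≠ 0 := inv_ne_zero (D.N_ne a ha)
  rw [nJ, D.J.n_eq, map_mul, map_mul]
  have e1 : MulAut.conj (D.hI a) (D.J.x 1) = D.J.x (D.N a)⁻¹ := by
    have := D.hI_x6 ha 1
    rwa [mul_one] at this
  have e2 : MulAut.conj (D.hI a) (D.J.y (-1)) = D.J.y (-((D.N a)⁻¹)⁻¹) := by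
    have := D.hI_y6 ha (-1)
    rw [mul_neg_one] at this
    rw [inv_inv]
    exact this
  rw [e1, e2, D.J.xyx _ h0, ← D.J.n_eq]

/-- `hJ u` on `nI` -/
theorem hJ_nI {u : F} (hu : u ≠ 0) : MulAut.conj (D.hJ u) D.nI = D.hI (D.β u)⁻¹ * D.nI := by
  have h0 : (D.β u)⁻¹ ≠ 0 := inv_ne_zero (D.β_ne u hu)
  rw [nI, D.I.n_eq, map_mul, map_mul]
  have e1 : MulAut.conj (D.hJ u) (D.I.x 1) = D.I.x (D.β u)⁻¹ := by
    have := D.hJ_x1 hu 1
    rwa [mul_one] at this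
  have e2 : MulAut.conj (D.hJ u) (D.I.y (-1)) = D.I.y (-((D.β u)⁻¹)⁻¹) := by
    have := D.hJ_y1 hu (-1)
    rw [mul_neg_one] at this
    rw [inv_inv]
    exact this
  rw [e1, e2, D.I.xyx _ h0, ← D.I.n_eq]

/-- conjugation of a conjugate -/
theorem conj_conj (g n x : G) : MulAut.conj g (MulAut.conj n x) = MulAut.conj (MulAut.conj g n) (MulAut.conj g x) := by
  simp only [MulAut.conj_apply]; group

/-! ### weights -/

theorem hI_x2 {a : K} (ha : a ≠ 0) (u : F) : MulAut.conj (D.hI a) (D.x2 u) = D.x2 (D.N a * u) := by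
  have h := D.I.hn ha
  have e : D.hI a * D.nI = D.nI * (D.hI a)⁻¹ := by
    have := D.I.hn (inv_ne_zero ha)
    rw [D.I.h_inv ha, inv_inv] at this
    exact this
  rw [x2, ← conj_mul_apply, show D.hI a * D.I.n = D.I.n * (D.hI a)⁻¹ from e, conj_mul_apply, D.hI_inv_x6 ha]
  rfl

theorem hJ_x5 {u : F} (hu : u ≠ 0) (a : K) : MulAut.conj (D.hJ u) (D.x5 a) = D.x5 (D.β u * a) := by
  have e : D.hJ u * D.J.n = D.J.n * (D.hJ u)⁻¹ := by
    have := D.J.hn (inv_ne_zero hu)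
    rw [D.J.h_inv hu, inv_inv] at this
    exact this
  rw [x5, ← conj_mul_apply, e, conj_mul_apply, D.hJ_inv_x1 hu]
  rfl

theorem hI_x5 {a : K} (ha : a ≠ 0) (b : K) :
    MulAut.conj (D.hI a) (D.x5 b) = D.x5 (D.β (D.N a)⁻¹ * (a * a * b)) := by
  have h0 : (D.N a)⁻¹ ≠ 0 := inv_ne_zero (D.N_ne a ha)
  rw [x5, conj_conj, D.hI_x1 ha, show D.J.n = D.nJ from rfl, D.hI_nJ ha, conj_mul_apply]
  exact D.hJ_x5 h0 _

theorem hJ_x2 {u : F} (hu : u ≠ 0) (v : F) :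
    MulAut.conj (D.hJ u) (D.x2 v) = D.x2 (D.N (D.β u)⁻¹ * (u * u * v)) := by
  have h0 : (D.β u)⁻¹ ≠ 0 := inv_ne_zero (D.β_ne u hu)
  rw [x2, conj_conj, D.hJ_x6 hu, show D.I.n = D.nI from rfl, D.hJ_nI hu, conj_mul_apply]
  exact D.hI_x2 h0 _

theorem neg_one_ne : (-1 : K) ≠ 0 := neg_ne_zero.2 one_ne_zero

theorem inv_neg_one' {E : Type*} [Field E] : (-1 : E)⁻¹ = -1 := by norm_num

/-! ### the action of `nI`, `nJ` -/

theorem nI_x1 (a : K) : MulAut.conj D.nI (D.x1 a) = D.y1 (-a) := D.I.nx a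
theorem nI_y1 (a : K) : MulAut.conj D.nI (D.y1 a) = D.x1 (-a) := D.I.ny a
theorem nI_x6 (u : F) : MulAut.conj D.nI (D.x6 u) = D.x2 u := rfl
theorem nI_x2 (u : F) : MulAut.conj D.nI (D.x2 u) = D.x6 (-u) := by
  rw [x2, ← conj_mul_apply, show D.nI * D.I.n = D.hI (-1) from D.I.nn, D.hI_x6 neg_one_ne, D.N_neg_one, inv_neg_one',
    neg_one_mul]
theorem nI_x5 (a : K) : MulAut.conj D.nI (D.x5 a) = D.x3 a := rfl
theorem nI_x3 (a : K) : MulAut.conj D.nI (D.x3 a) = D.x5 (-a) := by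
  rw [x3, ← conj_mul_apply, show D.nI * D.I.n = D.hI (-1) from D.I.nn, D.hI_x5 neg_one_ne, D.N_neg_one, inv_neg_one',
    D.β_neg_one]
  congr 1
  ring

theorem nJ_x6 (a : F) : MulAut.conj D.nJ (D.x6 a) = D.y6 (-a) := D.J.nx a
theorem nJ_y6 (a : F) : MulAut.conj D.nJ (D.y6 a) = D.x6 (-a) := D.J.ny a
theorem nJ_x1 (a : K) : MulAut.conj D.nJ (D.x1 a) = D.x5 a := rfl
theorem nJ_x5 (a : K) : MulAut.conj D.nJ (D.x5 a) = D.x1 (-a) := by
  rw [x5, ← conj_mul_apply, show D.nJ * D.J.n = D.hJ (-1) from D.J.nn, D.hJ_x1 (neg_ne_zero.2 one_ne_zero), D.β_neg_one,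
    inv_neg_one', neg_one_mul]
theorem nJ_x2 (u : F) : MulAut.conj D.nJ (D.x2 u) = D.x4 u := rfl
theorem nJ_x4 (u : F) : MulAut.conj D.nJ (D.x4 u) = D.x2 (-u) := by
  rw [x4, ← conj_mul_apply, show D.nJ * D.J.n = D.hJ (-1) from D.J.nn, D.hJ_x2 (neg_ne_zero.2 one_ne_zero), D.β_neg_one,
    inv_neg_one', D.N_neg_one]
  congr 1
  ring

theorem hJ_x4 {u : F} (hu : u ≠ 0) (v : F) :
    MulAut.conj (D.hJ u) (D.x4 v) = D.x4 ((D.N (D.β u)⁻¹)⁻¹ * ((u * u)⁻¹ * v)) := by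
  have h0 : (D.β u)⁻¹ ≠ 0 := inv_ne_zero (D.β_ne u hu)
  have e : D.hJ u * D.J.n = D.J.n * (D.hJ u)⁻¹ := by
    have := D.J.hn (inv_ne_zero hu)
    rw [D.J.h_inv hu, inv_inv] at this
    exact this
  have h1 : MulAut.conj (D.hJ u)⁻¹ (D.x2 v) = D.x2 ((D.N (D.β u)⁻¹)⁻¹ * ((u * u)⁻¹ * v)) := by
    apply conj_inv_of
    rw [D.hJ_x2 hu]
    congr 1
    have h2 := D.N_ne _ h0
    generalize D.N (D.β u)⁻¹ = c at h2 ⊢
    field_simp
  rw [x4, ← conj_mul_apply, e, conj_mul_apply, h1]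
  rfl

end HexPre

end Cfsg.Agent.GTwoOdd.Hex
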