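import Mathlib

/-!
# Multiplicative quadratic maps on finite fields, and cubic norms
-/

set_option autoImplicit false

namespace Cfsg.Agent.GTwoOdd.HexField

open Module

/-- an additive map with the trace identity contains a field automorphism -/
theorem exists_alg {F K : Type*} [Field F] [Field K] [Algebra F K] [FiniteDimensional F K] [IsGalois F K]
    (two : (2 : K) ≠ 0) (sh : K → K) (s : K →ₗ[F] K) (h1 : s 1 = 2)
    (hs : ∀ a b, s (a * (b * b)) = s b * s (a * b) - sh b * s a) :
    ∃ σ : K →ₐ[F] K, ∀ b, σ b * σ b - s b * σ b + sh b = 0 := by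
  classical
  have li := linearIndependent_toLinearMap F K K
  have hcard : Fintype.card (K →ₐ[F] K) = finrank K (K →ₗ[F] K) := by
    rw [Module.finrank_linearMap_self, ← IsGalois.card_aut_eq_finrank F K, ← Nat.card_eq_fintype_card]
    exact Nat.card_congr (algEquivEquivAlgHom F K).symm.toEquiv
  have hspan := li.span_eq_top_of_card_eq_finrank' hcard
  obtain ⟨c, hc⟩ := (Submodule.mem_span_range_iff_exists_fun K).1 (hspan ▸ Submodule.mem_top (x := s))
  have hs' : ∀ a, s a = ∑ σ : K →ₐ[F] K, c σ * σ a := by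
    intro a
    conv_lhs => rw [← hc]
    simp [LinearMap.sum_apply]
  have hne : ∃ σ, c σ ≠ 0 := by
    by_contra hcon
    push Not at hcon
    apply two
    rw [← h1, hs' 1]
    exact Finset.sum_eq_zero fun σ _ => by rw [hcon, zero_mul]
  obtain ⟨σ, hσ⟩ := hne
  refine ⟨σ, fun b => ?_⟩
  have key : ∑ τ : K →ₐ[F] K, (c τ * (τ b * τ b - s b * τ b + sh b)) • AlgHom.toLinearMap τ = 0 := by
    ext a
    have h := hs a b
    rw [hs' (a * (b * b)), hs' (a * b), hs' a, Finset.mul_sum, Finset.mul_sum] at h
    rw [LinearMap.sum_apply, LinearMap.zero_apply]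
    have : ∀ τ : K →ₐ[F] K, ((c τ * (τ b * τ b - s b * τ b + sh b)) • AlgHom.toLinearMap τ) a =
        c τ * τ (a * (b * b)) - s b * (c τ * τ (a * b)) + sh b * (c τ * τ a) := by
      intro τ
      simp only [LinearMap.smul_apply, AlgHom.toLinearMap_apply, smul_eq_mul, map_mul]
      ring
    rw [Finset.sum_congr rfl fun τ _ => this τ, Finset.sum_add_distrib, Finset.sum_sub_distrib, h]
    ring
  have h2 := Fintype.linearIndependent_iff.1 li _ key σ
  rcases mul_eq_zero.1 h2 with h3 | h3
  · exact absurd h3 hσ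
  · exact h3

/-- two ring homomorphisms covering a third -/
theorem eq_or_eq {K : Type*} [Field K] (α β γ : K →+* K) (h : ∀ a, α a = β a ∨ α a = γ a) : α = β ∨ α = γ := by
  by_contra hcon
  push Not at hcon
  obtain ⟨h1, h2⟩ := hcon
  obtain ⟨a, ha⟩ : ∃ a, α a ≠ β a := by
    by_contra h3
    push Not at h3
    exact h1 (RingHom.ext h3)
  obtain ⟨b, hb⟩ : ∃ b, α b ≠ γ b := by
    by_contra h3
    push Not at h3
    exact h2 (RingHom.ext h3)
  have h3 : α a = γ a := (h a).resolve_left ha
  have h4 : α b = β b := (h b).resolve_right hb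
  rcases h (a + b) with h5 | h5
  · rw [map_add, map_add, h4] at h5
    exact ha (add_right_cancel h5)
  · rw [map_add, map_add, h3] at h5
    exact hb (add_left_cancel h5)

/-- The structure of a cubic norm over a field embedding -/
structure Cubic (F K : Type*) [Field F] [Field K] where
  β : F →+* K
  N : K → F
  T : K → K → F
  sh : K → K
  cr : K → K → K
  two : (2 : K) ≠ 0
  N_mul : ∀ a b, N (a * b) = N a * N b
  N_one : N 1 = 1
  N_zero : N 0 = 0
  N_β : ∀ u, N (β u) = u * u * u
  N_ne : ∀ a, a ≠ 0 → N a ≠ 0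
  N_neg : ∀ a, N (-a) = -N a
  sh_def : ∀ a, sh a = β (N a) * a⁻¹
  sh_add : ∀ a b, sh (a + b) = sh a + sh b + cr a b
  cr_add_right : ∀ a b c, cr a (b + c) = cr a b + cr a c
  cr_smul_left : ∀ u a b, cr (β u * a) b = β u * cr a b
  cr_comm : ∀ a b, cr a b = cr b a
  N_add : ∀ a b, N (a + b) = N a + N b + T a (sh b) + T b (sh a)
  T_smul_right : ∀ u a b, T a (β u * b) = u * T a b
  T_neg_left : ∀ a b, T (-a) b = -T a b
  T_zero_right : ∀ a, T a 0 = 0

namespace Cubic

variable {F K : Type*} [Field F] [Field K] (C : Cubic F K)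

theorem β_inj : Function.Injective C.β := C.β.injective

theorem sh_mul (a b : K) : C.sh (a * b) = C.sh a * C.sh b := by
  rw [C.sh_def, C.sh_def, C.sh_def, C.N_mul, map_mul, mul_inv]
  ring

theorem sh_one : C.sh 1 = 1 := by
  rw [C.sh_def, C.N_one, map_one, inv_one, one_mul]

theorem sh_ne {a : K} (ha : a ≠ 0) : C.sh a ≠ 0 := by
  rw [C.sh_def]
  apply mul_ne_zero _ (inv_ne_zero ha)
  rw [Ne, map_eq_zero]
  exact C.N_ne a ha

theorem mul_sh {a : K} (ha : a ≠ 0) : a * C.sh a = C.β (C.N a) := by
  rw [C.sh_def]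
  field_simp

theorem cr_mul (c a b : K) : C.cr (c * a) (c * b) = C.sh c * C.cr a b := by
  have h1 := C.sh_add (c * a) (c * b)
  have h2 := C.sh_add a b
  rw [← mul_add, C.sh_mul, C.sh_mul, C.sh_mul] at h1
  linear_combination -h1 + C.sh c * h2

/-- the trace of `sh` -/
def s (a : K) : K := C.cr 1 a

theorem cr_add_left (a b c : K) : C.cr (a + b) c = C.cr a c + C.cr b c := by
  rw [C.cr_comm, C.cr_add_right, C.cr_comm c a, C.cr_comm c b]

theorem s_add (a b : K) : C.s (a + b) = C.s a + C.s b := C.cr_add_right _ _ _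

theorem s_smul (u : F) (a : K) : C.s (C.β u * a) = C.β u * C.s a := by
  rw [s, s, C.cr_comm, C.cr_smul_left, C.cr_comm]

theorem sh_β (u : F) : C.sh (C.β u) = C.β u * C.β u := by
  by_cases hu : u = 0
  · rw [hu, map_zero, C.sh_def, C.N_zero, map_zero, zero_mul, zero_mul]
  have : C.β u ≠ 0 := by rwa [Ne, map_eq_zero]
  rw [C.sh_def, C.N_β, map_mul, map_mul]
  field_simp

theorem s_one : C.s 1 = 2 := by
  have h := C.sh_add 1 1
  have h2 : (1 : K) + 1 = C.β 2 := by
    rw [one_add_one_eq_two, map_ofNat]
  rw [h2, C.sh_β, C.sh_one, map_ofNat] at h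
  have : C.s 1 = C.cr 1 1 := rfl
  rw [this]
  linear_combination -h

theorem cr_eq (a b : K) : C.cr a b = C.s a * C.s b - C.s (a * b) := by
  have h1 := C.sh_mul (1 + a) (1 + b)
  have h2 := C.sh_add 1 a
  have h3 := C.sh_add 1 b
  have e : (1 + a) * (1 + b) = 1 + (a + b + a * b) := by ring
  have h4 := C.sh_add 1 (a + b + a * b)
  have h5 := C.sh_add (a + b) (a * b)
  have h6 := C.sh_add a b
  have h7 := C.sh_mul a b
  have h8 : C.cr (a + b) (a * b) = C.sh a * C.cr 1 b + C.sh b * C.cr 1 a := by
    rw [C.cr_add_left]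
    congr 1
    · have := C.cr_mul a 1 b
      rwa [mul_one] at this
    · have := C.cr_mul b 1 a
      rwa [mul_one, mul_comm b a] at this
  have h9 : C.cr 1 (a + b + a * b) = C.cr 1 a + C.cr 1 b + C.cr 1 (a * b) := by
    rw [C.cr_add_right, C.cr_add_right]
  rw [e, h4, h5, h6, h7, h8, h9, h2, h3, C.sh_one] at h1
  simp only [s]
  linear_combination h1

theorem s_rel (a b : K) : C.s (a * (b * b)) = C.s b * C.s (a * b) - C.sh b * C.s a := by
  have h1 := C.cr_mul b a 1
  rw [mul_one, C.cr_eq, C.cr_comm a 1] at h1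
  have e : b * a * b = a * (b * b) := by ring
  rw [e, mul_comm b a] at h1
  have : C.cr 1 a = C.s a := rfl
  rw [this] at h1
  linear_combination -h1

theorem two_sh (b : K) : 2 * C.sh b = C.s b * C.s b - C.s (b * b) := by
  have h := C.s_rel 1 b
  rw [one_mul, one_mul, C.s_one] at h
  linear_combination h

/-- `sh` is a product of two automorphisms -/
theorem exists_pair [Finite K] : ∃ σ τ : K →+* K, (∀ u, σ (C.β u) = C.β u) ∧ (∀ u, τ (C.β u) = C.β u) ∧
    (∀ a, C.sh a = σ a * τ a) ∧ ∀ a, C.s a = σ a + τ a := by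
  have : Finite F := Finite.of_injective C.β C.β_inj
  let _ := C.β.toAlgebra
  have hfd : FiniteDimensional F K := inferInstance
  have hsmul : ∀ (u : F) (a : K), u • a = C.β u * a := fun u a => rfl
  let sl : K →ₗ[F] K :=
    { toFun := C.s
      map_add' := C.s_add
      map_smul' := fun u a => by
        rw [hsmul, C.s_smul]
        rfl }
  obtain ⟨σ, hσ⟩ := exists_alg C.two C.sh sl C.s_one C.s_rel
  have hσ' : ∀ b, C.sh b = σ b * (C.s b - σ b) := fun b => by
    have : σ b * σ b - C.s b * σ b + C.sh b = 0 := hσ b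
    linear_combination this
  have hmul : ∀ a b, C.s (a * b) - σ (a * b) = (C.s a - σ a) * (C.s b - σ b) := by
    intro a b
    by_cases ha : a = 0
    · rw [ha, zero_mul, map_zero, sub_zero]
      have : C.s 0 = 0 := by
        have := C.s_add 0 0
        rw [add_zero] at this
        linear_combination -this
      rw [this, zero_mul]
    by_cases hb : b = 0
    · rw [hb, mul_zero, map_zero, sub_zero]
      have : C.s 0 = 0 := by
        have := C.s_add 0 0
        rw [add_zero] at this
        linear_combination -this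
      rw [this, mul_zero]
    have h1 := C.sh_mul a b
    rw [hσ' (a * b), hσ' a, hσ' b, map_mul] at h1
    have hsa : σ a ≠ 0 := by rwa [Ne, map_eq_zero]
    have hsb : σ b ≠ 0 := by rwa [Ne, map_eq_zero]
    apply mul_left_cancel₀ (mul_ne_zero hsa hsb)
    rw [map_mul, h1]
    ring
  let τ : K →+* K :=
    { toFun := fun b => C.s b - σ b
      map_one' := by
        rw [C.s_one, map_one]; ring
      map_mul' := hmul
      map_zero' := by
        have : C.s 0 = 0 := by
          have := C.s_add 0 0
          rw [add_zero] at this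
          linear_combination -this
        rw [this, map_zero, sub_zero]
      map_add' := fun a b => by
        rw [C.s_add, map_add]; ring }
  have hσβ : ∀ u, σ (C.β u) = C.β u := fun u => σ.commutes u
  refine ⟨σ.toRingHom, τ, hσβ, ?_, fun a => hσ' a, fun a => ?_⟩
  · intro u
    have h1 : τ (C.β u) = C.s (C.β u) - σ (C.β u) := rfl
    have h2 := C.s_smul u 1
    rw [mul_one] at h2
    rw [h1, h2, C.s_one, hσβ]
    ring
  · have h1 : τ a = C.s a - σ a := rfl
    rw [h1]
    have h2 : σ.toRingHom a = σ a := rfl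
    rw [h2]
    ring

/-- the main result: `N` is the norm of a cubic (or trivial) extension -/
theorem exists_auto [Finite K] : ∃ φ : K ≃+* K, (∀ u, φ (C.β u) = C.β u) ∧ (∀ t, φ (φ (φ t)) = t) ∧
    (∀ t, φ t = t → ∃ u, C.β u = t) ∧ (∀ a, C.sh a = φ a * φ (φ a)) ∧
    (∀ a, C.β (C.N a) = a * φ a * φ (φ a)) ∧
    (∀ a b, C.β (C.T a b) = a * b + φ (a * b) + φ (φ (a * b))) ∧
    ∀ a b, C.cr a b = φ a * φ (φ b) + φ (φ a) * φ b := by
  obtain ⟨σ, τ, hσ, hτ, hsh, hs⟩ := C.exists_pair
  have hN : ∀ a, C.β (C.N a) = a * (σ a * τ a) := by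
    intro a
    by_cases ha : a = 0
    · rw [ha, C.N_zero, map_zero, zero_mul]
    rw [← C.mul_sh ha, hsh]
  -- the linear part
  have hT : ∀ a b, C.β (C.T a (C.sh b)) = a * (σ b * τ b) + b * (σ a * τ b + σ b * τ a) := by
    intro a b
    have h1 := congrArg C.β (C.N_add a b)
    have h2 := congrArg C.β (C.N_add (-a) b)
    have e1 : C.T b (C.sh (-a)) = C.T b (C.sh a) := by
      rw [C.sh_def, C.sh_def, C.N_neg, map_neg, inv_neg, neg_mul_neg]
    rw [C.T_neg_left, C.N_neg, e1, map_add, map_add, map_add, map_neg, map_neg, hN, hN, hN] at h2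
    rw [map_add, map_add, map_add, hN, hN, hN] at h1
    simp only [map_add, map_neg] at h1 h2
    apply mul_left_cancel₀ C.two
    linear_combination -h1 + h2
  have htr : ∀ a, C.β (C.T a 1) = a + σ a + τ a := by
    intro a
    have h := hT a 1
    rw [C.sh_one, map_one, map_one] at h
    rw [h]; ring
  -- the automorphisms fix `β F`
  have e1 : ∀ a, σ (σ a) + σ (τ a) = a + τ a := by
    intro a
    have h1 := hσ (C.T a 1)
    rw [htr, map_add, map_add] at h1
    linear_combination h1
  have e2 : ∀ a, σ (σ a) * σ (τ a) = a * τ a := by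
    intro a
    by_cases ha : a = 0
    · rw [ha]; simp
    have h1 := hσ (C.N a)
    rw [hN, map_mul, map_mul] at h1
    have h2 : σ a ≠ 0 := by rwa [Ne, map_eq_zero]
    apply mul_left_cancel₀ h2
    linear_combination h1
  have e3 : ∀ a, τ (σ a) + τ (τ a) = a + σ a := by
    intro a
    have h1 := hτ (C.T a 1)
    rw [htr, map_add, map_add] at h1
    linear_combination h1
  have key : (∀ a, σ (σ (σ a)) = a) ∧ ∀ a, τ a = σ (σ a) := by
    rcases eq_or_eq (σ.comp σ) (RingHom.id K) τ (fun a => by
      have h1 : (σ (σ a) - a) * (σ (σ a) - τ a) = 0 := by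
        have h3 : (σ (σ a) - a) * (σ (σ a) - τ a) = σ (σ a) * σ (σ a) - (a + τ a) * σ (σ a) + a * τ a := by ring
        rw [h3, ← e1 a, ← e2 a]
        ring
      rcases mul_eq_zero.1 h1 with h2 | h2
      · left
        exact sub_eq_zero.1 h2
      · right
        exact sub_eq_zero.1 h2) with h | h
    · -- `σ² = 1`
      have h1 : ∀ a, σ (σ a) = a := fun a => RingHom.congr_fun h a
      have h2 : ∀ a, σ (τ a) = τ a := by
        intro a
        have := e1 a
        rw [h1 a] at this
        exact add_left_cancel this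
      have hsurj : Function.Surjective τ := Finite.surjective_of_injective τ.injective
      have h3 : ∀ a, σ a = a := by
        intro a
        obtain ⟨b, rfl⟩ := hsurj a
        exact h2 b
      have h4 : ∀ a, τ (τ a) + τ a = a + a := by
        intro a
        have := e3 a
        rw [h3 a] at this
        rw [← this]; ring
      have h5 : ∀ a, τ a = a := by
        rcases eq_or_eq (τ.comp τ) (RingHom.id K) (RingHom.id K) (fun a => by
          have h6 := h4 a
          have h7 := h4 (a * a)
          simp only [map_mul] at h7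
          have h8 : (τ (τ a) - a) * (τ (τ a) - a) = 0 := by
            have h9 : τ a = a + a - τ (τ a) := by rw [← h6]; ring
            rw [h9, ← h9] at h7
            have h10 : τ (τ a) * τ (τ a) + (a + a - τ (τ a)) * (a + a - τ (τ a)) = a * a + a * a := by
              rw [← h9]; exact h7
            apply mul_left_cancel₀ C.two
            linear_combination h10
          left
          exact sub_eq_zero.1 (mul_self_eq_zero.1 h8)) with h6 | h6 <;>
        · intro a
          have h7 : τ (τ a) = a := RingHom.congr_fun h6 a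
          have h8 := h4 a
          rw [h7] at h8
          exact add_left_cancel h8
      exact ⟨fun a => by rw [h3, h3, h3], fun a => by rw [h5, h3, h3]⟩
    · have h1 : ∀ a, σ (σ a) = τ a := fun a => RingHom.congr_fun h a
      refine ⟨fun a => ?_, fun a => (h1 a).symm⟩
      have := e1 a
      rw [h1 a, add_comm] at this
      have h2 := add_right_cancel this
      rw [← h1] at h2
      exact h2
  obtain ⟨k1, k2⟩ := key
  have hbij : Function.Bijective σ := ⟨σ.injective, Finite.surjective_of_injective σ.injective⟩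
  let φ := RingEquiv.ofBijective σ hbij
  have hφ : ∀ a, φ a = σ a := fun a => rfl
  refine ⟨φ, hσ, ?_, ?_, ?_, ?_, ?_, ?_⟩
  · intro t
    simp only [hφ]
    exact k1 t
  · intro t ht
    rw [hφ] at ht
    have h1 := htr t
    have h2 := hN t
    rw [k2, ht, ht] at h1 h2
    by_cases h3 : (3 : K) = 0
    · -- characteristic 3
      have : Finite F := Finite.of_injective C.β C.β_inj
      have h3' : (3 : F) = 0 := by
        apply C.β_inj
        rw [map_ofNat, map_zero, h3]
      have : CharP F 3 := (CharP.charP_iff_prime_eq_zero (by norm_num)).2 (by exact_mod_cast h3')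
      obtain ⟨v, hv⟩ := (Finite.surjective_of_injective (frobenius F 3).injective) (C.N t)
      have h4 : v ^ 3 = C.N t := hv
      refine ⟨v, ?_⟩
      have : CharP K 3 := (CharP.charP_iff_prime_eq_zero (by norm_num)).2 (by exact_mod_cast h3)
      apply (frobenius K 3).injective
      rw [frobenius_def, frobenius_def, ← map_pow, h4, h2]
      ring
    · refine ⟨C.T t 1 / 3, ?_⟩
      rw [map_div₀, h1, map_ofNat]
      field_simp
      ring
  · intro a
    rw [hφ, hφ, hsh, k2]
  · intro a
    rw [hφ, hφ, hN, k2]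
    ring
  · -- the trace form
    intro a c
    by_cases hc : c = 0
    · rw [hc, C.T_zero_right, mul_zero, map_zero, map_zero, map_zero, add_zero, add_zero]
    have h1 := hT a c⁻¹
    have h2 : c = C.β (C.N c) * C.sh c⁻¹ := by
      rw [C.sh_def, inv_inv, ← mul_assoc, ← map_mul, ← C.N_mul, mul_inv_cancel₀ hc, C.N_one, map_one, one_mul]
    have h3 : C.T a c = C.N c * C.T a (C.sh c⁻¹) := by
      conv_lhs => rw [h2]
      rw [C.T_smul_right]
    have hsc : σ c ≠ 0 := by rwa [Ne, map_eq_zero]
    have hssc : σ (σ c) ≠ 0 := by rwa [Ne, map_eq_zero]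
    rw [h3, map_mul, h1, hN, k2, k2, k2, map_inv₀, map_inv₀, hφ, hφ, map_mul, map_mul]
    field_simp
    ring
  · intro a b
    have h1 := C.sh_add a b
    rw [hsh, hsh, hsh, k2, k2, k2, map_add, map_add] at h1
    simp only [hφ]
    linear_combination -h1

end Cubic

end Cfsg.Agent.GTwoOdd.HexField
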