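import Cfsg.Agent.GTwoOdd.HexRTwo
import Cfsg.Agent.GTwoOdd.HexField
import Cfsg.Agent.Hexagon.RootIdent

/-!
# From `HexDat` to `HexRoot`
-/

set_option autoImplicit false

namespace Cfsg.Agent.GTwoOdd.HexIdent

open Cfsg.Agent.GTwoOdd.Hex
open Cfsg.Agent.GTwoOdd.HexField
open Cfsg.Agent.Hexagon.Pos
open Cfsg.Agent.Hexagon.RootIdent
open Cfsg.Agent.Hex.Defs (sh cr nm tr)
open scoped commutatorElement

/-! ### change of the fields -/

/-- reparametrisation -/
def comapOne {G : Type*} [Group G] {E E' : Type*} [Field E] [Field E'] (O : One G E) (f : E' ≃+* E) : One G E' where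
  x a := O.x (f a)
  y a := O.y (f a)
  n := O.n
  h a := O.h (f a)
  x_add a b := by rw [map_add, O.x_add]
  y_add a b := by rw [map_add, O.y_add]
  nx a := by rw [map_neg, O.nx]
  ny a := by rw [map_neg, O.ny]
  nn := by rw [map_neg, map_one, O.nn]
  nh a ha := O.nh _ ((map_ne_zero f).2 ha)
  h_mul a b ha hb := by rw [map_mul, O.h_mul _ _ ((map_ne_zero f).2 ha) ((map_ne_zero f).2 hb)]
  hx a b ha := by rw [map_mul, map_mul, O.hx _ _ ((map_ne_zero f).2 ha)]
  xyx a ha := by rw [map_neg, map_inv₀, O.xyx _ ((map_ne_zero f).2 ha)]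

section comap

variable {G : Type*} [Group G] {F K F' K' : Type*} [Field F] [Field K] [Field F'] [Field K']

/-- reparametrisation -/
def comapPre (D : HexPre G F K) (e : F' ≃+* F) (f : K' ≃+* K) : HexPre G F' K' where
  I := comapOne D.I f
  J := comapOne D.J e
  N a := e.symm (D.N (f a))
  β u := f.symm (D.β (e u))
  N_zero := by rw [map_zero, D.N_zero, map_zero]
  β_zero := by rw [map_zero, D.β_zero, map_zero]
  N_ne a ha := (map_ne_zero e.symm).2 (D.N_ne _ ((map_ne_zero f).2 ha))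
  β_ne a ha := (map_ne_zero f.symm).2 (D.β_ne _ ((map_ne_zero e).2 ha))
  N_neg_one := by rw [map_neg, map_one, D.N_neg_one, map_neg, map_one]
  β_neg_one := by rw [map_neg, map_one, D.β_neg_one, map_neg, map_one]
  IJx a u ha := by
    change D.I.h (f a) * D.J.x (e u) * (D.I.h (f a))⁻¹ = D.J.x (e ((e.symm (D.N (f a)))⁻¹ * u))
    rw [D.IJx _ _ ((map_ne_zero f).2 ha), map_mul, map_inv₀, e.apply_symm_apply]
  IJy a u ha := by
    change D.I.h (f a) * D.J.y (e u) * (D.I.h (f a))⁻¹ = D.J.y (e ((e.symm (D.N (f a))) * u))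
    rw [D.IJy _ _ ((map_ne_zero f).2 ha), map_mul, e.apply_symm_apply]
  JIx u a hu := by
    change D.J.h (e u) * D.I.x (f a) * (D.J.h (e u))⁻¹ = D.I.x (f ((f.symm (D.β (e u)))⁻¹ * a))
    rw [D.JIx _ _ ((map_ne_zero e).2 hu), map_mul, map_inv₀, f.apply_symm_apply]
  JIy u a hu := by
    change D.J.h (e u) * D.I.y (f a) * (D.J.h (e u))⁻¹ = D.I.y (f ((f.symm (D.β (e u))) * a))
    rw [D.JIy _ _ ((map_ne_zero e).2 hu), map_mul, f.apply_symm_apply]

variable (D : HexPre G F K) (e : F' ≃+* F) (f : K' ≃+* K)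

theorem comap_x1 (a : K') : (comapPre D e f).x1 a = D.x1 (f a) := rfl
theorem comap_y1 (a : K') : (comapPre D e f).y1 a = D.y1 (f a) := rfl
theorem comap_x2 (a : F') : (comapPre D e f).x2 a = D.x2 (e a) := rfl
theorem comap_x3 (a : K') : (comapPre D e f).x3 a = D.x3 (f a) := rfl
theorem comap_x4 (a : F') : (comapPre D e f).x4 a = D.x4 (e a) := rfl
theorem comap_x5 (a : K') : (comapPre D e f).x5 a = D.x5 (f a) := rfl
theorem comap_x6 (a : F') : (comapPre D e f).x6 a = D.x6 (e a) := rfl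
theorem comap_y6 (a : F') : (comapPre D e f).y6 a = D.y6 (e a) := rfl

/-- reparametrisation -/
def comapDat (D : HexDat G F K) (e : F' ≃+* F) (f : K' ≃+* K) : HexDat G F' K' where
  toHexPre := comapPre D.toHexPre e f
  two h := D.two (by rw [← map_ofNat e 2, h, map_zero])
  two' h := D.two' (by rw [← map_ofNat f 2, h, map_zero])
  c14 a v := D.c14 _ _
  cy14 a v := D.cy14 _ _
  c36 a v := D.c36 _ _
  cy36 a v := D.cy36 _ _
  c24 u v := D.c24 _ _
  c34 a v := D.c34 _ _
  i13 a b := by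
    obtain ⟨u, h⟩ := D.i13 (f a) (f b)
    exact ⟨e.symm u, by rw [comap_x1, comap_x3, comap_x2, e.apply_symm_apply, h]⟩
  i26 u v := by
    obtain ⟨c, h⟩ := D.i26 (e u) (e v)
    exact ⟨e.symm c, by rw [comap_x6, comap_x2, comap_x4, e.apply_symm_apply, h]⟩
  i15 a b := by
    obtain ⟨A, B, C, h⟩ := D.i15 (f a) (f b)
    exact ⟨e.symm A, f.symm B, e.symm C, by
      rw [comap_x1, comap_x5, comap_x2, comap_x3, comap_x4, e.apply_symm_apply, e.apply_symm_apply,
        f.apply_symm_apply, h]⟩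
  i16 a u := by
    obtain ⟨A, B, C, R, h⟩ := D.i16 (f a) (e u)
    exact ⟨e.symm A, f.symm B, e.symm C, f.symm R, by
      rw [comap_x1, comap_x5, comap_x2, comap_x3, comap_x4, comap_x6, e.apply_symm_apply, e.apply_symm_apply,
        f.apply_symm_apply, f.apply_symm_apply, h]⟩
  uniq a b c d e' f' h := by
    obtain ⟨h1, h2, h3, h4, h5, h6⟩ := D.uniq _ _ _ _ _ _ h
    refine ⟨?_, ?_, ?_, ?_, ?_, ?_⟩
    · exact (map_eq_zero_iff f f.injective).1 h1
    · exact (map_eq_zero_iff e e.injective).1 h2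
    · exact (map_eq_zero_iff f f.injective).1 h3
    · exact (map_eq_zero_iff e e.injective).1 h4
    · exact (map_eq_zero_iff f f.injective).1 h5
    · exact (map_eq_zero_iff e e.injective).1 h6

theorem comapDat_β (D : HexDat G F K) (e : F' ≃+* F) (f : K' ≃+* K) (u : F') :
    (comapDat D e f).β u = f.symm (D.β (e u)) := rfl

end comap

section main

variable {G : Type*} [Group G] {F K : Type*} [Field F] [Field K] (D : HexDat G F K)

/-- the cubic structure -/
noncomputable def cubic : Cubic F K where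
  β := D.βh
  N := D.N
  T := D.T
  sh := D.sh
  cr := D.cr
  two := D.two'
  N_mul := D.N_mul
  N_one := D.N_one
  N_zero := D.N_zero
  N_β := D.N_β
  N_ne := D.N_ne
  N_neg := D.N_neg
  sh_def _ := rfl
  sh_add a b := by rw [HexDat.cr]; ring
  cr_add_right := D.cr_add_right
  cr_smul_left := D.cr_smul_left
  cr_comm := D.cr_comm
  N_add := D.N_add
  T_smul_right := D.T_smul_right
  T_neg_left := D.T_neg_left
  T_zero_right := D.T_zero_right

/-- an automorphism describing the cubic structure -/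
structure Auto (φ : K ≃+* K) : Prop where
  fix : ∀ u, φ (D.β u) = D.β u
  three : ∀ t, φ (φ (φ t)) = t
  fixed : ∀ t, φ t = t → ∃ u, D.β u = t
  sh : ∀ a, D.sh a = φ a * φ (φ a)
  nm : ∀ a, D.β (D.N a) = a * φ a * φ (φ a)
  tr : ∀ a b, D.β (D.T a b) = a * b + φ (a * b) + φ (φ (a * b))
  cr : ∀ a b, D.cr a b = φ a * φ (φ b) + φ (φ a) * φ b

theorem exists_auto [Finite K] : ∃ φ, Auto D φ := by
  obtain ⟨φ, h1, h2, h3, h4, h5, h6, h7⟩ := (cubic D).exists_auto
  exact ⟨φ, h1, h2, h3, h4, h5, h6, h7⟩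

variable {D}

/-- the square of the automorphism -/
theorem Auto.sq {φ : K ≃+* K} (A : Auto D φ) : Auto D (φ.trans φ) where
  fix u := by simp [A.fix]
  three t := by simp [A.three]
  fixed t h := by
    apply A.fixed
    have h1 : φ (φ t) = t := h
    have h2 := A.three t
    rw [h1] at h2
    exact h2
  sh a := by
    rw [A.sh]
    simp [A.three]
    ring
  nm a := by
    rw [A.nm]
    simp [A.three]
    ring
  tr a b := by
    rw [A.tr]
    simp [A.three]
    ring
  cr a b := by
    rw [A.cr]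
    simp [A.three]
    ring

/-- the package of the positive relations -/
def hexPos [Algebra F K] (hβ : ∀ u, D.β u = algebraMap F K u) (φ : K ≃ₐ[F] K) (A : Auto D (φ : K ≃+* K)) :
    HexPos φ G := by
  have inj : Function.Injective (algebraMap F K) := (algebraMap F K).injective
  have hp : Pair φ := ⟨A.three, fun t h => by
    obtain ⟨u, hu⟩ := A.fixed t h
    exact ⟨u, by rw [← hβ, hu]⟩⟩
  have hT : ∀ a b, D.T a b = tr φ (a * b) := fun a b => by
    apply inj
    rw [algebraMap_tr hp, ← hβ]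
    exact A.tr a b
  have hN : ∀ a, D.N a = nm φ a := fun a => by
    apply inj
    rw [algebraMap_nm hp, ← hβ]
    exact A.nm a
  have hsh : ∀ a, D.sh a = sh φ a := A.sh
  have hcr : ∀ a b, D.cr a b = cr φ a b := A.cr
  exact
    { x1 := D.x1
      x2 := D.x2
      x3 := D.x3
      x4 := D.x4
      x5 := D.x5
      x6 := D.x6
      add1 := D.x1_add
      add2 := D.x2_add
      add3 := D.x3_add
      add4 := D.x4_add
      add5 := D.x5_add
      add6 := D.x6_add
      inj1 := fun t h => D.x1_inj (h.trans D.x1_zero.symm)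
      inj2 := fun t h => by
        have h1 : D.nf t 0 0 0 0 * D.x1 0 = 1 := by
          rw [HexDat.nf, h, D.x3_zero, D.x4_zero, D.x5_zero, D.x6_zero, D.x1_zero]
          group
        exact (D.uniq' h1).2.1
      inj3 := fun t h => by
        have h1 : D.nf 0 t 0 0 0 * D.x1 0 = 1 := by
          rw [HexDat.nf, h, D.x2_zero, D.x4_zero, D.x5_zero, D.x6_zero, D.x1_zero]
          group
        exact (D.uniq' h1).2.2.1
      inj4 := fun t h => D.x4_inj (h.trans D.x4_zero.symm)
      inj5 := fun t h => by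
        have h1 : D.nf 0 0 0 t 0 * D.x1 0 = 1 := by
          rw [HexDat.nf, h, D.x2_zero, D.x4_zero, D.x3_zero, D.x6_zero, D.x1_zero]
          group
        exact (D.uniq' h1).2.2.2.2.1
      inj6 := fun t h => D.x6_inj (h.trans D.x6_zero.symm)
      r13 := fun a b => by rw [D.rel13, hT]
      r35 := fun a b => by rw [D.rel35, hT]
      r26 := fun a b => by rw [D.rel26]
      r15 := fun a b => by
        rw [D.rel15, hT, hT, hsh, hsh, hcr, mul_comm b]
      r16 := fun a u => by
        rw [D.rel16, hN, hsh, hβ, Algebra.smul_def, Algebra.smul_def, mul_comm (sh φ a), pow_two]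
      c12 := fun s t => commutatorElement_eq_one_iff_commute.2 (D.c12 s t)
      c14 := fun s t => commutatorElement_eq_one_iff_commute.2 (D.c14 s t)
      c23 := fun s t => commutatorElement_eq_one_iff_commute.2 (D.c23 s t)
      c24 := fun s t => commutatorElement_eq_one_iff_commute.2 (D.c24 s t)
      c25 := fun s t => commutatorElement_eq_one_iff_commute.2 (D.c25 s t)
      c34 := fun s t => commutatorElement_eq_one_iff_commute.2 (D.c34 s t)
      c36 := fun s t => commutatorElement_eq_one_iff_commute.2 (D.c36 s t)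
      c45 := fun s t => commutatorElement_eq_one_iff_commute.2 (D.c45 s t)
      c46 := fun s t => commutatorElement_eq_one_iff_commute.2 (D.c46 s t)
      c56 := fun s t => commutatorElement_eq_one_iff_commute.2 (D.c56 s t) }

end main

/-! ### the two cases -/

theorem frob_cases {F K : Type*} [Field F] [Field K] [Finite K] [Algebra F K] (φ : K ≃ₐ[F] K)
    (three : ∀ t, φ (φ (φ t)) = t) (fixed : ∀ t, φ t = t → ∃ u : F, algebraMap F K u = t) :
    (∀ x, φ x = x) ∨ (Nat.card K = Nat.card F ^ 3 ∧ ((∀ x, φ x = x ^ Nat.card F) ∨ ∀ x, φ (φ x) = x ^ Nat.card F)) := by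
  classical
  by_cases h1 : φ = 1
  · left
    intro x
    rw [h1]; rfl
  right
  have hfin : Finite F := Finite.of_injective _ (algebraMap F K).injective
  have := Fintype.ofFinite F
  have h3 : φ ^ 3 = 1 := by
    ext t
    change φ (φ (φ t)) = t
    exact three t
  have ho : orderOf φ = 3 := by
    have : Fact (Nat.Prime 3) := ⟨by norm_num⟩
    exact orderOf_eq_prime h3 h1
  have hbot : IntermediateField.fixedField (Subgroup.zpowers φ) = ⊥ := by
    rw [eq_bot_iff]
    intro x hx
    have h4 : φ x = x := hx ⟨φ, Subgroup.mem_zpowers φ⟩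
    obtain ⟨u, hu⟩ := fixed x h4
    rw [IntermediateField.mem_bot]
    exact ⟨u, hu⟩
  have htop : Subgroup.zpowers φ = ⊤ := by
    have h4 := IntermediateField.fixingSubgroup_fixedField (Subgroup.zpowers φ)
    rw [hbot, IntermediateField.fixingSubgroup_bot] at h4
    exact h4.symm
  have hcard : Module.finrank F K = 3 := by
    rw [← IsGalois.card_aut_eq_finrank F K, ← ho, ← Nat.card_zpowers, htop, Subgroup.card_top]
  have hK : Nat.card K = Nat.card F ^ 3 := by
    rw [← hcard]
    exact Module.natCard_eq_pow_finrank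
  refine ⟨hK, ?_⟩
  set Fr := FiniteField.frobeniusAlgEquivOfAlgebraic F K with hFr
  have hFo : orderOf Fr = 3 := by rw [hFr, FiniteField.orderOf_frobeniusAlgEquivOfAlgebraic, hcard]
  have hFx : ∀ x, Fr x = x ^ Nat.card F := by
    intro x
    rw [Nat.card_eq_fintype_card]
    rfl
  have hmem : Fr ∈ Subgroup.zpowers φ := by rw [htop]; exact Subgroup.mem_top _
  rw [mem_zpowers_iff_mem_range_orderOf, ho] at hmem
  simp only [Finset.mem_image, Finset.mem_range] at hmem
  obtain ⟨n, hn, h5⟩ := hmem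
  interval_cases n
  · exfalso
    rw [pow_zero] at h5
    rw [← h5, orderOf_one] at hFo
    omega
  · left
    intro x
    rw [← hFx, ← h5, pow_one]
  · right
    intro x
    rw [← hFx, ← h5]
    rfl

/-- the two cases for `HexDat` -/
theorem cases {G : Type*} [Group G] {F K : Type*} [Field F] [Field K] [Finite K] (D : HexDat G F K) :
    (Auto D (RingEquiv.refl K) ∧ Function.Surjective D.β) ∨
      (Nat.card K = Nat.card F ^ 3 ∧ ∃ φ, Auto D φ ∧ ∀ x, φ x = x ^ Nat.card F) := by
  obtain ⟨φ, A⟩ := exists_auto D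
  let _ := D.βh.toAlgebra
  have hβ : ∀ u, algebraMap F K u = D.β u := fun u => rfl
  let ψ : K ≃ₐ[F] K := AlgEquiv.ofRingEquiv (f := φ) (fun u => by rw [hβ]; exact A.fix u)
  have hψ : ∀ x, ψ x = φ x := fun x => rfl
  rcases frob_cases ψ A.three (fun t ht => by
    obtain ⟨u, hu⟩ := A.fixed t ht
    exact ⟨u, hu⟩) with h | ⟨h, h1 | h1⟩
  · left
    have e : φ = RingEquiv.refl K := RingEquiv.ext h
    rw [e] at A
    exact ⟨A, fun t => A.fixed t rfl⟩
  · right
    exact ⟨h, φ, A, h1⟩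
  · right
    exact ⟨h, φ.trans φ, A.sq, h1⟩

/-! ### the root datum -/

/-- the group is generated by the two rank one groups -/
def Gen {G : Type*} [Group G] {F K : Type*} [Field F] [Field K] (D : HexPre G F K) : Prop :=
  Subgroup.closure (Set.range D.x1 ∪ Set.range D.y1 ∪ Set.range D.x6 ∪ Set.range D.y6) = ⊤

section root

variable {G : Type*} [Group G] {F K F' K' : Type*} [Field F] [Field K] [Field F'] [Field K']

theorem Gen.comap {D : HexPre G F K} (h : Gen D) (e : F' ≃+* F) (f : K' ≃+* K) : Gen (comapPre D e f) := by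
  have e1 : Set.range (comapPre D e f).x1 = Set.range D.x1 := f.surjective.range_comp D.x1
  have e2 : Set.range (comapPre D e f).y1 = Set.range D.y1 := f.surjective.range_comp D.y1
  have e3 : Set.range (comapPre D e f).x6 = Set.range D.x6 := e.surjective.range_comp D.x6
  have e4 : Set.range (comapPre D e f).y6 = Set.range D.y6 := e.surjective.range_comp D.y6
  unfold Gen at *
  rw [e1, e2, e3, e4]
  exact h

variable (D : HexDat G F K)

/-- the braid relation -/
abbrev Br (D : HexPre G F K) : Prop := Commute D.nI (D.nJ * D.nI * D.nJ * D.nI⁻¹ * D.nJ⁻¹)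

theorem gen_r2 (hb : Br D.toHexPre) (h : Gen D.toHexPre) : (D.r2 hb).U ⊔ ((D.r2 hb).XI' ⊔ (D.r2 hb).XJ') = ⊤ := by
  rw [eq_top_iff, ← h]
  refine (Subgroup.closure_le _).2 ?_
  rintro _ (((⟨a, rfl⟩ | ⟨a, rfl⟩) | ⟨a, rfl⟩) | ⟨a, rfl⟩)
  · have h1 : D.x1 a ∈ (D.r2 hb).X 1 := ⟨a, rfl⟩
    exact (le_sup_left : (D.r2 hb).U ≤ _) ((D.r2 hb).X_le le_rfl (by norm_num) h1)
  · have h1 : D.y1 a ∈ (D.r2 hb).XI' := ⟨a, rfl⟩
    exact (le_sup_right : _ ≤ (D.r2 hb).U ⊔ _) ((le_sup_left : (D.r2 hb).XI' ≤ _) h1)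
  · have h1 : D.x6 a ∈ (D.r2 hb).X 6 := ⟨a, rfl⟩
    exact (le_sup_left : (D.r2 hb).U ≤ _) ((D.r2 hb).X_le (by norm_num) le_rfl h1)
  · have h1 : D.y6 a ∈ (D.r2 hb).XJ' := ⟨a, rfl⟩
    exact (le_sup_right : _ ≤ (D.r2 hb).U ⊔ _) ((le_sup_right : (D.r2 hb).XJ' ≤ _) h1)

/-- the root datum with its package -/
def hexRoot [Algebra F K] (hβ : ∀ u, D.β u = algebraMap F K u) (φ : K ≃ₐ[F] K) (A : Auto D (φ : K ≃+* K))
    (hb : Br D.toHexPre) (h : Gen D.toHexPre) : HexRoot φ G where
  P := hexPos hβ φ A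
  c := D.r2 hb
  hX := by
    intro k h1 h2
    have hk : k = 1 ∨ k = 2 ∨ k = 3 ∨ k = 4 ∨ k = 5 ∨ k = 6 := by omega
    rcases hk with rfl | rfl | rfl | rfl | rfl | rfl
    · ext x
      rw [(hexPos hβ φ A).mem_X1]
      exact Iff.rfl
    · ext x
      rw [(hexPos hβ φ A).mem_X2]
      exact Iff.rfl
    · ext x
      rw [(hexPos hβ φ A).mem_X3]
      exact Iff.rfl
    · ext x
      rw [(hexPos hβ φ A).mem_X4]
      exact Iff.rfl
    · ext x
      rw [(hexPos hβ φ A).mem_X5]
      exact Iff.rfl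
    · ext x
      rw [(hexPos hβ φ A).mem_X6]
      exact Iff.rfl
  gen := gen_r2 D hb h

end root

/-! ### small types -/

theorem exists_type (F : Type*) [Field F] [Finite F] : ∃ (E : Type) (_ : Field E) (_ : Fintype E), Nonempty (E ≃+* F) := by
  classical
  have := Fintype.ofFinite F
  let e : Fin (Fintype.card F) ≃ F := (Fintype.equivFin F).symm
  exact ⟨Fin (Fintype.card F), e.field, inferInstance, ⟨@Equiv.ringEquiv _ _ e _ _⟩⟩

/-- the outcome: `G₂` -/
def CaseG2 (G : Type*) [Group G] : Prop :=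
  ∃ (E : Type) (_ : Field E) (_ : Fintype E), (2 : E) ≠ 0 ∧ Nonempty (HexRoot (AlgEquiv.refl : E ≃ₐ[E] E) G)

/-- the outcome: `³D₄` -/
def CaseD4 (G : Type*) [Group G] : Prop :=
  ∃ (E K : Type) (_ : Field E) (_ : Field K) (_ : Fintype E) (_ : Fintype K) (_ : Algebra E K) (φ : K ≃ₐ[E] K),
    (2 : K) ≠ 0 ∧ Fintype.card K = Fintype.card E ^ 3 ∧ (∀ x, φ x = x ^ Fintype.card E) ∧ Nonempty (HexRoot φ G)

theorem outcome {G : Type*} [Group G] {F K : Type*} [Field F] [Field K] [Finite F] [Finite K] (D : HexDat G F K)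
    (hb : Br D.toHexPre) (h : Gen D.toHexPre) : CaseG2 G ∨ CaseD4 G := by
  obtain ⟨E, iE, fE, ⟨e⟩⟩ := exists_type F
  obtain ⟨E', iE', fE', ⟨f⟩⟩ := exists_type K
  rcases cases (comapDat D e f) with ⟨A, hs⟩ | ⟨hcard, φ, A, hφ⟩
  · left
    have hbij : Function.Bijective (comapDat D e f).βh := ⟨(comapDat D e f).βh.injective, hs⟩
    let b : E ≃+* E' := RingEquiv.ofBijective (comapDat D e f).βh hbij
    have hb' : ∀ u, b u = (comapDat D e f).β u := fun u => rfl
    set D2 := comapDat D e (b.trans f) with hD2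
    have hβ2 : ∀ u : E, D2.β u = u := by
      intro u
      rw [hD2, comapDat_β]
      apply (b.trans f).injective
      rw [(b.trans f).apply_symm_apply]
      change D.β (e u) = f (b u)
      rw [hb', comapDat_β, f.apply_symm_apply]
    refine ⟨E, iE, fE, D2.two, ?_⟩
    rcases cases D2 with ⟨A2, -⟩ | ⟨hc, -⟩
    · exact ⟨hexRoot D2 hβ2 AlgEquiv.refl A2 hb (h.comap _ _)⟩
    · exfalso
      have h1 : 1 < Nat.card E := Finite.one_lt_card
      have h2 : Nat.card E ^ 1 < Nat.card E ^ 3 := Nat.pow_lt_pow_right h1 (by norm_num)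
      rw [pow_one] at h2
      omega
  · right
    set D1 := comapDat D e f with hD1
    let iA : Algebra E E' := D1.βh.toAlgebra
    have hβ : ∀ u, D1.β u = algebraMap E E' u := fun u => rfl
    let ψ : E' ≃ₐ[E] E' := AlgEquiv.ofRingEquiv (f := φ) (fun u => by rw [← hβ]; exact A.fix u)
    refine ⟨E, E', iE, iE', fE, fE', iA, ψ, D1.two', ?_, ?_, ?_⟩
    · rw [← Nat.card_eq_fintype_card, ← Nat.card_eq_fintype_card, hcard]
    · intro x
      rw [← Nat.card_eq_fintype_card]
      exact hφ x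
    · exact ⟨hexRoot D1 hβ ψ A hb (h.comap _ _)⟩

end Cfsg.Agent.GTwoOdd.HexIdent
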