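import Cfsg.Agent.GTwoOdd.HexFull
import Cfsg.Agent.GTwoOdd.HexIdent

/-!
# The outcome of the recognition from the full group `R₃`
-/

set_option autoImplicit false

namespace Cfsg.Agent.GTwoOdd.HexEnd

open Matrix
open Cfsg.Agent.GTwoOdd.Hex
open Cfsg.Agent.GTwoOdd.LocalSL
open Cfsg.Agent.GTwoOdd.HexFrame
open Cfsg.Agent.GTwoOdd.HexIdent

variable {G : Type*} [Group G] {t : G} {F1 F2 : Type*} [Field F1] [Field F2]
variable [Finite F1] [Finite F2] {L : LocalSL t F1 F2} {s g : G}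

/-- the two rank one groups generate if the root groups do -/
theorem gen_pre (S : L.Split s g) (h : ⨆ m : ℕ, L.XN g m = ⊤) : Gen (pre S) := by
  set D := pre S with hD
  unfold Gen
  set K0 := Subgroup.closure (Set.range D.x1 ∪ Set.range D.y1 ∪ Set.range D.x6 ∪ Set.range D.y6) with hK0
  have a0 : L.XN g 0 ≤ K0 := by
    intro x hx
    obtain ⟨a, rfl⟩ := (mem_x1 S).1 hx
    exact Subgroup.subset_closure (Or.inl (Or.inl (Or.inl ⟨a, rfl⟩)))
  have a6 : L.XN g 6 ≤ K0 := by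
    intro x hx
    obtain ⟨a, rfl⟩ := (mem_y1 S).1 hx
    exact Subgroup.subset_closure (Or.inl (Or.inl (Or.inr ⟨a, rfl⟩)))
  have a5 : L.XN g 5 ≤ K0 := by
    intro x hx
    obtain ⟨a, rfl⟩ := (mem_x6 S).1 hx
    exact Subgroup.subset_closure (Or.inl (Or.inr ⟨a, rfl⟩))
  have a11 : L.XN g 11 ≤ K0 := by
    intro x hx
    obtain ⟨a, rfl⟩ := (mem_y6 S).1 hx
    exact Subgroup.subset_closure (Or.inr ⟨a, rfl⟩)
  have nI : D.nI ∈ K0 := by
    have e : D.nI = D.x1 1 * D.y1 (-1) * D.x1 1 := D.I.n_eq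
    rw [e]
    exact mul_mem (mul_mem (a0 ((mem_x1 S).2 ⟨_, rfl⟩)) (a6 ((mem_y1 S).2 ⟨_, rfl⟩))) (a0 ((mem_x1 S).2 ⟨_, rfl⟩))
  have nJ : D.nJ ∈ K0 := by
    have e : D.nJ = D.x6 1 * D.y6 (-1) * D.x6 1 := D.J.n_eq
    rw [e]
    exact mul_mem (mul_mem (a5 ((mem_x6 S).2 ⟨_, rfl⟩)) (a11 ((mem_y6 S).2 ⟨_, rfl⟩))) (a5 ((mem_x6 S).2 ⟨_, rfl⟩))
  have step : ∀ {n : G} {m k : ℕ}, n ∈ K0 → cjS n (L.XN g m) = L.XN g k → L.XN g m ≤ K0 → L.XN g k ≤ K0 := by
    intro n m k hn h1 h2 x hx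
    obtain ⟨y, hy, rfl⟩ := (mem_cj h1).1 hx
    exact mul_mem (mul_mem hn (h2 hy)) (inv_mem hn)
  have a1 := step nI (nI_XN S (m := 5) (k := 1) (by norm_num)) a5
  have a3 := step nJ (nJ_XN S (m := 1) (k := 3) (by norm_num)) a1
  have a4 := step nJ (nJ_XN S (m := 0) (k := 4) (by norm_num)) a0
  have a2 := step nI (nI_XN S (m := 4) (k := 2) (by norm_num)) a4
  have a7 := step nI (nI_XN S (m := 11) (k := 7) (by norm_num)) a11
  have a10 := step nJ (nJ_XN S (m := 6) (k := 10) (by norm_num)) a6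
  have a8 := step nI (nI_XN S (m := 10) (k := 8) (by norm_num)) a10
  have a9 := step nJ (nJ_XN S (m := 7) (k := 9) (by norm_num)) a7
  rw [eq_top_iff, ← h]
  refine iSup_le fun m => ?_
  have hm : m % 12 < 12 := Nat.mod_lt _ (by norm_num)
  rw [S.XN_eq (m := m) (k := m % 12) (Nat.mod_mod _ _).symm]
  interval_cases m % 12
  · exact a0
  · exact a1
  · exact a2
  · exact a3
  · exact a4
  · exact a5
  · exact a6
  · exact a7
  · exact a8
  · exact a9
  · exact a10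
  · exact a11

/-- **The outcome**: a group generated by the root groups of a split frame with full `R₃` has the positive relations
of `G₂` or `³D₄`. -/
theorem outcome (S : L.Split s g) {R : Subgroup G} (hR : HexFull.Full L g R) (h : ⨆ m : ℕ, L.XN g m = ⊤) :
    CaseG2 G ∨ CaseD4 G :=
  HexIdent.outcome (dat S (HexFull.rels S hR)) (br S) (gen_pre S h)

end Cfsg.Agent.GTwoOdd.HexEnd
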