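import Cfsg.Agent.GTwoOdd.HexCubic
import Cfsg.Agent.TitsThree.RankTwoIdx

/-!
# The root datum of rank two
-/

set_option autoImplicit false
set_option linter.unusedSimpArgs false

namespace Cfsg.Agent.GTwoOdd.Hex

/-- the subgroup of the values of an additive parametrisation -/
def rootSub {G : Type*} [Group G] {E : Type*} [AddGroup E] (x : E → G) (hx : ∀ a b, x (a + b) = x a * x b) :
    Subgroup G where
  carrier := Set.range x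
  mul_mem' := by
    rintro _ _ ⟨a, rfl⟩ ⟨b, rfl⟩
    exact ⟨a + b, hx a b⟩
  one_mem' := by
    have h := hx 0 0
    rw [add_zero] at h
    exact ⟨0, left_eq_mul.mp h⟩
  inv_mem' := by
    rintro _ ⟨a, rfl⟩
    refine ⟨-a, ?_⟩
    have h := hx 0 0
    rw [add_zero] at h
    have h0 := left_eq_mul.mp h
    apply eq_inv_of_mul_eq_one_left
    rw [← hx, neg_add_cancel, h0]

theorem mem_rootSub {G : Type*} [Group G] {E : Type*} [AddGroup E] {x : E → G} {hx : ∀ a b, x (a + b) = x a * x b}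
    {g : G} : g ∈ rootSub x hx ↔ ∃ a, x a = g := Iff.rfl

namespace HexDat

open HexPre
open Cfsg.Agent.TitsThree.RankTwoRGD
open Cfsg.Agent.TitsThree.RankTwoIdx
open scoped commutatorElement

variable {G : Type*} [Group G] {F K : Type*} [Field F] [Field K] (D : HexDat G F K)

/-! ### the torus -/

def H : Subgroup G := Subgroup.closure ({g | ∃ a : K, a ≠ 0 ∧ D.hI a = g} ∪ {g | ∃ u : F, u ≠ 0 ∧ D.hJ u = g})

theorem hI_mem {a : K} (ha : a ≠ 0) : D.hI a ∈ D.H := Subgroup.subset_closure (Or.inl ⟨a, ha, rfl⟩)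
theorem hJ_mem {u : F} (hu : u ≠ 0) : D.hJ u ∈ D.H := Subgroup.subset_closure (Or.inr ⟨u, hu, rfl⟩)

theorem nI_hJ {u : F} (hu : u ≠ 0) : MulAut.conj D.nI (D.hJ u) = D.hJ u * D.hI (D.β u) := by
  have h := D.hJ_nI (inv_ne_zero hu)
  rw [D.β_inv, inv_inv, show D.hJ u⁻¹ = (D.hJ u)⁻¹ from D.J.h_inv hu, MulAut.conj_apply, inv_inv] at h
  rw [MulAut.conj_apply]
  have h1 : D.nI * D.hJ u = D.hJ u * (D.hI (D.β u) * D.nI) := by rw [← h]; group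
  rw [h1]
  group

theorem nJ_hI {a : K} (ha : a ≠ 0) : MulAut.conj D.nJ (D.hI a) = D.hI a * D.hJ (D.N a) := by
  have h := D.hI_nJ (inv_ne_zero ha)
  rw [D.N_inv, inv_inv, show D.hI a⁻¹ = (D.hI a)⁻¹ from D.I.h_inv ha, MulAut.conj_apply, inv_inv] at h
  rw [MulAut.conj_apply]
  have h1 : D.nJ * D.hI a = D.hI a * (D.hJ (D.N a) * D.nJ) := by rw [← h]; group
  rw [h1]
  group

theorem nI_hI {a : K} (ha : a ≠ 0) : MulAut.conj D.nI (D.hI a) = (D.hI a)⁻¹ := D.I.nh' ha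
theorem nJ_hJ {u : F} (hu : u ≠ 0) : MulAut.conj D.nJ (D.hJ u) = (D.hJ u)⁻¹ := D.J.nh' hu

theorem nI_H {h : G} (hh : h ∈ D.H) : D.nI * h * D.nI⁻¹ ∈ D.H := by
  have key : D.H ≤ D.H.comap (MulAut.conj D.nI).toMonoidHom := by
    refine (Subgroup.closure_le _).2 ?_
    rintro _ (⟨a, ha, rfl⟩ | ⟨u, hu, rfl⟩)
    · change MulAut.conj D.nI (D.hI a) ∈ D.H
      rw [D.nI_hI ha]
      exact inv_mem (D.hI_mem ha)
    · change MulAut.conj D.nI (D.hJ u) ∈ D.H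
      rw [D.nI_hJ hu]
      exact mul_mem (D.hJ_mem hu) (D.hI_mem (D.β_ne u hu))
  exact key hh

theorem nJ_H {h : G} (hh : h ∈ D.H) : D.nJ * h * D.nJ⁻¹ ∈ D.H := by
  have key : D.H ≤ D.H.comap (MulAut.conj D.nJ).toMonoidHom := by
    refine (Subgroup.closure_le _).2 ?_
    rintro _ (⟨a, ha, rfl⟩ | ⟨u, hu, rfl⟩)
    · change MulAut.conj D.nJ (D.hI a) ∈ D.H
      rw [D.nJ_hI ha]
      exact mul_mem (D.hI_mem ha) (D.hJ_mem (D.N_ne a ha))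
    · change MulAut.conj D.nJ (D.hJ u) ∈ D.H
      rw [D.nJ_hJ hu]
      exact inv_mem (D.hJ_mem hu)
  exact key hh

theorem nI_sq : D.nI * D.nI ∈ D.H := by
  have h : D.nI * D.nI = D.hI (-1) := D.I.nn
  rw [h]
  exact D.hI_mem neg_one_ne

theorem nJ_sq : D.nJ * D.nJ ∈ D.H := by
  have h : D.nJ * D.nJ = D.hJ (-1) := D.J.nn
  rw [h]
  exact D.hJ_mem neg_one_ne

theorem nI_H' {h : G} (hh : h ∈ D.H) : D.nI⁻¹ * h * D.nI ∈ D.H := by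
  have h1 := D.nI_H (mul_mem (mul_mem (inv_mem D.nI_sq) hh) D.nI_sq)
  have e : D.nI * ((D.nI * D.nI)⁻¹ * h * (D.nI * D.nI)) * D.nI⁻¹ = D.nI⁻¹ * h * D.nI := by group
  rwa [e] at h1

theorem nJ_H' {h : G} (hh : h ∈ D.H) : D.nJ⁻¹ * h * D.nJ ∈ D.H := by
  have h1 := D.nJ_H (mul_mem (mul_mem (inv_mem D.nJ_sq) hh) D.nJ_sq)
  have e : D.nJ * ((D.nJ * D.nJ)⁻¹ * h * (D.nJ * D.nJ)) * D.nJ⁻¹ = D.nJ⁻¹ * h * D.nJ := by group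
  rwa [e] at h1

/-! ### the remaining weights -/

theorem hI_x4 {a : K} (ha : a ≠ 0) (u : F) : MulAut.conj (D.hI a) (D.x4 u) = D.x4 u := by
  have h1 : D.x1 a * D.y1 (-a⁻¹) * D.x1 a = D.hI a * D.nI := D.I.xyx a ha
  have h2 := congrArg (fun g => MulAut.conj g (D.x4 u)) h1
  simp only [conj_mul_apply] at h2
  rw [D.nI_x4, conj_of_commute (D.c14 a u), conj_of_commute (D.cy14 _ u), conj_of_commute (D.c14 a u)] at h2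
  exact h2.symm

theorem hI_x3 {a : K} (ha : a ≠ 0) (b : K) : ∃ c, MulAut.conj (D.hI a) (D.x3 b) = D.x3 c := by
  have h1 : D.hI a * D.nI = D.nI * D.hI a⁻¹ := by
    have := D.I.hn (inv_ne_zero ha)
    rw [D.I.h_inv ha, inv_inv] at this
    rw [show D.hI a⁻¹ = (D.hI a)⁻¹ from D.I.h_inv ha]
    exact this
  rw [x3, ← conj_mul_apply, show D.hI a * D.I.n = D.nI * D.hI a⁻¹ from h1, conj_mul_apply, D.hI_x5 (inv_ne_zero ha)]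
  exact ⟨_, rfl⟩

/-! ### the root groups -/

def X : ℕ → Subgroup G
  | 1 => rootSub D.x1 D.x1_add
  | 2 => rootSub D.x2 D.x2_add
  | 3 => rootSub D.x3 D.x3_add
  | 4 => rootSub D.x4 D.x4_add
  | 5 => rootSub D.x5 D.x5_add
  | 6 => rootSub D.x6 D.x6_add
  | _ => ⊥

theorem X_le_I {k l r : ℕ} (h1 : k < r) (h2 : r < l) : D.X r ≤ ⨆ r ∈ Set.Ioo k l, D.X r :=
  le_iSup₂_of_le (f := fun k (_ : k ∈ _) => D.X k) r ⟨h1, h2⟩ le_rfl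

theorem comm (k l : ℕ) (h1 : 1 ≤ k) (h2 : k < l) (h3 : l ≤ 6) (x : G) (hx : x ∈ D.X k) (y : G) (hy : y ∈ D.X l) :
    ⁅x, y⁆ ∈ ⨆ r ∈ Set.Ioo k l, D.X r := by
  have triv : ∀ {x y : G}, Commute x y → ⁅x, y⁆ ∈ ⨆ r ∈ Set.Ioo k l, D.X r := by
    intro x y h
    rw [commutatorElement_eq_one_iff_commute.2 h]
    exact one_mem _
  have hmem2 : ∀ {u : F}, k < 2 → 2 < l → D.x2 u ∈ ⨆ r ∈ Set.Ioo k l, D.X r := fun a b => D.X_le_I a b ⟨_, rfl⟩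
  have hmem3 : ∀ {u : K}, k < 3 → 3 < l → D.x3 u ∈ ⨆ r ∈ Set.Ioo k l, D.X r := fun a b => D.X_le_I a b ⟨_, rfl⟩
  have hmem4 : ∀ {u : F}, k < 4 → 4 < l → D.x4 u ∈ ⨆ r ∈ Set.Ioo k l, D.X r := fun a b => D.X_le_I a b ⟨_, rfl⟩
  have hmem5 : ∀ {u : K}, k < 5 → 5 < l → D.x5 u ∈ ⨆ r ∈ Set.Ioo k l, D.X r := fun a b => D.X_le_I a b ⟨_, rfl⟩
  have hk6 : k < 6 := by omega
  interval_cases k
  · interval_cases l
    · obtain ⟨a, rfl⟩ := hx; obtain ⟨b, rfl⟩ := hy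
      exact triv (D.c12 a b)
    · obtain ⟨a, rfl⟩ := hx; obtain ⟨b, rfl⟩ := hy
      rw [D.rel13]
      exact hmem2 (by norm_num) (by norm_num)
    · obtain ⟨a, rfl⟩ := hx; obtain ⟨b, rfl⟩ := hy
      exact triv (D.c14 a b)
    · obtain ⟨a, rfl⟩ := hx; obtain ⟨b, rfl⟩ := hy
      rw [D.rel15]
      exact mul_mem (mul_mem (hmem2 (by norm_num) (by norm_num)) (hmem3 (by norm_num) (by norm_num)))
        (hmem4 (by norm_num) (by norm_num))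
    · obtain ⟨a, rfl⟩ := hx; obtain ⟨b, rfl⟩ := hy
      rw [D.rel16]
      exact mul_mem (mul_mem (mul_mem (hmem2 (by norm_num) (by norm_num)) (hmem3 (by norm_num) (by norm_num)))
        (hmem4 (by norm_num) (by norm_num))) (hmem5 (by norm_num) (by norm_num))
  · interval_cases l
    · obtain ⟨a, rfl⟩ := hx; obtain ⟨b, rfl⟩ := hy
      exact triv (D.c23 a b)
    · obtain ⟨a, rfl⟩ := hx; obtain ⟨b, rfl⟩ := hy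
      exact triv (D.c24 a b)
    · obtain ⟨a, rfl⟩ := hx; obtain ⟨b, rfl⟩ := hy
      exact triv (D.c25 a b)
    · obtain ⟨a, rfl⟩ := hx; obtain ⟨b, rfl⟩ := hy
      rw [D.rel26]
      exact hmem4 (by norm_num) (by norm_num)
  · interval_cases l
    · obtain ⟨a, rfl⟩ := hx; obtain ⟨b, rfl⟩ := hy
      exact triv (D.c34 a b)
    · obtain ⟨a, rfl⟩ := hx; obtain ⟨b, rfl⟩ := hy
      rw [D.rel35]
      exact hmem4 (by norm_num) (by norm_num)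
    · obtain ⟨a, rfl⟩ := hx; obtain ⟨b, rfl⟩ := hy
      exact triv (D.c36 a b)
  · interval_cases l
    · obtain ⟨a, rfl⟩ := hx; obtain ⟨b, rfl⟩ := hy
      exact triv (D.c45 a b)
    · obtain ⟨a, rfl⟩ := hx; obtain ⟨b, rfl⟩ := hy
      exact triv (D.c46 a b)
  · interval_cases l
    obtain ⟨a, rfl⟩ := hx; obtain ⟨b, rfl⟩ := hy
    exact triv (D.c56 a b)

theorem hI_X {a : K} (ha : a ≠ 0) (k : ℕ) (h1 : 1 ≤ k) (h2 : k ≤ 6) (x : G) (hx : x ∈ D.X k) :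
    D.hI a * x * (D.hI a)⁻¹ ∈ D.X k := by
  rw [← MulAut.conj_apply]
  interval_cases k <;> obtain ⟨b, rfl⟩ := hx
  · rw [D.hI_x1 ha]; exact ⟨_, rfl⟩
  · rw [D.hI_x2 ha]; exact ⟨_, rfl⟩
  · obtain ⟨c, hc⟩ := D.hI_x3 ha b
    rw [hc]; exact ⟨_, rfl⟩
  · rw [D.hI_x4 ha]; exact ⟨_, rfl⟩
  · rw [D.hI_x5 ha]; exact ⟨_, rfl⟩
  · rw [D.hI_x6 ha]; exact ⟨_, rfl⟩

theorem hJ_X {u : F} (hu : u ≠ 0) (k : ℕ) (h1 : 1 ≤ k) (h2 : k ≤ 6) (x : G) (hx : x ∈ D.X k) :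
    D.hJ u * x * (D.hJ u)⁻¹ ∈ D.X k := by
  rw [← MulAut.conj_apply]
  interval_cases k <;> obtain ⟨b, rfl⟩ := hx
  · rw [D.hJ_x1 hu]; exact ⟨_, rfl⟩
  · rw [D.hJ_x2 hu]; exact ⟨_, rfl⟩
  · rw [D.hJ_x3 u hu]; exact ⟨_, rfl⟩
  · rw [D.hJ_x4 hu]; exact ⟨_, rfl⟩
  · rw [D.hJ_x5 hu]; exact ⟨_, rfl⟩
  · rw [D.hJ_x6 hu]; exact ⟨_, rfl⟩

theorem HX (h : G) (hh : h ∈ D.H) (k : ℕ) (h1 : 1 ≤ k) (h2 : k ≤ 6) (x : G) (hx : x ∈ D.X k) :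
    h * x * h⁻¹ ∈ D.X k := by
  have key : D.H ≤ Subgroup.normalizer (D.X k : Set G) := by
    refine (Subgroup.closure_le _).2 ?_
    have aux : ∀ g : G, (∀ x ∈ D.X k, g * x * g⁻¹ ∈ D.X k) → (∀ x ∈ D.X k, g⁻¹ * x * g⁻¹⁻¹ ∈ D.X k) →
        g ∈ Subgroup.normalizer (D.X k : Set G) := by
      intro g h3 h4
      rw [Subgroup.mem_normalizer_iff]
      intro x
      refine ⟨fun hx => h3 x hx, fun hx => ?_⟩
      have h5 := h4 _ hx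
      have e : g⁻¹ * (g * x * g⁻¹) * g⁻¹⁻¹ = x := by group
      rwa [e] at h5
    rintro _ (⟨a, ha, rfl⟩ | ⟨u, hu, rfl⟩)
    · refine aux _ (fun x hx => D.hI_X ha k h1 h2 x hx) fun x hx => ?_
      have := D.hI_X (inv_ne_zero ha) k h1 h2 x hx
      rwa [show D.hI a⁻¹ = (D.hI a)⁻¹ from D.I.h_inv ha] at this
    · refine aux _ (fun x hx => D.hJ_X hu k h1 h2 x hx) fun x hx => ?_
      have := D.hJ_X (inv_ne_zero hu) k h1 h2 x hx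
      rwa [show D.hJ u⁻¹ = (D.hJ u)⁻¹ from D.J.h_inv hu] at this
  exact (Subgroup.mem_normalizer_iff.1 (key hh) x).1 hx

def XI' : Subgroup G := rootSub D.y1 D.y1_add
def XJ' : Subgroup G := rootSub D.y6 D.y6_add

theorem rank_oneI (a : G) (ha : a ∈ D.XI') (h1 : a ≠ 1) :
    ∃ x ∈ D.X 1, ∃ h ∈ D.H, ∃ y ∈ D.X 1, a = x * D.nI * h * y := by
  obtain ⟨b, rfl⟩ := ha
  have hb : b ≠ 0 := fun h => h1 (by rw [h, D.y1_zero])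
  have hc : -b⁻¹ ≠ 0 := neg_ne_zero.2 (inv_ne_zero hb)
  have h2 : D.x1 (-b⁻¹) * D.y1 (-(-b⁻¹)⁻¹) * D.x1 (-b⁻¹) = D.hI (-b⁻¹) * D.nI := D.I.xyx _ hc
  have e1 : -(-b⁻¹)⁻¹ = b := by rw [inv_neg, inv_inv, neg_neg]
  rw [e1] at h2
  have h3 : (D.hI (-b⁻¹)⁻¹)⁻¹ * D.nI = D.nI * D.hI (-b⁻¹)⁻¹ := D.I.hn (inv_ne_zero hc)
  rw [show D.hI (-b⁻¹)⁻¹ = (D.hI (-b⁻¹))⁻¹ from D.I.h_inv hc, inv_inv] at h3
  refine ⟨(D.x1 (-b⁻¹))⁻¹, inv_mem ⟨_, rfl⟩, (D.hI (-b⁻¹))⁻¹, inv_mem (D.hI_mem hc), (D.x1 (-b⁻¹))⁻¹,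
    inv_mem ⟨_, rfl⟩, ?_⟩
  rw [mul_assoc (D.x1 (-b⁻¹))⁻¹, ← h3, ← h2]
  group

theorem rank_oneJ (a : G) (ha : a ∈ D.XJ') (h1 : a ≠ 1) :
    ∃ x ∈ D.X 6, ∃ h ∈ D.H, ∃ y ∈ D.X 6, a = x * D.nJ * h * y := by
  obtain ⟨b, rfl⟩ := ha
  have hb : b ≠ 0 := fun h => h1 (by rw [h, D.y6_zero])
  have hc : -b⁻¹ ≠ 0 := neg_ne_zero.2 (inv_ne_zero hb)
  have h2 : D.x6 (-b⁻¹) * D.y6 (-(-b⁻¹)⁻¹) * D.x6 (-b⁻¹) = D.hJ (-b⁻¹) * D.nJ := D.J.xyx _ hc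
  have e1 : -(-b⁻¹)⁻¹ = b := by rw [inv_neg, inv_inv, neg_neg]
  rw [e1] at h2
  have h3 : (D.hJ (-b⁻¹)⁻¹)⁻¹ * D.nJ = D.nJ * D.hJ (-b⁻¹)⁻¹ := D.J.hn (inv_ne_zero hc)
  rw [show D.hJ (-b⁻¹)⁻¹ = (D.hJ (-b⁻¹))⁻¹ from D.J.h_inv hc, inv_inv] at h3
  refine ⟨(D.x6 (-b⁻¹))⁻¹, inv_mem ⟨_, rfl⟩, (D.hJ (-b⁻¹))⁻¹, inv_mem (D.hJ_mem hc), (D.x6 (-b⁻¹))⁻¹,
    inv_mem ⟨_, rfl⟩, ?_⟩
  rw [mul_assoc (D.x6 (-b⁻¹))⁻¹, ← h3, ← h2]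
  group

theorem braid_aux (hbr : Commute D.nI (D.nJ * D.nI * D.nJ * D.nI⁻¹ * D.nJ⁻¹)) :
    ∃ h ∈ D.H, alt D.nI D.nJ 6 = alt D.nJ D.nI 6 * h := by
  refine ⟨(alt D.nJ D.nI 6)⁻¹ * alt D.nI D.nJ 6, ?_, by group⟩
  simp only [alt_succ, alt_zero]
  have h1 := hbr.eq
  have e1 : D.nI * (D.nJ * (D.nI * (D.nJ * (D.nI * (D.nJ * 1))))) =
      D.nI * (D.nJ * D.nI * D.nJ * D.nI⁻¹ * D.nJ⁻¹) * (D.nJ * D.nI * D.nI * D.nJ) := by group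
  rw [e1, h1]
  have e2 : (D.nJ * (D.nI * (D.nJ * (D.nI * (D.nJ * (D.nI * 1))))))⁻¹ *
      (D.nJ * D.nI * D.nJ * D.nI⁻¹ * D.nJ⁻¹ * D.nI * (D.nJ * D.nI * D.nI * D.nJ)) =
      (D.nI⁻¹ * ((D.nJ⁻¹ * (D.nI * D.nI)⁻¹ * D.nJ) * (D.nJ * D.nJ)⁻¹) * D.nI) *
        ((D.nJ * (D.nI * D.nI) * D.nJ⁻¹) * (D.nJ * D.nJ)) := by group
  rw [e2]
  exact mul_mem (D.nI_H' (mul_mem (D.nJ_H' (inv_mem D.nI_sq)) (inv_mem D.nJ_sq)))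
    (mul_mem (D.nJ_H D.nI_sq) D.nJ_sq)

/-- **The root datum of rank two** -/
def r2 (hbr : Commute D.nI (D.nJ * D.nI * D.nJ * D.nI⁻¹ * D.nJ⁻¹)) : R2 6 G where
  X := D.X
  XI' := D.XI'
  XJ' := D.XJ'
  H := D.H
  nI := D.nI
  nJ := D.nJ
  one_le := by norm_num
  comm := D.comm
  HX := D.HX
  nI_X := by
    intro k h1 h2 x hx
    rw [← MulAut.conj_apply]
    interval_cases k <;> obtain ⟨b, rfl⟩ := hx
    · rw [D.nI_x2]; exact ⟨_, rfl⟩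
    · rw [D.nI_x3]; exact ⟨_, rfl⟩
    · rw [D.nI_x4]; exact ⟨_, rfl⟩
    · rw [D.nI_x5]; exact ⟨_, rfl⟩
    · rw [D.nI_x6]; exact ⟨_, rfl⟩
  nJ_X := by
    intro k h1 h2 x hx
    rw [← MulAut.conj_apply]
    interval_cases k <;> obtain ⟨b, rfl⟩ := hx
    · rw [D.nJ_x1]; exact ⟨_, rfl⟩
    · rw [D.nJ_x2]; exact ⟨_, rfl⟩
    · rw [D.nJ_x3]; exact ⟨_, rfl⟩
    · rw [D.nJ_x4]; exact ⟨_, rfl⟩
    · rw [D.nJ_x5]; exact ⟨_, rfl⟩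
  nI_pos := by
    rintro _ ⟨b, rfl⟩
    exact ⟨-b, (D.nI_x1 b).symm⟩
  nI_neg := by
    rintro _ ⟨b, rfl⟩
    exact ⟨-b, (D.nI_y1 b).symm⟩
  nJ_pos := by
    rintro _ ⟨b, rfl⟩
    exact ⟨-b, (D.nJ_x6 b).symm⟩
  nJ_neg := by
    rintro _ ⟨b, rfl⟩
    exact ⟨-b, (D.nJ_y6 b).symm⟩
  nI_sq := D.nI_sq
  nJ_sq := D.nJ_sq
  nI_H := fun h hh => D.nI_H hh
  nJ_H := fun h hh => D.nJ_H hh
  rank_oneI := D.rank_oneI
  rank_oneJ := D.rank_oneJ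
  memI := by
    have h : D.nI = D.x1 1 * D.y1 (-1) * D.x1 1 := D.I.n_eq
    rw [h]
    exact mul_mem (mul_mem (le_sup_left (a := D.X 1) ⟨_, rfl⟩) (le_sup_right (b := D.XI') ⟨_, rfl⟩))
      (le_sup_left (a := D.X 1) ⟨_, rfl⟩)
  memJ := by
    have h : D.nJ = D.x6 1 * D.y6 (-1) * D.x6 1 := D.J.n_eq
    rw [h]
    exact mul_mem (mul_mem (le_sup_left (a := D.X 6) ⟨_, rfl⟩) (le_sup_right (b := D.XJ') ⟨_, rfl⟩))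
      (le_sup_left (a := D.X 6) ⟨_, rfl⟩)
  braid := D.braid_aux hbr

end HexDat

end Cfsg.Agent.GTwoOdd.Hex
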