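import Cfsg.Agent.GTwoOdd.HexaT
import Cfsg.Agent.GTwoOdd.HexRTwo

/-!
# From a split frame to the data of `HexPre`

`S : L.Split s g`: `I` = `L.e2`, `J` = conjugate of `L.e1` by `bb = ρ² r₁`; the elements `x1,…,x6` parametrise
`XN 0,…,XN 5`.
-/

set_option autoImplicit false

namespace Cfsg.Agent.GTwoOdd.HexFrame

open Matrix
open Cfsg.Agent.GTwoOdd.Hex
open Cfsg.Agent.GTwoOdd.LocalSL

section sl

variable {F : Type*} [Field F]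

/-- `diag(a, a⁻¹)` -/
def ddn (a : F) (h : a ≠ 0) : SL2 F := ⟨!![a, 0; 0, a⁻¹], by rw [Matrix.det_fin_two]; simp [h]⟩

open Classical in
/-- `diag(a, a⁻¹)` -/
noncomputable def dd (a : F) : SL2 F :=
  if h : a = 0 then 1 else ddn a h

theorem dd_coe {a : F} (h : a ≠ 0) : (dd a : M2 F) = !![a, 0; 0, a⁻¹] := by
  have : dd a = ddn a h := dif_neg h
  rw [this]
  rfl

theorem dd_mul {a b : F} (ha : a ≠ 0) (hb : b ≠ 0) : dd (a * b) = dd a * dd b := by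
  apply Subtype.ext
  change (dd (a * b) : M2 F) = (dd a : M2 F) * (dd b : M2 F)
  rw [dd_coe ha, dd_coe hb, dd_coe (mul_ne_zero ha hb), m2_eq_iff]
  simp [mul_comm]

theorem dd_neg_one : dd (-1 : F) = -1 := by
  apply Subtype.ext
  change (dd (-1 : F) : M2 F) = -1
  rw [dd_coe (neg_ne_zero.2 one_ne_zero), m2_eq_iff]
  simp

theorem wn_wn : wn F * wn F = -1 := by
  apply Subtype.ext
  change (wn F : M2 F) * (wn F : M2 F) = -1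
  rw [wn_coe, m2_eq_iff]
  simp

theorem wn_dd {a : F} (ha : a ≠ 0) : wn F * dd a = (dd a)⁻¹ * wn F := by
  rw [eq_inv_mul_iff_mul_eq]
  apply Subtype.ext
  change (dd a : M2 F) * ((wn F : M2 F) * (dd a : M2 F)) = wn F
  rw [dd_coe ha, wn_coe, m2_eq_iff]
  simp [ha]

theorem dd_up {a : F} (ha : a ≠ 0) (b : F) : dd a * up b = up (a * a * b) * dd a := by
  apply Subtype.ext
  change (dd a : M2 F) * (up b : M2 F) = (up (a * a * b) : M2 F) * (dd a : M2 F)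
  rw [dd_coe ha, up_coe, up_coe, m2_eq_iff]
  simp
  field_simp

theorem up_lo_up {a : F} (ha : a ≠ 0) : up a * lo (-a⁻¹) * up a = dd a * wn F := by
  apply Subtype.ext
  change (up a : M2 F) * (lo (-a⁻¹) : M2 F) * (up a : M2 F) = (dd a : M2 F) * (wn F : M2 F)
  rw [dd_coe ha, up_coe, lo_coe, wn_coe, m2_eq_iff]
  simp [ha]

end sl

/-- the rank one group of a homomorphism from `SL₂` -/
noncomputable def oneOf {G : Type*} [Group G] {F : Type*} [Field F] (e : SL2 F →* G) : One G F where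
  x a := e (up a)
  y a := e (lo a)
  n := e (wn F)
  h a := e (dd a)
  x_add a b := by rw [← map_mul, up_mul]
  y_add a b := by rw [← map_mul, lo_mul]
  nx a := by rw [← map_mul, wn_up, map_mul]; group
  ny a := by rw [← map_mul, wn_lo, map_mul]; group
  nn := by rw [← map_mul, wn_wn, dd_neg_one]
  nh a ha := by rw [← map_mul, wn_dd ha, map_mul, map_inv]; group
  h_mul a b ha hb := by rw [← map_mul, dd_mul ha hb]
  hx a b ha := by rw [← map_mul, dd_up ha, map_mul]; group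
  xyx a ha := by rw [← map_mul, ← map_mul, ← map_mul, up_lo_up ha]

section frame

variable {G : Type*} [Group G] {t : G} {F1 F2 : Type*} [Field F1] [Field F2]
variable [Finite F1] [Finite F2] {L : LocalSL t F1 F2} {s g : G}

/-- the torus acts on `e1` by scalars -/
theorem tor_act1 (S : L.Split s g) {c : G} (hc : c ∈ TT L) : ∃ r : F1, r ≠ 0 ∧
    (∀ u, c * L.e1 (up u) * c⁻¹ = L.e1 (up (r * u))) ∧ ∀ u, c * L.e1 (lo u) * c⁻¹ = L.e1 (lo (r⁻¹ * u)) := by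
  obtain ⟨A, B, hr, hA, hB⟩ := hc
  have hA' := (comm_dg_iff S.toFrame.two1).1 hA
  have hA1 : A 0 0 ≠ 0 := by
    intro h; apply hr.det1; rw [Matrix.det_fin_two, h, hA'.1]; ring
  have hA2 : A 1 1 ≠ 0 := by
    intro h; apply hr.det1; rw [Matrix.det_fin_two, h, hA'.1]; ring
  refine ⟨A 0 0 / A 1 1, div_ne_zero hA1 hA2, fun u => ?_, fun u => ?_⟩
  · rw [hr.acts1.2 _ _ (diag_up hA'.1 hA'.2 hA2 u), mul_assoc, mul_inv_cancel, mul_one]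
    congr 2; field_simp
  · rw [hr.acts1.2 _ _ (diag_lo hA'.1 hA'.2 hA1 u), mul_assoc, mul_inv_cancel, mul_one]
    congr 2; field_simp

/-- the torus acts on `e2` by scalars -/
theorem tor_act2 (S : L.Split s g) {c : G} (hc : c ∈ TT L) : ∃ r : F2, r ≠ 0 ∧
    (∀ u, c * L.e2 (up u) * c⁻¹ = L.e2 (up (r * u))) ∧ ∀ u, c * L.e2 (lo u) * c⁻¹ = L.e2 (lo (r⁻¹ * u)) := by
  obtain ⟨A, B, hr, hA, hB⟩ := hc
  have hB' := (comm_dg_iff S.toFrame.two2).1 hB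
  have hB1 : B 0 0 ≠ 0 := by
    intro h; apply hr.det2; rw [Matrix.det_fin_two, h, hB'.1]; ring
  have hB2 : B 1 1 ≠ 0 := by
    intro h; apply hr.det2; rw [Matrix.det_fin_two, h, hB'.1]; ring
  refine ⟨B 0 0 / B 1 1, div_ne_zero hB1 hB2, fun u => ?_, fun u => ?_⟩
  · rw [hr.acts2.2 _ _ (diag_up hB'.1 hB'.2 hB2 u), mul_assoc, mul_inv_cancel, mul_one]
    congr 2; field_simp
  · rw [hr.acts2.2 _ _ (diag_lo hB'.1 hB'.2 hB1 u), mul_assoc, mul_inv_cancel, mul_one]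
    congr 2; field_simp

theorem dd_comm_dg {F : Type*} [Field F] (h2 : (2 : F) ≠ 0) {a : F} (ha : a ≠ 0) :
    (dd a : M2 F) * dg F = dg F * dd a := by
  rw [comm_dg_iff h2, dd_coe ha]
  simp

theorem e1_dd_mem (S : L.Split s g) {a : F1} (ha : a ≠ 0) : L.e1 (dd a) ∈ TT L :=
  ⟨_, _, Rep.e1 L (dd a), dd_comm_dg S.toFrame.two1 ha, by simp⟩

theorem e2_dd_mem (S : L.Split s g) {a : F2} (ha : a ≠ 0) : L.e2 (dd a) ∈ TT L :=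
  ⟨_, _, Rep.e2 L (dd a), by simp, dd_comm_dg S.toFrame.two2 ha⟩

/-- the element `ρ² r₁` -/
def bb (L : LocalSL t F1 F2) (g : G) : G := ro L g ^ 2 * L.e1 (wn F1)

theorem nT_bb (S : L.Split s g) : NormT (TT L) (bb L g) := (S.nT_rho.pow 2).mul S.nT_r1

/-- the second rank one group -/
def eJ (L : LocalSL t F1 F2) (g : G) : SL2 F1 →* G := (MulAut.conj (bb L g)).toMonoidHom.comp L.e1

omit [Finite F1] [Finite F2] in
theorem eJ_apply (x : SL2 F1) : eJ L g x = bb L g * L.e1 x * (bb L g)⁻¹ := rfl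

theorem eJ_dd_mem (S : L.Split s g) {a : F1} (ha : a ≠ 0) : eJ L g (dd a) ∈ TT L :=
  (nT_bb S).1 _ (e1_dd_mem S ha)

theorem exists_NN (S : L.Split s g) (a : F2) : ∃ r : F1, (a = 0 → r = 0) ∧ (a ≠ 0 → r ≠ 0 ∧
    (∀ u, L.e2 (dd a) * eJ L g (up u) * (L.e2 (dd a))⁻¹ = eJ L g (up (r⁻¹ * u))) ∧
    ∀ u, L.e2 (dd a) * eJ L g (lo u) * (L.e2 (dd a))⁻¹ = eJ L g (lo (r * u))) := by
  by_cases ha : a = 0
  · exact ⟨0, fun _ => rfl, fun h => absurd ha h⟩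
  obtain ⟨r, hr, h1, h2⟩ := tor_act1 S ((nT_bb S).2 _ (e2_dd_mem S ha))
  refine ⟨r⁻¹, fun h => absurd h ha, fun _ => ⟨inv_ne_zero hr, fun u => ?_, fun u => ?_⟩⟩
  · rw [inv_inv, eJ_apply, eJ_apply, ← h1]
    group
  · rw [eJ_apply, eJ_apply, ← h2]
    group

/-- the weight `N` -/
noncomputable def NN (S : L.Split s g) (a : F2) : F1 := (exists_NN S a).choose

theorem NN_zero (S : L.Split s g) : NN S 0 = 0 := (exists_NN S 0).choose_spec.1 rfl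

theorem NN_spec (S : L.Split s g) {a : F2} (ha : a ≠ 0) : NN S a ≠ 0 ∧
    (∀ u, L.e2 (dd a) * eJ L g (up u) * (L.e2 (dd a))⁻¹ = eJ L g (up ((NN S a)⁻¹ * u))) ∧
    ∀ u, L.e2 (dd a) * eJ L g (lo u) * (L.e2 (dd a))⁻¹ = eJ L g (lo (NN S a * u)) :=
  (exists_NN S a).choose_spec.2 ha

theorem exists_bet (S : L.Split s g) (u : F1) : ∃ r : F2, (u = 0 → r = 0) ∧ (u ≠ 0 → r ≠ 0 ∧
    (∀ a, eJ L g (dd u) * L.e2 (up a) * (eJ L g (dd u))⁻¹ = L.e2 (up (r⁻¹ * a))) ∧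
    ∀ a, eJ L g (dd u) * L.e2 (lo a) * (eJ L g (dd u))⁻¹ = L.e2 (lo (r * a))) := by
  by_cases hu : u = 0
  · exact ⟨0, fun _ => rfl, fun h => absurd hu h⟩
  obtain ⟨r, hr, h1, h2⟩ := tor_act2 S (eJ_dd_mem S hu)
  refine ⟨r⁻¹, fun h => absurd h hu, fun _ => ⟨inv_ne_zero hr, fun u => ?_, fun u => ?_⟩⟩
  · rw [inv_inv, h1]
  · rw [h2]

/-- the weight `β` -/
noncomputable def bet (S : L.Split s g) (u : F1) : F2 := (exists_bet S u).choose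

theorem bet_zero (S : L.Split s g) : bet S 0 = 0 := (exists_bet S 0).choose_spec.1 rfl

theorem bet_spec (S : L.Split s g) {u : F1} (hu : u ≠ 0) : bet S u ≠ 0 ∧
    (∀ a, eJ L g (dd u) * L.e2 (up a) * (eJ L g (dd u))⁻¹ = L.e2 (up ((bet S u)⁻¹ * a))) ∧
    ∀ a, eJ L g (dd u) * L.e2 (lo a) * (eJ L g (dd u))⁻¹ = L.e2 (lo (bet S u * a)) :=
  (exists_bet S u).choose_spec.2 hu

/-! ### root groups -/

theorem XN_base (S : L.Split s g) {m : ℕ} (h : m % 3 = 0) : L.XN g m = L.baseX m := by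
  unfold XN
  have h1 : rho L (wn F1) g ^ m ∈ TT L := by
    have := S.rho_mod (m := m) (k := 0) (by omega)
    rw [pow_zero] at this
    exact EqT.mem this
  exact S.cjS_base h1 m

theorem mem_X0 (S : L.Split s g) {x : G} : x ∈ L.XN g 0 ↔ ∃ a, L.e2 (up a) = x := by
  rw [XN_base S (by norm_num), L.baseX_0 (by norm_num)]
  constructor
  · rintro ⟨_, ⟨a, rfl⟩, rfl⟩; exact ⟨a, rfl⟩
  · rintro ⟨a, rfl⟩; exact ⟨_, ⟨a, rfl⟩, rfl⟩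

theorem mem_X6 (S : L.Split s g) {x : G} : x ∈ L.XN g 6 ↔ ∃ a, L.e2 (lo a) = x := by
  rw [XN_base S (by norm_num), L.baseX_2 (by norm_num)]
  constructor
  · rintro ⟨_, ⟨a, rfl⟩, rfl⟩; exact ⟨a, rfl⟩
  · rintro ⟨a, rfl⟩; exact ⟨_, ⟨a, rfl⟩, rfl⟩

theorem mem_X3 (S : L.Split s g) {x : G} : x ∈ L.XN g 3 ↔ ∃ a, L.e1 (up a) = x := by
  rw [XN_base S (by norm_num), L.baseX_3 (by norm_num)]
  constructor
  · rintro ⟨_, ⟨a, rfl⟩, rfl⟩; exact ⟨a, rfl⟩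
  · rintro ⟨a, rfl⟩; exact ⟨_, ⟨a, rfl⟩, rfl⟩

theorem mem_X9 (S : L.Split s g) {x : G} : x ∈ L.XN g 9 ↔ ∃ a, L.e1 (lo a) = x := by
  rw [XN_base S (by norm_num), L.baseX_1 (by norm_num)]
  constructor
  · rintro ⟨_, ⟨a, rfl⟩, rfl⟩; exact ⟨a, rfl⟩
  · rintro ⟨a, rfl⟩; exact ⟨_, ⟨a, rfl⟩, rfl⟩

theorem rho2_XN (S : L.Split s g) (m : ℕ) : cjS (ro L g ^ 2) (L.XN g m) = L.XN g (m + 8) := by
  rw [pow_two, cjS_mul, S.rho_XN, S.rho_XN]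

theorem bb_XN (S : L.Split s g) {m k : ℕ} (h : (m + k) % 12 = 8) : cjS (bb L g) (L.XN g m) = L.XN g k := by
  unfold bb
  obtain ⟨j, hj⟩ : ∃ j, (m + j) % 12 = 0 := ⟨11 * m, by omega⟩
  rw [cjS_mul, S.r1_XN hj, rho2_XN S]
  exact S.XN_eq (by omega)

theorem mem_cj {a : G} {H K : Subgroup G} (h : cjS a H = K) {x : G} : x ∈ K ↔ ∃ y ∈ H, a * y * a⁻¹ = x := by
  rw [← h, mem_cjS]
  constructor
  · intro hx
    exact ⟨_, hx, by group⟩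
  · rintro ⟨y, hy, rfl⟩
    have : a⁻¹ * (a * y * a⁻¹) * a = y := by group
    rwa [this]

theorem mem_X5 (S : L.Split s g) {x : G} : x ∈ L.XN g 5 ↔ ∃ a, eJ L g (up a) = x := by
  rw [mem_cj (bb_XN S (m := 3) (k := 5) (by norm_num))]
  constructor
  · rintro ⟨y, hy, rfl⟩
    obtain ⟨a, rfl⟩ := (mem_X3 S).1 hy
    exact ⟨a, rfl⟩
  · rintro ⟨a, rfl⟩
    exact ⟨_, (mem_X3 S).2 ⟨a, rfl⟩, rfl⟩

theorem mem_X11 (S : L.Split s g) {x : G} : x ∈ L.XN g 11 ↔ ∃ a, eJ L g (lo a) = x := by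
  rw [mem_cj (bb_XN S (m := 9) (k := 11) (by norm_num))]
  constructor
  · rintro ⟨y, hy, rfl⟩
    obtain ⟨a, rfl⟩ := (mem_X9 S).1 hy
    exact ⟨a, rfl⟩
  · rintro ⟨a, rfl⟩
    exact ⟨_, (mem_X9 S).2 ⟨a, rfl⟩, rfl⟩

omit [Finite F1] [Finite F2] in
theorem up_e1_inj {a b : F1} (h : eJ L g (up a) = eJ L g (up b)) : a = b := by
  rw [eJ_apply, eJ_apply] at h
  have h1 := mul_left_cancel (mul_right_cancel h)
  exact up_inj (L.inj1 h1)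

theorem NN_neg_one (S : L.Split s g) : NN S (-1) = -1 := by
  have h := (NN_spec S (a := -1) (neg_ne_zero.2 one_ne_zero)).2.1 1
  rw [dd_neg_one, L.neg2] at h
  have h1 := S.tN_inv (m := 5) (k := 0) (by norm_num) ((mem_X5 S).2 ⟨1, rfl⟩)
  rw [S.tN_0, h, ← map_inv, up_inv] at h1
  have h2 := up_e1_inj h1
  rw [mul_one] at h2
  rw [← inv_inv (NN S (-1)), h2]
  norm_num

theorem bet_neg_one (S : L.Split s g) : bet S (-1) = -1 := by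
  have h := (bet_spec S (u := -1) (neg_ne_zero.2 one_ne_zero)).2.1 1
  have h0 : eJ L g (dd (-1)) = tN t L g 2 := by
    rw [dd_neg_one, eJ_apply, L.neg1]
    unfold bb tN
    have := e1_t (L := L) (wn F1)
    calc ro L g ^ 2 * L.e1 (wn F1) * t * (ro L g ^ 2 * L.e1 (wn F1))⁻¹
        = ro L g ^ 2 * (L.e1 (wn F1) * t) * (ro L g ^ 2 * L.e1 (wn F1))⁻¹ := by group
      _ = _ := by rw [this]; group
  have h1 := S.tN_inv (m := 0) (k := 2) (by norm_num) ((mem_X0 S).2 ⟨1, rfl⟩)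
  rw [← h0, h, ← map_inv, up_inv] at h1
  have h2 := up_inj (L.inj2 h1)
  rw [mul_one] at h2
  rw [← inv_inv (bet S (-1)), h2]
  norm_num

/-- the data of `HexPre` -/
noncomputable def pre (S : L.Split s g) : HexPre G F1 F2 where
  I := oneOf L.e2
  J := oneOf (eJ L g)
  N := NN S
  β := bet S
  N_zero := NN_zero S
  β_zero := bet_zero S
  N_ne _ h := (NN_spec S h).1
  β_ne _ h := (bet_spec S h).1
  N_neg_one := NN_neg_one S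
  β_neg_one := bet_neg_one S
  IJx _ _ h := (NN_spec S h).2.1 _
  IJy _ _ h := (NN_spec S h).2.2 _
  JIx _ _ h := (bet_spec S h).2.1 _
  JIy _ _ h := (bet_spec S h).2.2 _

theorem nI_XN (S : L.Split s g) {m k : ℕ} (h : (m + k) % 12 = 6) : cjS (pre S).nI (L.XN g m) = L.XN g k := S.r2_XN h

theorem nJ_XN (S : L.Split s g) {m k : ℕ} (h : (m + k) % 12 = 4) : cjS (pre S).nJ (L.XN g m) = L.XN g k := by
  have e : (pre S).nJ = bb L g * L.e1 (wn F1) * (bb L g)⁻¹ := rfl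
  obtain ⟨i, hi⟩ : ∃ i, (m + i) % 12 = 8 := ⟨8 + 11 * m, by omega⟩
  obtain ⟨j, hj⟩ : ∃ j, (i + j) % 12 = 0 := ⟨11 * i, by omega⟩
  have h1 : cjS (bb L g)⁻¹ (L.XN g m) = L.XN g i := cjS_inv_of (bb_XN S (by omega))
  rw [e, cjS_mul, cjS_mul, h1, S.r1_XN hj, bb_XN S (m := j) (k := k) (by omega)]

theorem mem_x1 (S : L.Split s g) {x : G} : x ∈ L.XN g 0 ↔ ∃ a, (pre S).x1 a = x := mem_X0 S
theorem mem_x6 (S : L.Split s g) {x : G} : x ∈ L.XN g 5 ↔ ∃ a, (pre S).x6 a = x := mem_X5 S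
theorem mem_y1 (S : L.Split s g) {x : G} : x ∈ L.XN g 6 ↔ ∃ a, (pre S).y1 a = x := mem_X6 S
theorem mem_y6 (S : L.Split s g) {x : G} : x ∈ L.XN g 11 ↔ ∃ a, (pre S).y6 a = x := mem_X11 S

theorem mem_x2 (S : L.Split s g) {x : G} : x ∈ L.XN g 1 ↔ ∃ a, (pre S).x2 a = x := by
  rw [mem_cj (nI_XN S (m := 5) (k := 1) (by norm_num))]
  constructor
  · rintro ⟨y, hy, rfl⟩
    obtain ⟨a, rfl⟩ := (mem_x6 S).1 hy
    exact ⟨a, rfl⟩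
  · rintro ⟨a, rfl⟩
    exact ⟨_, (mem_x6 S).2 ⟨a, rfl⟩, rfl⟩

theorem mem_x4 (S : L.Split s g) {x : G} : x ∈ L.XN g 3 ↔ ∃ a, (pre S).x4 a = x := by
  rw [mem_cj (nJ_XN S (m := 1) (k := 3) (by norm_num))]
  constructor
  · rintro ⟨y, hy, rfl⟩
    obtain ⟨a, rfl⟩ := (mem_x2 S).1 hy
    exact ⟨a, rfl⟩
  · rintro ⟨a, rfl⟩
    exact ⟨_, (mem_x2 S).2 ⟨a, rfl⟩, rfl⟩

theorem mem_x5 (S : L.Split s g) {x : G} : x ∈ L.XN g 4 ↔ ∃ a, (pre S).x5 a = x := by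
  rw [mem_cj (nJ_XN S (m := 0) (k := 4) (by norm_num))]
  constructor
  · rintro ⟨y, hy, rfl⟩
    obtain ⟨a, rfl⟩ := (mem_x1 S).1 hy
    exact ⟨a, rfl⟩
  · rintro ⟨a, rfl⟩
    exact ⟨_, (mem_x1 S).2 ⟨a, rfl⟩, rfl⟩

theorem mem_x3 (S : L.Split s g) {x : G} : x ∈ L.XN g 2 ↔ ∃ a, (pre S).x3 a = x := by
  rw [mem_cj (nI_XN S (m := 4) (k := 2) (by norm_num))]
  constructor
  · rintro ⟨y, hy, rfl⟩
    obtain ⟨a, rfl⟩ := (mem_x5 S).1 hy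
    exact ⟨a, rfl⟩
  · rintro ⟨a, rfl⟩
    exact ⟨_, (mem_x5 S).2 ⟨a, rfl⟩, rfl⟩

theorem x1_inj (S : L.Split s g) {a b : F2} (h : (pre S).x1 a = (pre S).x1 b) : a = b := up_inj (L.inj2 h)
theorem x6_inj (S : L.Split s g) {a b : F1} (h : (pre S).x6 a = (pre S).x6 b) : a = b := up_e1_inj h
theorem x2_inj (S : L.Split s g) {a b : F1} (h : (pre S).x2 a = (pre S).x2 b) : a = b :=
  x6_inj S ((MulAut.conj _).injective h)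
theorem x4_inj (S : L.Split s g) {a b : F1} (h : (pre S).x4 a = (pre S).x4 b) : a = b :=
  x2_inj S ((MulAut.conj _).injective h)
theorem x5_inj (S : L.Split s g) {a b : F2} (h : (pre S).x5 a = (pre S).x5 b) : a = b :=
  x1_inj S ((MulAut.conj _).injective h)
theorem x3_inj (S : L.Split s g) {a b : F2} (h : (pre S).x3 a = (pre S).x3 b) : a = b :=
  x5_inj S ((MulAut.conj _).injective h)

/-- the elements of `<XN 3, XN 9>` lie in `e1` -/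
theorem conj_nJ_mem (S : L.Split s g) : ∃ z, (pre S).nJ * (pre S).nI * (pre S).nJ * (pre S).nI⁻¹ * (pre S).nJ⁻¹ =
    L.e1 z := by
  set D := pre S with hD
  have h5 : ∀ u, ∃ z, D.nJ * (D.nI * D.x6 u * D.nI⁻¹) * D.nJ⁻¹ = L.e1 z := by
    intro u
    have h1 : D.nI * D.x6 u * D.nI⁻¹ ∈ L.XN g 1 :=
      (mem_cj (nI_XN S (m := 5) (k := 1) (by norm_num))).2 ⟨_, (mem_x6 S).2 ⟨u, rfl⟩, rfl⟩
    have h2 : D.nJ * (D.nI * D.x6 u * D.nI⁻¹) * D.nJ⁻¹ ∈ L.XN g 3 :=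
      (mem_cj (nJ_XN S (m := 1) (k := 3) (by norm_num))).2 ⟨_, h1, rfl⟩
    obtain ⟨a, ha⟩ := (mem_X3 S).1 h2
    exact ⟨_, ha.symm⟩
  have h11 : ∀ u, ∃ z, D.nJ * (D.nI * D.y6 u * D.nI⁻¹) * D.nJ⁻¹ = L.e1 z := by
    intro u
    have h1 : D.nI * D.y6 u * D.nI⁻¹ ∈ L.XN g 7 :=
      (mem_cj (nI_XN S (m := 11) (k := 7) (by norm_num))).2 ⟨_, (mem_y6 S).2 ⟨u, rfl⟩, rfl⟩
    have h2 : D.nJ * (D.nI * D.y6 u * D.nI⁻¹) * D.nJ⁻¹ ∈ L.XN g 9 :=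
      (mem_cj (nJ_XN S (m := 7) (k := 9) (by norm_num))).2 ⟨_, h1, rfl⟩
    obtain ⟨a, ha⟩ := (mem_X9 S).1 h2
    exact ⟨_, ha.symm⟩
  obtain ⟨z1, h1⟩ := h5 1
  obtain ⟨z2, h2⟩ := h11 (-1)
  refine ⟨z1 * z2 * z1, ?_⟩
  rw [map_mul, map_mul, ← h1, ← h2]
  have e : D.nJ = D.x6 1 * D.y6 (-1) * D.x6 1 := D.J.n_eq
  have e2 : D.nJ * D.nI * (D.x6 1 * D.y6 (-1) * D.x6 1) * D.nI⁻¹ * D.nJ⁻¹ =
    D.nJ * (D.nI * D.x6 1 * D.nI⁻¹) * D.nJ⁻¹ * (D.nJ * (D.nI * D.y6 (-1) * D.nI⁻¹) * D.nJ⁻¹) *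
      (D.nJ * (D.nI * D.x6 1 * D.nI⁻¹) * D.nJ⁻¹) := by group
  rw [← e2, ← e]

theorem br (S : L.Split s g) : Commute (pre S).nI
    ((pre S).nJ * (pre S).nI * (pre S).nJ * (pre S).nI⁻¹ * (pre S).nJ⁻¹) := by
  obtain ⟨z, hz⟩ := conj_nJ_mem S
  rw [hz]
  exact (L.comm z (wn F2)).symm

/-- the relations between root groups -/
structure Rels (L : LocalSL t F1 F2) (g : G) : Prop where
  c13 : ∀ x ∈ L.XN g 1, ∀ y ∈ L.XN g 3, x * y = y * x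
  c23 : ∀ x ∈ L.XN g 2, ∀ y ∈ L.XN g 3, x * y = y * x
  i02 : ∀ x ∈ L.XN g 0, ∀ y ∈ L.XN g 2, x * y * x⁻¹ * y⁻¹ ∈ L.XN g 1
  i51 : ∀ x ∈ L.XN g 5, ∀ y ∈ L.XN g 1, x * y * x⁻¹ * y⁻¹ ∈ L.XN g 3
  i04 : ∀ x ∈ L.XN g 0, ∀ y ∈ L.XN g 4, ∃ a ∈ L.XN g 1, ∃ b ∈ L.XN g 2, ∃ c ∈ L.XN g 3,
    x * y * x⁻¹ * y⁻¹ = a * b * c
  i05 : ∀ x ∈ L.XN g 0, ∀ y ∈ L.XN g 5, ∃ a ∈ L.XN g 1, ∃ b ∈ L.XN g 2, ∃ c ∈ L.XN g 3, ∃ d ∈ L.XN g 4,
    x * y * x⁻¹ * y⁻¹ = a * b * c * d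
  uniq : ∀ a ∈ L.XN g 1, ∀ b ∈ L.XN g 2, ∀ c ∈ L.XN g 3, ∀ d ∈ L.XN g 4, ∀ e ∈ L.XN g 5, ∀ f ∈ L.XN g 0,
    a * b * c * d * e * f = 1 → a = 1 ∧ b = 1 ∧ c = 1 ∧ d = 1 ∧ e = 1 ∧ f = 1

/-- the data of `HexDat` -/
noncomputable def dat (S : L.Split s g) (R : Rels L g) : HexDat G F1 F2 where
  toHexPre := pre S
  two := S.toFrame.two1
  two' := S.toFrame.two2
  c14 a v := by
    obtain ⟨b, hb⟩ := (mem_X3 S).1 ((mem_x4 S).2 ⟨v, rfl⟩)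
    rw [← hb]
    exact (L.comm _ _).symm
  cy14 a v := by
    obtain ⟨b, hb⟩ := (mem_X3 S).1 ((mem_x4 S).2 ⟨v, rfl⟩)
    rw [← hb]
    exact (L.comm _ _).symm
  c36 a v := S.XN_comm3 (m := 2) (k := 5) (by norm_num) (by norm_num) ((mem_x3 S).2 ⟨a, rfl⟩) ((mem_x6 S).2 ⟨v, rfl⟩)
  cy36 a v := S.XN_comm3 (m := 2) (k := 11) (by norm_num) (by norm_num) ((mem_x3 S).2 ⟨a, rfl⟩)
    ((mem_y6 S).2 ⟨v, rfl⟩)
  c24 u v := R.c13 _ ((mem_x2 S).2 ⟨u, rfl⟩) _ ((mem_x4 S).2 ⟨v, rfl⟩)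
  c34 a v := R.c23 _ ((mem_x3 S).2 ⟨a, rfl⟩) _ ((mem_x4 S).2 ⟨v, rfl⟩)
  i13 a b := by
    obtain ⟨u, hu⟩ := (mem_x2 S).1 (R.i02 _ ((mem_x1 S).2 ⟨a, rfl⟩) _ ((mem_x3 S).2 ⟨b, rfl⟩))
    exact ⟨u, by rw [hu]; group⟩
  i26 u v := by
    obtain ⟨c, hc⟩ := (mem_x4 S).1 (R.i51 _ ((mem_x6 S).2 ⟨u, rfl⟩) _ ((mem_x2 S).2 ⟨v, rfl⟩))
    exact ⟨c, by rw [hc]; group⟩
  i15 a b := by
    obtain ⟨x, hx, y, hy, z, hz, h⟩ := R.i04 _ ((mem_x1 S).2 ⟨a, rfl⟩) _ ((mem_x5 S).2 ⟨b, rfl⟩)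
    obtain ⟨A, rfl⟩ := (mem_x2 S).1 hx
    obtain ⟨B, rfl⟩ := (mem_x3 S).1 hy
    obtain ⟨C, rfl⟩ := (mem_x4 S).1 hz
    exact ⟨A, B, C, by rw [← h]; group⟩
  i16 a u := by
    obtain ⟨x, hx, y, hy, z, hz, w, hw, h⟩ := R.i05 _ ((mem_x1 S).2 ⟨a, rfl⟩) _ ((mem_x6 S).2 ⟨u, rfl⟩)
    obtain ⟨A, rfl⟩ := (mem_x2 S).1 hx
    obtain ⟨B, rfl⟩ := (mem_x3 S).1 hy
    obtain ⟨C, rfl⟩ := (mem_x4 S).1 hz
    obtain ⟨E, rfl⟩ := (mem_x5 S).1 hw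
    exact ⟨A, B, C, E, by rw [← h]; group⟩
  uniq a b c d e f h := by
    obtain ⟨h1, h2, h3, h4, h5, h6⟩ := R.uniq _ ((mem_x2 S).2 ⟨b, rfl⟩) _ ((mem_x3 S).2 ⟨c, rfl⟩) _
      ((mem_x4 S).2 ⟨d, rfl⟩) _ ((mem_x5 S).2 ⟨e, rfl⟩) _ ((mem_x6 S).2 ⟨f, rfl⟩) _ ((mem_x1 S).2 ⟨a, rfl⟩) h
    refine ⟨x1_inj S ?_, x2_inj S ?_, x3_inj S ?_, x4_inj S ?_, x5_inj S ?_, x6_inj S ?_⟩
    · rw [h6, (pre S).x1_zero]
    · rw [h1, (pre S).x2_zero]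
    · rw [h2, (pre S).x3_zero]
    · rw [h3, (pre S).x4_zero]
    · rw [h4, (pre S).x5_zero]
    · rw [h5, (pre S).x6_zero]

end frame

end Cfsg.Agent.GTwoOdd.HexFrame
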