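import Cfsg.Agent.GTwoOdd.HexPosOf
import Cfsg.Agent.Hexagon.G2Ident
import Cfsg.Agent.Hexagon.TwD4Ident
import Cfsg.Agent.Hexagon.D4Field
import Cfsg.Agent.Hexagon.CubeAut
import Cfsg.Agent.ChevalleyStructure.FieldIso

/-!
# From `HexDat` to `G₂(q)` and `³D₄(q)`

`main`: a finite simple group generated by the root groups of `D : HexDat G F K` is `G₂(q)` or `³D₄(q)`, `q` odd.
-/

set_option autoImplicit false

namespace Cfsg.Agent.GTwoOdd.HexLie

open Cfsg.Lie
open Cfsg.Agent.GTwoOdd.Hex Cfsg.Agent.GTwoOdd.HexPosOf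
open Cfsg.Agent.Hexagon.Pos Cfsg.Agent.Hexagon.RootIdent Cfsg.Agent.Hexagon.G2Pos
open Cfsg.Agent.Hex.Defs (sh cr nm tr)
open Cfsg.Agent.TitsThree.RankTwoIdx
open scoped commutatorElement

variable {G : Type*} [Group G] {F K : Type*} [Field F] [Field K]

theorem nm_idF (a : F) : nm (idF F) a = a * a * a := by
  have h := algebraMap_nm (F := F) (K := F) (φ := idF F) ⟨fun _ => rfl, fun t _ => ⟨t, rfl⟩⟩ a
  exact h

theorem tr_idF (a : F) : tr (idF F) a = a + a + a := by
  have h := algebraMap_tr (F := F) (K := F) (φ := idF F) ⟨fun _ => rfl, fun t _ => ⟨t, rfl⟩⟩ a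
  exact h

/-- The package of `D` in the split case. -/
noncomputable def toPos2 (D : HexDat G F K) {φ : K ≃+* K} (h : Auto D φ) (h1 : ∀ t, φ t = t) :
    HexPos (idF F) G :=
  have hinj : Function.Injective D.βh := D.βh.injective
  have hT : ∀ a b : F, D.T (D.β a) (D.β b) = a * b + a * b + a * b := fun a b => hinj (by
    rw [D.βh_apply, h.T, h1, h1, map_add, map_add, map_mul]; rfl)
  have hN : ∀ a : F, D.N (D.β a) = a * a * a := D.N_β
  have hsh : ∀ a : F, D.sh (D.β a) = D.β (a * a) := fun a => by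
    rw [h.sh, h1, h1, D.β_mul]
  have hcr : ∀ a b : F, D.cr (D.β a) (D.β b) = D.β (a * b + a * b) := fun a b => by
    rw [h.cr, h1, h1, h1, h1, D.β_add, D.β_mul]
  have hneg : ∀ a : F, -D.β a = D.β (-a) := fun a => (D.β_neg a).symm
  { x1 := fun a => D.x1 (D.β a)
    x2 := D.x2
    x3 := fun a => D.x3 (D.β a)
    x4 := D.x4
    x5 := fun a => D.x5 (D.β a)
    x6 := D.x6
    add1 := fun a b => by rw [D.β_add, D.x1_add]
    add2 := D.x2_add
    add3 := fun a b => by rw [D.β_add, D.x3_add]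
    add4 := D.x4_add
    add5 := fun a b => by rw [D.β_add, D.x5_add]
    add6 := D.x6_add
    inj1 := fun t ht => hinj (by
      rw [map_zero]
      exact D.x1_inj (ht.trans D.x1_zero.symm))
    inj2 := fun t ht => (D.x24_eq_one (b := t) (d := 0) (by rw [ht, D.x4_zero, one_mul])).1
    inj3 := fun t ht => by
      have := D.uniq' (a := 0) (b := 0) (c := D.β t) (d := 0) (e := 0) (f := 0) (by
        simp only [HexDat.nf, D.x1_zero, D.x2_zero, D.x4_zero, D.x5_zero, D.x6_zero, ht, one_mul])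
      exact hinj (by rw [map_zero]; exact this.2.2.1)
    inj4 := fun t ht => D.x4_inj (ht.trans D.x4_zero.symm)
    inj5 := fun t ht => by
      have := D.uniq' (a := 0) (b := 0) (c := 0) (d := 0) (e := D.β t) (f := 0) (by
        simp only [HexDat.nf, D.x1_zero, D.x2_zero, D.x3_zero, D.x4_zero, D.x6_zero, ht, one_mul])
      exact hinj (by rw [map_zero]; exact this.2.2.2.2.1)
    inj6 := fun t ht => D.x6_inj (ht.trans D.x6_zero.symm)
    r13 := fun a b => by rw [D.rel13, hT, tr_idF]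
    r35 := fun a b => by rw [D.rel35, hT, tr_idF]
    r26 := D.rel26
    r15 := fun a b => by
      rw [D.rel15, hsh, hsh, hT, hT, hcr, hneg, tr_idF, tr_idF]
      have e1 : b * (a * a) + b * (a * a) + b * (a * a) =
          sh (idF F) a * b + sh (idF F) a * b + sh (idF F) a * b := by
        change _ = a * a * b + a * a * b + a * a * b
        ring
      rw [e1]
      rfl
    r16 := fun a u => by
      have e1 : D.β (a * a) * D.β u = D.β (u • sh (idF F) a) := by
        rw [← D.β_mul]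
        congr 1
        change a * a * u = u * (a * a)
        ring
      have e2 : -(D.β u * D.β a) = D.β (-(u • a)) := by
        rw [← D.β_mul, hneg]
        rfl
      rw [D.rel16, hN, hsh, nm_idF, e1, e2, pow_two]
    c12 := fun s t => commutatorElement_eq_one_iff_commute.2 (D.c12 _ _)
    c14 := fun s t => commutatorElement_eq_one_iff_commute.2 (D.c14 _ _)
    c23 := fun s t => commutatorElement_eq_one_iff_commute.2 (D.c23 _ _)
    c24 := fun s t => commutatorElement_eq_one_iff_commute.2 (D.c24 _ _)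
    c25 := fun s t => commutatorElement_eq_one_iff_commute.2 (D.c25 _ _)
    c34 := fun s t => commutatorElement_eq_one_iff_commute.2 (D.c34 _ _)
    c36 := fun s t => commutatorElement_eq_one_iff_commute.2 (D.c36 _ _)
    c45 := fun s t => commutatorElement_eq_one_iff_commute.2 (D.c45 _ _)
    c46 := fun s t => commutatorElement_eq_one_iff_commute.2 (D.c46 _ _)
    c56 := fun s t => commutatorElement_eq_one_iff_commute.2 (D.c56 _ _) }

/-- The package with its root datum. -/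
noncomputable def toRoot2 (D : HexDat G F K) {φ : K ≃+* K} (h : Auto D φ) (h1 : ∀ t, φ t = t)
    (hbr : Commute D.nI (D.nJ * D.nI * D.nJ * D.nI⁻¹ * D.nJ⁻¹))
    (hgen : (D.r2 hbr).U ⊔ ((D.r2 hbr).XI' ⊔ (D.r2 hbr).XJ') = ⊤) : HexRoot (idF F) G where
  P := toPos2 D h h1
  c := D.r2 hbr
  hX k h1' h2 := by
    have hk : k = 1 ∨ k = 2 ∨ k = 3 ∨ k = 4 ∨ k = 5 ∨ k = 6 := by omega
    have hs : ∀ {x : K → G} {hx : ∀ a b, x (a + b) = x a * x b}
        {hx' : ∀ a b, x (D.β (a + b)) = x (D.β a) * x (D.β b)},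
        rootSub x hx = (hom (fun a => x (D.β a)) hx').range := by
      intro x hx hx'
      ext g
      rw [mem_rootSub, mem_hom_range]
      constructor
      · rintro ⟨a, rfl⟩
        obtain ⟨u, rfl⟩ := h.fixed a (h1 a)
        exact ⟨u, rfl⟩
      · rintro ⟨a, rfl⟩
        exact ⟨_, rfl⟩
    rcases hk with rfl | rfl | rfl | rfl | rfl | rfl
    · exact hs (hx := D.x1_add)
    · exact rootSub_eq
    · exact hs (hx := D.x3_add)
    · exact rootSub_eq
    · exact hs (hx := D.x5_add)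
    · exact rootSub_eq
  gen := hgen

/-- The split case: `G ≃* G₂(F)`. -/
theorem g2 [IsSimpleGroup G] (hG : ¬ IsMulCommutative G) (hF : ∃ a : F, a ≠ 0 ∧ a ≠ 1) (D : HexDat G F K)
    {φ : K ≃+* K} (h : Auto D φ) (h1 : ∀ t, φ t = t)
    (hbr : Commute D.nI (D.nJ * D.nI * D.nJ * D.nI⁻¹ * D.nJ⁻¹))
    (hgen : (D.r2 hbr).U ⊔ ((D.r2 hbr).XI' ⊔ (D.r2 hbr).XJ') = ⊤) : Nonempty (G ≃* ↥(chevG2.group F)) :=
  Cfsg.Agent.Hexagon.G2Ident.ident hG hF (toRoot2 D h h1 hbr hgen)

theorem odd_card {E : Type*} [Field E] [Fintype E] (h : (2 : E) ≠ 0) : Odd (Fintype.card E) := by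
  rw [Nat.odd_iff]
  apply FiniteField.odd_card_of_char_ne_two
  intro hc
  apply h
  have := ringChar.Nat.cast_ringChar (R := E)
  rw [hc] at this
  exact_mod_cast this

/-- the triality case for a given automorphism -/
theorem d4 [IsSimpleGroup G] (hG : ¬ IsMulCommutative G) [Fintype K] (D : HexDat G F K)
    {φ : K ≃+* K} (h : Auto D φ) {q : ℕ} (hq : IsPrimePow q) (hK : Fintype.card K = q ^ 3) (h1 : ∀ t, φ t = t ^ q)
    (hbr : Commute D.nI (D.nJ * D.nI * D.nJ * D.nI⁻¹ * D.nJ⁻¹))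
    (hgen : (D.r2 hbr).U ⊔ ((D.r2 hbr).XI' ⊔ (D.r2 hbr).XJ') = ⊤) : Nonempty (G ≃* ↥(twistedD4 K q)) := by
  let _ : Algebra F K := D.βh.toAlgebra
  let ψ : K ≃ₐ[F] K := AlgEquiv.ofRingEquiv (f := φ) (fun u => h.beta u)
  have hψ : Auto D (ψ : K ≃+* K) := h
  have hP : Pair ψ := ⟨h.three, fun t ht => h.fixed t ht⟩
  exact Cfsg.Agent.Hexagon.TwD4Ident.ident hq hK hP h1 hG (toRoot D (fun _ => rfl) ψ hψ hbr hgen)

/-- **The end**: a finite simple group with a hexagonal root datum. -/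
theorem main [Finite F] [Finite K] [IsSimpleGroup G] (D : HexDat G F K)
    (hbr : Commute D.nI (D.nJ * D.nI * D.nJ * D.nI⁻¹ * D.nJ⁻¹))
    (hgen : (D.r2 hbr).U ⊔ ((D.r2 hbr).XI' ⊔ (D.r2 hbr).XJ') = ⊤) :
    (∃ (E : Type) (_ : Field E) (_ : Fintype E), Odd (Fintype.card E) ∧ Nonempty (G ≃* ↥(chevG2.group E))) ∨
      ∃ (K : Type) (_ : Field K) (_ : Fintype K) (r : ℕ), Odd r ∧ Fintype.card K = r ^ 3 ∧
        Nonempty (G ≃* ↥(twistedD4 K r)) := by
  have hG : ¬ IsMulCommutative G := by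
    intro h
    have h1 := D.rel26 1 1
    rw [commutatorElement_eq_one_iff_mul_comm.2 (mul_comm' _ _)] at h1
    have h2 := D.x4_inj (h1.symm.trans D.x4_zero.symm)
    rw [one_mul, neg_eq_zero] at h2
    exact one_ne_zero h2
  obtain ⟨φ, h⟩ := exists_auto D
  by_cases h1 : ∀ t, φ t = t
  · left
    have hF : ∃ a : F, a ≠ 0 ∧ a ≠ 1 := by
      refine ⟨-1, neg_ne_zero.2 one_ne_zero, fun h => D.two ?_⟩
      linear_combination -h
    obtain ⟨e⟩ := g2 hG hF D h h1 hbr hgen
    obtain ⟨E, hE, hE', ⟨f⟩⟩ := Cfsg.Agent.PermutationGroups.FieldCoord.exists_small_field F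
    refine ⟨E, hE, hE', odd_card fun h2 => D.two ?_,
      ⟨e.trans (Cfsg.Agent.ChevalleyStructure.FieldIso.groupEquiv chevG2 f).symm⟩⟩
    have := congrArg f h2
    rwa [map_zero, map_ofNat] at this
  · right
    push Not at h1
    let _ := Fintype.ofFinite K
    have key : ∃ q : ℕ, IsPrimePow q ∧ Fintype.card K = q ^ 3 ∧ Nonempty (G ≃* ↥(twistedD4 K q)) := by
      obtain ⟨q, hq, hK, h2 | h2⟩ := Cfsg.Agent.Hexagon.CubeAut.cube_aut φ h.three h1
      · exact ⟨q, hq, hK, d4 hG D h hq hK h2 hbr hgen⟩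
      · exact ⟨q, hq, hK, d4 hG D (h.inv (ψ := φ.trans φ) fun _ => rfl) hq hK h2 hbr hgen⟩
    obtain ⟨q, -, hK, ⟨e⟩⟩ := key
    obtain ⟨E, hE, hE', ⟨f⟩⟩ := Cfsg.Agent.PermutationGroups.FieldCoord.exists_small_field K
    have hc : Fintype.card E = q ^ 3 := by rw [← hK]; exact Fintype.card_congr f.toEquiv
    refine ⟨E, hE, hE', q, ?_, hc, ⟨e.trans (Cfsg.Agent.Hexagon.D4Field.equiv f q).symm⟩⟩
    have ho : Odd (Fintype.card K) := odd_card D.two'
    rw [hK] at ho
    exact Nat.Odd.of_mul_left (n := q ^ 2) (by rwa [← pow_succ'])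

end Cfsg.Agent.GTwoOdd.HexLie
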