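import Cfsg.Agent.GTwoOdd.HexRTwo
import Cfsg.Agent.GTwoOdd.HexField
import Cfsg.Agent.Hexagon.RootIdent

/-!
# From `HexDat` to the hexagonal packages `HexPos`

`D : HexDat G F K`, `F`, `K` finite: the cubic norm structure is the one of an automorphism `φ` of `K`, and the
root groups of `D` form a package `HexPos φ G`.
-/

set_option autoImplicit false

namespace Cfsg.Agent.GTwoOdd.HexPosOf

open Cfsg.Agent.GTwoOdd.Hex
open Cfsg.Agent.Hexagon.Pos Cfsg.Agent.Hexagon.RootIdent
open Cfsg.Agent.Hex.Defs (sh cr nm tr)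
open Cfsg.Agent.TitsThree.RankTwoIdx
open scoped commutatorElement

variable {G : Type*} [Group G] {F K : Type*} [Field F] [Field K]

/-- the cubic norm structure of `D` -/
noncomputable def cubic (D : HexDat G F K) : HexField.Cubic F K where
  β := D.βh
  N := D.N
  T := D.T
  sh := D.sh
  cr := D.cr
  two := D.two'
  N_mul := D.N_mul
  N_one := D.N_one
  N_zero := D.N_zero
  N_β := D.N_β
  N_ne := D.N_ne
  N_neg := D.N_neg
  sh_def _ := rfl
  sh_add a b := by
    unfold HexDat.cr
    ring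
  cr_add_right := D.cr_add_right
  cr_smul_left := D.cr_smul_left
  cr_comm := D.cr_comm
  N_add := D.N_add
  T_smul_right := D.T_smul_right
  T_neg_left := D.T_neg_left
  T_zero_right := D.T_zero_right

/-- the automorphism -/
structure Auto (D : HexDat G F K) (φ : K ≃+* K) : Prop where
  beta : ∀ u, φ (D.β u) = D.β u
  three : ∀ t, φ (φ (φ t)) = t
  fixed : ∀ t, φ t = t → ∃ u, D.β u = t
  sh : ∀ a, D.sh a = φ a * φ (φ a)
  N : ∀ a, D.β (D.N a) = a * φ a * φ (φ a)
  T : ∀ a b, D.β (D.T a b) = a * b + φ (a * b) + φ (φ (a * b))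
  cr : ∀ a b, D.cr a b = φ a * φ (φ b) + φ (φ a) * φ b

theorem exists_auto [Finite K] (D : HexDat G F K) : ∃ φ : K ≃+* K, Auto D φ := by
  obtain ⟨φ, h1, h2, h3, h4, h5, h6, h7⟩ := (cubic D).exists_auto
  exact ⟨φ, h1, h2, h3, h4, h5, h6, h7⟩

/-- the inverse automorphism -/
theorem Auto.inv {D : HexDat G F K} {φ : K ≃+* K} (h : Auto D φ) {ψ : K ≃+* K} (hψ : ∀ t, ψ t = φ (φ t)) :
    Auto D ψ where
  beta u := by rw [hψ, h.beta, h.beta]
  three t := by simp only [hψ]; rw [h.three, h.three]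
  fixed t ht := by
    apply h.fixed
    rw [hψ] at ht
    have := congrArg φ ht
    rw [h.three] at this
    exact this.symm
  sh a := by rw [hψ, hψ, h.sh, h.three]; ring
  N a := by rw [hψ, hψ, h.N, h.three]; ring
  T a b := by rw [hψ, hψ, h.T, h.three]; ring
  cr a b := by
    rw [hψ, hψ, hψ, hψ, h.cr]
    simp only [h.three]
    ring

/-- the same root groups, parametrised by the fixed field -/
theorem rootSub_eq {E : Type*} [AddGroup E] {x : E → G} {hx : ∀ a b, x (a + b) = x a * x b} :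
    rootSub x hx = (hom x hx).range := by
  ext g
  rw [mem_rootSub, mem_hom_range]

section three

variable [Algebra F K]

/-- The package of `D`. -/
noncomputable def toPos (D : HexDat G F K) (hβ : ∀ u, algebraMap F K u = D.β u) (φ : K ≃ₐ[F] K)
    (h : Auto D (φ : K ≃+* K)) : HexPos φ G :=
  have hp : Pair φ := ⟨h.three, fun t ht => by
    obtain ⟨u, hu⟩ := h.fixed t ht
    exact ⟨u, by rw [hβ, hu]⟩⟩
  have hinj : Function.Injective (algebraMap F K) := (algebraMap F K).injective
  have hT : ∀ a b, D.T a b = tr φ (a * b) := fun a b => hinj (by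
    rw [hβ, h.T, algebraMap_tr hp]; rfl)
  have hN : ∀ a, D.N a = nm φ a := fun a => hinj (by
    rw [hβ, h.N, algebraMap_nm hp]; rfl)
  have hsh : ∀ a, D.sh a = sh φ a := fun a => h.sh a
  have hcr : ∀ a b, D.cr a b = cr φ a b := fun a b => h.cr a b
  have hs : ∀ (u : F) (a : K), D.β u * a = u • a := fun u a => by rw [Algebra.smul_def, hβ]
  { x1 := D.x1
    x2 := D.x2
    x3 := D.x3
    x4 := D.x4
    x5 := D.x5
    x6 := D.x6
    add1 := D.x1_add
    add2 := D.x2_add
    add3 := D.x3_add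
    add4 := D.x4_add
    add5 := D.x5_add
    add6 := D.x6_add
    inj1 := fun t ht => D.x1_inj (ht.trans D.x1_zero.symm)
    inj2 := fun t ht => (D.x24_eq_one (b := t) (d := 0) (by rw [ht, D.x4_zero, one_mul])).1
    inj3 := fun t ht => by
      have := D.uniq' (a := 0) (b := 0) (c := t) (d := 0) (e := 0) (f := 0) (by
        simp only [HexDat.nf, D.x1_zero, D.x2_zero, D.x4_zero, D.x5_zero, D.x6_zero, ht, one_mul])
      exact this.2.2.1
    inj4 := fun t ht => D.x4_inj (ht.trans D.x4_zero.symm)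
    inj5 := fun t ht => by
      have := D.uniq' (a := 0) (b := 0) (c := 0) (d := 0) (e := t) (f := 0) (by
        simp only [HexDat.nf, D.x1_zero, D.x2_zero, D.x3_zero, D.x4_zero, D.x6_zero, ht, one_mul])
      exact this.2.2.2.2.1
    inj6 := fun t ht => D.x6_inj (ht.trans D.x6_zero.symm)
    r13 := fun a b => by rw [D.rel13, hT]
    r35 := fun a b => by rw [D.rel35, hT]
    r26 := D.rel26
    r15 := fun a b => by rw [D.rel15, hT, hT, hsh, hsh, hcr, mul_comm b]
    r16 := fun a u => by rw [D.rel16, hN, hsh, mul_comm (sh φ a), hs, hs, ← pow_two]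
    c12 := fun s t => commutatorElement_eq_one_iff_commute.2 (D.c12 s t)
    c14 := fun s t => commutatorElement_eq_one_iff_commute.2 (D.c14 s t)
    c23 := fun s t => commutatorElement_eq_one_iff_commute.2 (D.c23 s t)
    c24 := fun s t => commutatorElement_eq_one_iff_commute.2 (D.c24 s t)
    c25 := fun s t => commutatorElement_eq_one_iff_commute.2 (D.c25 s t)
    c34 := fun s t => commutatorElement_eq_one_iff_commute.2 (D.c34 s t)
    c36 := fun s t => commutatorElement_eq_one_iff_commute.2 (D.c36 s t)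
    c45 := fun s t => commutatorElement_eq_one_iff_commute.2 (D.c45 s t)
    c46 := fun s t => commutatorElement_eq_one_iff_commute.2 (D.c46 s t)
    c56 := fun s t => commutatorElement_eq_one_iff_commute.2 (D.c56 s t) }

/-- The package with its root datum. -/
noncomputable def toRoot (D : HexDat G F K) (hβ : ∀ u, algebraMap F K u = D.β u) (φ : K ≃ₐ[F] K)
    (h : Auto D (φ : K ≃+* K)) (hbr : Commute D.nI (D.nJ * D.nI * D.nJ * D.nI⁻¹ * D.nJ⁻¹))
    (hgen : (D.r2 hbr).U ⊔ ((D.r2 hbr).XI' ⊔ (D.r2 hbr).XJ') = ⊤) : HexRoot φ G where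
  P := toPos D hβ φ h
  c := D.r2 hbr
  hX k h1 h2 := by
    have hk : k = 1 ∨ k = 2 ∨ k = 3 ∨ k = 4 ∨ k = 5 ∨ k = 6 := by omega
    rcases hk with rfl | rfl | rfl | rfl | rfl | rfl
    all_goals exact rootSub_eq
  gen := hgen

end three

end Cfsg.Agent.GTwoOdd.HexPosOf
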