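import Cfsg.Agent.GTwoOdd.HexTable

/-!
# The positive relations
-/

set_option autoImplicit false
set_option linter.unusedSimpArgs false

namespace Cfsg.Agent.GTwoOdd.Hex

namespace HexDat

open HexPre

variable {G : Type*} [Group G] {F K : Type*} [Field F] [Field K] (D : HexDat G F K)

/-! ### the remaining maps -/

noncomputable def P5 (a b : K) : F := (D.i15 a b).choose
noncomputable def Q5 (a b : K) : K := (D.i15 a b).choose_spec.choose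
noncomputable def M5 (a b : K) : F := (D.i15 a b).choose_spec.choose_spec.choose

theorem x1_x5' (a b : K) : D.x1 a * D.x5 b =
    D.x2 (D.P5 a b) * D.x3 (D.Q5 a b) * D.x4 (D.M5 a b) * D.x5 b * D.x1 a :=
  (D.i15 a b).choose_spec.choose_spec.choose_spec

noncomputable def A6 (a : K) (u : F) : F := (D.i16 a u).choose
noncomputable def S6 (a : K) (u : F) : K := (D.i16 a u).choose_spec.choose
noncomputable def M6 (a : K) (u : F) : F := (D.i16 a u).choose_spec.choose_spec.choose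
noncomputable def R6 (a : K) (u : F) : K := (D.i16 a u).choose_spec.choose_spec.choose_spec.choose

theorem x1_x6' (a : K) (u : F) : D.x1 a * D.x6 u =
    D.x2 (D.A6 a u) * D.x3 (D.S6 a u) * D.x4 (D.M6 a u) * D.x5 (D.R6 a u) * D.x6 u * D.x1 a :=
  (D.i16 a u).choose_spec.choose_spec.choose_spec.choose_spec

/-! ### collection -/

theorem r32 (a : K) (v : F) : D.x3 a * D.x2 v = D.x2 v * D.x3 a := (D.c23 v a).symm.eq
theorem r42 (u v : F) : D.x4 u * D.x2 v = D.x2 v * D.x4 u := (D.c24 v u).symm.eq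
theorem r43 (u : F) (a : K) : D.x4 u * D.x3 a = D.x3 a * D.x4 u := (D.c34 a u).symm.eq
theorem r52 (a : K) (v : F) : D.x5 a * D.x2 v = D.x2 v * D.x5 a := (D.c25 v a).symm.eq
theorem r53 (a b : K) : D.x5 a * D.x3 b = D.x3 b * (D.x4 (D.T a b) * D.x5 a) := by
  rw [D.x5_x3, D.r43, mul_assoc]
theorem r54 (a : K) (v : F) : D.x5 a * D.x4 v = D.x4 v * D.x5 a := (D.c45 v a).symm.eq
theorem r62 (u v : F) : D.x6 u * D.x2 v = D.x2 v * (D.x4 (u * v) * D.x6 u) := by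
  rw [D.x6_x2, D.r42, mul_assoc]
theorem r63 (u : F) (a : K) : D.x6 u * D.x3 a = D.x3 a * D.x6 u := (D.c36 a u).symm.eq
theorem r64 (u v : F) : D.x6 u * D.x4 v = D.x4 v * D.x6 u := (D.c46 v u).symm.eq
theorem r65 (u : F) (a : K) : D.x6 u * D.x5 a = D.x5 a * D.x6 u := (D.c56 a u).symm.eq
theorem r12 (a : K) (v : F) : D.x1 a * D.x2 v = D.x2 v * D.x1 a := (D.c12 a v).eq
theorem r13 (a b : K) : D.x1 a * D.x3 b = D.x2 (D.T a b) * (D.x3 b * D.x1 a) := by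
  rw [D.x1_x3, mul_assoc]
theorem r14 (a : K) (v : F) : D.x1 a * D.x4 v = D.x4 v * D.x1 a := (D.c14 a v).eq
theorem r15 (a b : K) : D.x1 a * D.x5 b =
    D.x2 (D.P5 a b) * (D.x3 (D.Q5 a b) * (D.x4 (D.M5 a b) * (D.x5 b * D.x1 a))) := by
  rw [D.x1_x5']; simp only [mul_assoc]
theorem r16 (a : K) (u : F) : D.x1 a * D.x6 u =
    D.x2 (D.A6 a u) * (D.x3 (D.S6 a u) * (D.x4 (D.M6 a u) * (D.x5 (D.R6 a u) * (D.x6 u * D.x1 a)))) := by
  rw [D.x1_x6']; simp only [mul_assoc]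

theorem tail {a b c : G} (h : a * b = c) (z : G) : a * (b * z) = c * z := by rw [← mul_assoc, h]

theorem nf_mul (b : F) (c : K) (d : F) (e : K) (f : F) (b' : F) (c' : K) (d' : F) (e' : K) (f' : F) :
    D.nf b c d e f * D.nf b' c' d' e' f' =
      D.nf (b + b') (c + c') (d + d' + f * b' + D.T e c') (e + e') (f + f') := by
  have e1 : d + d' + f * b' + D.T e c' = d + (D.T e c' + (f * b' + d')) := by ring
  rw [e1]
  simp only [nf, D.x2_add, D.x3_add, D.x4_add, D.x5_add, D.x6_add, mul_assoc]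
  simp only [D.r32, D.r42, D.r43, D.r52, D.r53, D.r54, D.r62, D.r63, D.r64, D.r65, tail (D.r32 _ _), tail (D.r42 _ _),
    tail (D.r43 _ _), tail (D.r52 _ _), tail (D.r53 _ _), tail (D.r54 _ _), tail (D.r62 _ _), tail (D.r63 _ _),
    tail (D.r64 _ _), tail (D.r65 _ _), mul_assoc]

theorem T_zero_left (b : K) : D.T 0 b = 0 := by
  have h := D.x5_x3 0 b
  rw [D.x5_zero, one_mul, mul_one] at h
  have h1 : D.x4 (D.T 0 b) = D.x4 0 := by
    rw [D.x4_zero]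
    exact (right_eq_mul.mp h)
  exact D.x4_inj h1

theorem nf_inj {b b' : F} {c c' : K} {d d' : F} {e e' : K} {f f' : F}
    (h : D.nf b c d e f = D.nf b' c' d' e' f') : b = b' ∧ c = c' ∧ d = d' ∧ e = e' ∧ f = f' := by
  have h1 : D.nf (b - b') (c - c') (d - d' - (f - f') * b' - D.T (e - e') c') (e - e') (f - f') *
      D.nf b' c' d' e' f' = D.nf b c d e f := by
    rw [D.nf_mul]
    congr 1 <;> ring
  rw [h] at h1
  have h2 := mul_eq_right.1 h1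
  have h3 := D.uniq' (a := 0) (by rw [h2, D.x1_zero, mul_one])
  obtain ⟨-, h4, h5, h6, h7, h8⟩ := h3
  have e7 : e = e' := sub_eq_zero.1 h7
  have e8 : f = f' := sub_eq_zero.1 h8
  refine ⟨sub_eq_zero.1 h4, sub_eq_zero.1 h5, ?_, e7, e8⟩
  rw [e7, e8, sub_self, sub_self, D.T_zero_left, zero_mul, sub_zero, sub_zero] at h6
  exact sub_eq_zero.1 h6

theorem nf_zero : D.nf 0 0 0 0 0 = 1 := by
  rw [nf, D.x2_zero, D.x3_zero, D.x4_zero, D.x5_zero, D.x6_zero]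
  group

theorem nf_inv (b : F) (c : K) (d : F) (e : K) (f : F) :
    (D.nf b c d e f)⁻¹ = D.nf (-b) (-c) (-d + f * b - D.T (-e) c) (-e) (-f) := by
  symm
  apply eq_inv_of_mul_eq_one_left
  rw [D.nf_mul, ← D.nf_zero]
  congr 1 <;> ring

theorem nf_x1_inj {a a' : K} {b b' : F} {c c' : K} {d d' : F} {e e' : K} {f f' : F}
    (h : D.nf b c d e f * D.x1 a = D.nf b' c' d' e' f' * D.x1 a') :
    a = a' ∧ b = b' ∧ c = c' ∧ d = d' ∧ e = e' ∧ f = f' := by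
  have h1 : (D.nf b' c' d' e' f')⁻¹ * D.nf b c d e f * D.x1 (a - a') = 1 := by
    rw [sub_eq_add_neg, D.x1_add, D.x1_neg]
    have : (D.nf b' c' d' e' f')⁻¹ * D.nf b c d e f * (D.x1 a * (D.x1 a')⁻¹) =
      (D.nf b' c' d' e' f')⁻¹ * (D.nf b c d e f * D.x1 a) * (D.x1 a')⁻¹ := by group
    rw [this, h]
    group
  have h2 := h1
  rw [D.nf_inv, D.nf_mul] at h2
  have h3 : a = a' := sub_eq_zero.1 (D.uniq' h2).1
  rw [h3, sub_self, D.x1_zero, mul_one] at h1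
  exact ⟨h3, D.nf_inj (inv_mul_eq_one.1 h1).symm⟩

theorem x1_nf (a : K) (b : F) (c : K) (d : F) (e : K) (f : F) :
    D.x1 a * D.nf b c d e f =
      D.nf (b + D.T a c + D.P5 a e + D.A6 a f) (c + D.Q5 a e + D.S6 a f)
        (d + D.M5 a e + D.T e (D.S6 a f) + D.M6 a f) (e + D.R6 a f) f * D.x1 a := by
  simp only [nf, D.x2_add, D.x3_add, D.x4_add, D.x5_add, D.x6_add, mul_assoc]
  simp only [D.r32, D.r42, D.r43, D.r52, D.r53, D.r54, D.r62, D.r63, D.r64, D.r65, tail (D.r32 _ _), tail (D.r42 _ _),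
    tail (D.r43 _ _), tail (D.r52 _ _), tail (D.r53 _ _), tail (D.r54 _ _), tail (D.r62 _ _), tail (D.r63 _ _),
    tail (D.r64 _ _), tail (D.r65 _ _), D.r12, D.r13, D.r14, D.r15, D.r16, tail (D.r12 _ _), tail (D.r13 _ _),
    tail (D.r14 _ _), tail (D.r15 _ _), tail (D.r16 _ _), mul_assoc]

theorem nI_nf (b : F) (c : K) (d : F) (e : K) (f : F) :
    MulAut.conj D.nI (D.nf b c d e f) = D.nf f e (d + -b * f + D.T (-c) e) (-c) (-b) := by
  rw [show d + -b * f + D.T (-c) e = -b * f + (D.T (-c) e + d) by ring]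
  simp only [nf, map_mul, D.nI_x2, D.nI_x3, D.nI_x4, D.nI_x5, D.nI_x6, D.x4_add, mul_assoc]
  simp only [D.r32, D.r42, D.r43, D.r52, D.r53, D.r54, D.r62, D.r63, D.r64, D.r65, tail (D.r32 _ _), tail (D.r42 _ _),
    tail (D.r43 _ _), tail (D.r52 _ _), tail (D.r53 _ _), tail (D.r54 _ _), tail (D.r62 _ _), tail (D.r63 _ _),
    tail (D.r64 _ _), tail (D.r65 _ _), mul_assoc]

/-! ### the zero values -/

theorem six_zero (a : K) : D.A6 a 0 = 0 ∧ D.S6 a 0 = 0 ∧ D.M6 a 0 = 0 ∧ D.R6 a 0 = 0 := by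
  have h := D.x1_x6' a 0
  rw [D.x6_zero, mul_one, mul_one] at h
  have h1 : D.nf (D.A6 a 0) (D.S6 a 0) (D.M6 a 0) (D.R6 a 0) 0 * D.x1 a = D.nf 0 0 0 0 0 * D.x1 a := by
    rw [D.nf_zero, one_mul, nf, D.x6_zero, mul_one]
    exact h.symm
  obtain ⟨-, h2, h3, h4, h5, -⟩ := D.nf_x1_inj h1
  exact ⟨h2, h3, h4, h5⟩

/-! ### the first components of `[x1 a, x6 u]` -/

theorem y6_x5 {u : F} (hu : u ≠ 0) (a : K) :
    MulAut.conj (D.x6 u) (D.x1 a) = MulAut.conj (D.y6 u⁻¹) (D.x5 (D.β u * a)) := by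
  have h1 : D.x6 u * D.y6 (-u⁻¹) * D.x6 u = D.hJ u * D.nJ := D.J.xyx u hu
  have h2 := congrArg (fun g => MulAut.conj g (D.x1 a)) h1
  simp only [conj_mul_apply] at h2
  rw [D.nJ_x1, D.hJ_x5 hu] at h2
  have h3 := congrArg (MulAut.conj (D.x6 u)⁻¹) h2
  rw [← conj_mul_apply, inv_mul_cancel, map_one, MulAut.one_apply,
    conj_of_commute (D.c56 (D.β u * a) u).symm.inv_left] at h3
  have h4 := congrArg (MulAut.conj (D.y6 (-u⁻¹))⁻¹) h3
  rw [← conj_mul_apply, inv_mul_cancel, map_one, MulAut.one_apply] at h4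
  rw [h4, ← D.y6_neg, neg_neg]

theorem R6_eq (a : K) (u : F) : D.R6 a u = -(D.β u * a) := by
  by_cases hu : u = 0
  · rw [hu, D.β_zero, zero_mul, neg_zero, (D.six_zero a).2.2.2]
  set c := D.β u * a with hc
  have h1 := D.y6_x5 hu a
  -- left side
  have h2 : MulAut.conj (D.x6 u) (D.x1 a) = (D.nf (D.A6 a u) (D.S6 a u) (D.M6 a u) (D.R6 a u) 0)⁻¹ * D.x1 a := by
    have h := D.x1_x6' a u
    rw [MulAut.conj_apply, nf, D.x6_zero, mul_one, eq_inv_mul_iff_mul_eq]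
    calc D.x2 (D.A6 a u) * D.x3 (D.S6 a u) * D.x4 (D.M6 a u) * D.x5 (D.R6 a u) * (D.x6 u * D.x1 a * (D.x6 u)⁻¹)
        = (D.x2 (D.A6 a u) * D.x3 (D.S6 a u) * D.x4 (D.M6 a u) * D.x5 (D.R6 a u) * D.x6 u * D.x1 a) * (D.x6 u)⁻¹ := by group
      _ = D.x1 a := by rw [← h]; group
  -- right side
  have h3 : MulAut.conj (D.y6 u⁻¹) (D.x5 c) =
      (D.nf (-D.M6 c (-u⁻¹)) (D.S6 c (-u⁻¹)) (D.A6 c (-u⁻¹)) 0 0 * D.x1 (-D.R6 c (-u⁻¹)))⁻¹ * D.x5 c := by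
    have h := D.x1_x6' c (-u⁻¹)
    set A := D.A6 c (-u⁻¹)
    set S := D.S6 c (-u⁻¹)
    set M := D.M6 c (-u⁻¹)
    set R := D.R6 c (-u⁻¹)
    have h4 : MulAut.conj (D.x6 (-u⁻¹)) (D.x1 c) = (D.x2 A * D.x3 S * D.x4 M * D.x5 R)⁻¹ * D.x1 c := by
      rw [MulAut.conj_apply, eq_inv_mul_iff_mul_eq]
      calc D.x2 A * D.x3 S * D.x4 M * D.x5 R * (D.x6 (-u⁻¹) * D.x1 c * (D.x6 (-u⁻¹))⁻¹)
          = (D.x2 A * D.x3 S * D.x4 M * D.x5 R * D.x6 (-u⁻¹) * D.x1 c) * (D.x6 (-u⁻¹))⁻¹ := by group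
        _ = D.x1 c := by rw [← h]; group
    have h5 := congrArg (MulAut.conj D.nJ) h4
    rw [conj_conj, D.nJ_x6, neg_neg, D.nJ_x1, map_mul, map_inv, map_mul, map_mul, map_mul, D.nJ_x2, D.nJ_x3,
      D.nJ_x4, D.nJ_x5, D.nJ_x1] at h5
    rw [h5]
    congr 2
    rw [nf, D.x5_zero, D.x6_zero, mul_one, mul_one]
    congr 1
    rw [D.r43, mul_assoc, D.r42, ← mul_assoc, ← D.r32]
  rw [h2, h3] at h1
  set V := D.nf (-D.M6 c (-u⁻¹)) (D.S6 c (-u⁻¹)) (D.A6 c (-u⁻¹)) 0 0 with hV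
  set U := D.nf (D.A6 a u) (D.S6 a u) (D.M6 a u) (D.R6 a u) 0 with hU
  have h6 : V * D.x1 (-D.R6 c (-u⁻¹)) = D.x5 c * (D.x1 (-a) * U) := by
    rw [D.x1_neg a]
    have h7 : V * D.x1 (-D.R6 c (-u⁻¹)) * (U⁻¹ * D.x1 a) = D.x5 c := by rw [h1]; group
    rw [← h7]
    group
  rw [hU, D.x1_nf, ← mul_assoc] at h6
  have h8 : D.x5 c = D.nf 0 0 0 c 0 := by
    rw [nf, D.x2_zero, D.x3_zero, D.x4_zero, D.x6_zero]
    group
  rw [h8, D.nf_mul, hV] at h6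
  have h9 := (D.nf_x1_inj h6).2.2.2.2.1
  rw [(D.six_zero (-a)).2.2.2] at h9
  linear_combination -h9

/-- the key relation -/
theorem x1_x6_conj {a : K} (ha : a ≠ 0) (u : F) :
    MulAut.conj (D.x1 a) (D.x6 u) = MulAut.conj (D.y1 a⁻¹) (D.x2 (D.N a * u)) := by
  have h1 : D.x1 a * D.y1 (-a⁻¹) * D.x1 a = D.hI a * D.nI := D.I.xyx a ha
  have h2 := congrArg (fun g => MulAut.conj g (D.x6 u)) h1
  simp only [conj_mul_apply] at h2
  rw [D.nI_x6, D.hI_x2 ha] at h2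
  have h3 := congrArg (MulAut.conj (D.x1 a)⁻¹) h2
  rw [← conj_mul_apply, inv_mul_cancel, map_one, MulAut.one_apply,
    conj_of_commute (D.c12 a (D.N a * u)).inv_left] at h3
  have h4 := congrArg (MulAut.conj (D.y1 (-a⁻¹))⁻¹) h3
  rw [← conj_mul_apply, inv_mul_cancel, map_one, MulAut.one_apply] at h4
  rw [h4, ← D.y1_neg, neg_neg]

theorem conj_x1_nf (a : K) (b : F) (c : K) (d : F) (e : K) (f : F) :
    MulAut.conj (D.x1 a) (D.nf b c d e f) =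
      D.nf (b + D.T a c + D.P5 a e + D.A6 a f) (c + D.Q5 a e + D.S6 a f)
        (d + D.M5 a e + D.T e (D.S6 a f) + D.M6 a f) (e + D.R6 a f) f := by
  rw [MulAut.conj_apply, D.x1_nf]
  group

theorem x6_eq_nf (u : F) : D.x6 u = D.nf 0 0 0 0 u := by
  rw [nf, D.x2_zero, D.x3_zero, D.x4_zero, D.x5_zero]; group

theorem x5_eq_nf (a : K) : D.x5 a = D.nf 0 0 0 a 0 := by
  rw [nf, D.x2_zero, D.x3_zero, D.x4_zero, D.x6_zero]; group

theorem x3_eq_nf (a : K) : D.x3 a = D.nf 0 a 0 0 0 := by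
  rw [nf, D.x2_zero, D.x5_zero, D.x4_zero, D.x6_zero]; group

theorem T_zero_right (a : K) : D.T a 0 = 0 := by
  have h := D.x1_x3 a 0
  rw [D.x3_zero, mul_one, mul_one] at h
  have h1 : D.x2 (D.T a 0) * D.x4 0 = 1 := by
    rw [D.x4_zero, mul_one]
    exact (right_eq_mul.mp h)
  exact (D.x24_eq_one h1).1

theorem five_zero (a : K) : D.P5 a 0 = 0 ∧ D.Q5 a 0 = 0 ∧ D.M5 a 0 = 0 := by
  have h := D.x1_x5' a 0
  rw [D.x5_zero, mul_one, mul_one] at h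
  have h1 : D.nf (D.P5 a 0) (D.Q5 a 0) (D.M5 a 0) 0 0 * D.x1 a = D.nf 0 0 0 0 0 * D.x1 a := by
    rw [D.nf_zero, one_mul, nf, D.x5_zero, D.x6_zero, mul_one, mul_one]
    exact h.symm
  obtain ⟨-, h2, h3, h4, -, -⟩ := D.nf_x1_inj h1
  exact ⟨h2, h3, h4⟩

theorem six_aux {a : K} (ha : a ≠ 0) (u : F) :
    D.A6 a u = D.N a * u ∧ D.S6 a u = D.β (D.N a * u) * a⁻¹ := by
  have h1 := D.x1_x6_conj ha u
  set v := D.N a * u
  have h2 : D.y1 a⁻¹ = MulAut.conj D.nI (D.x1 (-a⁻¹)) := by rw [D.nI_x1, neg_neg]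
  rw [h2, ← D.nI_x6 v, ← conj_conj, D.x6_eq_nf v, D.conj_x1_nf, D.nI_nf, D.x6_eq_nf u, D.conj_x1_nf] at h1
  obtain ⟨h3, h4, -, -, -⟩ := D.nf_inj h1
  rw [D.T_zero_right, (D.five_zero a).1] at h3
  rw [(D.five_zero a).2.1, D.R6_eq] at h4
  constructor
  · linear_combination h3
  · linear_combination h4

/-- `a# = N a / a` -/
noncomputable def sh (a : K) : K := D.β (D.N a) * a⁻¹

theorem sh_zero : D.sh 0 = 0 := by rw [sh, inv_zero, mul_zero]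

theorem A6_eq (a : K) (u : F) : D.A6 a u = D.N a * u := by
  by_cases ha : a = 0
  · have h := D.x1_x6' a u
    rw [ha, D.x1_zero, one_mul, mul_one] at h
    have h1 : D.nf 0 0 0 0 u = D.nf (D.A6 0 u) (D.S6 0 u) (D.M6 0 u) (D.R6 0 u) u := by
      rw [← D.x6_eq_nf, nf]; exact h
    rw [ha, D.N_zero, zero_mul]
    exact (D.nf_inj h1).1.symm
  · exact (D.six_aux ha u).1

theorem S6_eq (a : K) (u : F) : D.S6 a u = D.sh a * D.β u := by
  by_cases ha : a = 0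
  · have h := D.x1_x6' a u
    rw [ha, D.x1_zero, one_mul, mul_one] at h
    have h1 : D.nf 0 0 0 0 u = D.nf (D.A6 0 u) (D.S6 0 u) (D.M6 0 u) (D.R6 0 u) u := by
      rw [← D.x6_eq_nf, nf]; exact h
    rw [ha, D.sh_zero, zero_mul]
    exact (D.nf_inj h1).2.1.symm
  · rw [(D.six_aux ha u).2, D.β_mul, sh]
    ring

end HexDat

end Cfsg.Agent.GTwoOdd.Hex
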