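import Cfsg.Agent.GTwoOdd.HexFull

/-!
# Renaming of the root groups

* `flipL L` : `e2` composed with conjugation by `(0 1; -1 0)`; the even root groups are shifted by 6;
* `swapL L` : the two types are exchanged; `X' m = X (3 + 7 m)`.
-/

set_option autoImplicit false

namespace Cfsg.Agent.GTwoOdd.HexRename

open Matrix
open Cfsg.Agent.GTwoOdd.Hex
open Cfsg.Agent.GTwoOdd.LocalSL
open Cfsg.Agent.GTwoOdd.HexFrame
open Cfsg.Agent.GTwoOdd.HexFull

variable {G : Type*} [Group G] {t : G} {F1 F2 : Type*} [Field F1] [Field F2]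

/-! ### the flip -/

/-- `e2` composed with conjugation by `(0 1; -1 0)` -/
def flipL (L : LocalSL t F1 F2) : LocalSL t F1 F2 := L.conj (L.e2 (wn F2)) (e2_t _)

theorem flip_e1 (L : LocalSL t F1 F2) : (flipL L).e1 = L.e1 := by
  ext x
  change L.e2 (wn F2) * L.e1 x * (L.e2 (wn F2))⁻¹ = L.e1 x
  rw [← L.comm]
  group

theorem flip_e2 (L : LocalSL t F1 F2) (x : SL2 F2) : (flipL L).e2 x = L.e2 (wn F2 * x * (wn F2)⁻¹) := by
  change L.e2 (wn F2) * L.e2 x * (L.e2 (wn F2))⁻¹ = _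
  rw [map_mul, map_mul, map_inv]

theorem acts_flip {e : SL2 F2 →* G} {s : G} (h : Acts e s (dg F2)) :
    Acts ((MulAut.conj (e (wn F2))).toMonoidHom.comp e) s (dg F2) := by
  refine ⟨h.1, fun x y hxy => ?_⟩
  change s * (e (wn F2) * e x * (e (wn F2))⁻¹) = e (wn F2) * e y * (e (wn F2))⁻¹ * s
  have h1 : ((wn F2 * y * (wn F2)⁻¹ : SL2 F2) : M2 F2) * dg F2 = dg F2 * ((wn F2 * x * (wn F2)⁻¹ : SL2 F2) : M2 F2) := by
    have hw : (wn F2 : M2 F2) * dg F2 = -(dg F2 * wn F2) := wn_anti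
    have hwi : (((wn F2)⁻¹ : SL2 F2) : M2 F2) * dg F2 = -(dg F2 * ((wn F2)⁻¹ : SL2 F2)) := by
      have e1 : (wn F2)⁻¹ = -(wn F2) := by
        rw [inv_eq_iff_mul_eq_one, mul_neg, wn_wn]
        simp
      rw [e1]
      change (-(wn F2 : M2 F2)) * dg F2 = -(dg F2 * (-(wn F2 : M2 F2)))
      rw [neg_mul, hw, mul_neg]
    change (wn F2 : M2 F2) * (y : M2 F2) * (((wn F2)⁻¹ : SL2 F2) : M2 F2) * dg F2 =
      dg F2 * ((wn F2 : M2 F2) * (x : M2 F2) * (((wn F2)⁻¹ : SL2 F2) : M2 F2))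
    rw [mul_assoc, hwi, mul_neg, ← mul_assoc, mul_assoc (wn F2 : M2 F2), hxy, ← mul_assoc (wn F2 : M2 F2), hw]
    rw [neg_mul, neg_mul, neg_neg, mul_assoc, mul_assoc, mul_assoc]
  have h2 := h.2 _ _ h1
  rw [map_mul, map_mul, map_inv, map_mul, map_mul, map_inv] at h2
  exact h2

theorem rep_flip {L : LocalSL t F1 F2} {s : G} (h : L.Rep s (dg F1) (dg F2)) : (flipL L).Rep s (dg F1) (dg F2) :=
  ⟨h.comm, by rw [flip_e1]; exact h.acts1, acts_flip h.acts2⟩

variable [Finite F1] [Finite F2] {L : LocalSL t F1 F2} {s g : G}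

omit [Finite F1] [Finite F2] in
theorem split_flip (S : L.Split s g) : (flipL L).Split s g where
  hyp := S.toFrame.hyp.conj _ _
  rep := rep_flip S.toFrame.rep
  tr1 := S.toFrame.tr1
  tr2 := S.toFrame.tr2
  anti1 := S.toFrame.anti1
  anti2 := S.toFrame.anti2
  gt := S.gt
  gs := S.gs

omit [Finite F1] [Finite F2] in
theorem rho_flip (L : LocalSL t F1 F2) (g : G) : rho (flipL L) (wn F1) g = rho L (wn F1) g := by
  unfold rho rp
  rw [flip_e1]

omit [Finite F1] [Finite F2] in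
theorem baseX_flip_odd (L : LocalSL t F1 F2) {m : ℕ} (h : m % 2 = 1) : (flipL L).baseX m = L.baseX m := by
  have h4 : m % 4 = 1 ∨ m % 4 = 3 := by omega
  rcases h4 with h4 | h4
  · rw [baseX_1 _ h4, baseX_1 _ h4, flip_e1]
  · rw [baseX_3 _ h4, baseX_3 _ h4, flip_e1]

omit [Finite F1] [Finite F2] in
theorem baseX_flip_even (L : LocalSL t F1 F2) {m : ℕ} (h : m % 2 = 0) : (flipL L).baseX m = L.baseX (m + 6) := by
  have h4 : m % 4 = 0 ∨ m % 4 = 2 := by omega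
  rcases h4 with h4 | h4
  · rw [baseX_0 _ h4, L.baseX_2 (j := m + 6) (by omega)]
    ext x
    constructor
    · rintro ⟨_, ⟨a, rfl⟩, rfl⟩
      refine ⟨_, lo_mem (-a), ?_⟩
      rw [flip_e2, wn_up]
      congr 1
      group
    · rintro ⟨_, ⟨a, rfl⟩, rfl⟩
      refine ⟨_, up_mem (-a), ?_⟩
      rw [flip_e2, wn_up, neg_neg]
      congr 1
      group
  · rw [baseX_2 _ h4, L.baseX_0 (j := m + 6) (by omega)]
    ext x
    constructor
    · rintro ⟨_, ⟨a, rfl⟩, rfl⟩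
      refine ⟨_, up_mem (-a), ?_⟩
      rw [flip_e2, wn_lo]
      congr 1
      group
    · rintro ⟨_, ⟨a, rfl⟩, rfl⟩
      refine ⟨_, lo_mem (-a), ?_⟩
      rw [flip_e2, wn_lo, neg_neg]
      congr 1
      group

omit [Finite F1] [Finite F2] in
theorem XN_flip_odd (L : LocalSL t F1 F2) (g : G) {m : ℕ} (h : m % 2 = 1) : (flipL L).XN g m = L.XN g m := by
  unfold XN
  rw [rho_flip, baseX_flip_odd L h]

theorem XN_flip_even (S : L.Split s g) {m k : ℕ} (h : m % 2 = 0) (hk : (m + 6) % 12 = k % 12) :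
    (flipL L).XN g m = L.XN g k := by
  rw [S.XN_eq hk.symm]
  unfold XN
  rw [rho_flip, baseX_flip_even L h]
  exact (EqT.cjS_eq (T := TT L) (S.rho_mod (by omega)) (S.nT_rho.pow m) (fun c hc => S.cjS_base hc (m + 6))).symm

/-- the full case with `LS = 150` -/
theorem full_of_flip (S : L.Split s g) {R : Subgroup G}
    (h : Five (L.XN g 1) (L.XN g 8) (L.XN g 3) (L.XN g 10) (L.XN g 5) R) : Full (flipL L) g R := by
  unfold Full
  rw [XN_flip_odd L g (m := 1) (by norm_num), XN_flip_odd L g (m := 3) (by norm_num),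
    XN_flip_odd L g (m := 5) (by norm_num), XN_flip_even S (m := 2) (k := 8) (by norm_num) (by norm_num),
    XN_flip_even S (m := 4) (k := 10) (by norm_num) (by norm_num)]
  exact h

/-! ### the exchange of the types -/

omit [Finite F1] [Finite F2] in
/-- the two factors exchanged -/
def swapL (L : LocalSL t F1 F2) : LocalSL t F2 F1 where
  e1 := L.e2
  e2 := L.e1
  inj1 := L.inj2
  inj2 := L.inj1
  comm x y := (L.comm y x).symm
  neg1 := L.neg2
  neg2 := L.neg1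
  cent c hc h1 h2 := L.cent c hc h2 h1

omit [Finite F1] [Finite F2] in
theorem rep_swap {L : LocalSL t F1 F2} {c : G} {A : M2 F1} {B : M2 F2} (h : L.Rep c A B) : (swapL L).Rep c B A :=
  ⟨h.comm, h.acts2, h.acts1⟩

omit [Finite F1] [Finite F2] in
theorem rep_swap' {L : LocalSL t F1 F2} {c : G} {A : M2 F1} {B : M2 F2} (h : (swapL L).Rep c B A) : L.Rep c A B :=
  ⟨h.comm, h.acts2, h.acts1⟩

omit [Finite F1] [Finite F2] in
theorem hyp_swap {L : LocalSL t F1 F2} (H : L.Hyp) : (swapL L).Hyp where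
  norm1 := H.norm2
  norm2 := H.norm1
  comm_mem c d hc hd := by
    obtain ⟨x, y, h⟩ := H.comm_mem c d hc hd
    refine ⟨y, x, ?_⟩
    rw [h, L.comm]
    rfl
  sq_mem c hc h := by
    obtain ⟨A, B, h⟩ := h
    obtain ⟨A', B', h'⟩ := H.sq_mem c hc ⟨B, A, rep_swap' h⟩
    exact ⟨B', A', rep_swap h'⟩
  square_iff c A B h := (H.square_iff c B A (rep_swap' h)).symm
  outer := by
    obtain ⟨g, A, B, h, h1, h2, h3⟩ := H.outer
    exact ⟨g, B, A, rep_swap h, h2, h1, h3⟩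

omit [Finite F1] [Finite F2] in
theorem split_swap (S : L.Split s g) : (swapL L).Split s g where
  hyp := hyp_swap S.toFrame.hyp
  rep := rep_swap S.toFrame.rep
  tr1 := S.toFrame.tr2
  tr2 := S.toFrame.tr1
  anti1 := S.toFrame.anti2
  anti2 := S.toFrame.anti1
  gt := S.gt
  gs := S.gs

omit [Finite F1] [Finite F2] in
theorem TT_swap (L : LocalSL t F1 F2) : TT (swapL L) = TT L := by
  ext c
  constructor
  · rintro ⟨A, B, h, h1, h2⟩
    exact ⟨B, A, rep_swap' h, h2, h1⟩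
  · rintro ⟨A, B, h, h1, h2⟩
    exact ⟨B, A, rep_swap h, h2, h1⟩

/-- the two `ρ` agree modulo `T` -/
theorem ro_swap (S : L.Split s g) : EqT (TT L) (ro (swapL L) g) (ro L g) := by
  obtain ⟨τ, hτ, hw⟩ := S.w_g
  set a := L.e1 (wn F1) with ha
  set b := L.e2 (wn F2) with hb
  have hc : a * b = b * a := L.comm _ _
  have e1 : ro (swapL L) g = b * (g * b * g⁻¹) := rfl
  have e2 : ro L g = a * (g * a * g⁻¹) := rfl
  have h1 : a * a ∈ TT L := EqT.mem S.r1_sqT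
  have h2 : b * b ∈ TT L := EqT.mem S.r2_sqT
  have e3 : b * a⁻¹ = a * b * (a * a)⁻¹ := by rw [hc]; group
  have e4 : b * (g * b * g⁻¹) * (a * (g * a * g⁻¹))⁻¹ =
      (b * τ * b⁻¹) * (b * b) * (a * (g * (a * a)⁻¹ * g⁻¹) * a⁻¹) := by
    calc b * (g * b * g⁻¹) * (a * (g * a * g⁻¹))⁻¹ = b * (g * (b * a⁻¹) * g⁻¹) * a⁻¹ := by group
      _ = b * (g * (a * b * (a * a)⁻¹) * g⁻¹) * a⁻¹ := by rw [e3]
      _ = b * ((g * (a * b) * g⁻¹) * (g * (a * a)⁻¹ * g⁻¹)) * a⁻¹ := by group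
      _ = b * ((τ * (a * b)) * (g * (a * a)⁻¹ * g⁻¹)) * a⁻¹ := by rw [hw]
      _ = b * ((τ * (b * a)) * (g * (a * a)⁻¹ * g⁻¹)) * a⁻¹ := by rw [hc]
      _ = _ := by group
  rw [e1, e2]
  unfold EqT
  rw [e4]
  exact mul_mem (mul_mem (S.nT_r2.1 _ hτ) h2) (S.nT_r1.1 _ (S.nT_g.1 _ (inv_mem h1)))

omit [Finite F1] [Finite F2] in
theorem baseX_swap (L : LocalSL t F1 F2) {m k : ℕ} (h : (3 * m + 3) % 4 = k % 4) : (swapL L).baseX m = L.baseX k := by
  have h4 : m % 4 = 0 ∨ m % 4 = 1 ∨ m % 4 = 2 ∨ m % 4 = 3 := by omega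
  rcases h4 with h4 | h4 | h4 | h4
  · rw [baseX_0 _ h4, L.baseX_3 (j := k) (by omega)]; rfl
  · rw [baseX_1 _ h4, L.baseX_2 (j := k) (by omega)]; rfl
  · rw [baseX_2 _ h4, L.baseX_1 (j := k) (by omega)]; rfl
  · rw [baseX_3 _ h4, L.baseX_0 (j := k) (by omega)]; rfl

theorem ro_swap_pow (S : L.Split s g) (m : ℕ) : EqT (TT L) (ro (swapL L) g ^ m) (ro L g ^ m) := by
  induction m with
  | zero => rw [pow_zero, pow_zero]; exact EqT.refl 1
  | succ m ih =>
    rw [pow_succ, pow_succ]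
    exact EqT.mul (S.nT_rho.pow m) ih (ro_swap S)

/-- `X' m = X (3 + 7 m)` -/
theorem XN_swap (S : L.Split s g) {m k : ℕ} (h : (7 * m + 3) % 12 = k % 12) : (swapL L).XN g m = L.XN g k := by
  unfold XN
  rw [baseX_swap L (m := m) (k := k) (by omega)]
  have h1 : EqT (TT L) (rho (swapL L) (wn F2) g ^ m) (ro L g ^ m) := ro_swap_pow S m
  have h2 : EqT (TT L) (ro L g ^ m) (ro L g ^ k) := S.rho_mod (by omega)
  exact EqT.cjS_eq (T := TT L) (h1.trans h2) (S.nT_rho.pow k) (fun c hc => S.cjS_base hc k)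

end Cfsg.Agent.GTwoOdd.HexRename
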