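import Cfsg.Agent.GTwoOdd.HexDatum

/-!
# The commutation table and the first components
-/

set_option autoImplicit false

namespace Cfsg.Agent.GTwoOdd.Hex

/-- The data with the commutation table of a hexagonal root system (`X 4` is central in the
positive part). -/
structure HexDat (G : Type*) [Group G] (F K : Type*) [Field F] [Field K] extends HexPre G F K where
  two : (2 : F) ≠ 0
  two' : (2 : K) ≠ 0
  c14 : ∀ a v, Commute (toHexPre.x1 a) (toHexPre.x4 v)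
  cy14 : ∀ a v, Commute (toHexPre.y1 a) (toHexPre.x4 v)
  c36 : ∀ a v, Commute (toHexPre.x3 a) (toHexPre.x6 v)
  cy36 : ∀ a v, Commute (toHexPre.x3 a) (toHexPre.y6 v)
  c24 : ∀ u v, Commute (toHexPre.x2 u) (toHexPre.x4 v)
  c34 : ∀ a v, Commute (toHexPre.x3 a) (toHexPre.x4 v)
  i13 : ∀ a b, ∃ u, toHexPre.x1 a * toHexPre.x3 b = toHexPre.x2 u * toHexPre.x3 b * toHexPre.x1 a
  i26 : ∀ u v, ∃ c, toHexPre.x6 u * toHexPre.x2 v = toHexPre.x4 c * toHexPre.x2 v * toHexPre.x6 u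
  i15 : ∀ a b, ∃ A B C, toHexPre.x1 a * toHexPre.x5 b =
    toHexPre.x2 A * toHexPre.x3 B * toHexPre.x4 C * toHexPre.x5 b * toHexPre.x1 a
  i16 : ∀ a u, ∃ A B C R, toHexPre.x1 a * toHexPre.x6 u =
    toHexPre.x2 A * toHexPre.x3 B * toHexPre.x4 C * toHexPre.x5 R * toHexPre.x6 u * toHexPre.x1 a
  uniq : ∀ a b c d e f, toHexPre.x2 b * toHexPre.x3 c * toHexPre.x4 d * toHexPre.x5 e * toHexPre.x6 f * toHexPre.x1 a = 1 →
    a = 0 ∧ b = 0 ∧ c = 0 ∧ d = 0 ∧ e = 0 ∧ f = 0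

namespace HexDat

open HexPre

variable {G : Type*} [Group G] {F K : Type*} [Field F] [Field K] (D : HexDat G F K)

theorem comm_map (g : G) {x y : G} (h : Commute x y) : Commute (MulAut.conj g x) (MulAut.conj g y) :=
  h.map (MulAut.conj g)

theorem c46 (u v : F) : Commute (D.x4 u) (D.x6 v) := by
  have h := comm_map D.nI (D.c24 (-v) u)
  rw [D.nI_x2, neg_neg] at h
  have e : MulAut.conj D.nI (D.x4 u) = D.x4 u := by
    have h1 := D.c14 1 u
    have h2 := D.cy14 (-1) u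
    have h3 : Commute D.nI (D.x4 u) := by
      have : D.nI = D.x1 1 * D.y1 (-1) * D.x1 1 := D.I.n_eq
      rw [this]
      exact (h1.mul_left h2).mul_left h1
    rw [MulAut.conj_apply, h3.eq]
    group
  rw [e] at h
  exact h.symm

theorem nI_x4 (u : F) : MulAut.conj D.nI (D.x4 u) = D.x4 u := by
  have h1 := D.c14 1 u
  have h2 := D.cy14 (-1) u
  have h3 : Commute D.nI (D.x4 u) := by
    have : D.nI = D.x1 1 * D.y1 (-1) * D.x1 1 := D.I.n_eq
    rw [this]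
    exact (h1.mul_left h2).mul_left h1
  rw [MulAut.conj_apply, h3.eq]
  group

theorem nJ_x3 (a : K) : MulAut.conj D.nJ (D.x3 a) = D.x3 a := by
  have h1 := (D.c36 a 1).symm
  have h2 := (D.cy36 a (-1)).symm
  have h3 : Commute D.nJ (D.x3 a) := by
    have : D.nJ = D.x6 1 * D.y6 (-1) * D.x6 1 := D.J.n_eq
    rw [this]
    exact (h1.mul_left h2).mul_left h1
  rw [MulAut.conj_apply, h3.eq]
  group

theorem c45 (u : F) (a : K) : Commute (D.x4 u) (D.x5 a) := by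
  have h := comm_map D.nI (D.c34 (-a) u)
  rw [D.nI_x3, neg_neg, D.nI_x4] at h
  exact h.symm

theorem c12 (a : K) (u : F) : Commute (D.x1 a) (D.x2 u) := by
  have h := comm_map D.nJ (D.c45 (-u) (-a))
  rw [D.nJ_x5, neg_neg, D.nJ_x4, neg_neg] at h
  exact h.symm

theorem c23 (u : F) (a : K) : Commute (D.x2 u) (D.x3 a) := by
  have h := comm_map D.nJ (D.c34 a (-u))
  rw [D.nJ_x3, D.nJ_x4, neg_neg] at h
  exact h.symm

theorem c56 (a : K) (u : F) : Commute (D.x5 a) (D.x6 u) := by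
  have h := comm_map D.nI (D.c23 (-u) (-a))
  rw [D.nI_x3, neg_neg, D.nI_x2, neg_neg] at h
  exact h.symm

theorem c25 (u : F) (a : K) : Commute (D.x2 u) (D.x5 a) := by
  have h := comm_map D.nJ (D.c14 a (-u))
  rw [D.nJ_x1, D.nJ_x4, neg_neg] at h
  exact h.symm

theorem cy26 (v u : F) : Commute (D.x2 v) (D.y6 u) := by
  have h := comm_map D.nJ (D.c46 (-v) (-u))
  rw [D.nJ_x4, neg_neg, D.nJ_x6, neg_neg] at h
  exact h

theorem cy16 (a : K) (u : F) : Commute (D.y1 a) (D.x6 u) := by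
  have h := comm_map D.nI (D.c12 (-a) (-u))
  rw [D.nI_x1, neg_neg, D.nI_x2, neg_neg] at h
  exact h

/-! ### the maps -/

/-- `[x1 a, x3 b] = x2 (T a b)` -/
noncomputable def T (a b : K) : F := (D.i13 a b).choose

theorem x1_x3 (a b : K) : D.x1 a * D.x3 b = D.x2 (D.T a b) * D.x3 b * D.x1 a := (D.i13 a b).choose_spec

theorem x5_x3 (a b : K) : D.x5 a * D.x3 b = D.x4 (D.T a b) * D.x3 b * D.x5 a := by
  have h := congrArg (MulAut.conj D.nJ) (D.x1_x3 a b)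
  rwa [map_mul, map_mul, map_mul, D.nJ_x1, D.nJ_x3, D.nJ_x2] at h

/-- normal form -/
def nf (b : F) (c : K) (d : F) (e : K) (f : F) : G := D.x2 b * D.x3 c * D.x4 d * D.x5 e * D.x6 f

theorem uniq' {a : K} {b : F} {c : K} {d : F} {e : K} {f : F} (h : D.nf b c d e f * D.x1 a = 1) :
    a = 0 ∧ b = 0 ∧ c = 0 ∧ d = 0 ∧ e = 0 ∧ f = 0 := D.uniq a b c d e f h

/-! ### uniqueness -/

theorem x1_inj {a b : K} (h : D.x1 a = D.x1 b) : a = b := by
  have h1 : D.nf 0 0 0 0 0 * D.x1 (a - b) = 1 := by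
    rw [nf, D.x2_zero, D.x3_zero, D.x4_zero, D.x5_zero, D.x6_zero, sub_eq_add_neg, D.x1_add, D.x1_neg, h]
    group
  exact sub_eq_zero.1 (D.uniq' h1).1

theorem x6_inj {a b : F} (h : D.x6 a = D.x6 b) : a = b := by
  have h1 : D.nf 0 0 0 0 (a - b) * D.x1 0 = 1 := by
    rw [nf, D.x2_zero, D.x3_zero, D.x4_zero, D.x5_zero, D.x1_zero, sub_eq_add_neg, D.x6_add, D.x6_neg, h]
    group
  exact sub_eq_zero.1 (D.uniq' h1).2.2.2.2.2

theorem x24_eq_one {b d : F} (h : D.x2 b * D.x4 d = 1) : b = 0 ∧ d = 0 := by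
  have h1 : D.nf b 0 d 0 0 * D.x1 0 = 1 := by
    rw [nf, D.x3_zero, D.x5_zero, D.x6_zero, D.x1_zero]
    simpa using h
  exact ⟨(D.uniq' h1).2.1, (D.uniq' h1).2.2.2.1⟩

theorem x4_inj {a b : F} (h : D.x4 a = D.x4 b) : a = b := by
  have h1 : D.x2 0 * D.x4 (a - b) = 1 := by
    rw [D.x2_zero, sub_eq_add_neg, D.x4_add, D.x4_neg, h]
    group
  exact sub_eq_zero.1 (D.x24_eq_one h1).2

/-! ### `N` and `β` are multiplicative -/

theorem β_one : D.β 1 = 1 := by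
  have h := D.hJ_x1 one_ne_zero 1
  rw [show D.hJ 1 = 1 from D.J.h_one, map_one, MulAut.one_apply] at h
  have h1 := D.x1_inj h
  rw [mul_one] at h1
  rw [← inv_inv (D.β 1), ← h1, inv_one]

theorem N_one : D.N 1 = 1 := by
  have h := D.hI_x6 one_ne_zero 1
  rw [show D.hI 1 = 1 from D.I.h_one, map_one, MulAut.one_apply] at h
  have h1 := D.x6_inj h
  rw [mul_one] at h1
  rw [← inv_inv (D.N 1), ← h1, inv_one]

theorem β_mul (u v : F) : D.β (u * v) = D.β u * D.β v := by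
  by_cases hu : u = 0
  · rw [hu, zero_mul, D.β_zero, zero_mul]
  by_cases hv : v = 0
  · rw [hv, mul_zero, D.β_zero, mul_zero]
  have h := D.hJ_x1 (mul_ne_zero hu hv) 1
  rw [show D.hJ (u * v) = D.hJ u * D.hJ v from D.J.h_mul u v hu hv, conj_mul_apply, D.hJ_x1 hv, D.hJ_x1 hu] at h
  have h1 := D.x1_inj h
  rw [mul_one, mul_one, ← mul_inv] at h1
  exact (inv_injective h1).symm

theorem N_mul (a b : K) : D.N (a * b) = D.N a * D.N b := by
  by_cases ha : a = 0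
  · rw [ha, zero_mul, D.N_zero, zero_mul]
  by_cases hb : b = 0
  · rw [hb, mul_zero, D.N_zero, mul_zero]
  have h := D.hI_x6 (mul_ne_zero ha hb) 1
  rw [show D.hI (a * b) = D.hI a * D.hI b from D.I.h_mul a b ha hb, conj_mul_apply, D.hI_x6 hb, D.hI_x6 ha] at h
  have h1 := D.x6_inj h
  rw [mul_one, mul_one, ← mul_inv] at h1
  exact (inv_injective h1).symm

theorem β_inv (u : F) : D.β u⁻¹ = (D.β u)⁻¹ := by
  by_cases hu : u = 0
  · rw [hu, inv_zero, D.β_zero, inv_zero]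
  apply eq_inv_of_mul_eq_one_left
  rw [← D.β_mul, inv_mul_cancel₀ hu, D.β_one]

theorem N_inv (a : K) : D.N a⁻¹ = (D.N a)⁻¹ := by
  by_cases ha : a = 0
  · rw [ha, inv_zero, D.N_zero, inv_zero]
  apply eq_inv_of_mul_eq_one_left
  rw [← D.N_mul, inv_mul_cancel₀ ha, D.N_one]

/-! ### `x6` on `x2` -/

noncomputable def kk (u v : F) : F := (D.i26 u v).choose

theorem x6_x2' (u v : F) : D.x6 u * D.x2 v = D.x4 (D.kk u v) * D.x2 v * D.x6 u := (D.i26 u v).choose_spec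

theorem kk_zero_right (u : F) : D.kk u 0 = 0 := by
  have h := D.x6_x2' u 0
  rw [D.x2_zero, mul_one, mul_one] at h
  have h1 : D.x4 (D.kk u 0) = D.x4 0 := by
    rw [D.x4_zero]
    exact (right_eq_mul.mp h)
  exact D.x4_inj h1

theorem conj_x6_x2 (u v : F) : MulAut.conj (D.x6 u) (D.x2 v) = D.x4 (D.kk u v) * D.x2 v := by
  rw [MulAut.conj_apply, D.x6_x2']
  group

theorem conj_y6_x4 (u v : F) : MulAut.conj (D.y6 u) (D.x4 v) = D.x2 (-D.kk (-u) v) * D.x4 v := by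
  have h := congrArg (MulAut.conj D.nJ) (D.conj_x6_x2 (-u) v)
  rw [conj_conj, D.nJ_x6, neg_neg, D.nJ_x2, map_mul, D.nJ_x4, D.nJ_x2] at h
  exact h

theorem conj_of_commute {x y : G} (h : Commute x y) : MulAut.conj x y = y := by
  rw [MulAut.conj_apply, h.eq]
  group

theorem kk_eq {u : F} (hu : u ≠ 0) (v : F) : D.kk u v = (D.N (D.β u)⁻¹)⁻¹ * ((u * u)⁻¹ * v) := by
  have h1 : D.x6 u * D.y6 (-u⁻¹) * D.x6 u = D.hJ u * D.nJ := D.J.xyx u hu
  have h2 := congrArg (fun g => MulAut.conj g (D.x2 v)) h1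
  simp only [conj_mul_apply] at h2
  rw [D.nJ_x2, D.hJ_x4 hu, D.conj_x6_x2, map_mul, D.conj_y6_x4, conj_of_commute (D.cy26 v (-u⁻¹)).symm, mul_assoc,
    (D.c24 v (D.kk u v)).symm.eq, ← mul_assoc, ← D.x2_add, map_mul, D.conj_x6_x2,
    conj_of_commute (D.c46 (D.kk u v) u).symm] at h2
  set w := (D.N (D.β u)⁻¹)⁻¹ * ((u * u)⁻¹ * v) with hw
  set z := -D.kk (- -u⁻¹) (D.kk u v) + v with hz
  have h3 : D.x2 z * D.x4 (D.kk u z + D.kk u v - w) = 1 := by
    rw [sub_eq_add_neg, D.x4_add, D.x4_add, D.x4_neg, ← h2]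
    have := (D.c24 z (D.kk u z)).eq
    rw [← mul_assoc, ← mul_assoc, this]
    group
  obtain ⟨h4, h5⟩ := D.x24_eq_one h3
  rw [h4, D.kk_zero_right, zero_add] at h5
  exact sub_eq_zero.1 h5

theorem kk_symm (u v : F) : D.kk u v = - D.kk (-v) u := by
  have h := congrArg (MulAut.conj D.nI) (D.conj_x6_x2 u v)
  rw [conj_conj, D.nI_x6, D.nI_x2, map_mul, D.nI_x4, D.nI_x2] at h
  have h1 := D.x6_x2' (-v) u
  have h2 : D.x2 u * D.x6 (-v) = D.x4 (D.kk u v) * D.x6 (-v) * D.x2 u := by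
    rw [MulAut.conj_apply] at h
    exact mul_inv_eq_iff_eq_mul.1 h
  have h3 : D.x4 (D.kk (-v) u) * D.x4 (D.kk u v) = 1 := by
    have h4 : D.x4 (D.kk (-v) u) * (D.x4 (D.kk u v) * D.x6 (-v) * D.x2 u) = D.x6 (-v) * D.x2 u := by
      rw [← h2, h1, mul_assoc]
    have h5 : D.x4 (D.kk (-v) u) * D.x4 (D.kk u v) * (D.x6 (-v) * D.x2 u) = 1 * (D.x6 (-v) * D.x2 u) := by
      rw [one_mul, mul_assoc, ← mul_assoc (D.x4 (D.kk u v)), h4]
    exact mul_right_cancel h5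
  rw [← D.x4_add, ← D.x4_zero] at h3
  have h6 := D.x4_inj h3
  linear_combination h6

theorem kk_one (v : F) : D.kk 1 v = v := by
  rw [D.kk_eq one_ne_zero, D.β_one, inv_one, D.N_one, inv_one, mul_one, inv_one, one_mul, one_mul]

theorem kk_mul (u v : F) : D.kk u v = u * v := by
  have key : ∀ u v : F, u ≠ 0 → D.kk u v = u * v := by
    intro u v hu
    have h1 : ∀ w : F, w ≠ 0 → (D.N (D.β w)⁻¹)⁻¹ * (w * w)⁻¹ = w := by
      intro w hw
      have h2 := D.kk_symm 1 (-w)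
      rw [D.kk_one, neg_neg, D.kk_eq hw 1, mul_one] at h2
      linear_combination h2
    rw [D.kk_eq hu, ← mul_assoc, h1 u hu]
  by_cases hu : u = 0
  · rw [hu, zero_mul, D.kk_symm]
    by_cases hv : v = 0
    · rw [hv, neg_zero, D.kk_zero_right, neg_zero]
    · rw [D.kk_zero_right, neg_zero]
  · exact key u v hu

/-- `x6 u` on `x2 v` -/
theorem x6_x2 (u v : F) : D.x6 u * D.x2 v = D.x4 (u * v) * D.x2 v * D.x6 u := by
  rw [D.x6_x2', D.kk_mul]

theorem N_β (u : F) : D.N (D.β u) = u * u * u := by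
  by_cases hu : u = 0
  · rw [hu, D.β_zero, D.N_zero, mul_zero]
  have h := D.kk_eq hu 1
  have h0 := D.N_ne _ (D.β_ne u hu)
  rw [D.kk_mul, mul_one, mul_one, D.N_inv, inv_inv] at h
  field_simp at h
  linear_combination -h

theorem hJ_x2' {u : F} (hu : u ≠ 0) (v : F) : MulAut.conj (D.hJ u) (D.x2 v) = D.x2 (u⁻¹ * v) := by
  rw [D.hJ_x2 hu, D.N_inv, D.N_β]
  congr 1
  field_simp

theorem hJ_x4' {u : F} (hu : u ≠ 0) (v : F) : MulAut.conj (D.hJ u) (D.x4 v) = D.x4 (u * v) := by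
  rw [D.hJ_x4 hu, D.N_inv, D.N_β, inv_inv]
  congr 1
  field_simp

end HexDat

end Cfsg.Agent.GTwoOdd.Hex
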