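import Cfsg.Agent.GTwoOdd.Hexa

/-!
# The twelve root groups: action of `T`, `ρ` and the reflections
-/

set_option autoImplicit false

namespace Cfsg.Agent.GTwoOdd

open Matrix

section modT

variable {G : Type*} [Group G]

/-- `a` normalises `T` -/
def NormT (T : Subgroup G) (a : G) : Prop := (∀ c ∈ T, a * c * a⁻¹ ∈ T) ∧ ∀ c ∈ T, a⁻¹ * c * a ∈ T

/-- `a = b` modulo `T` -/
def EqT (T : Subgroup G) (a b : G) : Prop := a * b⁻¹ ∈ T

variable {T : Subgroup G} {a b c d : G}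

theorem NormT.one : NormT T (1 : G) := ⟨fun c hc => by simpa using hc, fun c hc => by simpa using hc⟩

theorem NormT.mul (ha : NormT T a) (hb : NormT T b) : NormT T (a * b) := by
  constructor
  · intro c hc
    have := ha.1 _ (hb.1 _ hc)
    have e : a * b * c * (a * b)⁻¹ = a * (b * c * b⁻¹) * a⁻¹ := by group
    rwa [e]
  · intro c hc
    have := hb.2 _ (ha.2 _ hc)
    have e : (a * b)⁻¹ * c * (a * b) = b⁻¹ * (a⁻¹ * c * a) * b := by group
    rwa [e]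

theorem NormT.inv (ha : NormT T a) : NormT T a⁻¹ :=
  ⟨fun c hc => by have := ha.2 c hc; rwa [inv_inv], fun c hc => by have := ha.1 c hc; rwa [inv_inv]⟩

theorem NormT.of_mem (ha : a ∈ T) : NormT T a :=
  ⟨fun _ hc => mul_mem (mul_mem ha hc) (inv_mem ha), fun _ hc => mul_mem (mul_mem (inv_mem ha) hc) ha⟩

theorem NormT.pow (ha : NormT T a) (m : ℕ) : NormT T (a ^ m) := by
  induction m with
  | zero => rw [pow_zero]; exact NormT.one
  | succ m ih => rw [pow_succ]; exact ih.mul ha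

theorem EqT.refl (a : G) : EqT T a a := by unfold EqT; rw [mul_inv_cancel]; exact one_mem _

theorem EqT.of_eq (h : a = b) : EqT T a b := by rw [h]; exact EqT.refl b

theorem EqT.symm (h : EqT T a b) : EqT T b a := by
  unfold EqT at *
  have := inv_mem h
  have e : (a * b⁻¹)⁻¹ = b * a⁻¹ := by group
  rwa [e] at this

theorem EqT.trans (h : EqT T a b) (k : EqT T b c) : EqT T a c := by
  unfold EqT at *
  have := mul_mem h k
  have e : a * b⁻¹ * (b * c⁻¹) = a * c⁻¹ := by group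
  rwa [e] at this

theorem EqT.mul (hb : NormT T b) (h : EqT T a b) (k : EqT T c d) : EqT T (a * c) (b * d) := by
  unfold EqT at *
  have := mul_mem h (hb.1 _ k)
  have e : a * b⁻¹ * (b * (c * d⁻¹) * b⁻¹) = a * c * (b * d)⁻¹ := by group
  rwa [e] at this

theorem EqT.inv (hb : NormT T b) (h : EqT T a b) : EqT T a⁻¹ b⁻¹ := by
  unfold EqT at *
  have := hb.2 _ (inv_mem h)
  have e : b⁻¹ * (a * b⁻¹)⁻¹ * b = a⁻¹ * b⁻¹⁻¹ := by group
  rwa [e] at this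

theorem EqT.one_of_mem (h : a ∈ T) : EqT T a 1 := by unfold EqT; simpa using h

theorem EqT.mem (h : EqT T a 1) : a ∈ T := by unfold EqT at h; simpa using h

theorem NormT.of_eqT (ha : NormT T b) (h : EqT T a b) : NormT T a := by
  have e : a = a * b⁻¹ * b := by group
  rw [e]
  exact (NormT.of_mem h).mul ha

/-- conjugates of a subgroup normalised by `T` -/
theorem EqT.cjS_eq {H : Subgroup G} (h : EqT T a b) (hb : NormT T b) (hH : ∀ c ∈ T, cjS c H = H) :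
    cjS a H = cjS b H := by
  have e : a = b * (b⁻¹ * (a * b⁻¹) * b) := by group
  rw [e, cjS_mul, hH _ (hb.2 _ h)]

end modT

namespace LocalSL

variable {G : Type*} [Group G] {t : G} {F1 F2 : Type*} [Field F1] [Field F2]
variable [Finite F1] [Finite F2] {L : LocalSL t F1 F2} {s g : G}

/-- the torus of a split frame -/
abbrev TT (L : LocalSL t F1 F2) : Subgroup G := L.tor (dg F1) (dg F2)

/-- `ρ` of a split frame -/
abbrev ro (L : LocalSL t F1 F2) (g : G) : G := rho L (wn F1) g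

namespace Swap

variable (S : L.Split s g)
include S

theorem nT_rho : NormT (TT L) (ro L g) := ⟨fun _ hc => S.rho_tor hc, fun _ hc => S.rho_tor' hc⟩
theorem nT_r1 : NormT (TT L) (L.e1 (wn F1)) := ⟨fun _ hc => S.r1_tor hc, fun _ hc => S.r1_tor' hc⟩
theorem nT_r2 : NormT (TT L) (L.e2 (wn F2)) := ⟨fun _ hc => S.r2_tor hc, fun _ hc => S.r2_tor' hc⟩
theorem nT_g : NormT (TT L) g := ⟨fun _ hc => S.g_tor hc, fun _ hc => S.g_tor' hc⟩
theorem nT_rp : NormT (TT L) (rp L (wn F1) g) := ⟨fun _ hc => S.rp_tor hc, fun _ hc => S.rp_tor' hc⟩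

theorem rho3 : EqT (TT L) (ro L g ^ 3) 1 := by
  apply EqT.one_of_mem
  have := S.rho_cube
  rw [pow_succ, pow_two]
  exact this

theorem rho3k (k : ℕ) : EqT (TT L) (ro L g ^ (3 * k)) 1 := by
  induction k with
  | zero => rw [mul_zero, pow_zero]; exact EqT.refl 1
  | succ k ih =>
    rw [mul_add, mul_one, pow_add]
    have := EqT.mul NormT.one ih S.rho3
    rwa [mul_one] at this

theorem rho_mod {m k : ℕ} (h : m % 3 = k % 3) : EqT (TT L) (ro L g ^ m) (ro L g ^ k) := by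
  wlog hmk : k ≤ m with H
  · exact (H S h.symm (by omega)).symm
  obtain ⟨j, hj⟩ : ∃ j, m = k + 3 * j := ⟨(m - k) / 3, by omega⟩
  rw [hj, pow_add]
  have := EqT.mul (S.nT_rho.pow k) (EqT.refl (ro L g ^ k)) (S.rho3k j)
  rwa [mul_one] at this

theorem s_mem_TT : s ∈ TT L := S.toFrame.s_mem
theorem t_mem_TT : t ∈ TT L := S.toFrame.t_mem

theorem r1_sqT : EqT (TT L) (L.e1 (wn F1) * L.e1 (wn F1)) 1 := by
  apply EqT.one_of_mem; rw [S.r1_sq]; exact S.t_mem_TT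

theorem r2_sqT : EqT (TT L) (L.e2 (wn F2) * L.e2 (wn F2)) 1 := by
  apply EqT.one_of_mem; rw [S.r2_sq]; exact S.t_mem_TT

/-- `r1 ρ r1⁻¹ = ρ⁻¹` modulo `T` -/
theorem r1_rhoT : EqT (TT L) (L.e1 (wn F1) * ro L g * (L.e1 (wn F1))⁻¹) (ro L g)⁻¹ := by
  unfold EqT
  rw [inv_inv]
  have := S.r1_rho
  rw [this]
  exact mul_mem S.t_mem_TT S.s_mem_TT

/-- `r2 ρ r2⁻¹ = ρ⁻¹` modulo `T` -/
theorem r2_rhoT : EqT (TT L) (L.e2 (wn F2) * ro L g * (L.e2 (wn F2))⁻¹) (ro L g)⁻¹ := by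
  obtain ⟨τ, hτ, hw⟩ := S.w_g
  have nr1 := S.nT_r1
  have nr2 := S.nT_r2
  have nro := S.nT_rho
  have nrp := S.nT_rp
  have ng := S.nT_g
  have cm : L.e1 (wn F1) * L.e2 (wn F2) = L.e2 (wn F2) * L.e1 (wn F1) := L.comm _ _
  -- `w rp w⁻¹ = rp`
  have h1 : EqT (TT L) (L.e1 (wn F1) * L.e2 (wn F2) * rp L (wn F1) g * (L.e1 (wn F1) * L.e2 (wn F2))⁻¹)
      (rp L (wn F1) g) := by
    have hwg : (L.e1 (wn F1) * L.e2 (wn F2)) * g = τ⁻¹ * (g * (L.e1 (wn F1) * L.e2 (wn F2))) := by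
      calc (L.e1 (wn F1) * L.e2 (wn F2)) * g = τ⁻¹ * (τ * (L.e1 (wn F1) * L.e2 (wn F2))) * g := by group
        _ = τ⁻¹ * (g * (L.e1 (wn F1) * L.e2 (wn F2)) * g⁻¹) * g := by rw [hw]
        _ = _ := by group
    have hwr : (L.e1 (wn F1) * L.e2 (wn F2)) * L.e1 (wn F1) * (L.e1 (wn F1) * L.e2 (wn F2))⁻¹ = L.e1 (wn F1) := by
      calc (L.e1 (wn F1) * L.e2 (wn F2)) * L.e1 (wn F1) * (L.e1 (wn F1) * L.e2 (wn F2))⁻¹
          = L.e1 (wn F1) * (L.e2 (wn F2) * L.e1 (wn F1)) * (L.e1 (wn F1) * L.e2 (wn F2))⁻¹ := by group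
        _ = _ := by rw [← cm]; group
    have e : L.e1 (wn F1) * L.e2 (wn F2) * rp L (wn F1) g * (L.e1 (wn F1) * L.e2 (wn F2))⁻¹ =
        τ⁻¹ * rp L (wn F1) g * τ := by
      unfold rp
      calc L.e1 (wn F1) * L.e2 (wn F2) * (g * L.e1 (wn F1) * g⁻¹) * (L.e1 (wn F1) * L.e2 (wn F2))⁻¹
          = ((L.e1 (wn F1) * L.e2 (wn F2)) * g) * L.e1 (wn F1) * ((L.e1 (wn F1) * L.e2 (wn F2)) * g)⁻¹ := by group
        _ = τ⁻¹ * g * ((L.e1 (wn F1) * L.e2 (wn F2)) * L.e1 (wn F1) * (L.e1 (wn F1) * L.e2 (wn F2))⁻¹) * g⁻¹ * τ := by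
          rw [hwg]; group
        _ = _ := by rw [hwr]; group
    rw [e]
    unfold EqT
    have e2 : τ⁻¹ * rp L (wn F1) g * τ * (rp L (wn F1) g)⁻¹ = τ⁻¹ * (rp L (wn F1) g * τ * (rp L (wn F1) g)⁻¹) := by
      group
    rw [e2]
    exact mul_mem (inv_mem hτ) (nrp.1 _ hτ)
  -- `w ρ w⁻¹ = ρ`
  have h2 : EqT (TT L) (L.e1 (wn F1) * L.e2 (wn F2) * ro L g * (L.e1 (wn F1) * L.e2 (wn F2))⁻¹) (ro L g) := by
    have e : L.e1 (wn F1) * L.e2 (wn F2) * ro L g * (L.e1 (wn F1) * L.e2 (wn F2))⁻¹ =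
        L.e1 (wn F1) * (L.e1 (wn F1) * L.e2 (wn F2) * rp L (wn F1) g * (L.e1 (wn F1) * L.e2 (wn F2))⁻¹) := by
      unfold ro rho
      calc L.e1 (wn F1) * L.e2 (wn F2) * (L.e1 (wn F1) * rp L (wn F1) g) * (L.e1 (wn F1) * L.e2 (wn F2))⁻¹
          = L.e1 (wn F1) * (L.e2 (wn F2) * L.e1 (wn F1)) * rp L (wn F1) g * (L.e1 (wn F1) * L.e2 (wn F2))⁻¹ := by group
        _ = _ := by rw [← cm]; group
    rw [e]
    exact EqT.mul nr1 (EqT.refl _) h1
  have e : L.e2 (wn F2) * ro L g * (L.e2 (wn F2))⁻¹ = (L.e1 (wn F1))⁻¹ *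
      (L.e1 (wn F1) * L.e2 (wn F2) * ro L g * (L.e1 (wn F1) * L.e2 (wn F2))⁻¹) * L.e1 (wn F1) := by group
  rw [e]
  have h3 : EqT (TT L) ((L.e1 (wn F1))⁻¹ *
      (L.e1 (wn F1) * L.e2 (wn F2) * ro L g * (L.e1 (wn F1) * L.e2 (wn F2))⁻¹) * L.e1 (wn F1))
      ((L.e1 (wn F1))⁻¹ * ro L g * L.e1 (wn F1)) :=
    EqT.mul (nr1.inv.mul nro) (EqT.mul nr1.inv (EqT.refl _) h2) (EqT.refl _)
  refine h3.trans ?_
  -- `r1⁻¹ ρ r1 = ρ⁻¹`
  have h4 := EqT.inv nro.inv S.r1_rhoT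
  rw [inv_inv] at h4
  -- h4 : (r1 ρ r1⁻¹)⁻¹ = ρ
  have h5 : EqT (TT L) ((L.e1 (wn F1))⁻¹ * (L.e1 (wn F1) * ro L g * (L.e1 (wn F1))⁻¹)⁻¹ * L.e1 (wn F1))
      ((L.e1 (wn F1))⁻¹ * ro L g * L.e1 (wn F1)) :=
    EqT.mul (nr1.inv.mul nro) (EqT.mul nr1.inv (EqT.refl _) h4) (EqT.refl _)
  refine h5.symm.trans (EqT.of_eq ?_)
  group

theorem r1_pow (m : ℕ) : EqT (TT L) (L.e1 (wn F1) * ro L g ^ m * (L.e1 (wn F1))⁻¹) (ro L g ^ m)⁻¹ := by
  have e1 : L.e1 (wn F1) * ro L g ^ m * (L.e1 (wn F1))⁻¹ = (L.e1 (wn F1) * ro L g * (L.e1 (wn F1))⁻¹) ^ m := by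
    rw [conj_pow]
  rw [e1, ← inv_pow]
  induction m with
  | zero => rw [pow_zero, pow_zero]; exact EqT.refl 1
  | succ m ih =>
    rw [pow_succ, pow_succ]
    have ih' := ih (by rw [conj_pow])
    exact EqT.mul (S.nT_rho.inv.pow m) ih' S.r1_rhoT

theorem r2_pow (m : ℕ) : EqT (TT L) (L.e2 (wn F2) * ro L g ^ m * (L.e2 (wn F2))⁻¹) (ro L g ^ m)⁻¹ := by
  have e1 : L.e2 (wn F2) * ro L g ^ m * (L.e2 (wn F2))⁻¹ = (L.e2 (wn F2) * ro L g * (L.e2 (wn F2))⁻¹) ^ m := by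
    rw [conj_pow]
  rw [e1, ← inv_pow]
  induction m with
  | zero => rw [pow_zero, pow_zero]; exact EqT.refl 1
  | succ m ih =>
    rw [pow_succ, pow_succ]
    have ih' := ih (by rw [conj_pow])
    exact EqT.mul (S.nT_rho.inv.pow m) ih' S.r2_rhoT

theorem inv_rho_pow {m k : ℕ} (h : (m + k) % 3 = 0) : EqT (TT L) (ro L g ^ m)⁻¹ (ro L g ^ k) := by
  have h1 := S.rho_mod (m := m + k) (k := 0) (by omega)
  rw [pow_zero, pow_add] at h1
  have h2 := EqT.mul (S.nT_rho.pow m).inv (EqT.refl ((ro L g ^ m)⁻¹)) h1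
  rw [mul_one, inv_mul_cancel_left] at h2
  exact h2.symm

/-- `T` normalises the root groups -/
theorem cjS_XN {c : G} (hc : c ∈ TT L) (m : ℕ) : cjS c (L.XN g m) = L.XN g m := by
  unfold XN
  rw [← cjS_mul]
  apply EqT.cjS_eq (T := TT L) _ (S.nT_rho.pow m) (fun c hc => S.cjS_base hc m)
  unfold EqT
  have e : c * rho L (wn F1) g ^ m * (rho L (wn F1) g ^ m)⁻¹ = c := by group
  rw [e]; exact hc

theorem XN_eq {m k : ℕ} (h : m % 12 = k % 12) : L.XN g m = L.XN g k := by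
  unfold XN
  rw [L.baseX_mod (show m % 4 = k % 4 by omega)]
  exact EqT.cjS_eq (T := TT L) (S.rho_mod (by omega)) (S.nT_rho.pow k) (fun c hc => S.cjS_base hc k)

theorem X_cast (m : ℕ) : L.X g (m : ZMod 12) = L.XN g m := by
  unfold X
  apply S.XN_eq
  rw [ZMod.val_natCast]
  exact Nat.mod_mod _ _

/-- `ρ` rotates the root groups -/
theorem rho_XN (m : ℕ) : cjS (ro L g) (L.XN g m) = L.XN g (m + 4) := by
  unfold XN
  rw [← cjS_mul, L.baseX_mod (show m % 4 = (m + 4) % 4 by omega)]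
  apply EqT.cjS_eq (T := TT L) _ (S.nT_rho.pow (m + 4)) (fun c hc => S.cjS_base hc _)
  have e : ro L g * rho L (wn F1) g ^ m = ro L g ^ (m + 1) := by rw [pow_succ']
  rw [e]
  exact S.rho_mod (by omega)

theorem r1_XN {m k : ℕ} (h : (m + k) % 12 = 0) : cjS (L.e1 (wn F1)) (L.XN g m) = L.XN g k := by
  unfold XN
  have h1 : cjS (L.e1 (wn F1)) (L.baseX m) = L.baseX k := by
    ext x
    rw [mem_cjS]
    constructor
    · intro hx
      have := r1_base L (i := m) (j := k) (by omega) hx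
      have e : L.e1 (wn F1) * ((L.e1 (wn F1))⁻¹ * x * L.e1 (wn F1)) * (L.e1 (wn F1))⁻¹ = x := by group
      rwa [e] at this
    · intro hx
      have hinv : (L.e1 (wn F1))⁻¹ = L.e1 (wn F1) * t := by
        rw [inv_eq_iff_mul_eq_one, ← mul_assoc, S.r1_sq, L.t_sq]
      have := r1_base L (i := k) (j := m) (by omega) hx
      have h3 := S.cjS_base S.t_mem_TT m
      rw [← h3, mem_cjS]
      have e : t⁻¹ * ((L.e1 (wn F1))⁻¹ * x * L.e1 (wn F1)) * t = L.e1 (wn F1) * x * (L.e1 (wn F1))⁻¹ := by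
        have ht : t⁻¹ = t := inv_eq_of_mul_eq_one_left L.t_sq
        have h5 : L.e1 (wn F1) * t = t * L.e1 (wn F1) := e1_t _
        calc t⁻¹ * ((L.e1 (wn F1))⁻¹ * x * L.e1 (wn F1)) * t
            = ((L.e1 (wn F1) * t)⁻¹) * x * (L.e1 (wn F1) * t) := by group
          _ = _ := by rw [← hinv, inv_inv]
      rw [e]; exact this
  have h2 : cjS (L.e1 (wn F1) * rho L (wn F1) g ^ m) (L.baseX m) =
      cjS (rho L (wn F1) g ^ k * L.e1 (wn F1)) (L.baseX m) := by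
    apply EqT.cjS_eq (T := TT L) _ ((S.nT_rho.pow k).mul S.nT_r1) (fun c hc => S.cjS_base hc _)
    have h3 := (S.r1_pow m).trans (S.inv_rho_pow (m := m) (k := k) (by omega))
    have h4 := EqT.mul (S.nT_rho.pow k) h3 (EqT.refl (L.e1 (wn F1)))
    have e : L.e1 (wn F1) * ro L g ^ m * (L.e1 (wn F1))⁻¹ * L.e1 (wn F1) = L.e1 (wn F1) * ro L g ^ m := by group
    rwa [e] at h4
  rw [← cjS_mul, h2, cjS_mul, h1]

theorem r2_XN {m k : ℕ} (h : (m + k) % 12 = 6) : cjS (L.e2 (wn F2)) (L.XN g m) = L.XN g k := by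
  unfold XN
  have h1 : cjS (L.e2 (wn F2)) (L.baseX m) = L.baseX k := by
    ext x
    rw [mem_cjS]
    constructor
    · intro hx
      have := r2_base L (i := m) (j := k) (by omega) hx
      have e : L.e2 (wn F2) * ((L.e2 (wn F2))⁻¹ * x * L.e2 (wn F2)) * (L.e2 (wn F2))⁻¹ = x := by group
      rwa [e] at this
    · intro hx
      have hinv : (L.e2 (wn F2))⁻¹ = L.e2 (wn F2) * t := by
        rw [inv_eq_iff_mul_eq_one, ← mul_assoc, S.r2_sq, L.t_sq]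
      have := r2_base L (i := k) (j := m) (by omega) hx
      have h3 := S.cjS_base S.t_mem_TT m
      rw [← h3, mem_cjS]
      have e : t⁻¹ * ((L.e2 (wn F2))⁻¹ * x * L.e2 (wn F2)) * t = L.e2 (wn F2) * x * (L.e2 (wn F2))⁻¹ := by
        calc t⁻¹ * ((L.e2 (wn F2))⁻¹ * x * L.e2 (wn F2)) * t
            = ((L.e2 (wn F2) * t)⁻¹) * x * (L.e2 (wn F2) * t) := by group
          _ = _ := by rw [← hinv, inv_inv]
      rw [e]; exact this
  have h2 : cjS (L.e2 (wn F2) * rho L (wn F1) g ^ m) (L.baseX m) =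
      cjS (rho L (wn F1) g ^ k * L.e2 (wn F2)) (L.baseX m) := by
    apply EqT.cjS_eq (T := TT L) _ ((S.nT_rho.pow k).mul S.nT_r2) (fun c hc => S.cjS_base hc _)
    have h3 := (S.r2_pow m).trans (S.inv_rho_pow (m := m) (k := k) (by omega))
    have h4 := EqT.mul (S.nT_rho.pow k) h3 (EqT.refl (L.e2 (wn F2)))
    have e : L.e2 (wn F2) * ro L g ^ m * (L.e2 (wn F2))⁻¹ * L.e2 (wn F2) = L.e2 (wn F2) * ro L g ^ m := by group
    rwa [e] at h4
  rw [← cjS_mul, h2, cjS_mul, h1]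

/-- the reflection `n m` maps `X j` to `X (2 m + 6 - j)` -/
theorem nN_XN {m j k : ℕ} (h : (j + k) % 12 = (2 * m + 6) % 12) : cjS (L.nN g m) (L.XN g j) = L.XN g k := by
  -- `X j = ρ^m X i` with `i = j + 8 m`
  have hr : ∀ m j : ℕ, cjS (ro L g ^ m) (L.XN g j) = L.XN g (j + 4 * m) := by
    intro m
    induction m with
    | zero => intro j; rw [pow_zero, cjS_one]; rfl
    | succ m ih =>
      intro j
      rw [pow_succ, cjS_mul, S.rho_XN, ih]
      congr 1; ring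
  have h1 : L.XN g j = cjS (ro L g ^ m) (L.XN g (j + 8 * m)) := by
    rw [hr]
    exact S.XN_eq (by omega)
  unfold nN
  rw [h1, ← cjS_mul]
  have e : rho L (wn F1) g ^ m * (if m % 2 = 0 then L.e2 (wn F2) else L.e1 (wn F1)) * (rho L (wn F1) g ^ m)⁻¹ *
      ro L g ^ m = ro L g ^ m * (if m % 2 = 0 then L.e2 (wn F2) else L.e1 (wn F1)) := by group
  rw [e, cjS_mul]
  by_cases hm : m % 2 = 0
  · rw [if_pos hm, S.r2_XN (m := j + 8 * m) (k := k + 8 * m) (by omega), hr]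
    exact S.XN_eq (by omega)
  · rw [if_neg hm, S.r1_XN (m := j + 8 * m) (k := k + 8 * m) (by omega), hr]
    exact S.XN_eq (by omega)

end Swap

end LocalSL

end Cfsg.Agent.GTwoOdd
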