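import Cfsg.Agent.GTwoOdd.SLNormal
import Cfsg.Agent.GTwoOdd.TrZero
import Cfsg.Agent.GTwoOdd.Setup
import Cfsg.Agent.Lib.MinNormalNonabelian
import Cfsg.Agent.Lib.Cores
import Cfsg.Prelude.Def_CaseTheorems

/-!
# The `M`-lemma: the core-free group is simple of 2-rank 2
-/

set_option autoImplicit false
set_option linter.unusedSectionVars false

namespace Cfsg.Agent.GTwoOdd.MCore

open Matrix Subgroup Cfsg.Agent.ClassicalGeometry

universe u

/-- the hypotheses of the `M`-lemma -/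
structure MHyp {X : Type*} [Group X] {F : Type*} [Field F] (t s : X) (e : SL2 F →* X) (D : M2 F) : Prop where
  inj : Function.Injective e
  neg : e (-1) = t
  norm : ∀ c, c * t = t * c → ∀ x, ∃ y, c * e x = e y * c
  sol : ∃ n, ∀ c ∈ derivedSeries (Subgroup.centralizer ({t} : Set X)) n, (c : X) ∈ e.range
  comm : s * t = t * s
  sq : s * s = 1
  acts : Acts e s D
  tr : D.trace = 0
  inv : ∀ c, c * t = t * c → c * c = 1 → c ≠ 1 → c ≠ t → ∃ x, c = e x * s * (e x)⁻¹
  one : ∃ g, g * t * g⁻¹ = s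
  rank : ∀ c, c * t = t * c → c * s = s * c → c * c = 1 → c = 1 ∨ c = t ∨ c = s ∨ c = t * s

section basic

variable {X : Type*} [Group X] {F : Type*} [Field F] [Fintype F] {t s : X} {e : SL2 F →* X} {D : M2 F}
  (h : MHyp t s e D) (hF : Odd (Fintype.card F))

include h

theorem t_comm (x : SL2 F) : e x * t = t * e x := by
  rw [← h.neg, ← map_mul, ← map_mul]
  congr 1
  apply Subtype.ext
  simp

theorem t_sq : t * t = 1 := by
  rw [← h.neg, ← map_mul]
  simp

include hF

theorem neg_ne : (-1 : SL2 F) ≠ 1 := by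
  have h2 := SLTwoFour.two_ne_zero_of_odd (F := F) hF
  intro h3
  have h4 := congrArg (fun z : SL2 F => (z : M2 F) 0 0) h3
  simp at h4
  apply h2
  linear_combination -h4

theorem t_ne : t ≠ 1 := by
  intro h1
  apply neg_ne h hF
  apply h.inj
  rw [h.neg, h1, map_one]

theorem not_comm (hc : ∀ x, s * e x = e x * s) : False := by
  have h2 := SLTwoFour.two_ne_zero_of_odd (F := F) hF
  obtain ⟨a, -, ha⟩ := (Acts.of_comm hc).proportional h.inj h.acts
  have hd := h.acts.1
  have ht := h.tr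
  rw [ha] at hd ht
  apply hd
  have h3 : a = 0 := by
    rw [Matrix.trace_smul, Matrix.trace_fin_two] at ht
    simp at ht
    rcases ht with h4 | h4
    · exact h4
    · exact absurd (by linear_combination h4) h2
  rw [h3]
  simp

theorem s_ne : s ≠ 1 := by
  intro h1
  exact not_comm h hF (fun x => by rw [h1]; simp)

theorem s_ne_t : s ≠ t := by
  intro h1
  exact not_comm h hF (fun x => by rw [h1, t_comm h])

omit hF in
theorem inv_comm {c : X} (hc : c * t = t * c) : c⁻¹ * t = t * c⁻¹ := by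
  rw [inv_mul_eq_iff_eq_mul, ← mul_assoc, hc, mul_assoc, mul_inv_cancel, mul_one]

/-- `t s` is conjugate to `s` -/
theorem exists_ts : ∃ x, t * s = e x * s * (e x)⁻¹ := by
  apply h.inv
  · rw [mul_assoc, h.comm]
  · calc t * s * (t * s) = t * (s * t) * s := by group
      _ = t * t * (s * s) := by rw [h.comm]; group
      _ = 1 := by rw [t_sq h, h.sq, one_mul]
  · intro h1
    apply s_ne_t h hF
    have h2 := t_sq h
    calc s = t * t * s := by rw [h2, one_mul]
      _ = t * (t * s) := by group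
      _ = t := by rw [h1, mul_one]
  · intro h1
    apply s_ne h hF
    simpa using h1

theorem conj_of_mem {c : X} (hc : c * t = t * c) (h2 : c * c = 1) (h1 : c ≠ 1) : ∃ g, g * t * g⁻¹ = c := by
  by_cases h3 : c = t
  · exact ⟨1, by rw [h3]; simp⟩
  · obtain ⟨x, hx⟩ := h.inv c hc h2 h1 h3
    obtain ⟨g, hg⟩ := h.one
    refine ⟨e x * g, ?_⟩
    rw [hx, ← hg]
    group

end basic

section pgroup

variable {X : Type*} [Group X]

/-- two elements of order `2`, `4`, one inverting or centralising the other -/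
theorem isPGroup_pair {a b : X} (ha : a ^ 4 = 1) (hb : b ^ 4 = 1) (hab : b * a * b⁻¹ ∈ zpowers a) :
    IsPGroup 2 (zpowers a ⊔ zpowers b : Subgroup X) := by
  have hz : ∀ {c : X}, c ^ 4 = 1 → IsPGroup 2 (zpowers c) := by
    intro c hc
    rintro ⟨x, k, rfl⟩
    refine ⟨2, Subtype.ext ?_⟩
    change (c ^ k) ^ 2 ^ 2 = 1
    rw [← zpow_natCast, ← _root_.zpow_mul, mul_comm, _root_.zpow_mul]
    have : c ^ ((2 ^ 2 : ℕ) : ℤ) = 1 := by
      rw [zpow_natCast]
      exact hc
    rw [this, _root_.one_zpow]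
  apply IsPGroup.to_sup_of_normal_left' (hz ha) (hz hb)
  rw [zpowers_le]
  have hfin : IsOfFinOrder a := isOfFinOrder_iff_pow_eq_one.2 ⟨4, by norm_num, ha⟩
  have h1 : (zpowers a).map (MulAut.conj b).toMonoidHom ≤ zpowers a := by
    rw [MonoidHom.map_zpowers, zpowers_le]
    exact hab
  have : Finite (zpowers a) := by
    have := hfin.finite_zpowers
    exact this
  rw [Subgroup.mem_normalizer_iff]
  intro x
  have h2 : (zpowers a).map (MulAut.conj b).toMonoidHom = zpowers a :=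
    Subgroup.eq_of_le_of_card_ge h1 (by
      rw [Subgroup.card_map_of_injective (MulAut.conj b).injective])
  constructor
  · intro hx
    rw [← h2]
    exact ⟨x, hx, rfl⟩
  · intro hx
    rw [← h2] at hx
    obtain ⟨y, hy, hyx⟩ := hx
    have : y = x := (MulAut.conj b).injective hyx
    rwa [← this]

end pgroup

section finite

variable {X : Type u} [Group X] [Finite X] {F : Type*} [Field F] [Fintype F] {t s : X} {e : SL2 F →* X} {D : M2 F}
  (h : MHyp t s e D) (hF : Odd (Fintype.card F))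

include h hF

/-- one class of involutions -/
theorem conj_of_invol {u : X} (hu : u * u = 1) (hu1 : u ≠ 1) : ∃ g, g * t * g⁻¹ = u := by
  have hp : Fact (Nat.Prime 2) := ⟨Nat.prime_two⟩
  have hP : IsPGroup 2 (zpowers t ⊔ zpowers s : Subgroup X) := by
    apply isPGroup_pair
    · rw [show 4 = 2 * 2 from rfl, pow_mul, pow_two t, t_sq h, one_pow]
    · rw [show 4 = 2 * 2 from rfl, pow_mul, pow_two s, h.sq, one_pow]
    · rw [h.comm, mul_assoc, mul_inv_cancel, mul_one]
      exact mem_zpowers t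
  obtain ⟨S, hS⟩ := hP.exists_le_sylow
  have htS : t ∈ S := hS ((le_sup_left : zpowers t ≤ _) (mem_zpowers t))
  have hsS : s ∈ S := hS ((le_sup_right : zpowers s ≤ _) (mem_zpowers s))
  have hnt : Nontrivial S := ⟨⟨⟨t, htS⟩, 1, fun h1 => t_ne h hF (congrArg Subtype.val h1)⟩⟩
  have hSp : IsPGroup 2 S := S.isPGroup'
  have hc : Nontrivial (Subgroup.center S) := hSp.center_nontrivial
  have hcp : IsPGroup 2 (Subgroup.center S) := hSp.to_subgroup _
  obtain ⟨z, hz⟩ : ∃ z : Subgroup.center S, orderOf z = 2 := by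
    apply exists_prime_orderOf_dvd_card' 2
    obtain ⟨n, hn0, hn⟩ := hcp.nontrivial_iff_card.1 hc
    rw [hn]
    exact dvd_pow_self 2 hn0.ne'
  have hz2 : (z : S).1 * (z : S).1 = 1 := by
    have := pow_orderOf_eq_one z
    rw [hz, pow_two] at this
    exact congrArg (fun w : Subgroup.center S => (w : S).1) this
  have hz1 : (z : S).1 ≠ 1 := by
    intro h1
    have h2 : z = 1 := Subtype.ext (Subtype.ext h1)
    rw [h2, orderOf_one] at hz
    omega
  have hcen : ∀ w ∈ S, (z : S).1 * w = w * (z : S).1 := by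
    intro w hw
    have := Subgroup.mem_center_iff.1 z.2 ⟨w, hw⟩
    exact (congrArg Subtype.val this).symm
  obtain ⟨g, hg⟩ := conj_of_mem h hF (hcen t htS) hz2 hz1
  have hU : IsPGroup 2 (zpowers u ⊔ zpowers u : Subgroup X) := by
    apply isPGroup_pair
    · rw [show 4 = 2 * 2 from rfl, pow_mul, pow_two u, hu, one_pow]
    · rw [show 4 = 2 * 2 from rfl, pow_mul, pow_two u, hu, one_pow]
    · rw [mul_assoc, mul_inv_cancel, mul_one]
      exact mem_zpowers u
  obtain ⟨T, hT⟩ := hU.exists_le_sylow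
  obtain ⟨k, hk⟩ := MulAction.exists_smul_eq X T S
  have huT : u ∈ T := hT ((le_sup_left : zpowers u ≤ _) (mem_zpowers u))
  have hkS : k * u * k⁻¹ ∈ S := by
    rw [← hk]
    have : k * u * k⁻¹ = MulAut.conj k • u := rfl
    rw [this]
    exact Subgroup.smul_mem_pointwise_smul _ _ _ huT
  have h3 := hcen _ hkS
  -- `u' = (k⁻¹ g)⁻¹ u (k⁻¹ g)` commutes with `t`
  obtain ⟨m, hm⟩ := conj_of_mem h hF (c := g⁻¹ * (k * u * k⁻¹) * g) (by
      rw [← hg] at h3
      calc g⁻¹ * (k * u * k⁻¹) * g * t = g⁻¹ * ((k * u * k⁻¹) * (g * t * g⁻¹)) * g := by group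
        _ = g⁻¹ * (g * t * g⁻¹ * (k * u * k⁻¹)) * g := by rw [h3]
        _ = t * (g⁻¹ * (k * u * k⁻¹) * g) := by group)
    (by
      calc g⁻¹ * (k * u * k⁻¹) * g * (g⁻¹ * (k * u * k⁻¹) * g) = g⁻¹ * (k * (u * u) * k⁻¹) * g := by group
        _ = 1 := by rw [hu]; group)
    (by
      intro h4
      apply hu1
      calc u = k⁻¹ * g * (g⁻¹ * (k * u * k⁻¹) * g) * g⁻¹ * k := by group
        _ = 1 := by rw [h4]; group)
  refine ⟨k⁻¹ * g * m, ?_⟩
  calc k⁻¹ * g * m * t * (k⁻¹ * g * m)⁻¹ = k⁻¹ * g * (m * t * m⁻¹) * g⁻¹ * k := by group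
    _ = u := by rw [hm]; group

theorem mem_of_invol (N : Subgroup X) [hN : N.Normal] {a : X} (ha : a ∈ N) (ha2 : a * a = 1) (ha1 : a ≠ 1) {b : X}
    (hb : b * b = 1) (hb1 : b ≠ 1) : b ∈ N := by
  obtain ⟨g, hg⟩ := conj_of_invol h hF ha2 ha1
  obtain ⟨k, hk⟩ := conj_of_invol h hF hb hb1
  have : b = k * g⁻¹ * a * (k * g⁻¹)⁻¹ := by
    rw [← hk, ← hg]
    group
  rw [this]
  exact hN.conj_mem a ha _

theorem exists_invol (hO : Cfsg.oddCore X = ⊥) (N : Subgroup X) [hN : N.Normal] (hne : N ≠ ⊥) :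
    ∃ a ∈ N, a * a = 1 ∧ a ≠ 1 := by
  have hp : Fact (Nat.Prime 2) := ⟨Nat.prime_two⟩
  have h1 : 2 ∣ Nat.card N := by
    by_contra h2
    apply hne
    rw [eq_bot_iff, ← hO]
    apply Cfsg.Agent.Lib.Cores.le_pPrimeCore hN
    exact (Nat.coprime_comm.1 ((Nat.Prime.coprime_iff_not_dvd Nat.prime_two).2 h2))
  obtain ⟨a, ha⟩ := exists_prime_orderOf_dvd_card' 2 h1
  refine ⟨a, a.2, ?_, ?_⟩
  · have := pow_orderOf_eq_one a
    rw [ha, pow_two] at this
    exact congrArg Subtype.val this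
  · intro h3
    have : a = 1 := Subtype.ext h3
    rw [this, orderOf_one] at ha
    omega

theorem mem_of_ne_bot (hO : Cfsg.oddCore X = ⊥) (N : Subgroup X) [hN : N.Normal] (hne : N ≠ ⊥) {b : X}
    (hb : b * b = 1) : b ∈ N := by
  by_cases hb1 : b = 1
  · rw [hb1]; exact N.one_mem
  · obtain ⟨a, ha, h2, h1⟩ := exists_invol h hF hO N hne
    exact mem_of_invol h hF N ha h2 h1 hb hb1

/-- elements with square `-1` lie in `N` -/
theorem e_mem (hO : Cfsg.oddCore X = ⊥) (N : Subgroup X) [hN : N.Normal] (hne : N ≠ ⊥) :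
    ∃ x, e x ∈ N ∧ x ≠ 1 ∧ x ≠ -1 := by
  have h2 := SLTwoFour.two_ne_zero_of_odd (F := F) hF
  have hs : s ∈ N := mem_of_ne_bot h hF hO N hne h.sq
  obtain ⟨y, hy⟩ := exists_cj h.acts.1 (⟨!![1, 1; 0, 1], by rw [Matrix.det_fin_two]; simp⟩ : SL2 F)
  have h3 := h.acts.2 _ _ hy
  set x : SL2 F := ⟨!![1, 1; 0, 1], by rw [Matrix.det_fin_two]; simp⟩ with hx
  have hD := h.acts.1
  have ht := trace_zero_iff.1 h.tr
  have hxy : ∀ ε : F, ε * ε = 1 → (y : M2 F) = ε • (x : M2 F) → False := by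
    intro ε hε h4
    have h5 : ε • ((x : M2 F) * D) = D * (x : M2 F) := by
      rw [← hy, h4, Matrix.smul_mul]
    rw [m2_eq_iff] at h5
    simp only [Matrix.smul_apply, m2_mul_00, m2_mul_01, m2_mul_10, m2_mul_11, ht, hx, smul_eq_mul] at h5
    simp at h5
    obtain ⟨e1, e2, e3, e4⟩ := h5
    have h6 : (ε - 1) * (ε + 1) = 0 := by linear_combination hε
    rw [Matrix.det_fin_two, ht] at hD
    rcases mul_eq_zero.1 h6 with h7 | h7
    · have h8 : ε = 1 := by linear_combination h7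
      subst h8
      have h9 : D 1 0 = 0 := by linear_combination e1
      have h10 : 2 * D 0 0 = 0 := by linear_combination -e2
      have h11 := (mul_eq_zero.1 h10).resolve_left h2
      apply hD
      rw [h9, h11]; ring
    · have h8 : ε = -1 := by linear_combination h7
      subst h8
      have h9 : 2 * D 1 0 = 0 := by linear_combination -e3
      have h11 := (mul_eq_zero.1 h9).resolve_left h2
      have h12 : 2 * D 0 0 = 0 := by linear_combination -e1 - h11
      have h13 := (mul_eq_zero.1 h12).resolve_left h2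
      apply hD
      rw [h13, h11]; ring
  refine ⟨y * x⁻¹, ?_, ?_, ?_⟩
  · have h4 : e (y * x⁻¹) = s * (e x * s⁻¹ * (e x)⁻¹) := by
      rw [map_mul, map_inv]
      calc e y * (e x)⁻¹ = e y * s * s⁻¹ * (e x)⁻¹ := by group
        _ = s * e x * s⁻¹ * (e x)⁻¹ := by rw [h3]
        _ = s * (e x * s⁻¹ * (e x)⁻¹) := by group
    rw [h4]
    exact N.mul_mem hs (hN.conj_mem _ (N.inv_mem hs) _)
  · intro h4
    apply hxy 1 (one_mul 1)
    rw [mul_inv_eq_one.1 h4, one_smul]
  · intro h4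
    apply hxy (-1) (by ring)
    have : y = -1 * x := by
      rw [← h4]; group
    rw [this]
    simp

theorem e_mem_of_sq (hO : Cfsg.oddCore X = ⊥) (N : Subgroup X) [hN : N.Normal] (hne : N ≠ ⊥) {i : SL2 F}
    (hi : i * i = -1) : e i ∈ N := by
  obtain ⟨x, hx, h1, h2⟩ := e_mem h hF hO N hne
  have hR : (N.comap e).Normal := inferInstance
  exact SLNormal.mem_of_sq hF (N.comap e) (x := x) hx h1 h2 hi

theorem e_mem_of_lt (hO : Cfsg.oddCore X = ⊥) (N : Subgroup X) [hN : N.Normal] (hne : N ≠ ⊥)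
    (h3 : 3 < Fintype.card F) (i : SL2 F) : e i ∈ N := by
  obtain ⟨x, hx, h1, h2⟩ := e_mem h hF hO N hne
  have hR : (N.comap e).Normal := inferInstance
  have := SLNormal.eq_top h3 (N.comap e) (x := x) hx (fun h4 => by
    rcases SLNormal.mem_center_cases hF h4 with h5 | h5
    · exact h1 h5
    · exact h2 h5)
  have h6 : i ∈ N.comap e := by rw [this]; exact Subgroup.mem_top i
  exact h6

end finite

end Cfsg.Agent.GTwoOdd.MCore
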