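import Cfsg.Agent.GTwoOdd.MCore
import Cfsg.Agent.Lib.SubnormalJoin

/-!
# The `M`-lemma: the minimal normal subgroup is simple of 2-rank 2
-/

set_option autoImplicit false
set_option linter.unusedSectionVars false

namespace Cfsg.Agent.GTwoOdd.MCore

open Matrix Subgroup Cfsg.Agent.ClassicalGeometry Cfsg.Agent.Lib

universe u

variable {X : Type u} [Group X] [Finite X] {F : Type*} [Field F] [Fintype F] {t s : X} {e : SL2 F →* X} {D : M2 F}
  (h : MHyp t s e D) (hF : Odd (Fintype.card F))

include h hF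

/-- a quaternion pair in `N` -/
theorem exists_quat (hO : Cfsg.oddCore X = ⊥) (N : Subgroup X) [hN : N.Normal] (hne : N ≠ ⊥) :
    ∃ a ∈ N, ∃ b ∈ N, a * a = t ∧ b * b = t ∧ a * b = t * (b * a) := by
  obtain ⟨i, j, hi, hj, hij⟩ := SLNormal.exists_pair (F := F) hF
  refine ⟨e i, e_mem_of_sq h hF hO N hne hi, e j, e_mem_of_sq h hF hO N hne hj, ?_, ?_, ?_⟩
  · rw [← map_mul, hi, h.neg]
  · rw [← map_mul, hj, h.neg]
  · rw [← map_mul, hij, ← h.neg, ← map_mul, ← map_mul]
    congr 1
    apply Subtype.ext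
    simp

theorem quat_ne {a b : X} (hab : a * b = t * (b * a)) : a * b ≠ b * a := by
  intro h1
  rw [h1] at hab
  apply t_ne h hF
  exact (mul_eq_right.1 hab.symm)

theorem isSimple (hO : Cfsg.oddCore X = ⊥) (N : Subgroup X) [hN : N.Normal] (hne : N ≠ ⊥)
    (hmin : ∀ M : Subgroup X, M.Normal → M ≤ N → M = ⊥ ∨ M = N) : IsSimpleGroup N := by
  have hp : Fact (Nat.Prime 2) := ⟨Nat.prime_two⟩
  have hna : ¬ ∀ x ∈ N, ∀ y ∈ N, Commute x y := by
    intro h1
    obtain ⟨a, ha, b, hb, -, -, hab⟩ := exists_quat h hF hO N hne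
    exact quat_ne h hF hab (h1 a ha b hb)
  obtain ⟨⟨T, hT⟩, hind, hsup, hsimp, hcen, hconj⟩ := MinNormalNonabelian.nonabelian_structure N hmin hna
  -- `T` has an involution
  obtain ⟨a, haT, ha2, ha1⟩ : ∃ a ∈ T, a * a = 1 ∧ a ≠ 1 := by
    have h1 : 2 ∣ Nat.card T := by
      by_contra h2
      have hTN : T ≤ N := hT.1
      have hnorm : (T.subgroupOf N).Normal := by
        have := hT.2.2.1
        exact (Subgroup.normal_subgroupOf_iff_le_normalizer hTN).2 this
      have h3 : T.subgroupOf N ≤ Cfsg.pPrimeCore 2 N := by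
        apply Cores.le_pPrimeCore hnorm
        have : Nat.card (T.subgroupOf N) = Nat.card T :=
          Nat.card_congr (Subgroup.subgroupOfEquivOfLe hTN).toEquiv
        rw [this]
        exact (Nat.coprime_comm.1 ((Nat.Prime.coprime_iff_not_dvd Nat.prime_two).2 h2))
      have h4 := Cores.map_subtype_pPrimeCore (G := X) 2 hN
      have h5 : Cfsg.pPrimeCore 2 X = ⊥ := hO
      rw [h5, inf_bot_eq] at h4
      have h6 : (T.subgroupOf N).map N.subtype ≤ ⊥ := by
        rw [← h4]
        exact Subgroup.map_mono h3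
      rw [Subgroup.subgroupOf_map_subtype, inf_eq_left.2 hTN, le_bot_iff] at h6
      exact hT.2.1 h6
    obtain ⟨a, ha⟩ := exists_prime_orderOf_dvd_card' 2 h1
    refine ⟨a, a.2, ?_, ?_⟩
    · have := pow_orderOf_eq_one a
      rw [ha, pow_two] at this
      exact congrArg Subtype.val this
    · intro h3
      have : a = 1 := Subtype.ext h3
      rw [this, orderOf_one] at ha
      omega
  -- all members of `minSet N` are equal to `T`
  have key : ∀ U ∈ MinNormalNonabelian.minSet N, U = T := by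
    intro U hU
    by_contra hne'
    obtain ⟨g, hg⟩ := hconj T hT U hU
    have hbU : g * a * g⁻¹ ∈ U := by
      rw [hg]
      exact ⟨a, haT, rfl⟩
    set b := g * a * g⁻¹ with hb
    have hb2 : b * b = 1 := by
      rw [hb]
      calc g * a * g⁻¹ * (g * a * g⁻¹) = g * (a * a) * g⁻¹ := by group
        _ = 1 := by rw [ha2]; group
    have hb1 : b ≠ 1 := by
      intro h3
      apply ha1
      calc a = g⁻¹ * b * g := by rw [hb]; group
        _ = 1 := by rw [h3]; group
    have hdis : ∀ V ∈ MinNormalNonabelian.minSet N, ∀ W ∈ MinNormalNonabelian.minSet N, V ≠ W → ∀ x ∈ V, x ∈ W → x = 1 := by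
      intro V hV W hW hVW x hx hx'
      have h3 := hind hV
      have h4 : x ∈ sSup (MinNormalNonabelian.minSet N \ {V}) := by
        have : W ≤ sSup (MinNormalNonabelian.minSet N \ {V}) := le_sSup ⟨hW, fun h5 => hVW h5.symm⟩
        exact this hx'
      have h5 := Subgroup.disjoint_def.1 h3 hx h4
      exact h5
    have hcomm : a * b = b * a := by
      have h3 : ∀ x ∈ T, ∀ y ∈ U, Commute x y := by
        intro x hx y hy
        have hnT : N ≤ normalizer (T : Set X) := hT.2.2.1
        have hnU : N ≤ normalizer (U : Set X) := hU.2.2.1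
        have h4 : x * y * x⁻¹ * y⁻¹ = 1 := by
          apply hdis T hT U hU (fun h5 => hne' h5.symm)
          · have h5 : y * x⁻¹ * y⁻¹ ∈ T := by
              exact (Subgroup.mem_normalizer_iff.1 (hnT (hU.1 hy)) x⁻¹).1 (T.inv_mem hx)
            have : x * y * x⁻¹ * y⁻¹ = x * (y * x⁻¹ * y⁻¹) := by group
            rw [this]
            exact T.mul_mem hx h5
          · have h5 : x * y * x⁻¹ ∈ U := by
              exact (Subgroup.mem_normalizer_iff.1 (hnU (hT.1 hx)) y).1 hy
            exact U.mul_mem h5 (U.inv_mem hy)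
        have h5 : x * y * x⁻¹ = y := mul_inv_eq_one.1 h4
        exact mul_inv_eq_iff_eq_mul.1 h5
      exact h3 a haT b hbU
    have hab2 : a * b * (a * b) = 1 := by
      calc a * b * (a * b) = a * (b * a) * b := by group
        _ = a * a * (b * b) := by rw [← hcomm]; group
        _ = 1 := by rw [ha2, hb2, one_mul]
    have hab1 : a * b ≠ 1 := by
      intro h3
      apply ha1
      have h4 : a = b := by
        calc a = a * b * b⁻¹ := by group
          _ = b := by rw [h3, one_mul, inv_eq_iff_mul_eq_one.2 hb2]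
      apply hdis T hT U hU (fun h5 => hne' h5.symm) a haT
      rw [h4]
      exact hbU
    obtain ⟨k, hk⟩ := conj_of_invol h hF ha2 ha1
    obtain ⟨m, hm⟩ := conj_of_invol h hF hab2 hab1
    have hV := MinNormalNonabelian.map_conj_mem_minSet hT (m * k⁻¹)
    set V := T.map (MulAut.conj (m * k⁻¹)).toMonoidHom with hVdef
    have habV : a * b ∈ V := by
      refine ⟨a, haT, ?_⟩
      change m * k⁻¹ * a * (m * k⁻¹)⁻¹ = a * b
      rw [← hm]
      nth_rewrite 1 [← hk]
      group
    have hTN := hT.1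
    by_cases h1 : V = T
    · have h3 : b ∈ T := by
        have h4 : a * b ∈ T := by rw [← h1]; exact habV
        have : b = a⁻¹ * (a * b) := by group
        rw [this]
        exact T.mul_mem (T.inv_mem haT) h4
      exact hb1 (hdis T hT U hU (fun h5 => hne' h5.symm) b h3 hbU)
    by_cases h2 : V = U
    · have h3 : a ∈ U := by
        have h4 : a * b ∈ U := by rw [← h2]; exact habV
        have : a = (a * b) * b⁻¹ := by group
        rw [this]
        exact U.mul_mem h4 (U.inv_mem hbU)
      exact ha1 (hdis T hT U hU (fun h5 => hne' h5.symm) a haT h3)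
    have h3 := hind hV
    have h4 : a * b ∈ sSup (MinNormalNonabelian.minSet N \ {V}) := by
      apply mul_mem
      · have : T ≤ sSup (MinNormalNonabelian.minSet N \ {V}) := le_sSup ⟨hT, fun h5 => h1 h5.symm⟩
        exact this haT
      · have : U ≤ sSup (MinNormalNonabelian.minSet N \ {V}) := le_sSup ⟨hU, fun h5 => h2 h5.symm⟩
        exact this hbU
    exact hab1 (Subgroup.disjoint_def.1 h3 habV h4)
  have h1 : MinNormalNonabelian.minSet N = {T} := by
    ext U
    constructor
    · intro hU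
      exact key U hU
    · intro hU
      rw [Set.mem_singleton_iff] at hU
      rw [hU]
      exact hT
  rw [h1, sSup_singleton] at hsup
  rw [← hsup]
  exact hsimp T hT

omit hF in
theorem card_le_four {A : Subgroup X} (hA : ∀ c ∈ A, ∀ d ∈ A, c * d = d * c) (hA2 : ∀ c ∈ A, c * c = 1) (ht : t ∈ A) :
    Nat.card A ≤ 4 := by
  classical
  have hle : ∀ (g : X) (S : Finset X), (∀ c ∈ A, g * c * g⁻¹ ∈ S) → Nat.card A ≤ S.card := by
    intro g S hS
    have : Nat.card A ≤ Nat.card S := by
      apply Nat.card_le_card_of_injective (fun c : A => (⟨g * c * g⁻¹, hS c c.2⟩ : S))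
      intro c d hcd
      have h1 : g * (c : X) * g⁻¹ = g * d * g⁻¹ := congrArg Subtype.val hcd
      apply Subtype.ext
      exact mul_left_cancel (mul_right_cancel h1)
    simpa using this
  by_cases h1 : ∃ c ∈ A, c ≠ 1 ∧ c ≠ t
  · obtain ⟨c, hc, hc1, hct⟩ := h1
    obtain ⟨x, hx⟩ := h.inv c (hA c hc t ht) (hA2 c hc) hc1 hct
    have h2 := hle (e x)⁻¹ {1, t, s, t * s} (fun d hd => by
      have h3 : (e x)⁻¹ * d * (e x)⁻¹⁻¹ * t = t * ((e x)⁻¹ * d * (e x)⁻¹⁻¹) := by
        have h4 := hA d hd t ht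
        have h5 := t_comm h x
        calc (e x)⁻¹ * d * (e x)⁻¹⁻¹ * t = (e x)⁻¹ * d * (e x * t) := by group
          _ = (e x)⁻¹ * (d * t) * e x := by rw [h5]; group
          _ = (e x)⁻¹ * t * d * e x := by rw [h4]; group
          _ = (e x)⁻¹ * (t * e x) * (e x)⁻¹ * d * e x := by group
          _ = t * ((e x)⁻¹ * d * (e x)⁻¹⁻¹) := by rw [← h5]; group
      rcases h.rank ((e x)⁻¹ * d * (e x)⁻¹⁻¹) h3 (by
          have h4 : s = (e x)⁻¹ * c * e x := by rw [hx]; group
          rw [h4]
          calc (e x)⁻¹ * d * (e x)⁻¹⁻¹ * ((e x)⁻¹ * c * e x) = (e x)⁻¹ * (d * c) * e x := by group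
            _ = (e x)⁻¹ * (c * d) * e x := by rw [hA d hd c hc]
            _ = _ := by group)
        (by
          calc (e x)⁻¹ * d * (e x)⁻¹⁻¹ * ((e x)⁻¹ * d * (e x)⁻¹⁻¹) = (e x)⁻¹ * (d * d) * e x := by group
            _ = 1 := by rw [hA2 d hd]; group) with h5 | h5 | h5 | h5 <;> rw [h5] <;> simp)
    exact h2.trans (Finset.card_le_four)
  · push Not at h1
    have h2 := hle 1 {1, t} (fun d hd => by
      have : (1 : X) * d * 1⁻¹ = d := by group
      rw [this]
      by_cases hd1 : d = 1
      · rw [hd1]; simp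
      · rw [h1 d hd hd1]; simp)
    exact h2.trans ((Finset.card_le_two).trans (by norm_num))

theorem prank (N : Subgroup X) : Cfsg.PRankLE 2 2 N := by
  intro A hA hA2
  by_cases h1 : ∃ a ∈ A, a ≠ 1
  · obtain ⟨a, ha, ha1⟩ := h1
    have haa : (a : X) * a = 1 := by
      have := hA2 a ha
      rw [pow_two] at this
      exact congrArg Subtype.val this
    obtain ⟨g, hg⟩ := conj_of_invol h hF haa (fun h2 => ha1 (Subtype.ext h2))
    have h2 := card_le_four h (A := (A.map N.subtype).map (MulAut.conj g⁻¹).toMonoidHom) ?_ ?_ ?_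
    · rw [Subgroup.card_map_of_injective (MulAut.conj g⁻¹).injective,
        Subgroup.card_map_of_injective N.subtype_injective] at h2
      exact h2
    · rintro c ⟨_, ⟨x, hx, rfl⟩, rfl⟩ d ⟨_, ⟨y, hy, rfl⟩, rfl⟩
      rw [← map_mul, ← map_mul, ← map_mul, ← map_mul]
      have : x * y = y * x := by
        have := hA.is_comm.comm ⟨x, hx⟩ ⟨y, hy⟩
        exact congrArg Subtype.val this
      rw [this]
    · rintro c ⟨_, ⟨x, hx, rfl⟩, rfl⟩
      have := hA2 x hx
      rw [pow_two] at this
      rw [← map_mul, ← map_mul, this, map_one, map_one]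
    · refine ⟨a, ⟨a, ha, rfl⟩, ?_⟩
      change g⁻¹ * (a : X) * g⁻¹⁻¹ = t
      rw [← hg]
      group
  · push Not at h1
    have : A = ⊥ := by
      rw [eq_bot_iff]
      intro a ha
      exact Subgroup.mem_bot.2 (h1 a ha)
    rw [this, Subgroup.card_bot]
    norm_num

end Cfsg.Agent.GTwoOdd.MCore
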