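import Cfsg.Agent.GTwoOdd.Bruhat

/-!
# The Mackey sum over the Borel subgroup of `C0`
-/

set_option autoImplicit false

namespace Cfsg.Agent.GTwoOdd

open Matrix

namespace LocalSL

variable {G : Type*} [Group G] {t : G} {F1 F2 : Type*} [Field F1] [Field F2]

/-- the Borel subgroup `T P` of `C0` -/
def bor (L : LocalSL t F1 F2) : Subgroup G where
  carrier := {c | ∃ A B, L.Rep c A B ∧ A 1 0 = 0 ∧ B 1 0 = 0}
  mul_mem' := by
    rintro a b ⟨A, B, h, h1, h2⟩ ⟨A', B', h', h1', h2'⟩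
    refine ⟨_, _, h.mul h', ?_, ?_⟩
    · rw [m2_mul_10, h1, h1']; ring
    · rw [m2_mul_10, h2, h2']; ring
  one_mem' := ⟨1, 1, Rep.one L, by simp, by simp⟩
  inv_mem' := by
    rintro a ⟨A, B, h, h1, h2⟩
    refine ⟨_, _, h.inv, ?_, ?_⟩
    · rw [Matrix.adjugate_fin_two]; simp [h1]
    · rw [Matrix.adjugate_fin_two]; simp [h2]

theorem Rep.mem_bor {L : LocalSL t F1 F2} {c : G} {A : M2 F1} {B : M2 F2} (h : L.Rep c A B) :
    c ∈ L.bor ↔ A 1 0 = 0 ∧ B 1 0 = 0 := by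
  constructor
  · rintro ⟨A', B', h', h1, h2⟩
    obtain ⟨⟨a, ha, rfl⟩, ⟨b, hb, rfl⟩⟩ := h'.prop h
    simp [h1, h2]
  · rintro ⟨h1, h2⟩
    exact ⟨A, B, h, h1, h2⟩

theorem uni_le_bor (L : LocalSL t F1 F2) : L.uni ≤ L.bor := by
  rintro _ ⟨a, b, rfl⟩
  refine ⟨_, _, Rep.e12 L _ _, ?_, ?_⟩ <;> simp [up_coe]

theorem bor_le_zero (L : LocalSL t F1 F2) : L.bor ≤ L.zero := fun _ ⟨A, B, h, _⟩ => ⟨A, B, h⟩

section hyp

variable [Finite F1] [Finite F2] {L : LocalSL t F1 F2} (H : L.Hyp)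
include H

theorem Hyp.T0_le_bor : L.T0 ≤ L.bor := by
  intro c hc
  obtain ⟨D, E, hr, h1, h2, h3, h4⟩ := H.T0_rep hc
  exact ⟨D, E, hr, h2, h4⟩

/-- `T ∩ P = 1` -/
theorem Hyp.T0_inf_uni {c : G} (h : c ∈ L.T0) (h' : c ∈ L.uni) : c = 1 := by
  obtain ⟨D, E, hr, h1, h2, h3, h4⟩ := H.T0_rep h
  obtain ⟨a, b, rfl⟩ := h'
  obtain ⟨⟨x, hx, hx'⟩, ⟨y, hy, hy'⟩⟩ := hr.prop (Rep.e12 L (up a) (up b))
  have e1 := congrFun (congrFun hx' 0) 1
  have e2 := congrFun (congrFun hy' 0) 1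
  rw [up_coe] at e1 e2
  simp [h1, h3] at e1 e2
  rw [e1, e2, up_zero, up_zero, map_one, map_one, one_mul]

/-- elements of the Borel subgroup are `τ u` -/
theorem Hyp.bor_factor {c : G} (hc : c ∈ L.bor) : ∃ τ ∈ L.T0, ∃ u ∈ L.uni, c = τ * u := by
  obtain ⟨A, B, hr, h1, h2⟩ := hc
  have hdA : A 0 0 * A 1 1 ≠ 0 := by
    have := hr.det1
    rw [Matrix.det_fin_two, h1] at this
    simpa using this
  have hdB : B 0 0 * B 1 1 ≠ 0 := by
    have := hr.det2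
    rw [Matrix.det_fin_two, h2] at this
    simpa using this
  have a0 := left_ne_zero_of_mul hdA
  have b0 := left_ne_zero_of_mul hdB
  have dA : A.det = (!![A 0 0, 0; 0, A 1 1] : M2 F1).det := by
    rw [Matrix.det_fin_two, Matrix.det_fin_two, h1]; simp
  have dB : B.det = (!![B 0 0, 0; 0, B 1 1] : M2 F2).det := by
    rw [Matrix.det_fin_two, Matrix.det_fin_two, h2]; simp
  obtain ⟨τ, hτ, hτr⟩ := H.exists_T0 (D := !![A 0 0, 0; 0, A 1 1]) (E := !![B 0 0, 0; 0, B 1 1]) (by simp) (by simp)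
    (by simp) (by simp) (dA ▸ hr.det1) (dB ▸ hr.det2) (by rw [← dA, ← dB]; exact H.square_iff _ _ _ hr)
  have hR : L.Rep (τ * L.up2 (A 0 1 / A 0 0, B 0 1 / B 0 0)) A B := by
    have := hτr.mul (L.up2_rep (A 0 1 / A 0 0, B 0 1 / B 0 0))
    have e1 : (!![A 0 0, 0; 0, A 1 1] : M2 F1) * ((up (A 0 1 / A 0 0) : SL2 F1) : M2 F1) = A := by
      rw [up_coe, m2_eq_iff]
      simp only [m2_mul_00, m2_mul_01, m2_mul_10, m2_mul_11]
      simp [h1]
      field_simp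
    have e2 : (!![B 0 0, 0; 0, B 1 1] : M2 F2) * ((up (B 0 1 / B 0 0) : SL2 F2) : M2 F2) = B := by
      rw [up_coe, m2_eq_iff]
      simp only [m2_mul_00, m2_mul_01, m2_mul_10, m2_mul_11]
      simp [h2]
      field_simp
    rw [e1, e2] at this
    exact this
  rcases hR.unique hr (one_smul _ _).symm (one_smul _ _).symm with h | h
  · exact ⟨τ, hτ, _, L.up2_mem _, h⟩
  · refine ⟨τ * t, L.T0.mul_mem hτ (t_mem_T0 L), _, L.up2_mem (A 0 1 / A 0 0, B 0 1 / B 0 0), ?_⟩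
    rw [h, mul_assoc, mul_assoc, uni_t (L.up2_mem _)]

/-- the torus part is unique -/
theorem Hyp.factor_unique {τ τ' u u' : G} (h1 : τ ∈ L.T0) (h1' : τ' ∈ L.T0) (h2 : u ∈ L.uni) (h2' : u' ∈ L.uni)
    (h : τ * u = τ' * u') : τ = τ' ∧ u = u' := by
  have h3 : τ'⁻¹ * τ = u' * u⁻¹ := by
    rw [inv_mul_eq_iff_eq_mul, ← mul_assoc, ← h]; group
  have h4 : τ'⁻¹ * τ = 1 := H.T0_inf_uni (L.T0.mul_mem (L.T0.inv_mem h1') h1) (h3 ▸ L.uni.mul_mem h2' (L.uni.inv_mem h2))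
  have h5 : τ = τ' := (inv_mul_eq_one.1 h4).symm
  exact ⟨h5, by rw [h5] at h; exact mul_left_cancel h⟩

omit [Finite F1] [Finite F2] H in
open Classical in
/-- the torus part of an element of the Borel subgroup -/
noncomputable def tp (L : LocalSL t F1 F2) (c : G) : G :=
  if h : ∃ τ ∈ L.T0, ∃ u ∈ L.uni, c = τ * u then Classical.choose h else 1

theorem Hyp.tp_spec {c : G} (hc : c ∈ L.bor) : L.tp c ∈ L.T0 ∧ ∃ u ∈ L.uni, c = L.tp c * u := by
  have h := H.bor_factor hc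
  unfold tp
  rw [dif_pos h]
  exact Classical.choose_spec h

theorem Hyp.tp_eq {τ u : G} (h1 : τ ∈ L.T0) (h2 : u ∈ L.uni) : L.tp (τ * u) = τ := by
  obtain ⟨h3, u', h4, h5⟩ := H.tp_spec (L.bor.mul_mem (H.T0_le_bor h1) (L.uni_le_bor h2))
  exact (H.factor_unique h1 h3 h2 h4 h5).1.symm

theorem Hyp.tp_eq' {τ u : G} (h1 : τ ∈ L.T0) (h2 : u ∈ L.uni) : L.tp (u * τ) = τ := by
  have : u * τ = τ * (τ⁻¹ * u * τ) := by group
  rw [this]
  have h3 := H.uni_norm (L.T0.inv_mem h1) h2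
  rw [inv_inv] at h3
  exact H.tp_eq h1 h3

theorem Hyp.T0_comm {τ τ' : G} (h : τ ∈ L.T0) (h' : τ' ∈ L.T0) : τ * τ' = τ' * τ := by
  obtain ⟨A, B, hr, a1, a2, a3, a4⟩ := H.T0_rep h
  obtain ⟨A', B', hr', b1, b2, b3, b4⟩ := H.T0_rep h'
  apply H.commute_of hr hr'
  · rw [m2_eq_iff]
    simp only [m2_mul_00, m2_mul_01, m2_mul_10, m2_mul_11]
    simp [a1, a2, b1, b2, mul_comm]
  · rw [m2_eq_iff]
    simp only [m2_mul_00, m2_mul_01, m2_mul_10, m2_mul_11]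
    simp [a3, a4, b3, b4, mul_comm]

/-- the torus part does not change under conjugation in the Borel subgroup -/
theorem Hyp.tp_conj {b c : G} (hb : b ∈ L.bor) (hc : c ∈ L.bor) : L.tp (b⁻¹ * c * b) = L.tp c := by
  obtain ⟨h1, u, h2, h3⟩ := H.tp_spec hb
  obtain ⟨h4, v, h5, h6⟩ := H.tp_spec hc
  set τ := L.tp b
  set σ := L.tp c
  -- `b⁻¹ c b = u⁻¹ τ⁻¹ σ v τ u`
  have hv : τ⁻¹ * v * τ ∈ L.uni := by
    have h := H.uni_norm (L.T0.inv_mem h1) h5
    rw [inv_inv] at h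
    exact h
  have hu : σ⁻¹ * u⁻¹ * σ ∈ L.uni := by
    have h := H.uni_norm (L.T0.inv_mem h4) (L.uni.inv_mem h2)
    rw [inv_inv] at h
    exact h
  have h7 : b⁻¹ * c * b = σ * ((σ⁻¹ * u⁻¹ * σ) * ((τ⁻¹ * v * τ) * u)) := by
    rw [h3, h6]
    have hc := H.T0_comm (L.T0.inv_mem h1) h4
    calc (τ * u)⁻¹ * (σ * v) * (τ * u) = u⁻¹ * (τ⁻¹ * σ) * v * τ * u := by group
      _ = u⁻¹ * (σ * τ⁻¹) * v * τ * u := by rw [hc]
      _ = _ := by group
  rw [h7]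
  exact H.tp_eq h4 (L.uni.mul_mem hu (L.uni.mul_mem hv h2))

omit [Finite F1] [Finite F2] H in
theorem ww_conj {F : Type*} [Field F] (p : F) {D : M2 F} (h01 : D 0 1 = 0) (h10 : D 1 0 = 0) :
    (ww F : M2 F).adjugate * (((up p : SL2 F) : M2 F) * D) * (ww F : M2 F) = !![D 1 1, 0; -(p * D 1 1), D 0 0] := by
  rw [up_coe, ww_coe, Matrix.adjugate_fin_two, m2_eq_iff]
  simp only [m2_mul_00, m2_mul_01, m2_mul_10, m2_mul_11]
  simp [h01, h10]

omit [Finite F1] [Finite F2] H in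
theorem wi_conj {F : Type*} [Field F] (i : Bool) (p : F) {D : M2 F} (h01 : D 0 1 = 0) (h10 : D 1 0 = 0)
    (hD : D.det ≠ 0) :
    ((wi F i : M2 F).adjugate * (((up p : SL2 F) : M2 F) * D) * (wi F i : M2 F)) 1 0 = 0 ↔ (i = true → p = 0) := by
  rw [Matrix.det_fin_two, h01, zero_mul, sub_zero] at hD
  rcases i with _ | _
  · rw [wi_false, Matrix.SpecialLinearGroup.coe_one, Matrix.adjugate_one, one_mul, mul_one, up_coe]
    simp [m2_mul_10, h10]
  · rw [wi_true, ww_conj p h01 h10]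
    simp [right_ne_zero_of_mul hD]

omit [Finite F1] [Finite F2] H in
theorem wi_diag {F : Type*} [Field F] (j : Bool) {D : M2 F} (h1 : D 0 1 = 0) (h2 : D 1 0 = 0) :
    ((wi F j : M2 F).adjugate * D * (wi F j : M2 F)) 0 1 = 0 ∧ ((wi F j : M2 F).adjugate * D * (wi F j : M2 F)) 1 0 = 0 := by
  rcases j with _ | _
  · rw [wi_false, Matrix.SpecialLinearGroup.coe_one, Matrix.adjugate_one, one_mul, mul_one]
    exact ⟨h1, h2⟩
  · have := ww_conj (0 : F) h1 h2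
    rw [up_zero, Matrix.SpecialLinearGroup.coe_one, one_mul] at this
    rw [wi_true, this]
    simp

/-- when is `w⁻¹ u τ w` in the Borel subgroup -/
theorem Hyp.conj_mem_bor (i : Bool × Bool) (p : F1 × F2) {τ : G} (hτ : τ ∈ L.T0) :
    (L.wel i)⁻¹ * (L.up2 p * τ) * L.wel i ∈ L.bor ↔ (i.1 = true → p.1 = 0) ∧ (i.2 = true → p.2 = 0) := by
  obtain ⟨D, E, hr, h1, h2, h3, h4⟩ := H.T0_rep hτ
  have hR := (((L.wel_rep i).inv).mul ((L.up2_rep p).mul hr)).mul (L.wel_rep i)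
  rw [hR.mem_bor, wi_conj i.1 p.1 h1 h2 hr.det1, wi_conj i.2 p.2 h3 h4 hr.det2]

/-- `w` normalises `T` -/
theorem Hyp.wel_norm (i : Bool × Bool) {τ : G} (hτ : τ ∈ L.T0) : (L.wel i)⁻¹ * τ * L.wel i ∈ L.T0 := by
  obtain ⟨D, E, hr, h1, h2, h3, h4⟩ := H.T0_rep hτ
  have hR := (((L.wel_rep i).inv).mul hr).mul (L.wel_rep i)
  exact ⟨_, _, hR, dg_comm_of (wi_diag i.1 h1 h2).1 (wi_diag i.1 h1 h2).2,
    dg_comm_of (wi_diag i.2 h3 h4).1 (wi_diag i.2 h3 h4).2⟩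

omit [Finite F1] [Finite F2] H in
theorem wi_comm {F : Type*} [Field F] (i : Bool) {p : F} (h : i = true → p = 0) : wi F i * up p = up p * wi F i := by
  rcases i with _ | _
  · rw [wi_false, one_mul, mul_one]
  · rw [h rfl, up_zero, one_mul, mul_one]

omit [Finite F1] [Finite F2] H in
theorem wel_comm (L : LocalSL t F1 F2) (i : Bool × Bool) {p : F1 × F2} (h : (i.1 = true → p.1 = 0) ∧ (i.2 = true → p.2 = 0)) :
    L.wel i * L.up2 p = L.up2 p * L.wel i := by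
  unfold wel up2
  calc L.e1 (wi F1 i.1) * L.e2 (wi F2 i.2) * (L.e1 (up p.1) * L.e2 (up p.2))
      = L.e1 (wi F1 i.1) * (L.e2 (wi F2 i.2) * L.e1 (up p.1)) * L.e2 (up p.2) := by group
    _ = (L.e1 (wi F1 i.1) * L.e1 (up p.1)) * (L.e2 (wi F2 i.2) * L.e2 (up p.2)) := by rw [← L.comm]; group
    _ = (L.e1 (up p.1) * L.e1 (wi F1 i.1)) * (L.e2 (up p.2) * L.e2 (wi F2 i.2)) := by
        rw [← map_mul, ← map_mul, wi_comm _ h.1, wi_comm _ h.2, map_mul, map_mul]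
    _ = L.e1 (up p.1) * (L.e1 (wi F1 i.1) * L.e2 (up p.2)) * L.e2 (wi F2 i.2) := by group
    _ = L.e1 (up p.1) * (L.e2 (up p.2) * L.e1 (wi F1 i.1)) * L.e2 (wi F2 i.2) := by rw [L.comm]
    _ = _ := by group

/-- the torus part of `w⁻¹ u τ w` -/
theorem Hyp.tp_conj_wel (i : Bool × Bool) (p : F1 × F2) {τ : G} (hτ : τ ∈ L.T0)
    (h : (i.1 = true → p.1 = 0) ∧ (i.2 = true → p.2 = 0)) :
    L.tp ((L.wel i)⁻¹ * (L.up2 p * τ) * L.wel i) = (L.wel i)⁻¹ * τ * L.wel i := by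
  have h1 : (L.wel i)⁻¹ * L.up2 p = L.up2 p * (L.wel i)⁻¹ := by
    have := L.wel_comm i h
    calc (L.wel i)⁻¹ * L.up2 p = (L.wel i)⁻¹ * (L.up2 p * L.wel i) * (L.wel i)⁻¹ := by group
      _ = (L.wel i)⁻¹ * (L.wel i * L.up2 p) * (L.wel i)⁻¹ := by rw [this]
      _ = _ := by group
  have h2 : (L.wel i)⁻¹ * (L.up2 p * τ) * L.wel i = L.up2 p * ((L.wel i)⁻¹ * τ * L.wel i) := by
    calc (L.wel i)⁻¹ * (L.up2 p * τ) * L.wel i = ((L.wel i)⁻¹ * L.up2 p) * τ * L.wel i := by group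
      _ = _ := by rw [h1]; group
  rw [h2]
  exact H.tp_eq' (H.wel_norm i hτ) (L.up2_mem p)

end hyp

section sum

open Classical

variable [Fintype F1] [Fintype F2] {L : LocalSL t F1 F2} (H : L.Hyp)
include H

/-- the summand -/
noncomputable def mf (L : LocalSL t F1 F2) {M : Type*} [AddCommMonoid M] (f : G → M) (c : G) : M :=
  if c ∈ L.bor then f (L.tp c) else 0

theorem Hyp.mf_conj {M : Type*} [AddCommMonoid M] (f : G → M) {b : G} (hb : b ∈ L.bor) (c : G) :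
    L.mf f (b⁻¹ * c * b) = L.mf f c := by
  unfold mf
  have h : b⁻¹ * c * b ∈ L.bor ↔ c ∈ L.bor := by
    constructor
    · intro h
      have := L.bor.mul_mem (L.bor.mul_mem hb h) (L.bor.inv_mem hb)
      have e : b * (b⁻¹ * c * b) * b⁻¹ = c := by group
      rwa [e] at this
    · intro h
      exact L.bor.mul_mem (L.bor.mul_mem (L.bor.inv_mem hb) h) hb
  by_cases hc : c ∈ L.bor
  · rw [if_pos (h.2 hc), if_pos hc, H.tp_conj hb hc]
  · rw [if_neg (fun k => hc (h.1 k)), if_neg hc]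

/-- the shift of `P` -/
theorem Hyp.exists_shift (p : F1 × F2) {τ : G} (hτ : τ ∈ L.T0) :
    ∃ e : (F1 × F2) ≃ (F1 × F2), ∀ u, (L.up2 p)⁻¹ * (L.up2 u * τ) * L.up2 p = L.up2 (e u) * τ := by
  have h1 : τ * L.up2 p * τ⁻¹ ∈ L.uni := H.uni_norm hτ (L.up2_mem p)
  obtain ⟨a, b, hab⟩ := h1
  refine ⟨(Equiv.addRight ((a, b) - p)), fun u => ?_⟩
  have h2 : (L.up2 p)⁻¹ = L.up2 (-p) := by
    rw [inv_eq_iff_mul_eq_one, up2_mul]
    rw [add_neg_cancel]
    exact up2_zero L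
  have h3 : τ * L.up2 p = L.up2 (a, b) * τ := by
    have : L.up2 (a, b) = τ * L.up2 p * τ⁻¹ := hab.symm
    rw [this]; group
  calc (L.up2 p)⁻¹ * (L.up2 u * τ) * L.up2 p = (L.up2 p)⁻¹ * L.up2 u * (τ * L.up2 p) := by group
    _ = L.up2 (-p) * L.up2 u * L.up2 (a, b) * τ := by rw [h3, h2]; group
    _ = _ := by
      rw [up2_mul, up2_mul]
      congr 2
      change -p + u + (a, b) = u + ((a, b) - p)
      abel

/-- the inner sum, for an element of the cell of `w` -/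
theorem Hyp.sum_inner {M : Type*} [AddCommMonoid M] (f : G → M) {τ : G} (hτ : τ ∈ L.T0) (x : Σ i : Bool × Bool, L.Cell i) :
    ∑ u : F1 × F2, L.mf f ((L.cellEl x)⁻¹ * (L.up2 u * τ) * L.cellEl x) =
      (Finset.univ.filter (fun p : F1 × F2 => (x.1.1 = true → p.1 = 0) ∧ (x.1.2 = true → p.2 = 0))).card •
        f ((L.wel x.1)⁻¹ * τ * L.wel x.1) := by
  obtain ⟨i, ⟨⟨p, ⟨σ, hσ⟩, v⟩, h1, h2⟩⟩ := x
  obtain ⟨e, he⟩ := H.exists_shift p hτ
  have key : ∀ u, L.mf f ((L.cellEl ⟨i, ⟨(p, ⟨σ, hσ⟩, v), h1, h2⟩⟩)⁻¹ * (L.up2 u * τ) * L.cellEl ⟨i, ⟨(p, ⟨σ, hσ⟩, v), h1, h2⟩⟩) =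
      L.mf f ((L.wel i)⁻¹ * (L.up2 (e u) * τ) * L.wel i) := by
    intro u
    have hb : σ * L.up2 v ∈ L.bor := L.bor.mul_mem (H.T0_le_bor hσ) (L.uni_le_bor (L.up2_mem v))
    rw [← H.mf_conj f hb ((L.wel i)⁻¹ * (L.up2 (e u) * τ) * L.wel i), ← he u]
    congr 1
    change (L.up2 p * L.wel i * σ * L.up2 v)⁻¹ * (L.up2 u * τ) * (L.up2 p * L.wel i * σ * L.up2 v) = _
    group
  rw [Finset.sum_congr rfl (fun u _ => key u)]
  rw [e.sum_comp (fun u => L.mf f ((L.wel i)⁻¹ * (L.up2 u * τ) * L.wel i))]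
  have h3 : ∀ u : F1 × F2, L.mf f ((L.wel i)⁻¹ * (L.up2 u * τ) * L.wel i) =
      if (i.1 = true → u.1 = 0) ∧ (i.2 = true → u.2 = 0) then f ((L.wel i)⁻¹ * τ * L.wel i) else 0 := by
    intro u
    unfold mf
    by_cases h : (i.1 = true → u.1 = 0) ∧ (i.2 = true → u.2 = 0)
    · rw [if_pos h, if_pos ((H.conj_mem_bor i u hτ).2 h), H.tp_conj_wel i u hτ h]
    · rw [if_neg h, if_neg (fun k => h ((H.conj_mem_bor i u hτ).1 k))]
  rw [Finset.sum_congr rfl (fun u _ => h3 u), ← Finset.sum_filter, Finset.sum_const]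

omit H in
omit [Fintype F1] [Fintype F2] in
/-- the number of elements of a cell -/
theorem card_cell [Finite F1] [Finite F2] [Finite G] (i : Bool × Bool) :
    Nat.card (L.Cell i) = Nat.card F1 * Nat.card F2 * (Nat.card L.T0 *
      Nat.card {p : F1 × F2 // (i.1 = false → p.1 = 0) ∧ (i.2 = false → p.2 = 0)}) := by
  have e : L.Cell i ≃ (F1 × F2) × L.T0 × {p : F1 × F2 // (i.1 = false → p.1 = 0) ∧ (i.2 = false → p.2 = 0)} :=
    { toFun := fun x => (x.1.1, x.1.2.1, ⟨x.1.2.2, x.2⟩)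
      invFun := fun x => ⟨(x.1, x.2.1, x.2.2.1), x.2.2.2⟩
      left_inv := fun _ => rfl
      right_inv := fun _ => rfl }
  rw [Nat.card_congr e, Nat.card_prod, Nat.card_prod, Nat.card_prod]

omit H in
omit [Fintype F1] [Fintype F2] in
theorem card_half [Finite F1] [Finite F2] (i : Bool × Bool) :
    Nat.card {p : F1 × F2 // (i.1 = false → p.1 = 0) ∧ (i.2 = false → p.2 = 0)} *
      Nat.card {p : F1 × F2 // (i.1 = true → p.1 = 0) ∧ (i.2 = true → p.2 = 0)} = Nat.card F1 * Nat.card F2 := by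
  have key : ∀ (a b : Bool), Nat.card {p : F1 × F2 // (a = true → p.1 = 0) ∧ (b = true → p.2 = 0)} =
      (if a then 1 else Nat.card F1) * (if b then 1 else Nat.card F2) := by
    intro a b
    have e : {p : F1 × F2 // (a = true → p.1 = 0) ∧ (b = true → p.2 = 0)} ≃
        {x : F1 // a = true → x = 0} × {y : F2 // b = true → y = 0} :=
      { toFun := fun p => (⟨p.1.1, p.2.1⟩, ⟨p.1.2, p.2.2⟩)
        invFun := fun p => ⟨(p.1.1, p.2.1), p.1.2, p.2.2⟩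
        left_inv := fun _ => rfl
        right_inv := fun _ => rfl }
    rw [Nat.card_congr e, Nat.card_prod]
    congr 1
    · rcases a with _ | _ <;> simp
    · rcases b with _ | _ <;> simp
  have e2 : {p : F1 × F2 // (i.1 = false → p.1 = 0) ∧ (i.2 = false → p.2 = 0)} ≃
      {p : F1 × F2 // ((!i.1) = true → p.1 = 0) ∧ ((!i.2) = true → p.2 = 0)} :=
    Equiv.subtypeEquivRight (fun p => by simp)
  rw [Nat.card_congr e2, key, key]
  rcases i with ⟨_ | _, _ | _⟩ <;> simp [mul_comm]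

/-- (MACK) -/
theorem Hyp.mack [Finite G] {M : Type*} [AddCommMonoid M] (f : G → M) {τ : G} (hτ : τ ∈ L.T0) [Fintype L.zero] :
    ∑ u : F1 × F2, ∑ g : L.zero, L.mf f ((g : G)⁻¹ * (L.up2 u * τ) * (g : G)) =
      ∑ i : Bool × Bool, ((Nat.card F1 * Nat.card F2) ^ 2 * Nat.card L.T0) • f ((L.wel i)⁻¹ * τ * L.wel i) := by
  have : ∀ i, Finite (L.Cell i) := by
    intro i
    unfold Cell
    infer_instance
  have : ∀ i, Fintype (L.Cell i) := fun i => Fintype.ofFinite _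
  rw [Finset.sum_comm]
  rw [← H.bruhat.sum_comp (fun g : L.zero => ∑ u : F1 × F2, L.mf f ((g : G)⁻¹ * (L.up2 u * τ) * (g : G)))]
  simp only [H.bruhat_coe]
  rw [Fintype.sum_sigma]
  refine Finset.sum_congr rfl (fun i _ => ?_)
  rw [Finset.sum_congr rfl (fun x _ => H.sum_inner f hτ ⟨i, x⟩)]
  simp only
  rw [Finset.sum_const, ← mul_smul]
  congr 1
  rw [Finset.card_univ, ← Nat.card_eq_fintype_card, card_cell]
  have h1 : (Finset.univ.filter (fun p : F1 × F2 => (i.1 = true → p.1 = 0) ∧ (i.2 = true → p.2 = 0))).card =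
      Nat.card {p : F1 × F2 // (i.1 = true → p.1 = 0) ∧ (i.2 = true → p.2 = 0)} := by
    rw [Nat.card_eq_fintype_card, Fintype.card_subtype]
  rw [h1]
  have h2 := card_half (F1 := F1) (F2 := F2) i
  calc Nat.card F1 * Nat.card F2 * (Nat.card L.T0 *
      Nat.card {p : F1 × F2 // (i.1 = false → p.1 = 0) ∧ (i.2 = false → p.2 = 0)}) *
      Nat.card {p : F1 × F2 // (i.1 = true → p.1 = 0) ∧ (i.2 = true → p.2 = 0)}
      = Nat.card F1 * Nat.card F2 * Nat.card L.T0 *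
      (Nat.card {p : F1 × F2 // (i.1 = false → p.1 = 0) ∧ (i.2 = false → p.2 = 0)} *
      Nat.card {p : F1 × F2 // (i.1 = true → p.1 = 0) ∧ (i.2 = true → p.2 = 0)}) := by ring
    _ = _ := by rw [h2]; ring

/-- the order of `C0` -/
theorem Hyp.card_zero [Finite G] : Nat.card L.zero =
    Nat.card F1 * Nat.card F2 * Nat.card L.T0 * ((1 + Nat.card F1) * (1 + Nat.card F2)) := by
  have : ∀ i, Finite (L.Cell i) := by
    intro i
    unfold Cell
    infer_instance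
  rw [← Nat.card_congr H.bruhat, Nat.card_sigma, Fintype.sum_prod_type]
  have key : ∀ (a b : Bool), Nat.card {p : F1 × F2 // (a = false → p.1 = 0) ∧ (b = false → p.2 = 0)} =
      (if a then Nat.card F1 else 1) * (if b then Nat.card F2 else 1) := by
    intro a b
    have e : {p : F1 × F2 // (a = false → p.1 = 0) ∧ (b = false → p.2 = 0)} ≃
        {x : F1 // a = false → x = 0} × {y : F2 // b = false → y = 0} :=
      { toFun := fun p => (⟨p.1.1, p.2.1⟩, ⟨p.1.2, p.2.2⟩)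
        invFun := fun p => ⟨(p.1.1, p.2.1), p.1.2, p.2.2⟩
        left_inv := fun _ => rfl
        right_inv := fun _ => rfl }
    rw [Nat.card_congr e, Nat.card_prod]
    congr 1
    · rcases a with _ | _ <;> simp
    · rcases b with _ | _ <;> simp
  have kk : ∀ (a b : Bool), Nat.card (L.Cell (a, b)) = Nat.card F1 * Nat.card F2 * (Nat.card L.T0 *
      ((if a then Nat.card F1 else 1) * (if b then Nat.card F2 else 1))) := by
    intro a b
    rw [card_cell]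
    exact congrArg (fun n => Nat.card F1 * Nat.card F2 * (Nat.card L.T0 * n)) (key a b)
  rw [Fintype.sum_bool, Fintype.sum_bool, Fintype.sum_bool, kk, kk, kk, kk]
  simp only [if_true, Bool.false_eq_true, if_false]
  ring

end sum

end LocalSL

end Cfsg.Agent.GTwoOdd
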