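import Cfsg.Agent.GTwoOdd.Transport
import Cfsg.Agent.GTwoOdd.SLMore
import Cfsg.Agent.LargeExtra.W2.Iface

/-!
# S1742 (C), `q₁ = q₂ = 3`: the bridge to `Case9c` of S1759 (helper614)

`L : LocalSL t F1 F2`, `L.Hyp`, `|F1| = |F2| = 3`: `C_G(t) = (SL(2,3) ∘ SL(2,3)) ⟨y⟩` is the centraliser of the case
`Case9c` (the case of `G₂(3)`).
-/

set_option autoImplicit false

namespace Cfsg.Agent.GTwoOdd

open Matrix

section comap

variable {G : Type*} [Group G] {t : G} {F1 F2 E1 E2 : Type*} [Field F1] [Field F2] [Field E1] [Field E2]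

theorem sl_map_surj (σ : E1 ≃+* F1) (x : SL2 F1) :
    ∃ y : SL2 E1, SpecialLinearGroup.map (σ : E1 →+* F1) y = x := by
  refine ⟨SpecialLinearGroup.map (σ.symm : F1 →+* E1) x, ?_⟩
  apply Subtype.ext
  ext i j
  simp

theorem sl_map_inj (σ : E1 ≃+* F1) :
    Function.Injective (SpecialLinearGroup.map (n := Fin 2) (σ : E1 →+* F1)) := by
  intro x y h
  apply Subtype.ext
  ext i j
  have := congrArg (fun z : SL2 F1 => (z : M2 F1) i j) h
  simpa using this

theorem acts_comap_iff {e : SL2 F1 →* G} (σ : E1 ≃+* F1) {c : G} {A : M2 E1} :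
    Acts (e.comp (SpecialLinearGroup.map (σ : E1 →+* F1))) c A ↔ Acts e c (A.map σ) := by
  have hdet : (A.map σ).det = σ A.det := by
    simp [Matrix.det_fin_two]
  have key : ∀ x y : SL2 E1, ((y : M2 E1) * A = A * x) ↔
      ((SpecialLinearGroup.map (σ : E1 →+* F1) y : SL2 F1) : M2 F1) * A.map σ =
        A.map σ * ((SpecialLinearGroup.map (σ : E1 →+* F1) x : SL2 F1) : M2 F1) := by
    intro x y
    have h1 : ((SpecialLinearGroup.map (σ : E1 →+* F1) y : SL2 F1) : M2 F1) * A.map σ = ((y : M2 E1) * A).map σ := by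
      ext i j
      simp [Matrix.mul_apply, Fin.sum_univ_two]
    have h2 : A.map σ * ((SpecialLinearGroup.map (σ : E1 →+* F1) x : SL2 F1) : M2 F1) = (A * (x : M2 E1)).map σ := by
      ext i j
      simp [Matrix.mul_apply, Fin.sum_univ_two]
    rw [h1, h2]
    constructor
    · intro h; rw [h]
    · intro h
      ext i j
      have := congrFun (congrFun h i) j
      exact σ.injective this
  constructor
  · rintro ⟨h, h'⟩
    refine ⟨by rw [hdet]; simpa using h, fun x y hxy => ?_⟩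
    obtain ⟨x, rfl⟩ := sl_map_surj σ x
    obtain ⟨y, rfl⟩ := sl_map_surj σ y
    exact h' x y ((key x y).2 hxy)
  · rintro ⟨h, h'⟩
    refine ⟨by rw [hdet] at h; simpa using h, fun x y hxy => ?_⟩
    exact h' _ _ ((key x y).1 hxy)

theorem map_symm_map (σ : E1 ≃+* F1) (A : M2 F1) : (A.map σ.symm).map σ = A := by
  ext i j
  simp

theorem isSquare_det_map (σ : E1 ≃+* F1) (A : M2 E1) : IsSquare (A.map σ).det ↔ IsSquare A.det := by
  have hdet : (A.map σ).det = σ A.det := by
    simp [Matrix.det_fin_two]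
  rw [hdet]
  constructor
  · rintro ⟨a, ha⟩
    exact ⟨σ.symm a, by rw [← map_mul, ← ha]; simp⟩
  · rintro ⟨a, ha⟩
    exact ⟨σ a, by rw [← map_mul, ← ha]⟩

namespace LocalSL

/-- transport along isomorphisms of the fields -/
def comapF (L : LocalSL t F1 F2) (σ : E1 ≃+* F1) (τ : E2 ≃+* F2) : LocalSL t E1 E2 where
  e1 := L.e1.comp (SpecialLinearGroup.map (σ : E1 →+* F1))
  e2 := L.e2.comp (SpecialLinearGroup.map (τ : E2 →+* F2))
  inj1 := L.inj1.comp (sl_map_inj σ)
  inj2 := L.inj2.comp (sl_map_inj τ)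
  comm x y := L.comm _ _
  neg1 := by
    have : SpecialLinearGroup.map (σ : E1 →+* F1) (-1 : SL2 E1) = -1 := by
      apply Subtype.ext
      ext i j
      fin_cases i <;> fin_cases j <;> simp
    rw [MonoidHom.comp_apply, this, L.neg1]
  neg2 := by
    have : SpecialLinearGroup.map (τ : E2 →+* F2) (-1 : SL2 E2) = -1 := by
      apply Subtype.ext
      ext i j
      fin_cases i <;> fin_cases j <;> simp
    rw [MonoidHom.comp_apply, this, L.neg2]
  cent c h h1 h2 := by
    apply L.cent c h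
    · intro x
      obtain ⟨x, rfl⟩ := sl_map_surj σ x
      exact h1 x
    · intro x
      obtain ⟨x, rfl⟩ := sl_map_surj τ x
      exact h2 x

theorem rep_comapF (L : LocalSL t F1 F2) (σ : E1 ≃+* F1) (τ : E2 ≃+* F2) {c : G} {A : M2 E1} {B : M2 E2} :
    (L.comapF σ τ).Rep c A B ↔ L.Rep c (A.map σ) (B.map τ) :=
  ⟨fun h => ⟨h.comm, (acts_comap_iff σ).1 h.acts1, (acts_comap_iff τ).1 h.acts2⟩,
    fun h => ⟨h.comm, (acts_comap_iff σ).2 h.acts1, (acts_comap_iff τ).2 h.acts2⟩⟩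

theorem Hyp.comapF {L : LocalSL t F1 F2} (H : L.Hyp) (σ : E1 ≃+* F1) (τ : E2 ≃+* F2) : (L.comapF σ τ).Hyp where
  norm1 c h x := by
    obtain ⟨y, hy⟩ := H.norm1 c h (SpecialLinearGroup.map (σ : E1 →+* F1) x)
    obtain ⟨y, rfl⟩ := sl_map_surj σ y
    exact ⟨y, hy⟩
  norm2 c h x := by
    obtain ⟨y, hy⟩ := H.norm2 c h (SpecialLinearGroup.map (τ : E2 →+* F2) x)
    obtain ⟨y, rfl⟩ := sl_map_surj τ y
    exact ⟨y, hy⟩
  comm_mem c d hc hd := by
    obtain ⟨x, y, hxy⟩ := H.comm_mem c d hc hd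
    obtain ⟨x, rfl⟩ := sl_map_surj σ x
    obtain ⟨y, rfl⟩ := sl_map_surj τ y
    exact ⟨x, y, hxy⟩
  sq_mem := by
    rintro c hc ⟨A, B, h⟩
    obtain ⟨A', B', h'⟩ := H.sq_mem c hc ⟨_, _, (rep_comapF L σ τ).1 h⟩
    refine ⟨A'.map σ.symm, B'.map τ.symm, (rep_comapF L σ τ).2 ?_⟩
    rw [map_symm_map, map_symm_map]
    exact h'
  square_iff c A B h := by
    have := H.square_iff c _ _ ((rep_comapF L σ τ).1 h)
    rw [isSquare_det_map, isSquare_det_map] at this
    exact this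
  outer := by
    obtain ⟨g, A, B, h, hA, hB, hg⟩ := H.outer
    refine ⟨g, A.map σ.symm, B.map τ.symm, (rep_comapF L σ τ).2 ?_, ?_, ?_, hg⟩
    · rw [map_symm_map, map_symm_map]
      exact h
    · rwa [isSquare_det_map]
    · rwa [isSquare_det_map]

end LocalSL

end comap

namespace QThree

open Cfsg.Agent.Co2Type.Quad Cfsg.Agent.LargeExtra.W2

/-! ### Facts on `SL(2,3)` -/

def I : SL2 (ZMod 3) := ⟨!![0, 1; -1, 0], by decide⟩
def J : SL2 (ZMod 3) := ⟨!![1, 1; 1, -1], by decide⟩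
def X : SL2 (ZMod 3) := ⟨!![0, 1; -1, -1], by decide⟩
def D : M2 (ZMod 3) := !![1, 0; -1, -1]

theorem II : I * I = -1 := by decide +kernel
theorem JJ : J * J = -1 := by decide +kernel
theorem JI : J * I = I * J * -1 := by decide +kernel
theorem X3 : X ^ 3 = 1 := by decide +kernel
theorem XI : X * I = J * X := by decide +kernel
theorem XJ : X * J = I * J * X := by decide +kernel
theorem J_eq : J = X * I * X * X := by decide +kernel
theorem IX : (I * X) ^ 3 = -1 := by decide +kernel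
theorem Xne : X ≠ 1 := by decide +kernel
theorem I4 : I ^ 4 = 1 := by decide +kernel
theorem J4 : J ^ 4 = 1 := by decide +kernel
theorem n4 : (-1 : SL2 (ZMod 3)) ^ 4 = 1 := by decide +kernel
theorem DI : ((J * -1 : SL2 (ZMod 3)) : M2 (ZMod 3)) * D = D * (I : M2 (ZMod 3)) := by decide +kernel
theorem DJ : ((I * -1 : SL2 (ZMod 3)) : M2 (ZMod 3)) * D = D * (J : M2 (ZMod 3)) := by decide +kernel
theorem DX : ((X * X : SL2 (ZMod 3)) : M2 (ZMod 3)) * D = D * (X : M2 (ZMod 3)) := by decide +kernel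
theorem DD : D * D = (1 : ZMod 3) • (1 : M2 (ZMod 3)) := by decide +kernel
theorem detD : D.det = -1 := by decide +kernel
theorem neg_ne : (-1 : SL2 (ZMod 3)) ≠ 1 := by decide +kernel
theorem sq_one : ∀ a : ZMod 3, a ≠ 0 → IsSquare a → a = 1 := by decide +kernel
theorem nsq : ∀ a : ZMod 3, ¬ IsSquare a → a = -1 := by decide +kernel
theorem not_sq : ¬ IsSquare (-1 : ZMod 3) := by decide +kernel

theorem gen : ∀ x : SL2 (ZMod 3), ∃ (a : Fin 4) (b : Fin 2) (c : Fin 3),
    x = I ^ (a : ℕ) * J ^ (b : ℕ) * X ^ (c : ℕ) := by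
  decide +kernel

theorem v8 : ∀ x : SL2 (ZMod 3), x ^ 4 = 1 → ∃ (a : Fin 4) (b : Fin 2), x = I ^ (a : ℕ) * J ^ (b : ℕ) := by
  decide +kernel

theorem v8sq : ∀ x : SL2 (ZMod 3), x ^ 4 = 1 → x * x = 1 ∨ x * x = -1 := by
  decide +kernel

theorem v8mul : ∀ x y : SL2 (ZMod 3), x ^ 4 = 1 → y ^ 4 = 1 → (x * y) ^ 4 = 1 := by
  decide +kernel

theorem v8comm : ∀ x y : SL2 (ZMod 3), x ^ 4 = 1 → y ^ 4 = 1 → x * y = y * x ∨ x * y = y * x * -1 := by
  decide +kernel

theorem v8cent : ∀ x : SL2 (ZMod 3), x ^ 4 = 1 → x * I = I * x → x * J = J * x → x = 1 ∨ x = -1 := by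
  decide +kernel

theorem dcent : ∀ A : M2 (ZMod 3), (I : M2 (ZMod 3)) * A = A * (I : M2 (ZMod 3)) →
    (J : M2 (ZMod 3)) * A = A * (J : M2 (ZMod 3)) → ∃ a : ZMod 3, A = a • 1 := by
  decide +kernel

theorem aut : ∀ i : SL2 (ZMod 3), i * i = -1 → ∀ x : SL2 (ZMod 3), x ^ 3 = 1 → x ≠ 1 → (i * x) ^ 3 = -1 →
    ∃ A : M2 (ZMod 3), A.det ≠ 0 ∧ (i : M2 (ZMod 3)) * A = A * (I : M2 (ZMod 3)) ∧
      (x : M2 (ZMod 3)) * A = A * (X : M2 (ZMod 3)) := by
  decide +kernel

theorem card_sl : Fintype.card (SL2 (ZMod 3)) = 24 := by decide +kernel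
theorem card_v8 : Fintype.card {x : SL2 (ZMod 3) // x ^ 4 = 1} = 8 := by decide +kernel

/-- the quaternion subgroup -/
def V : Subgroup (SL2 (ZMod 3)) where
  carrier := {x | x ^ 4 = 1}
  mul_mem' {x y} hx hy := v8mul x y hx hy
  one_mem' := one_pow 4
  inv_mem' {x} hx := by
    change (x⁻¹) ^ 4 = 1
    rw [inv_pow]
    change x ^ 4 = 1 at hx
    rw [hx, inv_one]

theorem mem_V {x : SL2 (ZMod 3)} : x ∈ V ↔ x ^ 4 = 1 := Iff.rfl

theorem nat_card_V : Nat.card V = 8 := by
  have : Nat.card V = Nat.card {x : SL2 (ZMod 3) // x ^ 4 = 1} := rfl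
  rw [this, Nat.card_eq_fintype_card, card_v8]

variable {G : Type*} [Group G] {t : G}

/-- every automorphism of `SL(2,3)` is induced by a matrix -/
theorem exists_acts {e : SL2 (ZMod 3) →* G} (he : Function.Injective e) {c : G} (hc : c * e (-1) = e (-1) * c)
    (h : ∀ x, ∃ y, c * e x = e y * c) : ∃ A, Acts e c A := by
  obtain ⟨i', hi⟩ := h I
  obtain ⟨x', hx⟩ := h X
  have hi' : e i' = c * e I * c⁻¹ := by rw [hi]; group
  have hx' : e x' = c * e X * c⁻¹ := by rw [hx]; group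
  have h1 : i' * i' = -1 := by
    apply he
    rw [map_mul, hi']
    calc c * e I * c⁻¹ * (c * e I * c⁻¹) = c * e (I * I) * c⁻¹ := by rw [map_mul]; group
      _ = e (-1) := by rw [II, hc]; group
  have h2 : x' ^ 3 = 1 := by
    apply he
    rw [map_pow, hx', conj_pow, ← map_pow, X3, map_one]
    group
  have h3 : x' ≠ 1 := by
    rintro rfl
    rw [map_one] at hx'
    apply Xne
    apply he
    rw [map_one]
    have : e X = c⁻¹ * 1 * c := by rw [hx']; group
    simpa using this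
  have h4 : (i' * x') ^ 3 = -1 := by
    apply he
    rw [map_pow, map_mul, hi', hx']
    have : c * e I * c⁻¹ * (c * e X * c⁻¹) = c * e (I * X) * c⁻¹ := by rw [map_mul]; group
    rw [this, conj_pow, ← map_pow, IX, hc]
    group
  obtain ⟨A, hA, hAI, hAX⟩ := aut i' h1 x' h2 h3 h4
  refine ⟨A, hA, ?_⟩
  let S : Submonoid (SL2 (ZMod 3)) :=
    { carrier := {x | ∀ z : SL2 (ZMod 3), (z : M2 (ZMod 3)) * A = A * x → c * e x = e z * c}
      mul_mem' := by
        intro x y hx hy z hz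
        obtain ⟨x1, hx1⟩ := exists_cj hA x
        obtain ⟨y1, hy1⟩ := exists_cj hA y
        have hz' : (z : M2 (ZMod 3)) * A = A * ((x : M2 (ZMod 3)) * (y : M2 (ZMod 3))) := hz
        have : z = x1 * y1 := by
          apply sl_eq_of_mul hA
          change (z : M2 (ZMod 3)) * A = ((x1 : M2 (ZMod 3)) * (y1 : M2 (ZMod 3))) * A
          rw [hz', mul_assoc, hy1, ← mul_assoc, ← mul_assoc, hx1]
        rw [this, map_mul, map_mul, ← mul_assoc, hx x1 hx1, mul_assoc, hy y1 hy1, mul_assoc]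
      one_mem' := by
        intro z hz
        have : z = 1 := by
          apply sl_eq_of_mul hA
          rw [hz]
          simp
        rw [this, map_one, mul_one, one_mul] }
  have hIS : I ∈ S := by
    intro z hz
    have : z = i' := by
      apply sl_eq_of_mul hA
      rw [hz, hAI]
    rw [this, hi]
  have hXS : X ∈ S := by
    intro z hz
    have : z = x' := by
      apply sl_eq_of_mul hA
      rw [hz, hAX]
    rw [this, hx]
  have hJS : J ∈ S := by
    rw [J_eq]
    exact S.mul_mem (S.mul_mem (S.mul_mem hXS hIS) hXS) hXS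
  intro x y hxy
  obtain ⟨a, b, d, rfl⟩ := gen x
  exact (S.mul_mem (S.mul_mem (S.pow_mem hIS _) (S.pow_mem hJS _)) (S.pow_mem hXS _) :) y hxy

variable {L : LocalSL t (ZMod 3) (ZMod 3)}

theorem exists_rep (H : L.Hyp) {c : G} (hc : c * t = t * c) : ∃ A B, L.Rep c A B := by
  obtain ⟨A, hA⟩ := exists_acts L.inj1 (c := c) (by rw [L.neg1, hc]) (H.norm1 c hc)
  obtain ⟨B, hB⟩ := exists_acts L.inj2 (c := c) (by rw [L.neg2, hc]) (H.norm2 c hc)
  exact ⟨A, B, hc, hA, hB⟩

theorem exists_e12 (H : L.Hyp) {c : G} {A B : M2 (ZMod 3)} (h : L.Rep c A B) (hA : IsSquare A.det) :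
    ∃ u v, c = L.e1 u * L.e2 v := by
  have hB := (H.square_iff c A B h).1 hA
  have hA1 := sq_one _ h.det1 hA
  have hB1 := sq_one _ h.det2 hB
  obtain ⟨u, rfl⟩ : ∃ u : SL2 (ZMod 3), (u : M2 (ZMod 3)) = A := ⟨⟨A, hA1⟩, rfl⟩
  obtain ⟨v, rfl⟩ : ∃ u : SL2 (ZMod 3), (u : M2 (ZMod 3)) = B := ⟨⟨B, hB1⟩, rfl⟩
  have h2 := LocalSL.Rep.e12 L u v
  rcases h2.unique h (a := 1) (b := 1) (by simp) (by simp) with h3 | h3
  · exact ⟨_, _, h3⟩
  · refine ⟨u, v * -1, ?_⟩
    rw [h3, map_mul, L.neg2, mul_assoc]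

/-- the outer element acting on both factors as `D` -/
theorem exists_y (H : L.Hyp) : ∃ y, L.Rep y D D := by
  obtain ⟨g, A, B, h, hA, hB, -⟩ := H.outer
  have hA1 := nsq _ hA
  have hB1 := nsq _ hB
  have hd : ∀ A : M2 (ZMod 3), A.det = -1 → (D * A.adjugate).det = 1 := by
    intro A hA
    rw [Matrix.det_mul, Matrix.det_adjugate, detD, hA]
    decide
  have hm : ∀ A : M2 (ZMod 3), A.det = -1 → D * A.adjugate * A = (-1 : ZMod 3) • D := by
    intro A hA
    rw [mul_assoc, Matrix.adjugate_mul, hA]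
    simp
  have h1 := (LocalSL.Rep.e12 L ⟨D * A.adjugate, hd A hA1⟩ ⟨D * B.adjugate, hd B hB1⟩).mul h
  rw [show ((⟨D * A.adjugate, hd A hA1⟩ : SL2 (ZMod 3)) : M2 (ZMod 3)) * A = (-1 : ZMod 3) • D from hm A hA1,
    show ((⟨D * B.adjugate, hd B hB1⟩ : SL2 (ZMod 3)) : M2 (ZMod 3)) * B = (-1 : ZMod 3) • D from hm B hB1] at h1
  have h2 := h1.smul (a := -1) (b := -1) (by decide) (by decide)
  rw [smul_smul] at h2
  simp only [mul_neg, mul_one, neg_neg, one_smul] at h2
  exact ⟨_, h2⟩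

/-- the product of the two embeddings -/
def F (L : LocalSL t (ZMod 3) (ZMod 3)) : SL2 (ZMod 3) × SL2 (ZMod 3) →* G :=
  MonoidHom.noncommCoprod L.e1 L.e2 fun x y => L.comm x y

theorem F_apply (p : SL2 (ZMod 3) × SL2 (ZMod 3)) : F L p = L.e1 p.1 * L.e2 p.2 := rfl

theorem mem_ker {p : SL2 (ZMod 3) × SL2 (ZMod 3)} : p ∈ (F L).ker ↔ p = 1 ∨ p = (-1, -1) := by
  rw [MonoidHom.mem_ker, F_apply]
  constructor
  · intro h
    rcases LocalSL.e12_eq_one h with ⟨h1, h2⟩ | ⟨h1, h2⟩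
    · left; exact Prod.ext h1 h2
    · right; exact Prod.ext h1 h2
  · rintro (rfl | rfl)
    · simp
    · change L.e1 (-1) * L.e2 (-1) = 1
      rw [L.neg1, L.neg2, LocalSL.t_sq L]

theorem card_ker : Nat.card (F L).ker = 2 := by
  have h : ((F L).ker : Set (SL2 (ZMod 3) × SL2 (ZMod 3))) = {1, (-1, -1)} := by
    ext p
    exact mem_ker
  have h1 : Nat.card (F L).ker = Nat.card (({1, (-1, -1)} : Set (SL2 (ZMod 3) × SL2 (ZMod 3)))) := by
    rw [← h]
    rfl
  rw [h1, Nat.card_coe_set_eq]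
  apply Set.ncard_pair
  intro h
  exact neg_ne (congrArg Prod.fst h).symm

theorem card_map (W : Subgroup (SL2 (ZMod 3) × SL2 (ZMod 3))) (hW : (-1, -1) ∈ W) :
    Nat.card (W.map (F L)) * 2 = Nat.card W := by
  have h1 : Nat.card ((F L).comp W.subtype).range = Nat.card (W.map (F L)) := by
    rw [MonoidHom.range_comp, Subgroup.range_subtype]
  have h2 : Nat.card ((F L).comp W.subtype).ker = 2 := by
    rw [← MonoidHom.comap_ker]
    have hle : (F L).ker ≤ W := by
      intro p hp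
      rcases mem_ker.1 hp with rfl | rfl
      · exact W.one_mem
      · exact hW
    have h3 : Nat.card ((F L).ker.subgroupOf W) = 2 := by
      rw [Nat.card_congr (Subgroup.subgroupOfEquivOfLe hle).toEquiv, card_ker]
    exact h3
  have h3 := Subgroup.card_mul_index ((F L).comp W.subtype).ker
  rw [Subgroup.index_ker, h1, h2] at h3
  rw [mul_comm]
  exact h3

theorem t_eq (L : LocalSL t (ZMod 3) (ZMod 3)) : t = L.e1 (-1) := L.neg1.symm

/-- the extraspecial group -/
def Q (L : LocalSL t (ZMod 3) (ZMod 3)) : Subgroup G := (V.prod V).map (F L)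

theorem mem_Q {x : G} : x ∈ Q L ↔ ∃ u ∈ V, ∃ v ∈ V, x = L.e1 u * L.e2 v := by
  constructor
  · rintro ⟨p, hp, rfl⟩
    exact ⟨p.1, hp.1, p.2, hp.2, rfl⟩
  · rintro ⟨u, hu, v, hv, rfl⟩
    exact ⟨(u, v), ⟨hu, hv⟩, rfl⟩

theorem card_Q : Nat.card (Q L) = 32 := by
  have h := card_map (L := L) (V.prod V) ⟨n4, n4⟩
  have h1 : Nat.card (V.prod V) = 64 := by
    rw [Nat.card_congr (Subgroup.prodEquiv V V).toEquiv, Nat.card_prod, nat_card_V]
  rw [h1] at h
  change Nat.card ((V.prod V).map (F L)) = 32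
  omega

theorem card_range : Nat.card (F L).range = 288 := by
  have h := card_map (L := L) ⊤ trivial
  rw [← MonoidHom.range_eq_map] at h
  have h1 : Nat.card (⊤ : Subgroup (SL2 (ZMod 3) × SL2 (ZMod 3))) = 576 := by
    rw [Subgroup.card_top, Nat.card_prod, Nat.card_eq_fintype_card, card_sl]
  rw [h1] at h
  omega

theorem e1_mem_V {u : SL2 (ZMod 3)} (hu : u ∈ V) : L.e1 u ∈ Q L := mem_Q.2 ⟨u, hu, 1, V.one_mem, by simp⟩

theorem e2_mem_V {u : SL2 (ZMod 3)} (hu : u ∈ V) : L.e2 u ∈ Q L := mem_Q.2 ⟨1, V.one_mem, u, hu, by simp⟩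

theorem t_mem (L : LocalSL t (ZMod 3) (ZMod 3)) : t ∈ Q L :=
  mem_Q.2 ⟨-1, n4, 1, V.one_mem, by rw [map_one, mul_one]; exact L.neg1.symm⟩

theorem large (H : L.Hyp) : Large (Q L) t where
  z_mem := t_mem L
  z_ne := by
    intro h
    apply neg_ne
    apply L.inj1
    exact (L.neg1.trans h).trans (map_one L.e1).symm
  z_sq := LocalSL.t_sq L
  comm_z x hx := by
    obtain ⟨u, -, v, -, rfl⟩ := mem_Q.1 hx
    rw [mul_assoc, LocalSL.e2_t, ← mul_assoc, LocalSL.e1_t, mul_assoc]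
  conj_mem g hg x hx := by
    obtain ⟨u, hu, v, hv, rfl⟩ := mem_Q.1 hx
    obtain ⟨u', hu'⟩ := H.norm1 g hg u
    obtain ⟨v', hv'⟩ := H.norm2 g hg v
    have h1 : L.e1 u' = g * L.e1 u * g⁻¹ := by rw [hu']; group
    have h2 : L.e2 v' = g * L.e2 v * g⁻¹ := by rw [hv']; group
    refine mem_Q.2 ⟨u', ?_, v', ?_, ?_⟩
    · apply L.inj1
      rw [map_pow, h1, conj_pow, ← map_pow, mem_V.1 hu, map_one]
      group
    · apply L.inj2
      rw [map_pow, h2, conj_pow, ← map_pow, mem_V.1 hv, map_one]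
      group
    · rw [h1, h2]
      group
  sq x hx := by
    obtain ⟨u, hu, v, hv, rfl⟩ := mem_Q.1 hx
    have h1 : L.e1 u * L.e2 v * (L.e1 u * L.e2 v) = L.e1 (u * u) * L.e2 (v * v) := by
      rw [map_mul, map_mul]
      calc L.e1 u * L.e2 v * (L.e1 u * L.e2 v) = L.e1 u * (L.e2 v * L.e1 u) * L.e2 v := by group
        _ = L.e1 u * (L.e1 u * L.e2 v) * L.e2 v := by rw [L.comm]
        _ = _ := by group
    rw [h1]
    rcases v8sq u hu with h2 | h2 <;> rcases v8sq v hv with h3 | h3 <;> rw [h2, h3]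
    · left; simp
    · right; rw [L.neg2]; simp
    · right; rw [L.neg1]; simp
    · left; rw [L.neg1, L.neg2, LocalSL.t_sq L]
  comm x hx y hy := by
    obtain ⟨u, hu, v, hv, rfl⟩ := mem_Q.1 hx
    obtain ⟨u', hu', v', hv', rfl⟩ := mem_Q.1 hy
    have h1 : ∀ u v u' v', L.e1 u * L.e2 v * (L.e1 u' * L.e2 v') = L.e1 (u * u') * L.e2 (v * v') := by
      intro u v u' v'
      rw [map_mul, map_mul]
      calc L.e1 u * L.e2 v * (L.e1 u' * L.e2 v') = L.e1 u * (L.e2 v * L.e1 u') * L.e2 v' := by group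
        _ = L.e1 u * (L.e1 u' * L.e2 v) * L.e2 v' := by rw [L.comm]
        _ = _ := by group
    rw [h1, h1]
    have hn1 : L.e1 (u' * u * -1) = L.e1 (u' * u) * t := by rw [map_mul, L.neg1]
    have hn2 : L.e2 (v' * v * -1) = L.e2 (v' * v) * t := by rw [map_mul, L.neg2]
    have hc : t * L.e2 (v' * v) = L.e2 (v' * v) * t := (LocalSL.e2_t _).symm
    rcases v8comm u u' hu hu' with h2 | h2 <;> rcases v8comm v v' hv hv' with h3 | h3 <;> rw [h2, h3]
    · left; rfl
    · right; rw [hn2, mul_assoc]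
    · right; rw [hn1, mul_assoc, hc, mul_assoc]
    · left; rw [hn1, hn2, mul_assoc, ← mul_assoc t, hc, mul_assoc, LocalSL.t_sq L, mul_one]
  cent x hx h := by
    obtain ⟨u, hu, v, hv, rfl⟩ := mem_Q.1 hx
    have h1 : ∀ w ∈ V, u * w = w * u := by
      intro w hw
      have h2 := h _ (e1_mem_V hw)
      apply L.inj1
      rw [map_mul, map_mul]
      have h3 : L.e1 u * L.e1 w * L.e2 v = L.e1 w * L.e1 u * L.e2 v := by
        calc L.e1 u * L.e1 w * L.e2 v = L.e1 u * (L.e1 w * L.e2 v) := by group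
          _ = L.e1 u * L.e2 v * L.e1 w := by rw [L.comm]; group
          _ = L.e1 w * L.e1 u * L.e2 v := by rw [h2]; group
      exact mul_right_cancel h3
    have h2 : ∀ w ∈ V, v * w = w * v := by
      intro w hw
      have h2 := h _ (e2_mem_V hw)
      apply L.inj2
      rw [map_mul, map_mul]
      have h3 : L.e1 u * (L.e2 v * L.e2 w) = L.e1 u * (L.e2 w * L.e2 v) := by
        calc L.e1 u * (L.e2 v * L.e2 w) = L.e1 u * L.e2 v * L.e2 w := by group
          _ = L.e2 w * L.e1 u * L.e2 v := by rw [h2]; group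
          _ = L.e1 u * (L.e2 w * L.e2 v) := by rw [← L.comm]; group
      exact mul_left_cancel h3
    rcases v8cent u hu (h1 I I4) (h1 J J4) with h3 | h3 <;> rcases v8cent v hv (h2 I I4) (h2 J J4) with h4 | h4 <;>
      rw [h3, h4]
    · left; simp
    · right; rw [L.neg2]; simp
    · right; rw [L.neg1]; simp
    · left; rw [L.neg1, L.neg2, LocalSL.t_sq L]
  self g hg h := by
    obtain ⟨A, B, hR⟩ := exists_rep H hg
    have key : ∀ (e : SL2 (ZMod 3) →* G), Function.Injective e → ∀ A, Acts e g A → (∀ w ∈ V, g * e w = e w * g) →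
        ∃ a : ZMod 3, A = a • 1 := by
      intro e he A hA hw
      have h1 : ∀ w ∈ V, (w : M2 (ZMod 3)) * A = A * (w : M2 (ZMod 3)) := by
        intro w hwV
        obtain ⟨w', hw'⟩ := exists_cj hA.1 w
        have h2 := hA.2 w w' hw'
        rw [hw w hwV] at h2
        have h3 := he (mul_right_cancel h2)
        rw [← h3] at hw'
        exact hw'
      exact dcent A (h1 I I4) (h1 J J4)
    obtain ⟨a, rfl⟩ := key L.e1 L.inj1 A hR.acts1 fun w hw => h _ (e1_mem_V hw)
    obtain ⟨b, rfl⟩ := key L.e2 L.inj2 B hR.acts2 fun w hw => h _ (e2_mem_V hw)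
    rcases hR.eq_or with h1 | h1
    · rw [h1]; exact (Q L).one_mem
    · rw [h1]
      exact t_mem L

theorem gen_Q (L : LocalSL t (ZMod 3) (ZMod 3)) :
    Q L = Subgroup.closure {L.e1 I, L.e1 J, L.e2 I, L.e2 J} := by
  apply le_antisymm
  · intro x hx
    obtain ⟨u, hu, v, hv, rfl⟩ := mem_Q.1 hx
    obtain ⟨a, b, rfl⟩ := v8 u hu
    obtain ⟨a', b', rfl⟩ := v8 v hv
    simp only [map_mul, map_pow]
    refine Subgroup.mul_mem _ (Subgroup.mul_mem _ (Subgroup.pow_mem _ (Subgroup.subset_closure ?_) _)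
      (Subgroup.pow_mem _ (Subgroup.subset_closure ?_) _)) (Subgroup.mul_mem _ (Subgroup.pow_mem _
        (Subgroup.subset_closure ?_) _) (Subgroup.pow_mem _ (Subgroup.subset_closure ?_) _)) <;> simp
  · rw [Subgroup.closure_le]
    rintro x (rfl | rfl | rfl | rfl)
    · exact e1_mem_V I4
    · exact e1_mem_V J4
    · exact e2_mem_V I4
    · exact e2_mem_V J4

theorem e1_mem_closure (L : LocalSL t (ZMod 3) (ZMod 3)) (S : Subgroup G) (hI : L.e1 I ∈ S) (hJ : L.e1 J ∈ S)
    (hX : L.e1 X ∈ S) (u : SL2 (ZMod 3)) : L.e1 u ∈ S := by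
  obtain ⟨a, b, c, rfl⟩ := gen u
  simp only [map_mul, map_pow]
  exact S.mul_mem (S.mul_mem (S.pow_mem hI _) (S.pow_mem hJ _)) (S.pow_mem hX _)

theorem e2_mem_closure (L : LocalSL t (ZMod 3) (ZMod 3)) (S : Subgroup G) (hI : L.e2 I ∈ S) (hJ : L.e2 J ∈ S)
    (hX : L.e2 X ∈ S) (u : SL2 (ZMod 3)) : L.e2 u ∈ S := by
  obtain ⟨a, b, c, rfl⟩ := gen u
  simp only [map_mul, map_pow]
  exact S.mul_mem (S.mul_mem (S.pow_mem hI _) (S.pow_mem hJ _)) (S.pow_mem hX _)

/-- an element acting as `D` (of nonsquare determinant) is not in `L1 L2` -/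
theorem not_range {y : G} {A B : M2 (ZMod 3)} (hy : L.Rep y A B) (hA : ¬ IsSquare A.det) : y ∉ (F L).range := by
  rintro ⟨p, rfl⟩
  rw [F_apply] at hy
  obtain ⟨⟨a, -, ha⟩, -⟩ := (LocalSL.Rep.e12 L p.1 p.2).prop hy
  apply hA
  rw [ha, det_smul2, sl_coe_det, mul_one]
  exact ⟨a, rfl⟩

theorem mem_range (H : L.Hyp) {c : G} {A B : M2 (ZMod 3)} (hy : L.Rep c A B) (hA : IsSquare A.det) : c ∈ (F L).range := by
  obtain ⟨u, v, h⟩ := exists_e12 H hy hA
  exact ⟨(u, v), h.symm⟩

theorem range_le (L : LocalSL t (ZMod 3) (ZMod 3)) : (F L).range ≤ Subgroup.centralizer ({t} : Set G) := by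
  rintro _ ⟨p, rfl⟩
  rw [Subgroup.mem_centralizer_singleton_iff]
  exact (LocalSL.Rep.e12 L p.1 p.2).comm

/-- products of two elements of nonsquare determinant -/
theorem sq_mul : ∀ a b : ZMod 3, a ≠ 0 → b ≠ 0 → ¬ IsSquare a → (IsSquare (b * a) ↔ ¬ IsSquare b) := by
  decide +kernel

theorem card_cent (H : L.Hyp) : Nat.card (Subgroup.centralizer ({t} : Set G)) = 576 := by
  obtain ⟨y, hy⟩ := exists_y H
  have hyC : y ∈ Subgroup.centralizer ({t} : Set G) := Subgroup.mem_centralizer_singleton_iff.2 hy.comm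
  have hD : ¬ IsSquare D.det := by rw [detD]; exact not_sq
  have h1 : ((F L).range.subgroupOf (Subgroup.centralizer ({t} : Set G))).index = 2 := by
    rw [Subgroup.index_eq_two_iff]
    refine ⟨⟨y, hyC⟩, fun b => ?_⟩
    obtain ⟨A, B, hb⟩ := exists_rep H (Subgroup.mem_centralizer_singleton_iff.1 b.2)
    have h2 := sq_mul D.det A.det hy.det1 hb.det1 hD
    have h3 := hb.mul hy
    by_cases hA : IsSquare A.det
    · right
      refine ⟨mem_range H hb hA, fun h => ?_⟩
      rw [Subgroup.mem_subgroupOf] at h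
      apply not_range h3 _ h
      rw [Matrix.det_mul, h2]
      exact not_not.2 hA
    · left
      refine ⟨?_, fun h => not_range hb hA h⟩
      rw [Subgroup.mem_subgroupOf]
      apply mem_range H h3
      rw [Matrix.det_mul, h2]
      exact hA
  have h2 : Nat.card ((F L).range.subgroupOf (Subgroup.centralizer ({t} : Set G))) = 288 := by
    rw [Nat.card_congr (Subgroup.subgroupOfEquivOfLe (range_le L)).toEquiv, card_range]
  have h3 := Subgroup.card_mul_index ((F L).range.subgroupOf (Subgroup.centralizer ({t} : Set G)))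
  rw [h1, h2] at h3
  exact h3.symm

theorem case9c (H : L.Hyp) {y : G} (hy : L.Rep y D D) :
    Case9c (Q L) t (L.e1 I) (L.e1 J) (L.e2 I) (L.e2 J) (L.e1 X) (L.e2 X) y where
  large := large H
  card := card_Q
  gen := gen_Q L
  ii := by rw [← map_mul, II]; exact L.neg1
  jj := by rw [← map_mul, JJ]; exact L.neg1
  kk := by rw [← map_mul, II]; exact L.neg2
  ll := by rw [← map_mul, JJ]; exact L.neg2
  ji := by
    rw [← map_mul, JI, map_mul, map_mul]
    exact congrArg _ L.neg1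
  lk := by
    rw [← map_mul, JI, map_mul, map_mul]
    exact congrArg _ L.neg2
  ki := (L.comm _ _).symm
  li := (L.comm _ _).symm
  kj := (L.comm _ _).symm
  lj := (L.comm _ _).symm
  x₁3 := by rw [← map_pow, X3, map_one]
  x₂3 := by rw [← map_pow, X3, map_one]
  x₁_act :=
    { z := by rw [LocalSL.e1_t]; group
      i := by rw [← map_mul, XI, map_mul]; group
      j := by rw [← map_mul, XJ, map_mul, map_mul]; group
      k := by rw [L.comm]; group
      l := by rw [L.comm]; group }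
  x₂_act :=
    { z := by rw [LocalSL.e2_t]; group
      i := by rw [← L.comm]; group
      j := by rw [← L.comm]; group
      k := by rw [← map_mul, XI, map_mul]; group
      l := by rw [← map_mul, XJ, map_mul, map_mul]; group }
  y_act :=
    { z := by rw [hy.comm]; group
      i := by
        rw [hy.acts1.2 _ _ DI, map_mul]
        have := L.neg1
        rw [mul_inv_cancel_right]
        exact congrArg _ this
      j := by
        rw [hy.acts1.2 _ _ DJ, map_mul]
        have := L.neg1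
        rw [mul_inv_cancel_right]
        exact congrArg _ this
      k := by
        rw [hy.acts2.2 _ _ DI, map_mul]
        have := L.neg2
        rw [mul_inv_cancel_right]
        exact congrArg _ this
      l := by
        rw [hy.acts2.2 _ _ DJ, map_mul]
        have := L.neg2
        rw [mul_inv_cancel_right]
        exact congrArg _ this }
  xx := L.comm _ _
  y1 := by
    rw [hy.acts1.2 _ _ DX, mul_inv_cancel_right, ← map_inv]
    congr 1
    exact eq_inv_of_mul_eq_one_left (by have h := X3; rw [pow_succ, pow_two] at h; exact h)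
  y2 := by
    rw [hy.acts2.2 _ _ DX, mul_inv_cancel_right, ← map_inv]
    congr 1
    exact eq_inv_of_mul_eq_one_left (by have h := X3; rw [pow_succ, pow_two] at h; exact h)
  yy := by
    have h := hy.mul hy
    rw [DD] at h
    exact h.eq_or
  cent := by
    apply le_antisymm
    · intro c hc
      rw [Subgroup.mem_centralizer_singleton_iff] at hc
      obtain ⟨A, B, hR⟩ := exists_rep H hc
      set S := Subgroup.closure {L.e1 I, L.e1 J, L.e2 I, L.e2 J, L.e1 X, L.e2 X, y} with hS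
      have hsub : ({L.e1 I, L.e1 J, L.e2 I, L.e2 J, L.e1 X, L.e2 X, y} : Set G) ⊆ S := Subgroup.subset_closure
      have m1 : ∀ u, L.e1 u ∈ S := fun u =>
        e1_mem_closure L S (hsub (by simp)) (hsub (by simp)) (hsub (by simp)) u
      have m2 : ∀ u, L.e2 u ∈ S := fun u =>
        e2_mem_closure L S (hsub (by simp)) (hsub (by simp)) (hsub (by simp)) u
      have my : y ∈ S := hsub (by simp)
      by_cases hA : IsSquare A.det
      · obtain ⟨u, v, h⟩ := exists_e12 H hR hA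
        rw [h]
        exact S.mul_mem (m1 u) (m2 v)
      · have hD : ¬ IsSquare D.det := by rw [detD]; exact not_sq
        have h2 := sq_mul D.det A.det hy.det1 hR.det1 hD
        obtain ⟨u, v, h⟩ := exists_e12 H (hR.mul hy) (by rw [Matrix.det_mul, h2]; exact hA)
        have h3 : c = L.e1 u * L.e2 v * y⁻¹ := by rw [← h]; group
        rw [h3]
        exact S.mul_mem (S.mul_mem (m1 u) (m2 v)) (S.inv_mem my)
    · rw [Subgroup.closure_le]
      intro x hx
      rw [SetLike.mem_coe, Subgroup.mem_centralizer_singleton_iff]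
      rcases hx with rfl | rfl | rfl | rfl | rfl | rfl | rfl
      · exact LocalSL.e1_t _
      · exact LocalSL.e1_t _
      · exact LocalSL.e2_t _
      · exact LocalSL.e2_t _
      · exact LocalSL.e1_t _
      · exact LocalSL.e2_t _
      · exact hy.comm
  card_cent := card_cent H

/-- **The bridge**: `q₁ = q₂ = 3` gives the case `Case9c` of S1759. -/
theorem exists_case9c {F1 F2 : Type*} [Field F1] [Field F2] (L : LocalSL t F1 F2) (H : L.Hyp)
    (h1 : Nat.card F1 = 3) (h2 : Nat.card F2 = 3) :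
    ∃ (Q : Subgroup G) (i j k l x₁ x₂ y : G), Case9c Q t i j k l x₁ x₂ y := by
  have hf1 : Finite F1 := Nat.finite_of_card_ne_zero (by omega)
  have hf2 : Finite F2 := Nat.finite_of_card_ne_zero (by omega)
  have := Fintype.ofFinite F1
  have := Fintype.ofFinite F2
  have : Fact (Nat.Prime 3) := ⟨Nat.prime_three⟩
  have σ : ZMod 3 ≃+* F1 := ZMod.ringEquivOfPrime F1 Nat.prime_three (by rw [← Nat.card_eq_fintype_card, h1])
  have τ : ZMod 3 ≃+* F2 := ZMod.ringEquivOfPrime F2 Nat.prime_three (by rw [← Nat.card_eq_fintype_card, h2])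
  obtain ⟨y, hy⟩ := exists_y (H.comapF σ τ)
  exact ⟨_, _, _, _, _, _, _, _, case9c (H.comapF σ τ) hy⟩

end QThree

end Cfsg.Agent.GTwoOdd
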