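import Cfsg.Agent.GTwoOdd.RootCent

/-!
# Subgroups of `C(t)` of odd order inverted by `s` and normalised by the torus
-/

set_option autoImplicit false

namespace Cfsg.Agent.GTwoOdd

open Matrix ZIso

namespace LocalSL

variable {G : Type*} [Group G] [Finite G] {t : G} {F1 F2 : Type*} [Field F1] [Field F2]
variable [Finite F1] [Finite F2] {L : LocalSL t F1 F2} {s : G} {D1 : M2 F1} {D2 : M2 F2} {n1 : SL2 F1} {n2 : SL2 F2}

/-- `Y` is a subgroup of `C(t)` of odd order, inverted by `s` and normalised by the torus -/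
structure YD (L : LocalSL t F1 F2) (s : G) (D1 : M2 F1) (D2 : M2 F2) (Y : Subgroup G) : Prop where
  odd : Odd (Nat.card Y)
  ct : ∀ y ∈ Y, y * t = t * y
  inv : ∀ y ∈ Y, s * y * s⁻¹ = y⁻¹
  tor : ∀ c ∈ L.tor D1 D2, ∀ y ∈ Y, c * y * c⁻¹ ∈ Y

namespace YD

omit [Finite G] [Finite F1] [Finite F2] in
theorem comm {Y : Subgroup G} (h : YD L s D1 D2 Y) {y z : G} (hy : y ∈ Y) (hz : z ∈ Y) : y * z = z * y := by
  have h1 := h.inv _ (mul_mem hy hz)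
  have h2 := h.inv _ hy
  have h3 := h.inv _ hz
  have h4 : s * (y * z) * s⁻¹ = (s * y * s⁻¹) * (s * z * s⁻¹) := by group
  rw [h4, h2, h3] at h1
  have h5 := congrArg (·⁻¹) h1
  simp only [_root_.mul_inv_rev, inv_inv] at h5
  exact h5.symm

/-- the components of the elements of `Y` -/
structure Comp (L : LocalSL t F1 F2) (D1 : M2 F1) (D2 : M2 F2) (m : ℕ) (x1 : SL2 F1) (x2 : SL2 F2) : Prop where
  pow1 : x1 ^ m = 1
  pow2 : x2 ^ m = 1
  inv1 : (x1 : M2 F1) * D1 = D1 * (x1⁻¹ : SL2 F1)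
  inv2 : (x2 : M2 F2) * D2 = D2 * (x2⁻¹ : SL2 F2)
  cm1 : ∀ (A : M2 F1) (y : SL2 F1), A * D1 = D1 * A → A.det ≠ 0 → (y : M2 F1) * A = A * x1 → x1 * y = y * x1
  cm2 : ∀ (A : M2 F2) (y : SL2 F2), A * D2 = D2 * A → A.det ≠ 0 → (y : M2 F2) * A = A * x2 → x2 * y = y * x2

omit [Finite G] [Finite F1] [Finite F2] in
theorem e12_mul (x x' : SL2 F1) (y y' : SL2 F2) : L.e1 x * L.e2 y * (L.e1 x' * L.e2 y') = L.e1 (x * x') * L.e2 (y * y') := by
  rw [map_mul, map_mul]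
  calc L.e1 x * L.e2 y * (L.e1 x' * L.e2 y') = L.e1 x * (L.e2 y * L.e1 x') * L.e2 y' := by group
    _ = _ := by rw [← L.comm]; group

omit [Finite G] [Finite F1] [Finite F2] in
theorem e12_pow (x : SL2 F1) (y : SL2 F2) (n : ℕ) : (L.e1 x * L.e2 y) ^ n = L.e1 (x ^ n) * L.e2 (y ^ n) := by
  induction n with
  | zero => simp
  | succ n ih => rw [pow_succ, ih, e12_mul, ← pow_succ, ← pow_succ]

omit [Finite G] [Finite F1] [Finite F2] in
theorem conj_e12 {c : G} {A : M2 F1} {B : M2 F2} (h : L.Rep c A B) {x y : SL2 F1} {z w : SL2 F2}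
    (h1 : (y : M2 F1) * A = A * x) (h2 : (w : M2 F2) * B = B * z) :
    c * (L.e1 x * L.e2 z) * c⁻¹ = L.e1 y * L.e2 w := by
  calc c * (L.e1 x * L.e2 z) * c⁻¹ = (c * L.e1 x) * L.e2 z * c⁻¹ := by group
    _ = L.e1 y * (c * L.e2 z) * c⁻¹ := by rw [h.acts1.2 _ _ h1]; group
    _ = _ := by rw [h.acts2.2 _ _ h2]; group

theorem decomp (F : L.Frame s D1 D2 n1 n2) {Y : Subgroup G} (h : YD L s D1 D2 Y) {y : G} (hy : y ∈ Y) :
    ∃ x1 x2, Comp L D1 D2 (Nat.card Y) x1 x2 ∧ y = L.e1 x1 * L.e2 x2 := by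
  set m := Nat.card Y with hm
  have hpow : ∀ z ∈ Y, z ^ m = 1 := by
    intro z hz
    have h1 : (⟨z, hz⟩ : Y) ^ Nat.card Y = 1 := pow_card_eq_one'
    exact congrArg Subtype.val h1
  -- `y` is in `L1 L2`
  have hmem : ∀ z ∈ Y, ∃ x1 x2, z = L.e1 x1 * L.e2 x2 := by
    intro z hz
    obtain ⟨a, b, hab⟩ := F.hyp.comm_mem s z F.rep.comm (h.ct z hz)
    have h1 := h.inv z hz
    -- `z⁻¹ = e1 a e2 b z`
    have h2 : z⁻¹ = L.e1 a * L.e2 b * z := by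
      rw [← h1, hab]; group
    have h3 : z⁻¹ * z⁻¹ = L.e1 a * L.e2 b := by
      nth_rw 1 [h2]; group
    obtain ⟨k, hk⟩ := h.odd
    have h4 : z = (z⁻¹ * z⁻¹) ^ k := by
      have h5 := hpow z hz
      rw [hm, hk, pow_succ, pow_mul] at h5
      have h6 : (z⁻¹ * z⁻¹) ^ k = ((z ^ 2) ^ k)⁻¹ := by rw [← pow_two, inv_pow, inv_pow]
      rw [h6]
      exact eq_inv_of_mul_eq_one_right h5
    refine ⟨a ^ k, b ^ k, ?_⟩
    rw [← e12_pow, ← h3]; exact h4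
  -- components of odd order
  have hodd : ∀ z ∈ Y, ∃ x1 x2, x1 ^ m = 1 ∧ x2 ^ m = 1 ∧ z = L.e1 x1 * L.e2 x2 := by
    intro z hz
    obtain ⟨x1, x2, h1⟩ := hmem z hz
    have h2 := hpow z hz
    rw [h1, e12_pow] at h2
    rcases e12_eq_one h2 with ⟨h3, h4⟩ | ⟨h3, h4⟩
    · exact ⟨x1, x2, h3, h4, h1⟩
    · refine ⟨-x1, -x2, ?_, ?_, ?_⟩
      · rw [neg_pow, h.odd.neg_one_pow, h3]; simp
      · rw [neg_pow, h.odd.neg_one_pow, h4]; simp
      · rw [Rep.neg_neg]; exact h1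
  obtain ⟨x1, x2, hx1, hx2, hyx⟩ := hodd y hy
  -- comparison of two decompositions
  have cmp : ∀ {u u' : SL2 F1} {v v' : SL2 F2}, u ^ m = 1 → u' ^ m = 1 →
      L.e1 u * L.e2 v = L.e1 u' * L.e2 v' → u = u' ∧ v = v' := by
    intro u u' v v' hu hu' he
    rcases e12_inj he with ⟨h1, h2⟩ | ⟨h1, h2⟩
    · exact ⟨h1, h2⟩
    · exfalso
      have := eq_of_neg_odd F.two1 h.odd hu hu' (Or.inr h1)
      rw [this] at h1
      have h3 : u' ^ m = -(u' ^ m) := by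
        nth_rw 1 [h1]
        rw [neg_pow, h.odd.neg_one_pow, neg_one_mul]
      rw [hu'] at h3
      exact neg_one_ne_one F.two1 h3.symm
  have hpc1 : ∀ {u y : SL2 F1} {A : M2 F1}, A.det ≠ 0 → (y : M2 F1) * A = A * u → u ^ m = 1 → y ^ m = 1 := by
    intro u y A hA hyu hu
    have h1 : ∀ k : ℕ, ((y ^ k : SL2 F1) : M2 F1) * A = A * ((u ^ k : SL2 F1) : M2 F1) := by
      intro k
      induction k with
      | zero => simp
      | succ k ih =>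
        rw [pow_succ, pow_succ, Matrix.SpecialLinearGroup.coe_mul, Matrix.SpecialLinearGroup.coe_mul, mul_assoc, hyu,
          ← mul_assoc, ih, mul_assoc]
    have h2 := h1 m
    rw [hu] at h2
    apply sl_eq_of_mul hA
    rw [h2]; simp
  -- `s` inverts
  obtain ⟨z1, hz1⟩ := exists_cj F.det1 x1
  obtain ⟨z2, hz2⟩ := exists_cj F.det2 x2
  have hs := conj_e12 F.rep hz1 hz2
  rw [← hyx, h.inv y hy] at hs
  have hyi : y⁻¹ = L.e1 x1⁻¹ * L.e2 x2⁻¹ := by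
    rw [hyx, _root_.mul_inv_rev, map_inv, map_inv, ← _root_.mul_inv_rev, ← _root_.mul_inv_rev, L.comm]
  rw [hyi] at hs
  have hx1i : (x1⁻¹) ^ m = 1 := by rw [inv_pow, hx1, inv_one]
  obtain ⟨e1, e2⟩ := cmp hx1i (hpc1 F.det1 hz1 hx1) hs
  -- commuting with the conjugates
  have key : ∀ {A : M2 F1} {B : M2 F2} {c : G} {u : SL2 F1} {v : SL2 F2}, L.Rep c A B → A * D1 = D1 * A → B * D2 = D2 * B →
      (u : M2 F1) * A = A * x1 → (v : M2 F2) * B = B * x2 → (x1 * u = u * x1 ∨ x1 * u = -(u * x1)) ∧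
        (x2 * v = v * x2 ∨ x2 * v = -(v * x2)) := by
    intro A B c u v hr hA hB hu hv
    have h1 := conj_e12 hr hu hv
    rw [← hyx] at h1
    have h2 := h.tor c ⟨A, B, hr, hA, hB⟩ y hy
    have h3 := h.comm hy h2
    rw [h1, hyx, e12_mul, e12_mul] at h3
    rcases e12_inj h3 with ⟨h4, h5⟩ | ⟨h4, h5⟩
    · exact ⟨Or.inl h4, Or.inl h5⟩
    · exact ⟨Or.inr h4, Or.inr h5⟩
  refine ⟨x1, x2, ⟨hx1, hx2, ?_, ?_, ?_, ?_⟩, hyx⟩
  · -- `x1 D1 = D1 x1⁻¹`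
    have h1 : ((x1⁻¹ : SL2 F1) : M2 F1) * D1 = D1 * x1 := by rw [e1]; exact hz1
    calc (x1 : M2 F1) * D1 = (x1 : M2 F1) * (D1 * (x1 * (x1⁻¹ : SL2 F1))) := by rw [sl_mul_inv, mul_one]
      _ = (x1 : M2 F1) * ((D1 * x1) * (x1⁻¹ : SL2 F1)) := by simp only [mul_assoc]
      _ = (x1 : M2 F1) * ((((x1⁻¹ : SL2 F1) : M2 F1) * D1) * (x1⁻¹ : SL2 F1)) := by rw [h1]
      _ = ((x1 : M2 F1) * ((x1⁻¹ : SL2 F1) : M2 F1)) * D1 * (x1⁻¹ : SL2 F1) := by simp only [mul_assoc]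
      _ = _ := by rw [sl_mul_inv, one_mul]
  · have h1 : ((x2⁻¹ : SL2 F2) : M2 F2) * D2 = D2 * x2 := by rw [e2]; exact hz2
    calc (x2 : M2 F2) * D2 = (x2 : M2 F2) * (D2 * (x2 * (x2⁻¹ : SL2 F2))) := by rw [sl_mul_inv, mul_one]
      _ = (x2 : M2 F2) * ((D2 * x2) * (x2⁻¹ : SL2 F2)) := by simp only [mul_assoc]
      _ = (x2 : M2 F2) * ((((x2⁻¹ : SL2 F2) : M2 F2) * D2) * (x2⁻¹ : SL2 F2)) := by rw [h1]
      _ = ((x2 : M2 F2) * ((x2⁻¹ : SL2 F2) : M2 F2)) * D2 * (x2⁻¹ : SL2 F2) := by simp only [mul_assoc]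
      _ = _ := by rw [sl_mul_inv, one_mul]
  · intro A u hA hdet hu
    obtain ⟨B, c, hr, hB⟩ := F.exists_tor1 hA hdet
    obtain ⟨v, hv⟩ := exists_cj hr.det2 x2
    exact comm_of_neg F.two1 h.odd hx1 (key hr hA hB hu hv).1
  · intro B v hB hdet hv
    obtain ⟨A, c, hr, hA⟩ := F.exists_tor2 hB hdet
    obtain ⟨u, hu⟩ := exists_cj hr.det1 x1
    exact comm_of_neg F.two2 h.odd hx2 (key hr hA hB hu hv).2

end YD

/-- `T` is transitive on the elements `≠ 1` of `e1 (upper)` if the first matrix is `diag(1,-1)` -/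
theorem Frame.trans_up (F : L.Frame s (dg F1) D2 n1 n2) {a b : F1} (ha : a ≠ 0) (hb : b ≠ 0) :
    ∃ c ∈ L.tor (dg F1) D2, c * L.e1 (up a) * c⁻¹ = L.e1 (up b) := by
  have hdet : (!![b / a, 0; 0, 1] : M2 F1).det ≠ 0 := by
    rw [Matrix.det_fin_two]; simp; exact ⟨hb, ha⟩
  have hcm : (!![b / a, 0; 0, 1] : M2 F1) * dg F1 = dg F1 * !![b / a, 0; 0, 1] := by
    rw [comm_dg_iff F.two1]; simp
  obtain ⟨B, c, hc, hB⟩ := F.exists_tor1 hcm hdet
  refine ⟨c, ⟨_, _, hc, hcm, hB⟩, ?_⟩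
  have h := hc.acts1.2 (up a) (up b) (by
    have := diag_up (A := !![b / a, 0; 0, 1]) (by simp) (by simp) (by simp) a
    have e : (!![b / a, 0; 0, 1] : M2 F1) 0 0 * a / (!![b / a, 0; 0, 1] : M2 F1) 1 1 = b := by simp; field_simp
    rwa [e] at this)
  rw [h]; group

theorem Frame.trans_lo (F : L.Frame s (dg F1) D2 n1 n2) {a b : F1} (ha : a ≠ 0) (hb : b ≠ 0) :
    ∃ c ∈ L.tor (dg F1) D2, c * L.e1 (lo a) * c⁻¹ = L.e1 (lo b) := by
  have hdet : (!![a / b, 0; 0, 1] : M2 F1).det ≠ 0 := by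
    rw [Matrix.det_fin_two]; simp; exact ⟨ha, hb⟩
  have hcm : (!![a / b, 0; 0, 1] : M2 F1) * dg F1 = dg F1 * !![a / b, 0; 0, 1] := by
    rw [comm_dg_iff F.two1]; simp
  obtain ⟨B, c, hc, hB⟩ := F.exists_tor1 hcm hdet
  refine ⟨c, ⟨_, _, hc, hcm, hB⟩, ?_⟩
  have h := hc.acts1.2 (lo a) (lo b) (by
    have := diag_lo (A := !![a / b, 0; 0, 1]) (by simp) (by simp) (by simp; exact ⟨ha, hb⟩) a
    have e : (!![a / b, 0; 0, 1] : M2 F1) 1 1 * a / (!![a / b, 0; 0, 1] : M2 F1) 0 0 = b := by simp; field_simp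
    rwa [e] at this)
  rw [h]; group

omit [Finite G] [Finite F1] [Finite F2] in
theorem up_lo_comm {F : Type*} [Field F] {a b : F} (h : up a * lo b = lo b * up a) : a = 0 ∨ b = 0 := by
  have h1 : ((up a : M2 F) * (lo b : M2 F)) 0 0 = ((lo b : M2 F) * (up a : M2 F)) 0 0 :=
    congrArg (fun z : SL2 F => (z : M2 F) 0 0) h
  rw [up_coe, lo_coe, m2_mul_00, m2_mul_00] at h1
  simp at h1
  exact h1

/-- a `T`-invariant subgroup of `e1 (U ∪ U⁻)` whose elements commute is `1`, `e1 U` or `e1 U⁻` -/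
theorem Frame.class1 (F : L.Frame s (dg F1) D2 n1 n2) {P : Subgroup G}
    (hP : ∀ x ∈ P, ∃ z : SL2 F1, (z ∈ upU F1 ∨ z ∈ loU F1) ∧ x = L.e1 z)
    (hc : ∀ x ∈ P, ∀ y ∈ P, x * y = y * x) (hT : ∀ c ∈ L.tor (dg F1) D2, ∀ y ∈ P, c * y * c⁻¹ ∈ P) :
    P = ⊥ ∨ P = (upU F1).map L.e1 ∨ P = (loU F1).map L.e1 := by
  by_cases h0 : P = ⊥
  · exact Or.inl h0
  right
  obtain ⟨⟨x, hx⟩, hx1⟩ := Subgroup.ne_bot_iff_exists_ne_one.1 h0
  replace hx1 : x ≠ 1 := fun h => hx1 (Subtype.ext h)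
  obtain ⟨z, hz, rfl⟩ := hP x hx
  rcases hz with ⟨a, rfl⟩ | ⟨a, rfl⟩
  · left
    have ha : a ≠ 0 := by rintro rfl; apply hx1; rw [up_zero, map_one]
    apply le_antisymm
    · intro y hy
      obtain ⟨w, hw, rfl⟩ := hP y hy
      rcases hw with hw | ⟨b, rfl⟩
      · exact ⟨w, hw, rfl⟩
      · have h1 := hc _ hx _ hy
        rw [← map_mul, ← map_mul] at h1
        rcases up_lo_comm (L.inj1 h1) with h2 | h2
        · exact absurd h2 ha
        · exact ⟨1, one_mem _, by rw [h2, lo_zero]⟩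
    · rintro _ ⟨_, ⟨b, rfl⟩, rfl⟩
      by_cases hb : b = 0
      · rw [hb, up_zero, map_one]; exact one_mem _
      · obtain ⟨c, hcT, h1⟩ := F.trans_up ha hb
        rw [← h1]
        exact hT c hcT _ hx
  · right
    have ha : a ≠ 0 := by rintro rfl; apply hx1; rw [lo_zero, map_one]
    apply le_antisymm
    · intro y hy
      obtain ⟨w, hw, rfl⟩ := hP y hy
      rcases hw with ⟨b, rfl⟩ | hw
      · have h1 := hc _ hx _ hy
        rw [← map_mul, ← map_mul] at h1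
        rcases up_lo_comm (L.inj1 h1).symm with h2 | h2
        · exact ⟨1, one_mem _, by rw [h2, up_zero]⟩
        · exact absurd h2 ha
      · exact ⟨w, hw, rfl⟩
    · rintro _ ⟨_, ⟨b, rfl⟩, rfl⟩
      by_cases hb : b = 0
      · rw [hb, lo_zero, map_one]; exact one_mem _
      · obtain ⟨c, hcT, h1⟩ := F.trans_lo ha hb
        rw [← h1]
        exact hT c hcT _ hx

/-- classification, second torus nonsplit -/
theorem YD.nonsplit2 (F : L.Frame s (dg F1) D2 n1 n2) (hns : ¬ IsSquare (-D2.det)) {Y : Subgroup G}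
    (h : YD L s (dg F1) D2 Y) : Y = ⊥ ∨ Y = (upU F1).map L.e1 ∨ Y = (loU F1).map L.e1 := by
  apply F.class1 _ (fun x hx y hy => h.comm hx hy) h.tor
  intro x hx
  obtain ⟨x1, x2, hc, rfl⟩ := h.decomp F hx
  have h1 := comp_split F.two1 h.odd hc.pow1 hc.inv1 (fun A y h01 h10 hdet hy =>
    hc.cm1 A y ((comm_dg_iff F.two1).2 ⟨h01, h10⟩) hdet hy)
  have h2 := comp_nonsplit F.two2 F.tr2 hns h.odd hc.pow2 hc.inv2 hc.cm2
  refine ⟨x1, h1, ?_⟩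
  rw [h2, map_one, mul_one]

end LocalSL

end Cfsg.Agent.GTwoOdd
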