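import Cfsg.Agent.GTwoOdd.RootClass
import Cfsg.Agent.GTwoOdd.SymmL

/-!
# The structure of `R = O(C_G(A1))`
-/

set_option autoImplicit false

namespace Cfsg.Agent.GTwoOdd

open Matrix ZIso

section mu

variable {F : Type*} [Field F] [Finite F]

/-- a field with more than three elements has `l ≠ 0`, `l² ≠ 1` -/
theorem exists_sq_ne_one (h : 3 < Nat.card F) : ∃ l : F, l ≠ 0 ∧ l * l ≠ 1 := by
  classical
  by_contra hcon
  push Not at hcon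
  have := Fintype.ofFinite F
  have h1 : (Finset.univ : Finset F) ⊆ {0, 1, -1} := by
    intro x _
    simp only [Finset.mem_insert, Finset.mem_singleton]
    by_cases hx : x = 0
    · exact Or.inl hx
    · right
      exact mul_self_eq_one_iff.1 (hcon x hx)
  have h2 := Finset.card_le_card h1
  rw [Finset.card_univ, ← Nat.card_eq_fintype_card] at h2
  have h3 : ({0, 1, -1} : Finset F).card ≤ 3 := Finset.card_le_three
  omega

end mu

namespace LocalSL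

variable {G : Type*} [Group G] [Finite G] {t : G} {F1 F2 : Type*} [Field F1] [Field F2]
variable [Finite F1] [Finite F2] {L : LocalSL t F1 F2} {s g : G}

/-- commutators of `e2 (diag (l, l⁻¹))` with `e1 x1 * e2 x2` -/
theorem YD.second {D2 : M2 F2} {n2 : SL2 F2} {n1 : SL2 F1} {D1 : M2 F1} (F : L.Frame s D1 D2 n1 n2) (hD2 : D2 = dg F2)
    (hq : 3 < Nat.card F2) {Y : Subgroup G}
    (h : YD L s D1 D2 Y) {x1 : SL2 F1} {x2 : SL2 F2} (hy : L.e1 x1 * L.e2 x2 ∈ Y) (hx2 : x2 ∈ upU F2 ∨ x2 ∈ loU F2) :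
    L.e2 x2 ∈ Y := by
  subst hD2
  by_cases h1 : x2 = 1
  · rw [h1, map_one]; exact one_mem _
  obtain ⟨l, hl0, hl1⟩ := exists_sq_ne_one hq
  have hh : (!![l, 0; 0, l⁻¹] : M2 F2).det = 1 := by rw [Matrix.det_fin_two]; simp [hl0]
  set z : SL2 F2 := ⟨!![l, 0; 0, l⁻¹], hh⟩ with hz
  have hzc : (z : M2 F2) = !![l, 0; 0, l⁻¹] := rfl
  have hzT : L.e2 z ∈ L.tor D1 (dg F2) := by
    refine ⟨1, z, Rep.e2 L z, by simp, ?_⟩
    rw [comm_dg_iff F.two2, hzc]; simp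
  have h2 := h.tor _ hzT _ hy
  have h3 : L.e2 z * (L.e1 x1 * L.e2 x2) * (L.e2 z)⁻¹ = L.e1 x1 * L.e2 (z * x2 * z⁻¹) := by
    rw [map_mul, map_mul, map_inv]
    calc L.e2 z * (L.e1 x1 * L.e2 x2) * (L.e2 z)⁻¹ = (L.e2 z * L.e1 x1) * L.e2 x2 * (L.e2 z)⁻¹ := by group
      _ = _ := by rw [← L.comm]; group
  rw [h3] at h2
  have h4 : L.e2 (z * x2 * z⁻¹ * x2⁻¹) ∈ Y := by
    have := mul_mem h2 (inv_mem hy)
    have e : L.e1 x1 * L.e2 (z * x2 * z⁻¹) * (L.e1 x1 * L.e2 x2)⁻¹ = L.e2 (z * x2 * z⁻¹ * x2⁻¹) := by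
      rw [map_mul L.e2 (z * x2 * z⁻¹), map_inv]
      calc L.e1 x1 * L.e2 (z * x2 * z⁻¹) * (L.e1 x1 * L.e2 x2)⁻¹
          = L.e1 x1 * (L.e2 (z * x2 * z⁻¹) * (L.e2 x2)⁻¹) * (L.e1 x1)⁻¹ := by group
        _ = L.e1 x1 * (L.e2 (z * x2 * z⁻¹ * x2⁻¹)) * (L.e1 x1)⁻¹ := by rw [map_mul L.e2 (z * x2 * z⁻¹), map_inv]
        _ = _ := by rw [L.comm, map_mul L.e2 (z * x2 * z⁻¹), map_inv]; group
    rwa [e] at this
  -- transitivity of `T`
  have Fs := F.sw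
  have hT : ∀ c ∈ L.sw.tor (dg F2) D1, ∀ y ∈ Y, c * y * c⁻¹ ∈ Y := by
    intro c hc
    rw [sw_tor] at hc
    exact h.tor c hc
  rcases hx2 with ⟨b, rfl⟩ | ⟨b, rfl⟩
  · have hb : b ≠ 0 := by rintro rfl; exact h1 up_zero
    have e1 : z * up b * z⁻¹ * (up b)⁻¹ = up ((l * l - 1) * b) := by
      have e2 : z * up b = up (l * l * b) * z := by
        apply Subtype.ext
        change (z : M2 F2) * (up b : M2 F2) = (up (l * l * b) : M2 F2) * (z : M2 F2)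
        rw [hzc, up_coe, up_coe, m2_eq_iff]
        simp
        field_simp
      rw [e2, up_inv]
      calc up (l * l * b) * z * z⁻¹ * up (-b) = up (l * l * b) * up (-b) := by group
        _ = _ := by rw [up_mul]; congr 1; ring
    rw [e1] at h4
    have hne : (l * l - 1) * b ≠ 0 := mul_ne_zero (sub_ne_zero.2 hl1) hb
    obtain ⟨c, hc, h5⟩ := Fs.trans_up hne hb
    rw [sw_e1] at h5
    rw [← h5]
    exact hT c hc _ h4
  · have hb : b ≠ 0 := by rintro rfl; exact h1 lo_zero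
    have hl2 : l⁻¹ * l⁻¹ ≠ 1 := by
      intro h5
      apply hl1
      have : l * l * (l⁻¹ * l⁻¹) = 1 := by field_simp
      rw [h5, mul_one] at this
      exact this
    have e1 : z * lo b * z⁻¹ * (lo b)⁻¹ = lo ((l⁻¹ * l⁻¹ - 1) * b) := by
      have e2 : z * lo b = lo (l⁻¹ * l⁻¹ * b) * z := by
        apply Subtype.ext
        change (z : M2 F2) * (lo b : M2 F2) = (lo (l⁻¹ * l⁻¹ * b) : M2 F2) * (z : M2 F2)
        rw [hzc, lo_coe, lo_coe, m2_eq_iff]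
        simp
        field_simp
      rw [e2, lo_inv]
      calc lo (l⁻¹ * l⁻¹ * b) * z * z⁻¹ * lo (-b) = lo (l⁻¹ * l⁻¹ * b) * lo (-b) := by group
        _ = _ := by rw [lo_mul]; congr 1; ring
    rw [e1] at h4
    have hne : (l⁻¹ * l⁻¹ - 1) * b ≠ 0 := mul_ne_zero (sub_ne_zero.2 hl2) hb
    obtain ⟨c, hc, h5⟩ := Fs.trans_lo hne hb
    rw [sw_e1] at h5
    rw [← h5]
    exact hT c hc _ h4

theorem YD.sw {D1 : M2 F1} {D2 : M2 F2} {Y : Subgroup G} (h : YD L s D1 D2 Y) : YD L.sw s D2 D1 Y :=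
  ⟨h.odd, h.ct, h.inv, fun c hc => by rw [sw_tor] at hc; exact h.tor c hc⟩

/-- classification, both tori split -/
theorem YD.split (S : L.Split s g) (hq : 3 < Nat.card F1 ∨ 3 < Nat.card F2) {Y : Subgroup G}
    (h : YD L s (dg F1) (dg F2) Y) : ∃ P Q : Subgroup G,
      (P = ⊥ ∨ P = (upU F1).map L.e1 ∨ P = (loU F1).map L.e1) ∧
      (Q = ⊥ ∨ Q = (upU F2).map L.e2 ∨ Q = (loU F2).map L.e2) ∧ ∀ x, x ∈ Y ↔ ∃ p ∈ P, ∃ q ∈ Q, x = p * q := by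
  have F := S.toFrame
  -- components
  have hcomp : ∀ y ∈ Y, ∃ x1 x2, (x1 ∈ upU F1 ∨ x1 ∈ loU F1) ∧ (x2 ∈ upU F2 ∨ x2 ∈ loU F2) ∧
      YD.Comp L (dg F1) (dg F2) (Nat.card Y) x1 x2 ∧ y = L.e1 x1 * L.e2 x2 := by
    intro y hy
    obtain ⟨x1, x2, hc, rfl⟩ := h.decomp F hy
    exact ⟨x1, x2, comp_split F.two1 h.odd hc.pow1 hc.inv1 (fun A y h01 h10 hdet hy =>
      hc.cm1 A y ((comm_dg_iff F.two1).2 ⟨h01, h10⟩) hdet hy),
      comp_split F.two2 h.odd hc.pow2 hc.inv2 (fun A y h01 h10 hdet hy =>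
      hc.cm2 A y ((comm_dg_iff F.two2).2 ⟨h01, h10⟩) hdet hy), hc, rfl⟩
  have hsep : ∀ x1 x2, (x1 ∈ upU F1 ∨ x1 ∈ loU F1) → (x2 ∈ upU F2 ∨ x2 ∈ loU F2) → L.e1 x1 * L.e2 x2 ∈ Y →
      L.e1 x1 ∈ Y ∧ L.e2 x2 ∈ Y := by
    intro x1 x2 h1 h2 hy
    rcases hq with hq | hq
    · have h3 : L.e1 x1 ∈ Y := by
        have hy' : L.sw.e1 x2 * L.sw.e2 x1 ∈ Y := by
          rw [sw_e1, sw_e2, ← L.comm]; exact hy
        exact YD.second F.sw rfl hq h.sw hy' h1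
      refine ⟨h3, ?_⟩
      have := mul_mem (inv_mem h3) hy
      rwa [inv_mul_cancel_left] at this
    · have h3 : L.e2 x2 ∈ Y := YD.second F rfl hq h hy h2
      refine ⟨?_, h3⟩
      have := mul_mem hy (inv_mem h3)
      rwa [mul_inv_cancel_right] at this
  let P : Subgroup G := Y ⊓ (L.e1.range)
  let Q : Subgroup G := Y ⊓ (L.e2.range)
  have hPx : ∀ x ∈ P, ∃ z : SL2 F1, (z ∈ upU F1 ∨ z ∈ loU F1) ∧ x = L.e1 z := by
    rintro x ⟨hx, ⟨z, rfl⟩⟩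
    obtain ⟨x1, x2, h1, h2, hc, h3⟩ := hcomp _ hx
    have h4 : L.e1 z * L.e2 1 = L.e1 x1 * L.e2 x2 := by rw [map_one, mul_one]; exact h3
    rcases e12_inj h4 with ⟨h5, h6⟩ | ⟨h5, h6⟩
    · exact ⟨z, by rw [h5]; exact h1, rfl⟩
    · exfalso
      have h7 : x2 = -1 := by rw [h6]; simp
      have h8 := hc.pow2
      rw [h7, h.odd.neg_one_pow] at h8
      exact neg_one_ne_one F.two2 h8
  have hQx : ∀ x ∈ Q, ∃ z : SL2 F2, (z ∈ upU F2 ∨ z ∈ loU F2) ∧ x = L.sw.e1 z := by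
    rintro x ⟨hx, ⟨z, rfl⟩⟩
    obtain ⟨x1, x2, h1, h2, hc, h3⟩ := hcomp _ hx
    have h4 : L.e1 1 * L.e2 z = L.e1 x1 * L.e2 x2 := by rw [map_one, one_mul]; exact h3
    rcases e12_inj h4 with ⟨h5, h6⟩ | ⟨h5, h6⟩
    · exact ⟨z, by rw [h6]; exact h2, rfl⟩
    · exfalso
      have h7 : x1 = -1 := by rw [h5]; simp
      have h8 := hc.pow1
      rw [h7, h.odd.neg_one_pow] at h8
      exact neg_one_ne_one F.two1 h8
  have hPT : ∀ c ∈ L.tor (dg F1) (dg F2), ∀ y ∈ P, c * y * c⁻¹ ∈ P := by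
    rintro c hc y ⟨hy, ⟨z, rfl⟩⟩
    refine ⟨h.tor c hc _ hy, ?_⟩
    obtain ⟨w, hw⟩ := F.hyp.norm1 c (F.tor_t hc) z
    refine ⟨w, ?_⟩
    rw [hw]; group
  have hQT : ∀ c ∈ L.sw.tor (dg F2) (dg F1), ∀ y ∈ Q, c * y * c⁻¹ ∈ Q := by
    rintro c hc y ⟨hy, ⟨z, rfl⟩⟩
    rw [sw_tor] at hc
    refine ⟨h.tor c hc _ hy, ?_⟩
    obtain ⟨w, hw⟩ := F.hyp.norm2 c (F.tor_t hc) z
    refine ⟨w, ?_⟩
    rw [hw]; group
  refine ⟨P, Q, F.class1 hPx (fun x hx y hy => h.comm hx.1 hy.1) hPT,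
    F.sw.class1 hQx (fun x hx y hy => h.comm hx.1 hy.1) hQT, fun x => ⟨?_, ?_⟩⟩
  · intro hx
    obtain ⟨x1, x2, h1, h2, hc, rfl⟩ := hcomp _ hx
    obtain ⟨h3, h4⟩ := hsep x1 x2 h1 h2 hx
    exact ⟨_, ⟨h3, ⟨x1, rfl⟩⟩, _, ⟨h4, ⟨x2, rfl⟩⟩, rfl⟩
  · rintro ⟨p, hp, q, hq, rfl⟩
    exact mul_mem hp.1 hq.1

/-- `C_R(s)` -/
def DD (L : LocalSL t F1 F2) (s : G) : Subgroup G := rc L.A1 ⊓ Subgroup.centralizer {s}

omit [Finite G] [Finite F1] [Finite F2] in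
theorem mem_DD {x : G} : x ∈ L.DD s ↔ x ∈ rc L.A1 ∧ x * s = s * x := by
  unfold DD
  rw [Subgroup.mem_inf, Subgroup.mem_centralizer_singleton_iff]

section one

variable {D2 : M2 F2} {n2 : SL2 F2} {n1 : SL2 F1} (F : L.Frame s (dg F1) D2 n1 n2)
include F

/-- `s` inverts `A1` -/
theorem Frame.s_A1 {x : G} (hx : x ∈ L.A1) : s * x * s⁻¹ = x⁻¹ := by
  obtain ⟨a, rfl⟩ := mem_A1.1 hx
  rw [F.rep.acts1.2 _ _ (dg_up a), ← map_inv, up_inv]; group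

/-- `T` normalises `A1` -/
theorem Frame.tor_A1 {c : G} (hc : c ∈ L.tor (dg F1) D2) {x : G} (hx : x ∈ L.A1) : c * x * c⁻¹ ∈ L.A1 := by
  obtain ⟨A, B, hr, hA, hB⟩ := hc
  obtain ⟨h01, h10⟩ := (comm_dg_iff F.two1).1 hA
  have hA2 : A 1 1 ≠ 0 := by
    intro h; apply hr.det1; rw [Matrix.det_fin_two, h, h01]; ring
  obtain ⟨a, rfl⟩ := mem_A1.1 hx
  refine mem_A1.2 ⟨A 0 0 * a / A 1 1, ?_⟩
  rw [hr.acts1.2 _ _ (diag_up h01 h10 hA2 a)]; group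

theorem Frame.tor_rc {c : G} (hc : c ∈ L.tor (dg F1) D2) {x : G} (hx : x ∈ rc L.A1) : c * x * c⁻¹ ∈ rc L.A1 :=
  rc_norm' (fun _ ha => F.tor_A1 hc ha) (fun a ha => by
    have := F.tor_A1 (inv_mem hc) ha
    rwa [inv_inv] at this) hx

theorem Frame.s_rc {x : G} (hx : x ∈ rc L.A1) : s * x * s⁻¹ ∈ rc L.A1 := F.tor_rc F.s_mem hx

/-- `t` inverts `C_R(s)` -/
theorem Frame.t_DD {x : G} (hx : x ∈ L.DD s) : t * x * t⁻¹ = x⁻¹ := by
  obtain ⟨hx, hxs⟩ := mem_DD.1 hx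
  obtain ⟨a, ha, h1⟩ := F.hyp.rc_inv hx
  have hst := F.rep.comm
  have ht : t⁻¹ = t := inv_eq_of_mul_eq_one_left L.t_sq
  have h2 : a = t * x * t⁻¹ * x := by rw [h1]; group
  have h3 : a * s = s * a := by
    rw [h2, ht]
    calc t * x * t * x * s = t * x * t * (x * s) := by group
      _ = t * x * (t * s) * x := by rw [hxs]; group
      _ = t * (x * s) * t * x := by rw [← hst]; group
      _ = (t * s) * x * t * x := by rw [hxs]; group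
      _ = _ := by rw [← hst]; group
  have h4 := F.s_A1 ha
  have h5 : s * a * s⁻¹ = a := by rw [← h3]; group
  rw [h5] at h4
  have h6 : a * a = 1 := by
    nth_rw 1 [h4]; group
  have h7 : a = 1 := odd_no_invol F.hyp.A1_odd ha h6
  rw [h1, h7, one_mul]

theorem Frame.DD_comm {x y : G} (hx : x ∈ L.DD s) (hy : y ∈ L.DD s) : x * y = y * x := by
  have h1 := F.t_DD (mul_mem hx hy)
  have h2 := F.t_DD hx
  have h3 := F.t_DD hy
  have h4 : t * (x * y) * t⁻¹ = (t * x * t⁻¹) * (t * y * t⁻¹) := by group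
  rw [h4, h2, h3] at h1
  have h5 := congrArg (·⁻¹) h1
  simp only [_root_.mul_inv_rev, inv_inv] at h5
  exact h5.symm

/-- `r2` exchanges `C_R(s)` and `C_R(s t)` -/
theorem Frame.r2_DD {x : G} (hx : x ∈ L.DD s) : L.e2 n2 * x * (L.e2 n2)⁻¹ ∈ L.DD (s * t) := by
  obtain ⟨hx, hxs⟩ := mem_DD.1 hx
  refine mem_DD.2 ⟨rc_norm (e2_mem_cent n2) hx, ?_⟩
  have h1 := F.n2_s
  have h2 : (L.e2 n2)⁻¹ * (s * t) = s * (L.e2 n2)⁻¹ := by
    calc (L.e2 n2)⁻¹ * (s * t) = (L.e2 n2)⁻¹ * (s * t * L.e2 n2) * (L.e2 n2)⁻¹ := by group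
      _ = _ := by rw [← h1]; group
  calc L.e2 n2 * x * (L.e2 n2)⁻¹ * (s * t) = L.e2 n2 * x * ((L.e2 n2)⁻¹ * (s * t)) := by group
    _ = L.e2 n2 * (x * s) * (L.e2 n2)⁻¹ := by rw [h2]; group
    _ = (L.e2 n2 * s) * x * (L.e2 n2)⁻¹ := by rw [hxs]; group
    _ = _ := by rw [h1]; group

theorem Frame.r2_DD' {x : G} (hx : x ∈ L.DD (s * t)) : (L.e2 n2)⁻¹ * x * L.e2 n2 ∈ L.DD s := by
  obtain ⟨hx, hxs⟩ := mem_DD.1 hx
  have h3 : (L.e2 n2)⁻¹ * x * L.e2 n2 ∈ rc L.A1 := by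
    have := rc_norm (inv_mem (e2_mem_cent n2)) hx
    rwa [inv_inv] at this
  refine mem_DD.2 ⟨h3, ?_⟩
  have h1 := F.n2_s
  calc (L.e2 n2)⁻¹ * x * L.e2 n2 * s = (L.e2 n2)⁻¹ * x * (L.e2 n2 * s) := by group
    _ = (L.e2 n2)⁻¹ * (x * (s * t)) * L.e2 n2 := by rw [h1]; group
    _ = (L.e2 n2)⁻¹ * (s * t * L.e2 n2) * (L.e2 n2)⁻¹ * x * L.e2 n2 := by rw [hxs]; group
    _ = _ := by rw [← h1]; group

theorem Frame.DD_eq : L.DD (s * t) = cjS (L.e2 n2) (L.DD s) := by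
  ext x
  rw [mem_cjS]
  constructor
  · exact F.r2_DD'
  · intro h
    have := F.r2_DD h
    have e : L.e2 n2 * ((L.e2 n2)⁻¹ * x * L.e2 n2) * (L.e2 n2)⁻¹ = x := by group
    rwa [e] at this

/-- `R = A1 C_R(s) C_R(s t)` -/
theorem Frame.rc_prod {x : G} (hx : x ∈ rc L.A1) : ∃ a ∈ L.A1, ∃ d ∈ L.DD s, ∃ d' ∈ L.DD (s * t), x = a * d * d' := by
  -- the product is a subgroup
  let M : Subgroup G :=
    { carrier := {x | ∃ a ∈ L.A1, ∃ d ∈ L.DD s, ∃ d' ∈ L.DD (s * t), x = a * d * d'}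
      mul_mem' := by
        rintro _ _ ⟨a, ha, d, hd, d', hd', rfl⟩ ⟨b, hb, e, he, e', he', rfl⟩
        have hdr := (mem_DD.1 hd).1
        have hdr' := (mem_DD.1 hd').1
        have her := (mem_DD.1 he).1
        have hc := F.hyp.rc_comm_mem hdr' her
        refine ⟨a * b * (d' * e * d'⁻¹ * e⁻¹), mul_mem (mul_mem ha hb) hc, d * e, mul_mem hd he, d' * e',
          mul_mem hd' he', ?_⟩
        have h1 := rc_comm hdr hb
        have h2 := rc_comm hdr' hb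
        have h3 := rc_comm hdr hc
        calc a * d * d' * (b * e * e') = a * d * (d' * b) * e * e' := by group
          _ = a * (d * b) * d' * e * e' := by rw [h2]; group
          _ = a * b * d * d' * e * e' := by rw [h1]; group
          _ = a * b * (d * (d' * e * d'⁻¹ * e⁻¹)) * e * d' * e' := by group
          _ = _ := by rw [h3]; group
      one_mem' := ⟨1, one_mem _, 1, one_mem _, 1, one_mem _, by simp⟩
      inv_mem' := by
        rintro _ ⟨a, ha, d, hd, d', hd', rfl⟩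
        have hdr := (mem_DD.1 hd).1
        have hdr' := (mem_DD.1 hd').1
        have hc := F.hyp.rc_comm_mem (inv_mem hdr') (inv_mem hdr)
        refine ⟨(d'⁻¹ * d⁻¹ * d'⁻¹⁻¹ * d⁻¹⁻¹) * a⁻¹, mul_mem hc (inv_mem ha), d⁻¹, inv_mem hd, d'⁻¹, inv_mem hd', ?_⟩
        have h1 := rc_comm (inv_mem hdr) (inv_mem ha)
        have h2 := rc_comm (inv_mem hdr') (inv_mem ha)
        calc (a * d * d')⁻¹ = d'⁻¹ * (d⁻¹ * a⁻¹) := by group
          _ = (d'⁻¹ * a⁻¹) * d⁻¹ := by rw [h1]; group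
          _ = a⁻¹ * (d'⁻¹ * d⁻¹) := by rw [h2]; group
          _ = a⁻¹ * (d'⁻¹ * d⁻¹ * d'⁻¹⁻¹ * d⁻¹⁻¹) * d⁻¹ * d'⁻¹ := by group
          _ = _ := by rw [A1_comm (inv_mem ha) hc] }
  have hle : rc L.A1 ≤ M := by
    apply Cfsg.Agent.Lib.KleinGen.le_of_klein (rc L.A1) M (rc_odd _) t s L.t_sq F.ss F.rep.comm.symm
      (fun h hh => F.hyp.t_rc hh) (fun h hh => F.s_rc hh)
    · intro x hx
      rw [Subgroup.mem_inf, Subgroup.mem_centralizer_singleton_iff] at hx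
      exact ⟨x, F.hyp.rc_t hx.1 hx.2, 1, one_mem _, 1, one_mem _, by simp⟩
    · intro x hx
      exact ⟨1, one_mem _, x, hx, 1, one_mem _, by simp⟩
    · intro x hx
      refine ⟨1, one_mem _, 1, one_mem _, x, ?_, by simp⟩
      have : s * t = t * s := F.rep.comm
      rw [this]; exact hx
  exact hle hx

omit F [Finite G] [Finite F1] [Finite F2] in
theorem t_st (h : s * t = t * s) {x : G} (hx : x * (s * t) = s * t * x) : s * x * s⁻¹ = t⁻¹ * x * t := by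
  have h1 : x = s * t * x * (s * t)⁻¹ := by rw [← hx]; group
  calc s * x * s⁻¹ = s * x * s⁻¹ := rfl
    _ = t⁻¹ * (t * s * x * (t * s)⁻¹) * t := by group
    _ = _ := by rw [← h, ← h1]

/-- `t` inverts `C_R(s t)` -/
theorem Frame.t_DD2 {x : G} (hx : x ∈ L.DD (s * t)) : t * x * t⁻¹ = x⁻¹ :=
  F.mul_t.t_DD hx

/-- uniqueness -/
theorem Frame.rc_unique {a d d' : G} (ha : a ∈ L.A1) (hd : d ∈ L.DD s) (hd' : d' ∈ L.DD (s * t)) (h : a * d * d' = 1) :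
    a = 1 ∧ d = 1 ∧ d' = 1 := by
  have hst := F.rep.comm
  have hdr' := (mem_DD.1 hd').1
  -- apply `s`
  have h1 : s * (a * d * d') * s⁻¹ = a⁻¹ * d * d'⁻¹ := by
    have e1 := F.s_A1 ha
    have e2 : s * d * s⁻¹ = d := by rw [← (mem_DD.1 hd).2]; group
    have e3 : s * d' * s⁻¹ = d'⁻¹ := by
      rw [t_st hst (mem_DD.1 hd').2]
      have ht : t⁻¹ = t := inv_eq_of_mul_eq_one_left L.t_sq
      have := F.t_DD2 hd'
      rw [ht] at this ⊢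
      exact this
    calc s * (a * d * d') * s⁻¹ = (s * a * s⁻¹) * (s * d * s⁻¹) * (s * d' * s⁻¹) := by group
      _ = _ := by rw [e1, e2, e3]
  rw [h, mul_one, mul_inv_cancel] at h1
  -- `d = a d'`
  have h2 : d = a * d' := by
    calc d = a * (a⁻¹ * d * d'⁻¹) * d' := by group
      _ = a * d' := by rw [← h1]; group
  have had' : a * d' = d' * a := (rc_comm hdr' ha).symm
  have h3 : (a * d') * (a * d') = 1 := by
    have : a * (a * d') * d' = 1 := by rw [← h2]; exact h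
    calc (a * d') * (a * d') = a * (d' * a) * d' := by group
      _ = a * (a * d') * d' := by rw [had']
      _ = 1 := this
  have h4 : a * d' = 1 := by
    apply odd_no_invol (rc_odd L.A1) _ h3
    exact mul_mem (F.hyp.A1_le ha) hdr'
  have h5 : d = 1 := by rw [h2, h4]
  have h6 : d' = a⁻¹ := by rw [eq_inv_iff_mul_eq_one, ← had']; exact h4
  -- `d' ∈ A1 ∩ C(s t)`
  have h7 : t * d' * t⁻¹ = d' := by
    have : d' ∈ L.A1 := by rw [h6]; exact inv_mem ha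
    rw [← A1_t this]; group
  rw [F.t_DD2 hd'] at h7
  have h8 : d' * d' = 1 := by nth_rw 1 [← h7]; group
  have h9 : d' = 1 := odd_no_invol (rc_odd L.A1) hdr' h8
  refine ⟨?_, h5, h9⟩
  rw [h9, mul_one] at h4
  exact h4

end one

end LocalSL

end Cfsg.Agent.GTwoOdd
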