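import Cfsg.Agent.GTwoOdd.XMHyp
import Cfsg.Agent.GTwoOdd.RootCent

/-!
# `C_R(x)` is larger than `A1` for `x ∈ T_2 ∩ T_2^ρ`
-/

set_option autoImplicit false

namespace Cfsg.Agent.GTwoOdd

open Matrix MCore ZIso

/-- a Sylow subgroup of `C` whose normaliser is in `C` is a Sylow subgroup -/
theorem index_of_norm {K : Type*} [Group K] [Finite K] {p : ℕ} [Fact p.Prime] {C : Subgroup K} (P : Sylow p C)
    (hN : Subgroup.normalizer ((P : Subgroup C).map C.subtype : Set K) ≤ C) : ¬ p ∣ C.index := by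
  intro hp
  set Q := (P : Subgroup C).map C.subtype with hQ
  have hQC : Q ≤ C := Subgroup.map_subtype_le _
  have h1 : p ∣ Q.index := by
    rw [← Subgroup.relIndex_mul_index hQC]
    exact dvd_mul_of_dvd_right hp _
  obtain ⟨n, hn⟩ := IsPGroup.iff_card.1 (show IsPGroup p Q from P.2.map _)
  have h2 := Sylow.card_quotient_normalizer_modEq_card_quotient hn
  have h3 : p ∣ Q.relIndex (Subgroup.normalizer (Q : Set K)) := by
    have h4 : Nat.card (K ⧸ Q) ≡ 0 [MOD p] := by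
      apply Nat.modEq_zero_iff_dvd.2
      exact h1
    exact Nat.modEq_zero_iff_dvd.1 (h2.trans h4)
  have h5 : Q.relIndex (Subgroup.normalizer (Q : Set K)) ∣ Q.relIndex C := by
    rw [← Subgroup.relIndex_mul_relIndex _ _ _ Subgroup.le_normalizer hN]
    exact dvd_mul_right _ _
  have h6 : Q.relIndex C = (P : Subgroup C).index := by
    unfold Subgroup.relIndex
    congr 1
    rw [hQ, Subgroup.subgroupOf, Subgroup.comap_map_eq_self_of_injective C.subtype_injective]
  rw [h6] at h5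
  exact P.not_dvd_index (h3.trans h5)

namespace LocalSL

variable {G : Type*} [Group G] {t : G} {F1 F2 : Type*} [Field F1] [Field F2]
variable [Finite F1] [Finite F2] {L : LocalSL t F1 F2} {s g : G} {D1 : M2 F1} {D2 : M2 F2} {n1 : SL2 F1} {n2 : SL2 F2}

/-- `[t, c] ∈ R` for `c ∈ C(A1)` -/
theorem Hyp.t_comm_rc [Finite G] (H : L.Hyp) {c : G} (hc : c ∈ Subgroup.centralizer (L.A1 : Set G)) :
    t * c * t⁻¹ * c⁻¹ ∈ rc L.A1 :=
  comm_mem_rc L.t_sq H.t_ne_one t_mem_cent (fun _ h1 h2 h3 h4 => H.uniq_invol h1 h2 h3 h4) hc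

namespace XIn

variable {x : G} [Finite G] (X : XIn L s D1 D2 n1 n2 g x)
include X

/-- (X2) -/
theorem cent_le (hR : ∀ r ∈ rc L.A1, r * x = x * r → r ∈ L.A1) {c : G} (hcx : c * x = x * c)
    (hc : c ∈ Subgroup.centralizer (L.A1 : Set G)) : c * t = t * c := by
  have H := X.sw.toFrame.hyp
  have ht : t⁻¹ = t := inv_eq_of_mul_eq_one_left L.t_sq
  have htx : t * x = x * t := Subgroup.mem_centralizer_singleton_iff.1 X.t_mem
  have hci : c⁻¹ * x = x * c⁻¹ := by rw [inv_mul_eq_iff_eq_mul, ← mul_assoc, hcx, mul_assoc, mul_inv_cancel, mul_one]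
  set a := t * c * t⁻¹ * c⁻¹ with ha
  have h1 : a ∈ L.A1 := by
    apply hR _ (H.t_comm_rc hc)
    rw [ht]
    calc t * c * t * c⁻¹ * x = t * c * t * (c⁻¹ * x) := by group
      _ = t * c * (t * x) * c⁻¹ := by rw [hci]; group
      _ = t * (c * x) * t * c⁻¹ := by rw [htx]; group
      _ = (t * x) * c * t * c⁻¹ := by rw [hcx]; group
      _ = _ := by rw [htx]; group
  -- `t c t⁻¹ = a c`
  have h2 : t * c * t⁻¹ = a * c := by rw [ha]; group
  have h3 : a * t = t * a := A1_t h1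
  have h4 : c = a * (a * c) := by
    calc c = t * t * c * (t * t)⁻¹ := by rw [L.t_sq]; group
      _ = t * (t * c * t⁻¹) * t⁻¹ := by group
      _ = (t * a) * c * t⁻¹ := by rw [h2]; group
      _ = a * (t * c * t⁻¹) := by rw [← h3]; group
      _ = _ := by rw [h2]
  have h5 : a * a = 1 := by
    have : a * a * c = 1 * c := by rw [one_mul, mul_assoc]; exact h4.symm
    exact mul_right_cancel this
  have h6 : a = 1 := odd_no_invol H.A1_odd h1 h5
  rw [h6, one_mul] at h2
  calc c * t = (t * c * t⁻¹) * t := by rw [h2]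
    _ = _ := by group

/-- (X1), (X2): some element of `R` outside `A1` commutes with `x` -/
theorem exists_rc (hM : MCl G F1) : ∃ r ∈ rc L.A1, r * x = x * r ∧ r ∉ L.A1 := by
  by_contra hcon
  push Not at hcon
  have H := X.sw.toFrame.hyp
  have key := fun {c : G} => X.cent_le hcon (c := c)
  have := Fintype.ofFinite F1
  obtain ⟨p, -, n, hp, hcard⟩ := FiniteField.card' F1
  have hpf : Fact p.Prime := ⟨hp⟩
  have hpF : p ∣ Nat.card F1 := by
    rw [Nat.card_eq_fintype_card, hcard]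
    exact dvd_pow_self p n.ne_zero
  have hdvd := hM _ _ _ _ _ X.mhyp p hp hpF
  set K := Subgroup.centralizer ({x} : Set G) with hK
  set tK : K := ⟨t, X.t_mem⟩ with htK
  set C := Subgroup.centralizer ({tK} : Set K) with hC
  -- `A1` in `C`
  set A : Subgroup K := (upU F1).map X.emb with hA
  have hAc : ∀ a ∈ A, (a : G) ∈ L.A1 := by
    rintro _ ⟨_, ⟨a, rfl⟩, rfl⟩
    exact mem_A1.2 ⟨a, rfl⟩
  have hAc' : ∀ a ∈ L.A1, ∃ b ∈ A, (b : G) = a := by
    intro a ha
    obtain ⟨u, rfl⟩ := mem_A1.1 ha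
    exact ⟨X.emb (up u), ⟨up u, up_mem u, rfl⟩, rfl⟩
  have hAC : A ≤ C := by
    intro a ha
    rw [hC, Subgroup.mem_centralizer_singleton_iff]
    exact Subtype.ext (A1_t (hAc a ha))
  have hAcard : Nat.card A = p ^ (n : ℕ) := by
    have h1 : Nat.card A = Nat.card (upU F1) := Subgroup.card_map_of_injective X.mhyp.inj
    have h2 : Nat.card L.A1 = Nat.card (upU F1) := Subgroup.card_map_of_injective L.inj1
    rw [h1, ← h2, card_A1, Nat.card_eq_fintype_card, hcard]
  have hAp : IsPGroup p (A.subgroupOf C) := by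
    rw [IsPGroup.iff_card]
    exact ⟨n, by rw [Nat.card_congr (Subgroup.subgroupOfEquivOfLe hAC).toEquiv, hAcard]⟩
  obtain ⟨P, hP⟩ := hAp.exists_le_sylow
  refine index_of_norm P ?_ hdvd
  set Q := (P : Subgroup C).map C.subtype with hQ
  have hAQ : A ≤ Q := by
    intro a ha
    exact ⟨⟨a, hAC ha⟩, hP (Subgroup.mem_subgroupOf.2 ha), rfl⟩
  intro y hy
  rw [hC, Subgroup.mem_centralizer_singleton_iff]
  -- `z = y t y⁻¹` centralises `A`
  have hyQ : ∀ q ∈ Q, y⁻¹ * q * y ∈ Q := by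
    intro q hq
    have := (Subgroup.mem_normalizer_iff.1 (inv_mem hy) q).1 hq
    rwa [inv_inv] at this
  have h1 : ∀ a ∈ A, y * tK * y⁻¹ * a = a * (y * tK * y⁻¹) := by
    intro a ha
    obtain ⟨c, hc, hca⟩ := hyQ a (hAQ ha)
    have h2 : (c : K) * tK = tK * c := Subgroup.mem_centralizer_singleton_iff.1 c.2
    rw [Subgroup.coe_subtype] at hca
    rw [hca] at h2
    calc y * tK * y⁻¹ * a = y * (tK * (y⁻¹ * a * y)) * y⁻¹ := by group
      _ = y * ((y⁻¹ * a * y) * tK) * y⁻¹ := by rw [h2]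
      _ = _ := by group
  have h2 : (y * tK * y⁻¹ : K).1 ∈ Subgroup.centralizer (L.A1 : Set G) := by
    rw [Subgroup.mem_centralizer_iff]
    intro a ha
    obtain ⟨b, hb, rfl⟩ := hAc' a ha
    exact (congrArg Subtype.val (h1 b hb)).symm
  have h3 : (y * tK * y⁻¹ : K).1 * x = x * (y * tK * y⁻¹ : K).1 :=
    Subgroup.mem_centralizer_singleton_iff.1 (y * tK * y⁻¹ : K).2
  have h4 := key h3 h2
  have h5 : (y * tK * y⁻¹ : K).1 = t := by
    apply H.uniq_invol h2 h4
    · change y.1 * t * (y.1)⁻¹ * (y.1 * t * (y.1)⁻¹) = 1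
      calc y.1 * t * (y.1)⁻¹ * (y.1 * t * (y.1)⁻¹) = y.1 * (t * t) * (y.1)⁻¹ := by group
        _ = 1 := by rw [L.t_sq]; group
    · intro h
      apply H.t_ne_one
      change y.1 * t * (y.1)⁻¹ = 1 at h
      calc t = (y.1)⁻¹ * (y.1 * t * (y.1)⁻¹) * y.1 := by group
        _ = 1 := by rw [h]; group
  apply Subtype.ext
  change y.1 * t = t * y.1
  change y.1 * t * (y.1)⁻¹ = t at h5
  calc y.1 * t = (y.1 * t * (y.1)⁻¹) * y.1 := by group
    _ = _ := by rw [h5]

end XIn

end LocalSL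

end Cfsg.Agent.GTwoOdd
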