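import Cfsg.Agent.GTwoOdd.XThree

/-!
# The final statement of [X]
-/

set_option autoImplicit false

namespace Cfsg.Agent.GTwoOdd

open Matrix ZIso

namespace LocalSL

variable {G : Type*} [Group G] [Finite G] {t : G} {F1 F2 : Type*} [Field F1] [Field F2]
variable [Finite F1] [Finite F2] {L : LocalSL t F1 F2}

/-- the `p`-group argument: a nontrivial `C_R(s)` gives a full `R` -/
def FullHyp (L : LocalSL t F1 F2) : Prop :=
  ∀ s g : G, L.Split s g → (L.DD s ≠ ⊥ ∨ L.sw.DD s ≠ ⊥) → FullF L ∨ FullF L.sw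

/-- fields of the same order have the same quadratic character of `-1` -/
theorem isSquare_neg_one_iff (hc : Nat.card F1 = Nat.card F2) : IsSquare (-1 : F1) ↔ IsSquare (-1 : F2) := by
  have := isSquare_card_iff hc (-1)
  push_cast at this
  exact this

theorem three_lt_card {F : Type*} [Field F] [Finite F] (h2 : (2 : F) ≠ 0) (h3 : ¬ 3 ∣ Nat.card F) : 3 < Nat.card F := by
  have h4 := odd_card_field h2
  have h5 : 1 < Nat.card F := Finite.one_lt_card
  obtain ⟨k, hk⟩ := h4
  by_contra h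
  have h6 : Nat.card F = 3 := by omega
  exact h3 (by rw [h6])

/-- [X] -/
theorem Hyp.final (H : L.Hyp) (hcl : ∀ x : G, x * x = 1 → x ≠ 1 → ∃ g, g * t = x * g) (hM1 : MCl G F1) (hM2 : MCl G F2)
    (hfull : Nat.card F1 = Nat.card F2 → 3 < Nat.card F1 → FullHyp L) :
    FullF L ∨ FullF L.sw ∨ (Nat.card F1 = Nat.card F2 ∧ 3 ∣ Nat.card F1 ∧
      (3 < Nat.card F1 → ∀ s g : G, L.Split s g → L.DD s = ⊥ ∧ L.sw.DD s = ⊥)) := by
  by_cases hne : Nat.card F1 = Nat.card F2
  · by_cases hF : FullF L ∨ FullF L.sw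
    · rcases hF with h | h
      · exact Or.inl h
      · exact Or.inr (Or.inl h)
    right; right
    have hb : 3 < Nat.card F1 → ∀ s g : G, L.Split s g → L.DD s = ⊥ ∧ L.sw.DD s = ⊥ := by
      intro h3 s g S
      by_contra hcon
      apply hF
      apply hfull hne h3 s g S
      by_contra h4
      push Not at h4
      exact hcon h4
    refine ⟨hne, ?_, hb⟩
    by_contra h3
    obtain ⟨s, g, S⟩ := H.exists_split (isSquare_neg_one_iff hne) hcl
    obtain ⟨h1, h2⟩ := hb (three_lt_card H.two_ne1 h3) s g S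
    exact S.not_bot_three hcl hM1 hM2 hne h3 h1 h2
  · rcases H.full_of_ne hcl hM1 hM2 hne with h | h
    · exact Or.inl h
    · exact Or.inr (Or.inl h)

end LocalSL

end Cfsg.Agent.GTwoOdd
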