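import Cfsg.Agent.GTwoOdd.XFinal
import Cfsg.Agent.GTwoOdd.HexBad

/-!
# (X4): a nontrivial `C_R(s)` gives a full `R` (fields of the same order)
-/

set_option autoImplicit false

namespace Cfsg.Agent.GTwoOdd

open Matrix ZIso

section fix

/-- a `p`-group `B` normalising `R` and centralising the central subgroup `A` of `R` fixes a nontrivial coset -/
theorem exists_fix_mod {G : Type*} [Group G] [Finite G] {p : ℕ} [Fact p.Prime] {A R B : Subgroup G} (hB : IsPGroup p B)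
    (hAR : A ≤ R) (hBR : ∀ b ∈ B, ∀ r ∈ R, b * r * b⁻¹ ∈ R) (hBA : ∀ b ∈ B, ∀ a ∈ A, b * a = a * b)
    (hRA : ∀ r ∈ R, ∀ a ∈ A, r * a = a * r) {u : G} (hu : u ∈ R) (huA : u ∉ A) {n : ℕ} (hun : u ^ p ^ n = 1) :
    ∃ r ∈ R, r ∉ A ∧ ∀ b ∈ B, b * r * b⁻¹ * r⁻¹ ∈ A := by
  have hN : (A.subgroupOf R).Normal := by
    refine ⟨fun a ha r => ?_⟩
    rw [Subgroup.mem_subgroupOf] at ha ⊢
    have h1 := hRA r r.2 a ha
    have h2 : ((r * a * r⁻¹ : R) : G) = a := by
      change (r : G) * a * (r : G)⁻¹ = a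
      rw [h1]; group
    rw [h2]; exact ha
  let act : B → R → R := fun b r => ⟨b * r * (b : G)⁻¹, hBR b b.2 r r.2⟩
  have hact : ∀ (b : B) (r r' : R), (QuotientGroup.leftRel (A.subgroupOf R)) r r' →
      (QuotientGroup.leftRel (A.subgroupOf R)) (act b r) (act b r') := by
    intro b r r' h
    rw [QuotientGroup.leftRel_apply, Subgroup.mem_subgroupOf] at h ⊢
    have h1 : (((act b r)⁻¹ * act b r' : R) : G) = b * ((r⁻¹ * r' : R) : G) * (b : G)⁻¹ := by
      change (b * (r : G) * (b : G)⁻¹)⁻¹ * (b * (r' : G) * (b : G)⁻¹) = b * ((r : G)⁻¹ * r') * (b : G)⁻¹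
      group
    rw [h1, hBA b b.2 _ h]
    have e : ((r⁻¹ * r' : R) : G) * b * (b : G)⁻¹ = ((r⁻¹ * r' : R) : G) := by group
    rw [e]; exact h
  letI : MulAction B (R ⧸ (A.subgroupOf R)) :=
    { smul := fun b => Quotient.map' (act b) (hact b)
      one_smul := by
        intro q
        induction q using QuotientGroup.induction_on with
        | H r =>
          change ((act 1 r : R) : R ⧸ (A.subgroupOf R)) = r
          congr 1
          apply Subtype.ext
          change (1 : G) * r * (1 : G)⁻¹ = r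
          group
      mul_smul := by
        intro b c q
        induction q using QuotientGroup.induction_on with
        | H r =>
          change ((act (b * c) r : R) : R ⧸ (A.subgroupOf R)) = (act b (act c r) : R)
          congr 1
          apply Subtype.ext
          change ((b : G) * c) * r * ((b : G) * c)⁻¹ = b * (c * r * (c : G)⁻¹) * (b : G)⁻¹
          group }
  have hsm : ∀ (b : B) (r : R), b • (r : R ⧸ (A.subgroupOf R)) = (act b r : R) := fun b r => rfl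
  have hp : p ∣ Nat.card (R ⧸ (A.subgroupOf R)) := by
    set q : R ⧸ (A.subgroupOf R) := ((⟨u, hu⟩ : R) : R ⧸ (A.subgroupOf R)) with hq
    have h1 : q ≠ 1 := by
      intro h
      apply huA
      have := (QuotientGroup.eq_one_iff (⟨u, hu⟩ : R)).1 h
      rwa [Subgroup.mem_subgroupOf] at this
    have h2 : q ^ p ^ n = 1 := by
      rw [hq, ← QuotientGroup.mk_pow]
      have : (⟨u, hu⟩ : R) ^ p ^ n = 1 := Subtype.ext hun
      rw [this]; rfl
    have h3 : orderOf q ∣ p ^ n := orderOf_dvd_of_pow_eq_one h2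
    obtain ⟨k, hk, h4⟩ := (Nat.dvd_prime_pow Fact.out).1 h3
    have h5 : k ≠ 0 := by
      rintro rfl
      apply h1
      rw [pow_zero] at h4
      exact orderOf_eq_one_iff.1 h4
    exact (dvd_pow_self p h5).trans (h4 ▸ orderOf_dvd_natCard q)
  have h1 : (1 : R ⧸ (A.subgroupOf R)) ∈ MulAction.fixedPoints B (R ⧸ (A.subgroupOf R)) := by
    intro b
    change b • ((1 : R) : R ⧸ (A.subgroupOf R)) = ((1 : R) : R ⧸ (A.subgroupOf R))
    rw [hsm]
    congr 1
    apply Subtype.ext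
    change (b : G) * 1 * (b : G)⁻¹ = 1
    group
  obtain ⟨q, hq, hne⟩ := hB.exists_fixed_point_of_prime_dvd_card_of_fixed_point _ hp h1
  induction q using QuotientGroup.induction_on with
  | H r =>
    refine ⟨r, r.2, ?_, ?_⟩
    · intro h
      apply hne
      symm
      rw [QuotientGroup.eq_one_iff, Subgroup.mem_subgroupOf]
      exact h
    · intro b hb
      have h2 := hq ⟨b, hb⟩
      rw [hsm, QuotientGroup.eq, Subgroup.mem_subgroupOf] at h2
      -- `c = (b r b⁻¹)⁻¹ r`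
      have h3 : (b * (r : G) * b⁻¹)⁻¹ * r ∈ A := h2
      have h4 := hRA _ (hBR b hb r r.2) _ h3
      have h5 : b * (r : G) * b⁻¹ * (r : G)⁻¹ = ((b * (r : G) * b⁻¹)⁻¹ * r)⁻¹ := by
        rw [eq_inv_iff_mul_eq_one]
        set c := (b * (r : G) * b⁻¹)⁻¹ * r with hc
        have h6 : (r : G) = b * (r : G) * b⁻¹ * c := by rw [hc]; group
        calc b * (r : G) * b⁻¹ * (r : G)⁻¹ * c = b * (r : G) * b⁻¹ * (b * (r : G) * b⁻¹ * c)⁻¹ * c := by rw [← h6]
          _ = (b * (r : G) * b⁻¹ * c⁻¹) * (b * (r : G) * b⁻¹)⁻¹ * c := by group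
          _ = (c⁻¹ * (b * (r : G) * b⁻¹)) * (b * (r : G) * b⁻¹)⁻¹ * c := by
            congr 2
            rw [eq_inv_mul_iff_mul_eq, ← mul_assoc, ← h4]; group
          _ = 1 := by group
      rw [h5]
      exact inv_mem h3

end fix

namespace LocalSL

variable {G : Type*} [Group G] [Finite G] {t : G} {F1 F2 : Type*} [Field F1] [Field F2]
variable [Finite F1] [Finite F2] {L : LocalSL t F1 F2} {s g : G}

section one

variable (S : L.Split s g)
include S

omit [Finite G] in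
/-- transport of commuting root groups by a reflection -/
theorem Swap.comm_refl {i j i' j' : ℕ} (m : ℕ) (hi : (i + i') % 12 = (2 * m + 6) % 12)
    (hj : (j + j') % 12 = (2 * m + 6) % 12) (h : ∀ x ∈ L.XN g i, ∀ y ∈ L.XN g j, x * y = y * x) :
    ∀ x ∈ L.XN g i', ∀ y ∈ L.XN g j', x * y = y * x := by
  intro x hx y hy
  rw [← S.nN_XN hi, mem_cjS] at hx
  rw [← S.nN_XN hj, mem_cjS] at hy
  have h1 := h _ hx _ hy
  calc x * y = L.nN g m * (((L.nN g m)⁻¹ * x * L.nN g m) * ((L.nN g m)⁻¹ * y * L.nN g m)) * (L.nN g m)⁻¹ := by group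
    _ = _ := by rw [h1]; group

/-- root groups commuting with `X 3` -/
theorem Swap.XN_le_rc3 {m : ℕ} (hm : m % 3 ≠ 0) (h1 : ∀ x ∈ L.XN g m, ∀ y ∈ L.XN g 3, x * y = y * x) :
    L.XN g m ≤ rc L.A1 := by
  intro x hx
  obtain ⟨y, hy, rfl⟩ := HexBad.exists_sqrt S m hx
  have hc : y ∈ Subgroup.centralizer (L.A1 : Set G) := by
    rw [Subgroup.mem_centralizer_iff]
    intro z hz
    rw [SetLike.mem_coe, S.A1_eq] at hz
    exact (h1 y hy z hz).symm
  have h2 := S.hyp.t_comm_rc hc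
  have h3 := S.tN_inv (m := m) (k := 0) (by omega) hy
  rw [Swap.tN_0 S] at h3
  rw [h3] at h2
  have := inv_mem h2
  have e : (y⁻¹ * y⁻¹)⁻¹ = y * y := by rw [_root_.mul_inv_rev, inv_inv]
  rwa [e] at this

/-- root groups commuting with `X 3` and with `s` -/
theorem Swap.XN_le_DD {m : ℕ} (hm : m % 3 = 1) (h1 : ∀ x ∈ L.XN g m, ∀ y ∈ L.XN g 3, x * y = y * x) :
    L.XN g m ≤ L.DD s := by
  intro x hx
  refine mem_DD.2 ⟨S.XN_le_rc3 (by omega) h1 hx, ?_⟩
  have := S.tN_cent (m := m) (k := 1) (by omega) hx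
  rw [Swap.tN_1 S] at this
  exact this.symm

theorem Swap.XN_le_DD' {m k : ℕ} (hm : m % 3 = 2) (hk : (m + k) % 12 = 6)
    (h1 : ∀ x ∈ L.XN g m, ∀ y ∈ L.XN g 3, x * y = y * x) : L.XN g k ≤ L.DD s := by
  apply S.XN_le_DD (by omega)
  exact S.comm_refl 0 (by omega) (by norm_num) h1

theorem Swap.XN_ne_bot (m : ℕ) : ∃ x ∈ L.XN g m, x ≠ 1 := by
  have h1 : 1 < Nat.card (L.XN g m) := by
    rcases Nat.mod_two_eq_zero_or_one m with h | h
    · rw [Swap.card_XN_even h]; exact Finite.one_lt_card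
    · rw [Swap.card_XN_odd h]; exact Finite.one_lt_card
  have : Nontrivial (L.XN g m) := Finite.one_lt_card_iff_nontrivial.1 h1
  obtain ⟨⟨x, hx⟩, hne⟩ := exists_ne (1 : L.XN g m)
  exact ⟨x, hx, fun h => hne (Subtype.ext h)⟩

/-- the `t`-trick -/
theorem Swap.t_trick {m : ℕ} (hm : m % 3 ≠ 0) {u : G} (hu : u ∈ L.XN g m) (hu1 : u ≠ 1)
    (huR : u ∈ rc L.A1) (h : ∀ x ∈ L.XN g 0, x * u * x⁻¹ * u⁻¹ ∈ L.A1) :
    ∀ x ∈ L.XN g 0, ∀ y ∈ L.XN g m, x * y = y * x := by
  have key : ∀ x ∈ L.XN g 0, x * u = u * x := by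
    intro x hx
    set c := x * u * x⁻¹ * u⁻¹ with hc
    have hcA := h x hx
    rw [← hc] at hcA
    have h1 : c * t = t * c := A1_t hcA
    have h2 : t * u * t⁻¹ = u⁻¹ := by
      have := S.tN_inv (m := m) (k := 0) (by omega) hu
      rwa [Swap.tN_0 S] at this
    have h3 : t * x * t⁻¹ = x := by
      have := S.tN_cent (m := 0) (k := 0) rfl hx
      rw [Swap.tN_0 S] at this
      rw [this]; group
    have h4 : u * c = c * u := rc_comm huR hcA
    have h5 : c = x * u⁻¹ * x⁻¹ * u := by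
      calc c = t * c * t⁻¹ := by rw [← h1]; group
        _ = (t * x * t⁻¹) * (t * u * t⁻¹) * (t * x * t⁻¹)⁻¹ * (t * u * t⁻¹)⁻¹ := by rw [hc]; group
        _ = _ := by rw [h2, h3]; group
    have h6 : x * u⁻¹ * x⁻¹ * u = c⁻¹ := by
      -- `x u x⁻¹ = c u`
      have h7 : x * u * x⁻¹ = c * u := by rw [hc]; group
      calc x * u⁻¹ * x⁻¹ * u = (x * u * x⁻¹)⁻¹ * u := by group
        _ = (c * u)⁻¹ * u := by rw [h7]
        _ = (u * c)⁻¹ * u := by rw [h4]
        _ = c⁻¹ * (u⁻¹ * u) := by group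
        _ = c⁻¹ := by group
    rw [h6] at h5
    have h7 : c * c = 1 := by nth_rw 1 [h5]; group
    have h8 : c = 1 := odd_no_invol S.hyp.A1_odd hcA h7
    rw [h8] at hc
    calc x * u = (x * u * x⁻¹ * u⁻¹) * (u * x) := by group
      _ = _ := by rw [← hc, one_mul]
  intro x hx y hy
  by_cases hy1 : y = 1
  · rw [hy1]; simp
  obtain ⟨c, hcT, hcy⟩ := S.tor_trans_XN m hu hy hu1 hy1
  have h1 : c⁻¹ * x * c ∈ L.XN g 0 := by
    rw [← mem_cjS, S.cjS_XN hcT]; exact hx
  have h2 := key _ h1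
  rw [← hcy]
  calc x * (c * u * c⁻¹) = c * ((c⁻¹ * x * c) * u) * c⁻¹ := by group
    _ = c * (u * (c⁻¹ * x * c)) * c⁻¹ := by rw [h2]
    _ = _ := by group

/-- `X 0` commutes with one of the two root groups of `R`, if `C_R(s)` is a root group -/
theorem Swap.comm_one (hc : Nat.card F1 = Nat.card F2) {a c : ℕ} (ha : a % 3 = 1) (hac : (a + c) % 12 = 6)
    (hDD : L.DD s = L.XN g a) :
    (∀ x ∈ L.XN g 0, ∀ y ∈ L.XN g a, x * y = y * x) ∨ (∀ x ∈ L.XN g 0, ∀ y ∈ L.XN g c, x * y = y * x) := by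
  have F := S.toFrame
  have := Fintype.ofFinite F2
  obtain ⟨p, -, n, hp, hcard⟩ := FiniteField.card' F2
  have hpf : Fact p.Prime := ⟨hp⟩
  rw [← Nat.card_eq_fintype_card] at hcard
  have hB : IsPGroup p (L.XN g 0) := by
    rw [IsPGroup.iff_card]
    exact ⟨n, by rw [Swap.card_XN_even rfl, hcard]⟩
  have hAle := S.hyp.A1_le
  have h0c : ∀ b ∈ L.XN g 0, b ∈ Subgroup.centralizer (L.A1 : Set G) := by
    intro b hb
    rw [S.XN_base' rfl, L.baseX_0 rfl] at hb
    obtain ⟨w, -, rfl⟩ := hb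
    exact e2_mem_cent w
  obtain ⟨u, hu, hu1⟩ := S.XN_ne_bot a
  have huD : u ∈ L.DD s := by rw [hDD]; exact hu
  have huR := (mem_DD.1 huD).1
  have huA : u ∉ L.A1 := by
    intro h
    apply hu1
    have h1 := F.t_DD huD
    have h2 := A1_t h
    have h3 : t * u * t⁻¹ = u := by rw [← h2]; group
    rw [h3] at h1
    apply HexFull.XN_sq S hu
    nth_rw 1 [h1]; group
  have hun : u ^ p ^ (n : ℕ) = 1 := by
    have h1 : (⟨u, hu⟩ : L.XN g a) ^ Nat.card (L.XN g a) = 1 := pow_card_eq_one'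
    have h2 : Nat.card (L.XN g a) = p ^ (n : ℕ) := by
      rcases Nat.mod_two_eq_zero_or_one a with h | h
      · rw [Swap.card_XN_even h, hcard]
      · rw [Swap.card_XN_odd h, hc, hcard]
    rw [h2] at h1
    exact congrArg Subtype.val h1
  obtain ⟨r, hr, hrA, hfix⟩ := exists_fix_mod hB hAle (fun b hb r hr => rc_norm (h0c b hb) hr)
    (fun b hb a ha => (Subgroup.mem_centralizer_iff.1 (h0c b hb) a ha).symm) (fun r hr a ha => rc_comm hr ha) huR huA hun
  -- the subgroup of fixed elements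
  let N : Subgroup G :=
    { carrier := {y | y ∈ rc L.A1 ∧ ∀ b ∈ L.XN g 0, b * y * b⁻¹ * y⁻¹ ∈ L.A1}
      mul_mem' := by
        rintro y z ⟨hy, h1⟩ ⟨hz, h2⟩
        refine ⟨mul_mem hy hz, fun b hb => ?_⟩
        have h3 := rc_comm hy (h2 b hb)
        have h4 : b * (y * z) * b⁻¹ * (y * z)⁻¹ = (b * y * b⁻¹ * y⁻¹) * (b * z * b⁻¹ * z⁻¹) := by
          calc b * (y * z) * b⁻¹ * (y * z)⁻¹ = (b * y * b⁻¹ * y⁻¹) * (y * (b * z * b⁻¹ * z⁻¹)) * y⁻¹ := by group
            _ = _ := by rw [h3]; group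
        rw [h4]
        exact mul_mem (h1 b hb) (h2 b hb)
      one_mem' := ⟨one_mem _, fun b _ => by
        have : b * 1 * b⁻¹ * 1⁻¹ = (1 : G) := by group
        rw [this]; exact one_mem _⟩
      inv_mem' := by
        rintro y ⟨hy, h1⟩
        refine ⟨inv_mem hy, fun b hb => ?_⟩
        have h3 := rc_comm (inv_mem hy) (inv_mem (h1 b hb))
        have h4 : b * y⁻¹ * b⁻¹ * y⁻¹⁻¹ = (b * y * b⁻¹ * y⁻¹)⁻¹ := by
          calc b * y⁻¹ * b⁻¹ * y⁻¹⁻¹ = y⁻¹ * (b * y * b⁻¹ * y⁻¹)⁻¹ * y := by group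
            _ = _ := by rw [h3]; group
        rw [h4]
        exact inv_mem (h1 b hb) }
  have hNmem : ∀ y, y ∈ N ↔ y ∈ rc L.A1 ∧ ∀ b ∈ L.XN g 0, b * y * b⁻¹ * y⁻¹ ∈ L.A1 := fun y => Iff.rfl
  have hAN : L.A1 ≤ N := by
    intro a ha
    refine ⟨hAle ha, fun b hb => ?_⟩
    have h1 : b * a * b⁻¹ * a⁻¹ = 1 := by
      rw [(Subgroup.mem_centralizer_iff.1 (h0c b hb) a ha).symm]; group
    rw [h1]; exact one_mem _
  have hsN : ∀ y ∈ N, s * y * s⁻¹ ∈ N := by
    rintro y ⟨hy, h1⟩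
    refine ⟨F.s_rc hy, fun b hb => ?_⟩
    have h2 := h1 b⁻¹ (inv_mem hb)
    have h3 : s * b⁻¹ * s⁻¹ = b := by
      have := S.tN_inv (m := 0) (k := 1) (by norm_num) (inv_mem hb)
      rwa [Swap.tN_1 S, inv_inv] at this
    have h4 : b * (s * y * s⁻¹) * b⁻¹ * (s * y * s⁻¹)⁻¹ = s * (b⁻¹ * y * b⁻¹⁻¹ * y⁻¹) * s⁻¹ := by
      calc b * (s * y * s⁻¹) * b⁻¹ * (s * y * s⁻¹)⁻¹
          = (s * b⁻¹ * s⁻¹) * (s * y * s⁻¹) * (s * b⁻¹ * s⁻¹)⁻¹ * (s * y * s⁻¹)⁻¹ := by rw [h3]
        _ = _ := by group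
    rw [h4]
    exact F.tor_A1 F.s_mem h2
  obtain ⟨z, hz, d, hd, d', hd', hrz⟩ := F.rc_prod hr
  have hrN : r ∈ N := ⟨hr, hfix⟩
  have hdd : d * d' ∈ N := by
    have h1 : d * d' = z⁻¹ * r := by rw [hrz]; group
    rw [h1]
    exact mul_mem (inv_mem (hAN hz)) hrN
  have hdR := (mem_DD.1 hd).1
  have hdR' := (mem_DD.1 hd').1
  -- `s d s⁻¹ = d`, `s d' s⁻¹ = d'⁻¹`
  have hsd : s * d * s⁻¹ = d := by rw [← (mem_DD.1 hd).2]; group
  have hsd' : s * d' * s⁻¹ = d'⁻¹ := by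
    rw [t_st F.rep.comm (mem_DD.1 hd').2]
    have ht : t⁻¹ = t := inv_eq_of_mul_eq_one_left L.t_sq
    have := F.t_DD2 hd'
    rw [ht] at this ⊢
    exact this
  have hdd' : d * d'⁻¹ ∈ N := by
    have h1 := hsN _ hdd
    have h2 : s * (d * d') * s⁻¹ = (s * d * s⁻¹) * (s * d' * s⁻¹) := by group
    rwa [h2, hsd, hsd'] at h1
  -- `d * d ∈ N`
  have hd2 : d * d ∈ N := by
    have h1 := S.hyp.rc_comm_mem hdR' hdR
    set c' := d' * d * d'⁻¹ * d⁻¹ with hc'
    have h2 : d * c' = c' * d := rc_comm hdR h1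
    have h3 : d * d = c'⁻¹ * ((d * d') * (d * d'⁻¹)) := by
      calc d * d = c'⁻¹ * (c' * d) * d := by group
        _ = c'⁻¹ * (d * c') * d := by rw [h2]
        _ = _ := by rw [hc']; group
    rw [h3]
    exact mul_mem (inv_mem (hAN h1)) (mul_mem hdd hdd')
  have hdN : d ∈ N := by
    obtain ⟨k, hk⟩ := rc_odd (G := G) L.A1
    have h1 : (⟨d, hdR⟩ : rc L.A1) ^ Nat.card (rc L.A1) = 1 := pow_card_eq_one'
    have h2 : d ^ Nat.card (rc L.A1) = 1 := congrArg Subtype.val h1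
    have h3 : d = (d * d) ^ (k + 1) := by
      rw [← pow_two, ← pow_mul, show 2 * (k + 1) = 2 * k + 1 + 1 by ring, pow_succ, ← hk, h2, one_mul]
    rw [h3]
    exact pow_mem hd2 _
  have hdN' : d' ∈ N := by
    have h1 : d' = d⁻¹ * (d * d') := by group
    rw [h1]
    exact mul_mem (inv_mem hdN) hdd
  by_cases hd1 : d = 1
  · right
    have hd1' : d' ≠ 1 := by
      intro h
      apply hrA
      rw [hrz, hd1, h, mul_one, mul_one]; exact hz
    have hdc : d' ∈ L.XN g c := by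
      rw [F.DD_eq, hDD, S.r2_XN hac] at hd'
      exact hd'
    exact S.t_trick (by omega) hdc hd1' hdR' hdN'.2
  · left
    have hda : d ∈ L.XN g a := by rw [← hDD]; exact hd
    exact S.t_trick (by omega) hda hd1 hdR hdN.2

theorem Swap.absurd_le {m k : ℕ} (h1 : m % 3 = k % 3) (h2 : m % 2 ≠ k % 2) (h : L.XN g m ≤ L.XN g k) : False := by
  obtain ⟨x, hx, hx1⟩ := S.XN_ne_bot m
  exact hx1 (HexFull.XN_inf S h1 h2 hx (h hx))

/-- own type in `C_R(s)`: `R` is full -/
theorem Swap.own (hc : Nat.card F1 = Nat.card F2) (h3 : 3 < Nat.card F1) {e : ℕ} (he : e = 1 ∨ e = 7)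
    (hle : L.XN g e ≤ L.DD s) : FullF L := by
  rcases S.cases (Or.inl h3) with h | h | h | h
  · exfalso
    obtain ⟨x, hx, hx1⟩ := S.XN_ne_bot e
    have := hle hx
    rw [h, Subgroup.mem_bot] at this
    exact hx1 this
  · exfalso
    rcases h with h | h
    · rcases S.comm_one hc (a := 1) (c := 5) (by norm_num) (by norm_num) h with h1 | h1
      · have h2 := S.XN_le_DD (m := 4) (by norm_num) (S.comm_refl 11 (by norm_num) (by norm_num) h1)
        rw [h] at h2
        exact S.absurd_le (by norm_num) (by norm_num) h2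
      · have h2 := S.XN_le_DD' (m := 8) (k := 10) (by norm_num) (by norm_num)
          (S.comm_refl 1 (by norm_num) (by norm_num) h1)
        rw [h] at h2
        exact S.absurd_le (by norm_num) (by norm_num) h2
    · rcases S.comm_one hc (a := 7) (c := 11) (by norm_num) (by norm_num) h with h1 | h1
      · have h2 := S.XN_le_DD (m := 10) (by norm_num) (S.comm_refl 2 (by norm_num) (by norm_num) h1)
        rw [h] at h2
        exact S.absurd_le (by norm_num) (by norm_num) h2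
      · have h2 := S.XN_le_DD' (m := 2) (k := 4) (by norm_num) (by norm_num)
          (S.comm_refl 10 (by norm_num) (by norm_num) h1)
        rw [h] at h2
        exact S.absurd_le (by norm_num) (by norm_num) h2
  · exfalso
    rcases h with h | h <;> rcases he with rfl | rfl <;> rw [h] at hle <;>
      exact S.absurd_le (by norm_num) (by norm_num) hle
  · exact ⟨s, g, S, h⟩

omit [Finite G] in
theorem Swap.sw_comm {m k : ℕ} (hk : k % 12 = (7 * m + 3) % 12) (h : ∀ x ∈ L.XN g 0, ∀ y ∈ L.XN g k, x * y = y * x) :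
    ∀ x ∈ L.sw.XN g m, ∀ y ∈ L.sw.XN g 3, x * y = y * x := by
  intro x hx y hy
  rw [S.sw_XN hk] at hx
  rw [S.sw_XN (m := 3) (k := 0) (by norm_num)] at hy
  exact (h y hy x hx).symm

/-- the other type alone: the other centre is full -/
theorem Swap.other (hc : Nat.card F1 = Nat.card F2) (h3 : 3 < Nat.card F1) (h : L.DD s = L.XN g 4 ∨ L.DD s = L.XN g 10) :
    FullF L.sw := by
  have h3' : 3 < Nat.card F2 := by rw [← hc]; exact h3
  have S' : L.sw.Split s g := S.sw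
  rcases h with h | h
  · rcases S.comm_one hc (a := 4) (c := 2) (by norm_num) (by norm_num) h with h1 | h1
    · exact S'.own hc.symm h3' (Or.inr rfl) (S'.XN_le_DD (m := 7) (by norm_num) (S.sw_comm (by norm_num) h1))
    · exact S'.own hc.symm h3' (Or.inl rfl) (S'.XN_le_DD' (m := 5) (by norm_num) (by norm_num)
        (S.sw_comm (by norm_num) h1))
  · rcases S.comm_one hc (a := 10) (c := 8) (by norm_num) (by norm_num) h with h1 | h1
    · exact S'.own hc.symm h3' (Or.inl rfl) (S'.XN_le_DD (m := 1) (by norm_num) (S.sw_comm (by norm_num) h1))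
    · exact S'.own hc.symm h3' (Or.inr rfl) (S'.XN_le_DD' (m := 11) (by norm_num) (by norm_num)
        (S.sw_comm (by norm_num) h1))

theorem Swap.full_of_ne_bot (hc : Nat.card F1 = Nat.card F2) (h3 : 3 < Nat.card F1) (h : L.DD s ≠ ⊥) :
    FullF L ∨ FullF L.sw := by
  rcases S.cases (Or.inl h3) with h1 | h1 | h1 | h1
  · exact absurd h1 h
  · left
    rcases h1 with h1 | h1
    · exact S.own hc h3 (Or.inl rfl) h1.ge
    · exact S.own hc h3 (Or.inr rfl) h1.ge
  · right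
    exact S.other hc h3 h1
  · left
    exact ⟨s, g, S, h1⟩

end one

/-- (X4) -/
theorem fullHyp (hc : Nat.card F1 = Nat.card F2) (h3 : 3 < Nat.card F1) : FullHyp L := by
  intro s g S h
  rcases h with h | h
  · exact S.full_of_ne_bot hc h3 h
  · have S' : L.sw.Split s g := S.sw
    rcases S'.full_of_ne_bot hc.symm (by rw [← hc]; exact h3) h with h1 | h1
    · exact Or.inr h1
    · exact Or.inl h1

/-- [X], without hypothesis on the `p`-group argument -/
theorem Hyp.final' (H : L.Hyp) (hcl : ∀ x : G, x * x = 1 → x ≠ 1 → ∃ g, g * t = x * g) (hM1 : MCl G F1) (hM2 : MCl G F2) :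
    FullF L ∨ FullF L.sw ∨ (Nat.card F1 = Nat.card F2 ∧ 3 ∣ Nat.card F1 ∧
      (3 < Nat.card F1 → ∀ s g : G, L.Split s g → L.DD s = ⊥ ∧ L.sw.DD s = ⊥)) :=
  H.final hcl hM1 hM2 fullHyp


end LocalSL

end Cfsg.Agent.GTwoOdd
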