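import Cfsg.Agent.GTwoOdd.XRho
import Cfsg.Agent.GTwoOdd.RootClass
import Cfsg.Agent.GTwoOdd.MCore

/-!
# The hypotheses of the `M`-lemma for `C_G(x)`, `x ∈ T_2 ∩ T_2^ρ`
-/

set_option autoImplicit false

namespace Cfsg.Agent.GTwoOdd

open Matrix MCore
open scoped commutatorElement

/-- the conclusion of the `M`-lemma for all subgroups of `G` -/
def MCl (G : Type*) [Group G] (F : Type*) [Field F] : Prop :=
  ∀ (K : Subgroup G) (t s : K) (e : SL2 F →* K) (D : M2 F), MHyp t s e D →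
    ∀ p : ℕ, p.Prime → p ∣ Nat.card F → p ∣ (Subgroup.centralizer ({t} : Set K)).index

namespace LocalSL

variable {G : Type*} [Group G] {t : G} {F1 F2 : Type*} [Field F1] [Field F2]
variable [Finite F1] [Finite F2] {L : LocalSL t F1 F2} {s g : G} {D1 : M2 F1} {D2 : M2 F2} {n1 : SL2 F1} {n2 : SL2 F2}

/-- an element of `F[D]` which commutes with a nonscalar element of `F[D]` -/
theorem comm_of_x0 {F : Type*} [Field F] (h2 : (2 : F) ≠ 0) {D : M2 F} (hD : D.det ≠ 0) (ht : D.trace = 0)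
    {x : SL2 F} (hx : (x : M2 F) * D = D * x) (h1 : x ≠ 1) (h1' : x ≠ -1) {B : M2 F} (h : B * x = x * B) :
    B * D = D * B := by
  obtain ⟨a, b, hab⟩ := cent_form h2 hD ht hx
  have hb : b ≠ 0 := by
    rintro rfl
    have h3 : (x : M2 F) = a • (1 : M2 F) := by rw [hab]; simp
    rcases sl_scalar h3 with h | h
    · exact h1 h
    · exact h1' h
  rw [hab, mul_add, add_mul, Matrix.mul_smul, Matrix.smul_mul, mul_one, one_mul, Matrix.mul_smul, Matrix.smul_mul] at h
  have h4 := add_left_cancel h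
  exact smul_cancel hb h4

/-- `L1 C(D2)` -/
def LT (L : LocalSL t F1 F2) (D2 : M2 F2) : Subgroup G where
  carrier := {y | ∃ a b, y = L.e1 a * L.e2 b ∧ (b : M2 F2) * D2 = D2 * b}
  mul_mem' := by
    rintro _ _ ⟨a, b, rfl, h⟩ ⟨a', b', rfl, h'⟩
    refine ⟨a * a', b * b', YD.e12_mul _ _ _ _, ?_⟩
    rw [Matrix.SpecialLinearGroup.coe_mul, mul_assoc, h', ← mul_assoc, h, mul_assoc]
  one_mem' := ⟨1, 1, by simp, by simp⟩
  inv_mem' := by
    rintro _ ⟨a, b, rfl, h⟩
    refine ⟨a⁻¹, b⁻¹, ?_, ?_⟩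
    · rw [_root_.mul_inv_rev, map_inv, map_inv, ← _root_.mul_inv_rev, ← _root_.mul_inv_rev, L.comm]
    · rw [sl_inv_coe, adjugate_eq, sub_mul, mul_sub, h]; simp

omit [Finite F1] [Finite F2] in
theorem mem_LT {y : G} : y ∈ L.LT D2 ↔ ∃ a b, y = L.e1 a * L.e2 b ∧ (b : M2 F2) * D2 = D2 * b := Iff.rfl

namespace XIn

variable {x : G} (X : XIn L s D1 D2 n1 n2 g x)
include X

theorem t_mem : t ∈ Subgroup.centralizer ({x} : Set G) := by
  rw [Subgroup.mem_centralizer_singleton_iff]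
  have := X.e1 (-1)
  rwa [L.neg1] at this

theorem x_tor : x ∈ L.tor D1 D2 := Frame.tor2_le L D1 D2 X.mem

theorem tor_mem {c : G} (hc : c ∈ L.tor D1 D2) : c ∈ Subgroup.centralizer ({x} : Set G) := by
  rw [Subgroup.mem_centralizer_singleton_iff]
  exact X.sw.toFrame.tor_comm hc X.x_tor

theorem s_mem : s ∈ Subgroup.centralizer ({x} : Set G) := X.tor_mem X.sw.toFrame.s_mem

theorem e1_mem (y : SL2 F1) : L.e1 y ∈ Subgroup.centralizer ({x} : Set G) := by
  rw [Subgroup.mem_centralizer_singleton_iff]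
  exact X.e1 y

/-- the embedding of `SL(2,F1)` in `C_G(x)` -/
def emb : SL2 F1 →* Subgroup.centralizer ({x} : Set G) := L.e1.codRestrict _ X.e1_mem

theorem emb_coe (y : SL2 F1) : (X.emb y : G) = L.e1 y := rfl

/-- elements of `C0` which commute with `x` -/
theorem comm_D2 {c : G} {A : M2 F1} {B : M2 F2} (h : L.Rep c A B) (hc : c * x = x * c) : B * D2 = D2 * B := by
  obtain ⟨x0, rfl, h1, h2, h3⟩ := X.exists_x0
  have F := X.sw.toFrame
  refine comm_of_x0 F.two2 F.det2 F.tr2 h1 h2 h3 ?_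
  obtain ⟨y, hy⟩ := exists_cj h.det2 x0
  have h4 := h.acts2.2 _ _ hy
  rw [hc] at h4
  have h5 : x0 = y := L.inj2 (mul_right_cancel h4)
  rw [← h5] at hy
  exact hy.symm

theorem comm_mem {c d : G} (hc : c * t = t * c) (hd : d * t = t * d) (hcx : c * x = x * c) (hdx : d * x = x * d) :
    c * d * c⁻¹ * d⁻¹ ∈ L.LT D2 := by
  obtain ⟨a, b, h⟩ := X.sw.toFrame.hyp.comm_mem c d hc hd
  have h1 : c * d * c⁻¹ * d⁻¹ = L.e1 a * L.e2 b := by rw [h]; group
  have hci : c⁻¹ * x = x * c⁻¹ := by rw [inv_mul_eq_iff_eq_mul, ← mul_assoc, hcx, mul_assoc, mul_inv_cancel, mul_one]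
  have hdi : d⁻¹ * x = x * d⁻¹ := by rw [inv_mul_eq_iff_eq_mul, ← mul_assoc, hdx, mul_assoc, mul_inv_cancel, mul_one]
  have h2 : (c * d * c⁻¹ * d⁻¹) * x = x * (c * d * c⁻¹ * d⁻¹) := by
    calc c * d * c⁻¹ * d⁻¹ * x = c * d * c⁻¹ * (d⁻¹ * x) := by group
      _ = c * d * (c⁻¹ * x) * d⁻¹ := by rw [hdi]; group
      _ = c * (d * x) * c⁻¹ * d⁻¹ := by rw [hci]; group
      _ = (c * x) * d * c⁻¹ * d⁻¹ := by rw [hdx]; group
      _ = _ := by rw [hcx]; group
  rw [h1] at h2 ⊢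
  exact ⟨a, b, rfl, X.comm_D2 (Rep.e12 L a b) h2⟩

theorem st_inv : s * t * (s * t) = 1 := by
  have hst := X.sw.toFrame.rep.comm
  calc s * t * (s * t) = s * (t * s) * t := by group
    _ = s * s * (t * t) := by rw [← hst]; group
    _ = 1 := by rw [X.sw.toFrame.ss, L.t_sq, one_mul]

/-- the hypotheses of the `M`-lemma -/
theorem mhyp [Finite G] : MHyp (⟨t, X.t_mem⟩ : Subgroup.centralizer ({x} : Set G)) ⟨s, X.s_mem⟩ X.emb D1 := by
  have F := X.sw.toFrame
  have H := F.hyp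
  have hst := F.rep.comm
  have hcx : ∀ c : Subgroup.centralizer ({x} : Set G), c.1 * x = x * c.1 :=
    fun c => Subgroup.mem_centralizer_singleton_iff.1 c.2
  refine ⟨?_, ?_, ?_, ?_, ?_, ?_, ?_, F.tr1, ?_, ?_, ?_⟩
  · intro a b h
    exact L.inj1 (congrArg Subtype.val h)
  · exact Subtype.ext L.neg1
  · intro c hc y
    obtain ⟨z, hz⟩ := H.norm1 c.1 (congrArg Subtype.val hc) y
    exact ⟨z, Subtype.ext hz⟩
  · refine ⟨2, ?_⟩
    set C := Subgroup.centralizer ({⟨t, X.t_mem⟩} : Set (Subgroup.centralizer ({x} : Set G))) with hC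
    have hCt : ∀ c : C, c.1.1 * t = t * c.1.1 := by
      intro c
      have h1 := Subgroup.mem_centralizer_singleton_iff.1 c.2
      exact congrArg Subtype.val h1
    let f : C →* G := (Subgroup.subtype _).comp C.subtype
    have h1 : derivedSeries C 1 ≤ (L.LT D2).comap f := by
      rw [derivedSeries_succ, Subgroup.commutator_le]
      intro c _ d _
      change f ⁅c, d⁆ ∈ L.LT D2
      rw [commutatorElement_def, map_mul, map_mul, map_mul, map_inv, map_inv]
      exact X.comm_mem (hCt c) (hCt d) (hcx c.1) (hcx d.1)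
    have h2 : derivedSeries C 2 ≤ (L.e1.range).comap f := by
      rw [derivedSeries_succ, Subgroup.commutator_le]
      intro c hc d hd
      obtain ⟨a, b, hab, hb⟩ := h1 hc
      obtain ⟨a', b', hab', hb'⟩ := h1 hd
      change f ⁅c, d⁆ ∈ L.e1.range
      rw [commutatorElement_def, map_mul, map_mul, map_mul, map_inv, map_inv, hab, hab']
      refine ⟨a * a' * a⁻¹ * a'⁻¹, ?_⟩
      have hbb : b * b' = b' * b := by
        apply Subtype.ext
        rw [Matrix.SpecialLinearGroup.coe_mul, Matrix.SpecialLinearGroup.coe_mul]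
        exact cent_comm F.two2 F.det2 F.tr2 hb hb'
      have e1 : (L.e1 a * L.e2 b)⁻¹ = L.e1 a⁻¹ * L.e2 b⁻¹ := by
        rw [_root_.mul_inv_rev, map_inv, map_inv, ← _root_.mul_inv_rev, ← _root_.mul_inv_rev, L.comm]
      have e2 : (L.e1 a' * L.e2 b')⁻¹ = L.e1 a'⁻¹ * L.e2 b'⁻¹ := by
        rw [_root_.mul_inv_rev, map_inv, map_inv, ← _root_.mul_inv_rev, ← _root_.mul_inv_rev, L.comm]
      rw [e1, e2, YD.e12_mul, YD.e12_mul, YD.e12_mul]
      have e3 : b * b' * b⁻¹ * b'⁻¹ = 1 := by rw [hbb]; group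
      rw [e3, map_one, mul_one]
    intro c hc
    obtain ⟨y, hy⟩ := h2 hc
    exact ⟨y, Subtype.ext hy⟩
  · exact Subtype.ext hst
  · exact Subtype.ext F.ss
  · refine ⟨F.det1, fun a b hab => Subtype.ext ?_⟩
    exact F.rep.acts1.2 _ _ hab
  · -- involutions
    intro c hc hcc hc1 hct
    have kc := congrArg Subtype.val hc
    have kcc := congrArg Subtype.val hcc
    change c.1 * t = t * c.1 at kc
    change c.1 * c.1 = 1 at kcc
    obtain ⟨A, B, hr, hA, hB⟩ := H.rep_of_invol kc kcc (fun h => hc1 (Subtype.ext h)) (fun h => hct (Subtype.ext h))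
    have hBD := X.comm_D2 hr (hcx c)
    obtain ⟨a, b, hab⟩ := cent_form F.two2 F.det2 F.tr2 hBD
    have ha : a = 0 := by
      rw [hab, cent_trace F.tr2] at hB
      rcases mul_eq_zero.1 hB with h | h
      · exact absurd h F.two2
      · exact h
    rw [ha, zero_smul, zero_add] at hab
    have hb : b ≠ 0 := by
      rintro rfl
      apply hr.det2
      rw [hab, Matrix.det_fin_two]; simp
    have hr' : L.Rep c.1 A D2 := by
      have := hr.smul (a := 1) (b := b⁻¹) one_ne_zero (inv_ne_zero hb)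
      rwa [one_smul, hab, smul_smul, inv_mul_cancel₀ hb, one_smul] at this
    have hsq : IsSquare (A.det * D1.det) := by
      rw [isSquare_mul_iff hr'.det1 F.det1, H.square_iff _ _ _ hr', H.square_iff _ _ _ F.rep]
    obtain ⟨P, u, hu, hP⟩ := exists_sl_conj_smul F.two1 hr'.det1 F.det1 hA F.tr1 hsq
    -- `P D1 = u A P`
    have h1 : L.Rep (L.e1 P * s * (L.e1 P)⁻¹) (u • A) D2 := by
      have h2 := ((Rep.e1 L P).mul F.rep).mul (Rep.e1 L P).inv
      have e1 : (P : M2 F1) * D1 * (P : M2 F1).adjugate = u • A := by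
        rw [hP, Matrix.smul_mul, mul_assoc, Matrix.mul_adjugate, sl_coe_det, one_smul, mul_one]
      have e2 : (1 : M2 F2) * D2 * (1 : M2 F2).adjugate = D2 := by
        rw [Matrix.adjugate_one, one_mul, mul_one]
      rwa [e1, e2] at h2
    rcases hr'.unique h1 (a := u) (b := 1) rfl (by rw [one_smul]) with h2 | h2
    · exact ⟨P, Subtype.ext h2.symm⟩
    · -- replace `P` by `P n1`
      refine ⟨P * n1, Subtype.ext ?_⟩
      change c.1 = L.e1 (P * n1) * s * (L.e1 (P * n1))⁻¹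
      have h3 := F.n1_s
      have h4 : L.e1 n1 * s * (L.e1 n1)⁻¹ = s * t := by rw [h3]; group
      have h5 : t * (L.e1 P)⁻¹ = (L.e1 P)⁻¹ * t := by
        have := e1_t (L := L) (P⁻¹)
        rw [map_inv] at this
        exact this.symm
      rw [map_mul]
      calc c.1 = c.1 * t * t := by rw [mul_assoc, L.t_sq, mul_one]
        _ = L.e1 P * s * (L.e1 P)⁻¹ * t := by rw [← h2]
        _ = L.e1 P * (s * t) * (L.e1 P)⁻¹ := by rw [mul_assoc _ _ t, ← h5]; group
        _ = L.e1 P * (L.e1 n1 * s * (L.e1 n1)⁻¹) * (L.e1 P)⁻¹ := by rw [h4]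
        _ = _ := by group
  · -- `t` and `s` are conjugate
    have hρ : rho L n1 g * (s * t) * (rho L n1 g)⁻¹ = t := by
      have e1 := X.sw.rho_t
      have e2 := X.sw.rho_s
      calc rho L n1 g * (s * t) * (rho L n1 g)⁻¹ = (rho L n1 g * s) * t * (rho L n1 g)⁻¹ := by group
        _ = s * t * (rho L n1 g * t) * (rho L n1 g)⁻¹ := by rw [e2]; group
        _ = s * t * s := by rw [e1]; group
        _ = t * (s * s) := by rw [hst, mul_assoc]
        _ = t := by rw [F.ss, mul_one]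
    have hρ' : (rho L n1 g)⁻¹ * t * rho L n1 g = s * t := by
      calc (rho L n1 g)⁻¹ * t * rho L n1 g = (rho L n1 g)⁻¹ * (rho L n1 g * (s * t) * (rho L n1 g)⁻¹) * rho L n1 g := by
            rw [hρ]
        _ = s * t := by group
    have hρs : rho L n1 g * s * (rho L n1 g)⁻¹ = s * t := by
      rw [X.sw.rho_s]; group
    have hn : L.e1 n1 * s = s * t * L.e1 n1 := F.n1_s
    have hn' : L.e1 n1 * (s * t) * (L.e1 n1)⁻¹ = s := by
      calc L.e1 n1 * (s * t) * (L.e1 n1)⁻¹ = (L.e1 n1 * s) * t * (L.e1 n1)⁻¹ := by group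
        _ = s * t * (L.e1 n1 * t) * (L.e1 n1)⁻¹ := by rw [hn]; group
        _ = s * (t * t) := by rw [e1_t]; group
        _ = s := by rw [L.t_sq, mul_one]
    have hm : rho L n1 g * L.e1 n1 * (rho L n1 g)⁻¹ ∈ Subgroup.centralizer ({x} : Set G) := by
      rw [Subgroup.mem_centralizer_singleton_iff]
      exact X.re1 n1
    refine ⟨⟨_, mul_mem (X.e1_mem n1) hm⟩, Subtype.ext ?_⟩
    change L.e1 n1 * (rho L n1 g * L.e1 n1 * (rho L n1 g)⁻¹) * t * (L.e1 n1 * (rho L n1 g * L.e1 n1 * (rho L n1 g)⁻¹))⁻¹ = s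
    calc L.e1 n1 * (rho L n1 g * L.e1 n1 * (rho L n1 g)⁻¹) * t * (L.e1 n1 * (rho L n1 g * L.e1 n1 * (rho L n1 g)⁻¹))⁻¹
        = L.e1 n1 * (rho L n1 g * (L.e1 n1 * ((rho L n1 g)⁻¹ * t * rho L n1 g) * (L.e1 n1)⁻¹) * (rho L n1 g)⁻¹) *
          (L.e1 n1)⁻¹ := by group
      _ = L.e1 n1 * (rho L n1 g * (L.e1 n1 * (s * t) * (L.e1 n1)⁻¹) * (rho L n1 g)⁻¹) * (L.e1 n1)⁻¹ := by
          rw [hρ']
      _ = L.e1 n1 * (s * t) * (L.e1 n1)⁻¹ := by rw [hn', hρs, hn']
      _ = s := hn'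
  · -- rank
    intro c hc hcs hcc
    have kc := congrArg Subtype.val hc
    have kcs := congrArg Subtype.val hcs
    have kcc := congrArg Subtype.val hcc
    change c.1 * t = t * c.1 at kc
    change c.1 * s = s * c.1 at kcs
    change c.1 * c.1 = 1 at kcc
    have hT : c.1 ∈ L.tor D1 D2 := by
      obtain ⟨A, B, hr⟩ := H.rep_of_mul kc kcc
      have hBD := X.comm_D2 hr (hcx c)
      rcases F.of_comm_s hr kcs with ⟨h1, h2⟩ | ⟨h1, h2⟩
      · exact ⟨A, B, hr, h1, h2⟩
      · exfalso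
        rw [hBD] at h2
        have h3 : (2 : F2) • (D2 * B) = 0 := by
          rw [two_smul]
          nth_rw 1 [h2]
          simp
        have h4 : D2 * B = 0 := smul_cancel F.two2 (h3.trans (smul_zero _).symm)
        have h5 : (D2 * B).det ≠ 0 := by
          rw [Matrix.det_mul]; exact mul_ne_zero F.det2 hr.det2
        rw [h4] at h5
        exact h5 (by simp)
    rcases F.tor_invol hT kcc with h | h | h | h
    · left; exact Subtype.ext h
    · right; left; exact Subtype.ext h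
    · right; right; left; exact Subtype.ext h
    · right; right; right
      apply Subtype.ext
      rw [h, hst]; rfl

end XIn

end LocalSL

end Cfsg.Agent.GTwoOdd
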