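import Cfsg.Agent.GTwoOdd.XCard

/-!
# Fields of the same order prime to `3`: some `x ∈ T_i ∩ T_i^ρ` of order `3`
-/

set_option autoImplicit false

namespace Cfsg.Agent.GTwoOdd

open Matrix ZIso

section field

/-- finite fields of the same order have the same squares -/
theorem isSquare_card_iff {F1 F2 : Type*} [Field F1] [Field F2] [Finite F1] [Finite F2]
    (h : Nat.card F1 = Nat.card F2) (n : ℤ) : IsSquare ((n : ℤ) : F1) ↔ IsSquare ((n : ℤ) : F2) := by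
  have := Fintype.ofFinite F1
  have := Fintype.ofFinite F2
  rw [Nat.card_eq_fintype_card, Nat.card_eq_fintype_card] at h
  let e : F1 ≃+* F2 := FiniteField.ringEquivOfCardEq h
  have he : e (n : F1) = (n : F2) := map_intCast e n
  constructor
  · rintro ⟨a, ha⟩
    exact ⟨e a, by rw [← he, ha, map_mul]⟩
  · rintro ⟨a, ha⟩
    refine ⟨e.symm a, ?_⟩
    apply e.injective
    rw [he, ha, map_mul, e.apply_symm_apply]

theorem three_ne_zero_of {F : Type*} [Field F] [Finite F] (h : ¬ 3 ∣ Nat.card F) : (3 : F) ≠ 0 := by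
  intro h3
  apply h
  have := Fintype.ofFinite F
  obtain ⟨p, hc, n, hp, hcard⟩ := FiniteField.card' F
  have h4 : p ∣ 3 := (CharP.cast_eq_zero_iff F p 3).1 (by exact_mod_cast h3)
  have h5 : p = 3 := (Nat.prime_dvd_prime_iff_eq hp Nat.prime_three).1 h4
  rw [Nat.card_eq_fintype_card, hcard, h5]
  exact dvd_pow_self 3 n.ne_zero

variable {F : Type*} [Field F]

/-- the element `-1/2 + D/2` of order `3`, `D² = -3` -/
theorem exists_order_three (h2 : (2 : F) ≠ 0) (h3 : (3 : F) ≠ 0) : ∃ x : SL2 F,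
    (x : M2 F) * (!![0, 1; -3, 0] : M2 F) = (!![0, 1; -3, 0] : M2 F) * (x : M2 F) ∧ x * (x * x) = 1 ∧ x ≠ 1 := by
  have h4 : (4 : F) ≠ 0 := by
    have : (4 : F) = 2 * 2 := by norm_num
    rw [this]; exact mul_ne_zero h2 h2
  refine ⟨⟨!![-(1 / 2), 1 / 2; -(3 / 2), -(1 / 2)], ?_⟩, ?_, ?_, ?_⟩
  · rw [Matrix.det_fin_two]
    simp
    field_simp
    norm_num
  · change !![-(1 / 2), 1 / 2; -(3 / 2), -(1 / 2)] * !![0, 1; -3, 0] = !![0, 1; -3, 0] * !![-(1 / 2), 1 / 2; -(3 / 2), -(1 / 2)]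
    rw [m2_eq_iff]
    simp only [m2_mul_00, m2_mul_01, m2_mul_10, m2_mul_11]
    simp
    refine ⟨by ring, by ring, by ring⟩
  · apply Subtype.ext
    change !![-(1 / 2), 1 / 2; -(3 / 2), -(1 / 2)] * (!![-(1 / 2), 1 / 2; -(3 / 2), -(1 / 2)] *
      !![-(1 / 2), 1 / 2; -(3 / 2), -(1 / 2)]) = (1 : M2 F)
    rw [m2_eq_iff]
    simp only [m2_mul_00, m2_mul_01, m2_mul_10, m2_mul_11]
    simp
    refine ⟨?_, ?_, ?_, ?_⟩ <;> field_simp <;> norm_num
  · intro h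
    have h5 := congrArg (fun z : SL2 F => (z : M2 F) 1 0) h
    simp at h5
    rcases h5 with h5 | h5
    · exact h3 h5
    · exact h2 h5

end field

namespace LocalSL

variable {G : Type*} [Group G] {t : G} {F1 F2 : Type*} [Field F1] [Field F2]
variable [Finite F1] [Finite F2] {L : LocalSL t F1 F2} {s g : G} {D1 : M2 F1} {D2 : M2 F2} {n1 : SL2 F1} {n2 : SL2 F2}

/-- a `ρ`-fixed element of order `3` in `T` -/
theorem Swap.exists_fixed (S : L.Swap s D1 D2 n1 n2 g) {x : G} (hx : x ∈ L.tor D1 D2) (h3 : x * (x * x) = 1) (h1 : x ≠ 1) :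
    ∃ y ∈ L.tor D1 D2, y * (y * y) = 1 ∧ y ≠ 1 ∧ rho L n1 g * y * (rho L n1 g)⁻¹ = y := by
  have F := S.toFrame
  set r := rho L n1 g with hr
  have hT : ∀ y ∈ L.tor D1 D2, r * y * r⁻¹ ∈ L.tor D1 D2 := fun y hy => S.rho_tor hy
  have hcm : ∀ {y z : G}, y ∈ L.tor D1 D2 → z ∈ L.tor D1 D2 → y * z = z * y := fun hy hz => F.tor_comm hy hz
  have hcube : r * (r * (r * x * r⁻¹) * r⁻¹) * r⁻¹ = x := by
    have h2 := hcm S.rho_cube hx
    rw [← hr] at h2
    calc r * (r * (r * x * r⁻¹) * r⁻¹) * r⁻¹ = (r * r * r * x) * (r * r * r)⁻¹ := by group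
      _ = x := by rw [h2]; group
  have hpow : ∀ y, y * (y * y) = 1 → r * y * r⁻¹ * ((r * y * r⁻¹) * (r * y * r⁻¹)) = 1 := by
    intro y hy
    calc r * y * r⁻¹ * ((r * y * r⁻¹) * (r * y * r⁻¹)) = r * (y * (y * y)) * r⁻¹ := by group
      _ = 1 := by rw [hy]; group
  set a := r * x * r⁻¹ with ha
  set b := r * a * r⁻¹ with hb
  have haT : a ∈ L.tor D1 D2 := hT x hx
  have hbT : b ∈ L.tor D1 D2 := hT a haT
  have ha3 := hpow x h3
  rw [← ha] at ha3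
  have hb3 := hpow a ha3
  rw [← hb] at hb3
  have hxa := hcm hx haT
  have hxb := hcm hx hbT
  have hab := hcm haT hbT
  by_cases hN : x * a * b = 1
  · by_cases hfix : a = x
    · exact ⟨x, hx, h3, h1, by rw [← ha]; exact hfix⟩
    · refine ⟨a * x⁻¹, mul_mem haT (inv_mem hx), ?_, ?_, ?_⟩
      · have h4 : a * x⁻¹ = x⁻¹ * a := hcm haT (inv_mem hx)
        calc a * x⁻¹ * (a * x⁻¹ * (a * x⁻¹)) = a * (x⁻¹ * a) * (x⁻¹ * a) * x⁻¹ := by group
          _ = a * (a * x⁻¹) * (a * x⁻¹) * x⁻¹ := by rw [h4]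
          _ = a * a * (x⁻¹ * a) * x⁻¹ * x⁻¹ := by group
          _ = a * a * (a * x⁻¹) * x⁻¹ * x⁻¹ := by rw [h4]
          _ = (a * (a * a)) * (x * (x * x))⁻¹ := by group
          _ = 1 := by rw [ha3, h3]; group
      · intro h4
        exact hfix (mul_inv_eq_one.1 h4)
      · -- `b a⁻¹ = a x⁻¹`
        have h4 : r * (a * x⁻¹) * r⁻¹ = b * a⁻¹ := by rw [hb, ha]; group
        rw [h4]
        -- `b = a⁻¹ x⁻¹`
        have h5 : b = a⁻¹ * x⁻¹ := by
          rw [← _root_.mul_inv_rev]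
          exact eq_inv_of_mul_eq_one_right hN
        have h6 : a⁻¹ * a⁻¹ = a := by
          calc a⁻¹ * a⁻¹ = a⁻¹ * a⁻¹ * (a * (a * a)) := by rw [ha3, mul_one]
            _ = a := by group
        have h7 : x⁻¹ * a⁻¹ = a⁻¹ * x⁻¹ := hcm (inv_mem hx) (inv_mem haT)
        calc b * a⁻¹ = a⁻¹ * (x⁻¹ * a⁻¹) := by rw [h5]; group
          _ = (a⁻¹ * a⁻¹) * x⁻¹ := by rw [h7]; group
          _ = _ := by rw [h6]
  · refine ⟨x * a * b, mul_mem (mul_mem hx haT) hbT, ?_, hN, ?_⟩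
    · -- cube
      have hp : ∀ {u v : G}, u * v = v * u → u * (u * u) = 1 → v * (v * v) = 1 → u * v * (u * v * (u * v)) = 1 := by
        intro u v huv hu hv
        calc u * v * (u * v * (u * v)) = u * (v * u) * (v * u) * v := by group
          _ = u * (u * v) * (u * v) * v := by rw [huv]
          _ = u * u * (v * u) * v * v := by group
          _ = u * u * (u * v) * v * v := by rw [huv]
          _ = (u * (u * u)) * (v * (v * v)) := by group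
          _ = 1 := by rw [hu, hv, one_mul]
      exact hp (hcm (mul_mem hx haT) hbT) (hp hxa h3 ha3) hb3
    · have h4 : r * (x * a * b) * r⁻¹ = a * b * (r * b * r⁻¹) := by
        rw [hb, ha]; group
      rw [h4, hcube, hcm (mul_mem haT hbT) hx, ← mul_assoc]

/-- some `x ≠ 1` in `T_1 ∩ T_1^ρ` or `T_2 ∩ T_2^ρ` -/
theorem Swap.exists_three (S : L.Swap s D1 D2 n1 n2 g) {x : G} (hx : x ∈ L.tor D1 D2) (h3 : x * (x * x) = 1) (h1 : x ≠ 1) :
    ∃ y, XIn L s D1 D2 n1 n2 g y ∨ XIn L.sw s D2 D1 n2 n1 g y := by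
  obtain ⟨y, hy, hy3, hy1, hfix⟩ := S.exists_fixed hx h3 h1
  have F := S.toFrame
  set r := rho L n1 g with hr
  set n := L.e1 n1 with hn
  have hcm : ∀ {y z : G}, y ∈ L.tor D1 D2 → z ∈ L.tor D1 D2 → y * z = z * y := fun hy hz => F.tor_comm hy hz
  have hy' : n * y * n⁻¹ ∈ L.tor D1 D2 := S.r1_tor hy
  set y' := n * y * n⁻¹ with hy'def
  have hfixi : r⁻¹ * y * r = y := by
    calc r⁻¹ * y * r = r⁻¹ * (r * y * r⁻¹) * r := by rw [hfix]
      _ = y := by group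
  have hfix' : r * y' * r⁻¹ = y' := by
    have h4 := S.r1_rho
    rw [← hr, ← hn] at h4
    have h5 : r = n * r⁻¹ * n⁻¹ * (t * s) := by
      rw [← h4]; group
    have h6 : (t * s) * y' = y' * (t * s) := hcm (mul_mem F.t_mem F.s_mem) hy'
    calc r * y' * r⁻¹ = (n * r⁻¹ * n⁻¹ * (t * s)) * y' * (n * r⁻¹ * n⁻¹ * (t * s))⁻¹ := by rw [← h5]
      _ = n * r⁻¹ * n⁻¹ * ((t * s) * y') * (t * s)⁻¹ * n * r * n⁻¹ := by group
      _ = n * r⁻¹ * n⁻¹ * (y' * (t * s)) * (t * s)⁻¹ * n * r * n⁻¹ := by rw [h6]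
      _ = n * (r⁻¹ * (n⁻¹ * y' * n) * r) * n⁻¹ := by group
      _ = n * (r⁻¹ * y * r) * n⁻¹ := by congr 4; rw [hy'def]; group
      _ = _ := by rw [hfixi]
  have hfixi' : r⁻¹ * y' * r = y' := by
    calc r⁻¹ * y' * r = r⁻¹ * (r * y' * r⁻¹) * r := by rw [hfix']
      _ = y' := by group
  -- `u = y y'⁻¹ ∈ T1`
  have hu : y * y'⁻¹ ∈ L.tor1 D1 := by
    obtain ⟨u, hu, h4⟩ := F.refl1 hy
    rw [← hn] at h4
    have h5 : y * y'⁻¹ = u := by
      calc y * y'⁻¹ = (y * n) * y⁻¹ * n⁻¹ := by rw [hy'def]; group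
        _ = u := by rw [h4]; group
    rw [h5]; exact hu
  -- `v = y y' ∈ T2`
  have hv : y * y' ∈ L.tor2 D2 := by
    rw [← F.mem_tor2_iff (mul_mem hy hy'), ← hn]
    have h4 : n * n = t := S.r1_sq
    have h5 : n * y' * n⁻¹ = y := by
      calc n * y' * n⁻¹ = (n * n) * y * (n * n)⁻¹ := by rw [hy'def]; group
        _ = y := by rw [h4, ← F.tor_t hy]; group
    have h6 : n * (y * y') * n⁻¹ = y * y' := by
      calc n * (y * y') * n⁻¹ = y' * (n * y' * n⁻¹) := by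
            rw [hy'def]; group
        _ = y' * y := by rw [h5]
        _ = _ := hcm hy' hy
    calc y * y' * n = (n * (y * y') * n⁻¹) * n := by rw [h6]
      _ = _ := by group
  by_cases hu1 : y * y'⁻¹ = 1
  · by_cases hv1 : y * y' = 1
    · exfalso
      apply hy1
      have h4 : y = y' := mul_inv_eq_one.1 hu1
      rw [← h4] at hv1
      rw [hv1, mul_one] at hy3
      exact hy3
    · refine ⟨y * y', Or.inl ⟨S, hv, ?_, hv1⟩⟩
      have h4 : r⁻¹ * (y * y') * r = y * y' := by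
        calc r⁻¹ * (y * y') * r = (r⁻¹ * y * r) * (r⁻¹ * y' * r) := by group
          _ = _ := by rw [hfixi, hfixi']
      rw [← hr, h4]; exact hv
  · refine ⟨y * y'⁻¹, Or.inr (XIn.of_sw S hu ?_ hu1)⟩
    have h4 : r⁻¹ * (y * y'⁻¹) * r = y * y'⁻¹ := by
      calc r⁻¹ * (y * y'⁻¹) * r = (r⁻¹ * y * r) * (r⁻¹ * y' * r)⁻¹ := by group
        _ = _ := by rw [hfixi, hfixi']
    rw [← hr, h4]; exact hu

/-- fields of the same order prime to `3` -/
theorem Hyp.exists_XIn_three (H : L.Hyp) (hcl : ∀ x : G, x * x = 1 → x ≠ 1 → ∃ g, g * t = x * g)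
    (hc : Nat.card F1 = Nat.card F2) (h3 : ¬ 3 ∣ Nat.card F1) : ∃ s D1 D2 n1 n2 g y,
    XIn L s D1 D2 n1 n2 g y ∨ XIn L.sw s D2 D1 n2 n1 g y := by
  have h31 := three_ne_zero_of h3
  have h32 : (3 : F2) ≠ 0 := three_ne_zero_of (by rw [← hc]; exact h3)
  have hd1 : (!![0, 1; -3, 0] : M2 F1).det = 3 := by rw [Matrix.det_fin_two]; simp
  have ht1 : (!![0, 1; -3, 0] : M2 F1).trace = 0 := by rw [Matrix.trace_fin_two]; simp
  have hd2 : (!![0, 1; -3, 0] : M2 F2).det = 3 := by rw [Matrix.det_fin_two]; simp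
  have ht2 : (!![0, 1; -3, 0] : M2 F2).trace = 0 := by rw [Matrix.trace_fin_two]; simp
  obtain ⟨s, hs⟩ := H.exists_rep (A := (!![0, 1; -3, 0] : M2 F1)) (B := (!![0, 1; -3, 0] : M2 F2))
    (by rw [hd1]; exact h31) (by rw [hd2]; exact h32) (by
      rw [hd1, hd2]
      exact_mod_cast isSquare_card_iff hc 3)
  obtain ⟨n1, hn1⟩ := exists_anti H.two_ne1 hs.det1 ht1
  obtain ⟨n2, hn2⟩ := exists_anti H.two_ne2 hs.det2 ht2
  have F : L.Frame s !![0, 1; -3, 0] !![0, 1; -3, 0] n1 n2 := ⟨H, hs, ht1, ht2, hn1, hn2⟩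
  obtain ⟨g, h1, h2⟩ := F.exists_swap (hcl s F.ss F.s_ne_one)
  have S : L.Swap s !![0, 1; -3, 0] !![0, 1; -3, 0] n1 n2 g := ⟨F, h1, h2⟩
  obtain ⟨x, hx1, hx2, hx3⟩ := exists_order_three (F := F1) H.two_ne1 h31
  obtain ⟨y, hy⟩ := S.exists_three (x := L.e1 x) (Frame.tor1_le L _ _ ⟨x, hx1, rfl⟩)
    (by rw [← map_mul, ← map_mul, hx2, map_one]) (fun h => hx3 (L.inj1 (by rw [h, map_one])))
  exact ⟨s, _, _, n1, n2, g, y, hy⟩

/-- `C_R(s) = 1` implies `R = A1` -/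
theorem Frame.rc_le_A1 [Finite G] {D2 : M2 F2} (F : L.Frame s (dg F1) D2 n1 n2) (h : L.DD s = ⊥) : rc L.A1 ≤ L.A1 := by
  intro r hr
  obtain ⟨a, ha, d, hd, d', hd', rfl⟩ := F.rc_prod hr
  have h1 : d = 1 := by rw [h] at hd; exact Subgroup.mem_bot.1 hd
  have h2 : d' = 1 := by
    have h3 := F.r2_DD' hd'
    rw [h, Subgroup.mem_bot] at h3
    calc d' = L.e2 n2 * ((L.e2 n2)⁻¹ * d' * L.e2 n2) * (L.e2 n2)⁻¹ := by group
      _ = 1 := by rw [h3]; group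
  rw [h1, h2, mul_one, mul_one]; exact ha

/-- (NOX) -/
theorem Swap.not_bot_three [Finite G] (S : L.Split s g) (hcl : ∀ x : G, x * x = 1 → x ≠ 1 → ∃ g, g * t = x * g)
    (hM1 : MCl G F1) (hM2 : MCl G F2) (hc : Nat.card F1 = Nat.card F2) (h3 : ¬ 3 ∣ Nat.card F1) (h1 : L.DD s = ⊥)
    (h2 : L.sw.DD s = ⊥) : False := by
  obtain ⟨s', D1, D2, n1, n2, g', y, X | X⟩ := S.toFrame.hyp.exists_XIn_three hcl hc h3
  · obtain ⟨r, hr, -, hrA⟩ := X.exists_rc hM1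
    exact hrA (S.toFrame.rc_le_A1 h1 hr)
  · obtain ⟨r, hr, -, hrA⟩ := X.exists_rc hM2
    exact hrA (S.toFrame.sw.rc_le_A1 h2 hr)

end LocalSL

end Cfsg.Agent.GTwoOdd
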